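import Mathlib

/-!
Finite modules over a Noetherian adically complete ring are adically complete; idempotents lift
along adically complete ideals.
-/

namespace Groth.Agent.Lib.Helper47.AdicFinite

open AdicCompletion

universe u v w

section Modules

variable {R : Type u} [CommRing R] (I : Ideal R)

/-- A surjective image of a precomplete module is precomplete. -/
theorem isPrecomplete_of_surjective {M : Type v} {N : Type w} [AddCommGroup M] [Module R M]
    [AddCommGroup N] [Module R N] [IsPrecomplete I M] (π : M →ₗ[R] N)
    (hπ : Function.Surjective π) : IsPrecomplete I N := by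
  rw [← AdicCompletion.of_surjective_iff]
  intro y
  obtain ⟨x, rfl⟩ := AdicCompletion.map_surjective I hπ y
  obtain ⟨m, rfl⟩ := AdicCompletion.of_surjective I M x
  exact ⟨π m, (AdicCompletion.map_of I π m).symm⟩

/-- Finite powers of a precomplete ring are precomplete. -/
theorem isPrecomplete_pi_fin [IsPrecomplete I R] (k : ℕ) : IsPrecomplete I (Fin k → R) := by
  rw [← AdicCompletion.of_surjective_iff]
  intro y
  have h : ∀ j, ∃ r : R, AdicCompletion.of I R r = AdicCompletion.piEquivFin I k y j :=
    fun j => AdicCompletion.of_surjective I R _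
  choose v hv using h
  refine ⟨v, ?_⟩
  apply (AdicCompletion.piEquivFin I k).injective
  funext j
  rw [← hv j, AdicCompletion.piEquivFin_apply]
  simp only [AdicCompletion.pi, LinearMap.pi_apply]
  rw [AdicCompletion.map_of]
  rfl

/-- A finite module over a Noetherian ring `R` which is `I`-adically complete is `I`-adically
complete. -/
theorem isAdicComplete_of_finite [IsNoetherianRing R] [IsAdicComplete I R]
    (M : Type v) [AddCommGroup M] [Module R M] [Module.Finite R M] : IsAdicComplete I M := by
  have hH : IsHausdorff I M := IsHausdorff.of_le_jacobson I M (IsAdicComplete.le_jacobson_bot I)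
  obtain ⟨k, π, hπ⟩ := Module.Finite.exists_fin' R M
  have : IsPrecomplete I (Fin k → R) := isPrecomplete_pi_fin I k
  have hP : IsPrecomplete I M := isPrecomplete_of_surjective I π hπ
  exact { hH, hP with }

/-- A finite algebra `B` over a Noetherian `I`-adically complete ring is `IB`-adically complete. -/
theorem isAdicComplete_map_of_finite [IsNoetherianRing R] [IsAdicComplete I R]
    (B : Type v) [CommRing B] [Algebra R B] [Module.Finite R B] :
    IsAdicComplete (I.map (algebraMap R B)) B := by
  rw [IsAdicComplete.map_algebraMap_iff]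
  exact isAdicComplete_of_finite I B

end Modules

section Idem

variable {R : Type u} [CommRing R] (I : Ideal R)

/-- An idempotent in the Jacobson radical is zero. -/
theorem eq_zero_of_isIdempotentElem_of_mem_jacobson {e : R} (he : IsIdempotentElem e)
    (hJ : e ∈ Ideal.jacobson (⊥ : Ideal R)) : e = 0 := by
  have h1 : IsUnit (1 - e) := by
    have := Ideal.mem_jacobson_bot.mp hJ (-1)
    simpa [sub_eq_add_neg, add_comm, mul_comm] using this
  have h2 : e * (1 - e) = 0 := by
    rw [mul_sub, mul_one, he.eq, sub_self]
  exact (h1.mul_left_eq_zero).mp h2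

/-- Idempotents lift along an ideal `I` when `R` is `I`-adically complete. -/
theorem exists_isIdempotentElem_lift [IsAdicComplete I R] (ē : R ⧸ I) (hē : IsIdempotentElem ē) :
    ∃ e : R, IsIdempotentElem e ∧ Ideal.Quotient.mk I e = ē := by
  obtain ⟨a₀, rfl⟩ := Ideal.Quotient.mk_surjective ē
  have hH : HenselianRing R I := inferInstance
  let f : Polynomial R := Polynomial.X ^ 2 - Polynomial.X
  have hf : f.Monic := by
    apply Polynomial.monic_X_pow_sub
    exact lt_of_le_of_lt Polynomial.degree_X_le (by norm_num)
  have h0 : f.eval a₀ ∈ I := by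
    simp only [f, Polynomial.eval_sub, Polynomial.eval_pow, Polynomial.eval_X]
    rw [← Ideal.Quotient.eq_zero_iff_mem, map_sub, map_pow, pow_two, hē.eq, sub_self]
  have h1 : IsUnit (Ideal.Quotient.mk I (f.derivative.eval a₀)) := by
    have : f.derivative.eval a₀ = 2 * a₀ - 1 := by
      simp [f]
      ring
    rw [this]
    refine IsUnit.of_mul_eq_one (Ideal.Quotient.mk I (2 * a₀ - 1)) ?_
    rw [← map_mul, ← map_one (Ideal.Quotient.mk I), ← sub_eq_zero, ← map_sub,
      Ideal.Quotient.eq_zero_iff_mem]
    have : (2 * a₀ - 1) * (2 * a₀ - 1) - 1 = 4 * (a₀ ^ 2 - a₀) := by ring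
    rw [this]
    apply Ideal.mul_mem_left
    simpa [f] using h0
  obtain ⟨a, ha, haa⟩ := HenselianRing.is_henselian f hf a₀ h0 h1
  refine ⟨a, ?_, ?_⟩
  · have : a ^ 2 - a = 0 := by simpa [f, Polynomial.IsRoot] using ha
    rw [IsIdempotentElem, ← pow_two]
    exact sub_eq_zero.mp this
  · rw [← sub_eq_zero, ← map_sub, Ideal.Quotient.eq_zero_iff_mem]
    exact haa

end Idem

end Groth.Agent.Lib.Helper47.AdicFinite
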