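import Groth.Prelude.Def_DerCA
import Mathlib.Tactic
import Mathlib.Algebra.Homology.HomotopyCategory.Acyclic
import Mathlib.Algebra.Homology.HomotopyCategory.MappingCocone
import Mathlib.Algebra.Category.ModuleCat.Biproducts

set_option autoImplicit false
universe u
open CategoryTheory Limits

namespace Groth.Agent.Lib.Helper47.ExtCech

variable {R : Type u} [CommRing R]

/-- the quotient functor to the homotopy category -/
noncomputable abbrev Qh (R : Type u) [CommRing R] :=
  HomotopyCategory.quotient (ModuleCat.{u} R) (ComplexShape.up ℤ)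

/-- A complex is contractible. -/
def Contr (K : DRing.Cx R) : Prop := IsZero ((Qh R).obj K)

theorem contr_iff (K : DRing.Cx R) : Contr K ↔ Nonempty (Homotopy (𝟙 K) 0) :=
  HomotopyCategory.isZero_quotient_obj_iff K

/-- the image in the homotopy category of the mapping cocone is the shift of that of the cone -/
noncomputable def qCoconeIso {K L : DRing.Cx R} (φ : K ⟶ L) :
    (Qh R).obj (CochainComplex.mappingCocone φ) ≅
      ((Qh R).obj (CochainComplex.mappingCone φ))⟦(-1 : ℤ)⟧ :=
  ((Qh R).commShiftIso (-1 : ℤ)).app (CochainComplex.mappingCone φ)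

theorem contr_cocone_of_isIso {K L : DRing.Cx R} (φ : K ⟶ L) (h : IsIso ((Qh R).map φ)) :
    Contr (CochainComplex.mappingCocone φ) := by
  have h3 : IsZero ((Qh R).obj (CochainComplex.mappingCone φ)) :=
    (Pretriangulated.Triangle.isZero₃_iff_isIso₁ _
      (HomotopyCategory.mappingCone_triangleh_distinguished φ)).mpr h
  exact IsZero.of_iso ((shiftFunctor _ (-1 : ℤ)).map_isZero h3) (qCoconeIso φ)

theorem contr_cocone_of_contr {K L : DRing.Cx R} (φ : K ⟶ L) (hK : Contr K) (hL : Contr L) :
    Contr (CochainComplex.mappingCocone φ) := by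
  apply contr_cocone_of_isIso
  exact ⟨⟨0, hK.eq_of_src _ _, hL.eq_of_src _ _⟩⟩

theorem contr_map (F : ModuleCat.{u} R ⥤ ModuleCat.{u} R) [F.Additive] {K : DRing.Cx R}
    (hK : Contr K) : Contr ((F.mapHomologicalComplex (ComplexShape.up ℤ)).obj K) := by
  rw [contr_iff] at hK ⊢
  obtain ⟨h⟩ := hK
  exact ⟨(Homotopy.ofEq (by simp)).trans ((F.mapHomotopy h).trans (Homotopy.ofEq (by simp)))⟩

theorem mkLinearMap_bijective (S : Submonoid R) (N : Type*) [AddCommGroup N] [Module R N]
    (h : ∀ s ∈ S, Function.Bijective (fun x : N => s • x)) :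
    Function.Bijective (LocalizedModule.mkLinearMap S N) := by
  constructor
  · intro a b hab
    rw [LocalizedModule.mkLinearMap_apply, LocalizedModule.mkLinearMap_apply,
      LocalizedModule.mk_eq] at hab
    obtain ⟨u, hu⟩ := hab
    simp only [one_smul] at hu
    exact (h u u.2).1 hu
  · intro y
    induction y using LocalizedModule.induction_on with
    | h m s =>
      obtain ⟨m', hm'⟩ := (h s s.2).2 m
      refine ⟨m', ?_⟩
      rw [LocalizedModule.mkLinearMap_apply, LocalizedModule.mk_eq]
      exact ⟨1, by simpa [Submonoid.smul_def] using hm'⟩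

/-- if every element of `S` acts bijectively on every term of `K`, then `K ⟶ K_S` is an iso -/
theorem isIso_locCxUnit (S : Submonoid R) (K : DRing.Cx R)
    (h : ∀ (n : ℤ), ∀ s ∈ S, Function.Bijective (fun x : K.X n => s • x)) :
    IsIso (DerCA.locCxUnit S K) := by
  have : ∀ n, IsIso ((DerCA.locCxUnit S K).f n) := by
    intro n
    rw [ConcreteCategory.isIso_iff_bijective]
    exact mkLinearMap_bijective S (K.X n) (h n)
  exact HomologicalComplex.Hom.isIso_of_components _

theorem contr_extCech (fs : List R) (hf : ∃ f ∈ fs, IsUnit f) (M : ModuleCat.{u} R) :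
    Contr (DerCA.extCech M fs) := by
  induction fs with
  | nil => simp at hf
  | cons g gs ih =>
    obtain ⟨f, hfmem, hfu⟩ := hf
    rcases List.mem_cons.mp hfmem with rfl | hmem
    · apply contr_cocone_of_isIso
      have : IsIso (DerCA.locCxUnit (Submonoid.powers f) (DerCA.extCech M gs)) := by
        apply isIso_locCxUnit
        intro n s hs
        obtain ⟨k, rfl⟩ := hs
        have hu : IsUnit (f ^ k) := hfu.pow k
        obtain ⟨u, hu⟩ := hu
        change Function.Bijective fun x : (DerCA.extCech M gs).X n => (f ^ k) • x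
        rw [← hu]
        exact (MulAction.bijective u : Function.Bijective (fun x : (DerCA.extCech M gs).X n => u • x))
      infer_instance
    · have hK := ih ⟨f, hmem, hfu⟩
      exact contr_cocone_of_contr _ hK (contr_map _ hK)

/-! ### Acyclic complexes -/

/-- A complex is acyclic (phrased in the homotopy category). -/
def Acyc (K : DRing.Cx R) : Prop :=
  HomotopyCategory.subcategoryAcyclic (ModuleCat.{u} R) ((Qh R).obj K)

theorem acyc_iff (K : DRing.Cx R) : Acyc K ↔ ∀ n : ℤ, K.ExactAt n :=
  HomotopyCategory.quotient_obj_mem_subcategoryAcyclic_iff_exactAt K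

theorem Acyc.of_iso {K K' : DRing.Cx R} (e : K ≅ K') (h : Acyc K) : Acyc K' :=
  (HomotopyCategory.subcategoryAcyclic (ModuleCat.{u} R)).prop_of_iso ((Qh R).mapIso e) h

theorem Contr.acyc {K : DRing.Cx R} (h : Contr K) : Acyc K :=
  (HomotopyCategory.subcategoryAcyclic (ModuleCat.{u} R)).prop_of_isZero h

theorem acyc_cocone {K L : DRing.Cx R} (φ : K ⟶ L) (hK : Acyc K) (hL : Acyc L) :
    Acyc (CochainComplex.mappingCocone φ) := by
  have h3 : HomotopyCategory.subcategoryAcyclic (ModuleCat.{u} R)
      ((Qh R).obj (CochainComplex.mappingCone φ)) :=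
    (HomotopyCategory.subcategoryAcyclic (ModuleCat.{u} R)).ext_of_isTriangulatedClosed₃ _
      (HomotopyCategory.mappingCone_triangleh_distinguished φ) hK hL
  exact (HomotopyCategory.subcategoryAcyclic (ModuleCat.{u} R)).prop_of_iso (qCoconeIso φ).symm
    ((HomotopyCategory.subcategoryAcyclic (ModuleCat.{u} R)).le_shift (-1 : ℤ) _ h3)

/-! ### Localisation is exact -/

instance preservesHomology_locFunctor (S : Submonoid R) :
    (DerCA.locFunctor S).PreservesHomology := by
  refine ((DerCA.locFunctor S).exact_tfae.out 1 2).mp ?_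
  intro Sc hSc
  rw [ShortComplex.ShortExact.moduleCat_exact_iff_function_exact] at hSc ⊢
  exact IsLocalizedModule.map_exact S (LocalizedModule.mkLinearMap S Sc.X₁)
    (LocalizedModule.mkLinearMap S Sc.X₂) (LocalizedModule.mkLinearMap S Sc.X₃)
    Sc.f.hom Sc.g.hom hSc

/-- cohomology commutes with localisation -/
noncomputable def locHomologyIso (S : Submonoid R) (K : DRing.Cx R) (q : ℤ) :
    ((DerCA.locCx S).obj K).homology q ≅ (DerCA.locFunctor S).obj (K.homology q) :=
  (K.sc q).mapHomologyIso (DerCA.locFunctor S)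

/-- every cohomology class of `K` is killed by an element of `S` -/
def TorsH (S : Submonoid R) (K : DRing.Cx R) : Prop :=
  ∀ (q : ℤ) (x : K.homology q), ∃ r ∈ S, r • x = 0

theorem acyc_locCx_iff (S : Submonoid R) (K : DRing.Cx R) :
    Acyc ((DerCA.locCx S).obj K) ↔ TorsH S K := by
  rw [acyc_iff]
  refine forall_congr' fun q => ?_
  rw [HomologicalComplex.exactAt_iff_isZero_homology, (locHomologyIso S K q).isZero_iff,
    ModuleCat.isZero_iff_subsingleton]
  exact LocalizedModule.subsingleton_iff

/-- localisation commutes with mapping cocones -/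
noncomputable def locCoconeIso (S : Submonoid R) {K L : DRing.Cx R} (φ : K ⟶ L) :
    (DerCA.locCx S).obj (CochainComplex.mappingCocone φ) ≅
      CochainComplex.mappingCocone ((DerCA.locCx S).map φ) :=
  (((DerCA.locCx S).commShiftIso (-1 : ℤ)).app (CochainComplex.mappingCone φ)) ≪≫
    (shiftFunctor (DRing.Cx R) (-1 : ℤ)).mapIso
      (CochainComplex.mappingCone.mapHomologicalComplexIso φ (DerCA.locFunctor S))

theorem loc_locUnit_eq (S : Submonoid R) (X : ModuleCat.{u} R) :
    (DerCA.locFunctor S).map ((DerCA.locUnit S).app X) =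
      (DerCA.locUnit S).app ((DerCA.locFunctor S).obj X) := by
  ext x
  induction x using LocalizedModule.induction_on with
  | h m s =>
    change (IsLocalizedModule.map S (LocalizedModule.mkLinearMap S X)
      (LocalizedModule.mkLinearMap S (LocalizedModule S X)) (LocalizedModule.mkLinearMap S X))
        (LocalizedModule.mk m s) = LocalizedModule.mkLinearMap S (LocalizedModule S X)
          (LocalizedModule.mk m s)
    rw [IsLocalizedModule.map_LocalizedModules, LocalizedModule.mkLinearMap_apply,
      LocalizedModule.mkLinearMap_apply, LocalizedModule.mk_eq]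
    refine ⟨1, ?_⟩
    rw [one_smul, one_smul, one_smul, Submonoid.smul_def, LocalizedModule.smul'_mk]
    exact (LocalizedModule.mk_cancel s m).symm

theorem smul_bijective_localizedModule (S : Submonoid R) (N : Type*) [AddCommGroup N] [Module R N]
    (s : R) (hs : s ∈ S) : Function.Bijective (fun x : LocalizedModule S N => s • x) := by
  have h := IsLocalizedModule.map_units (LocalizedModule.mkLinearMap S N) ⟨s, hs⟩
  exact (Module.End.isUnit_iff _).mp h

theorem isIso_loc_locCxUnit (S : Submonoid R) (K : DRing.Cx R) :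
    IsIso ((DerCA.locCx S).map (DerCA.locCxUnit S K)) := by
  have : ∀ n, IsIso (((DerCA.locCx S).map (DerCA.locCxUnit S K)).f n) := by
    intro n
    change IsIso ((DerCA.locFunctor S).map ((DerCA.locUnit S).app (K.X n)))
    rw [loc_locUnit_eq, ConcreteCategory.isIso_iff_bijective]
    apply mkLinearMap_bijective
    intro s hs
    exact smul_bijective_localizedModule S (K.X n) s hs
  exact HomologicalComplex.Hom.isIso_of_components _

theorem torsH_loc (S T : Submonoid R) (K : DRing.Cx R) (h : TorsH T K) :
    TorsH T ((DerCA.locCx S).obj K) := by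
  intro q x
  have hinj : Function.Injective (locHomologyIso S K q).hom.hom :=
    (ConcreteCategory.bijective_of_isIso (locHomologyIso S K q).hom).1
  obtain ⟨⟨m, s⟩, hms⟩ : ∃ p : (K.homology q) × S,
      LocalizedModule.mk p.1 p.2 = (locHomologyIso S K q).hom.hom x := by
    induction ((locHomologyIso S K q).hom.hom x) using LocalizedModule.induction_on with
    | h m s => exact ⟨⟨m, s⟩, rfl⟩
  obtain ⟨r, hr, hrm⟩ := h q m
  refine ⟨r, hr, ?_⟩
  apply hinj
  rw [map_smul, ← hms, map_zero]
  change r • LocalizedModule.mk m s = 0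
  rw [LocalizedModule.smul'_mk, hrm, LocalizedModule.zero_mk]

theorem torsH_extCech (M : ModuleCat.{u} R) (fs : List R) :
    ∀ g ∈ fs, TorsH (Submonoid.powers g) (DerCA.extCech M fs) := by
  induction fs with
  | nil => simp
  | cons f fs ih =>
    intro g hg
    rw [← acyc_locCx_iff]
    refine Acyc.of_iso (locCoconeIso (Submonoid.powers g)
      (DerCA.locCxUnit (Submonoid.powers f) (DerCA.extCech M fs))).symm ?_
    rcases List.mem_cons.mp hg with rfl | hmem
    · apply Contr.acyc
      apply contr_cocone_of_isIso
      have := isIso_loc_locCxUnit (Submonoid.powers g) (DerCA.extCech M fs)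
      infer_instance
    · apply acyc_cocone
      · exact (acyc_locCx_iff _ _).mpr (ih g hmem)
      · exact (acyc_locCx_iff _ _).mpr (torsH_loc _ _ _ (ih g hmem))

theorem exists_uniform_pow {N : Type*} [AddCommGroup N] [Module R N] (x : N) (l : List R)
    (h : ∀ f ∈ l, ∃ r ∈ Submonoid.powers f, r • x = 0) :
    ∃ n : ℕ, 1 ≤ n ∧ ∀ f ∈ l, (f ^ n) • x = 0 := by
  induction l with
  | nil => exact ⟨1, le_rfl, by simp⟩
  | cons a l ih =>
    obtain ⟨n, hn1, hn⟩ := ih (fun f hf => h f (List.mem_cons_of_mem _ hf))
    obtain ⟨r, ⟨k, rfl⟩, hk⟩ := h a List.mem_cons_self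
    refine ⟨n + k, by omega, ?_⟩
    intro f hf
    rcases List.mem_cons.mp hf with rfl | hmem
    · rw [pow_add, mul_smul]
      change f ^ n • (f ^ k • x) = 0
      rw [hk, smul_zero]
    · rw [pow_add, mul_comm, mul_smul, hn f hmem, smul_zero]

/-! ### Elements acting bijectively -/

/-- `f` acts bijectively on the module `X` -/
def ActsBij (f : R) (X : ModuleCat.{u} R) : Prop := Function.Bijective (fun x : X => f • x)

theorem ActsBij.of_iso {f : R} {X Y : ModuleCat.{u} R} (e : X ≅ Y) (h : ActsBij f X) :
    ActsBij f Y := by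
  have he : Function.Bijective e.hom.hom := ConcreteCategory.bijective_of_isIso e.hom
  have he' : Function.Bijective e.inv.hom := ConcreteCategory.bijective_of_isIso e.inv
  have : (fun y : Y => f • y) = e.hom.hom ∘ (fun x : X => f • x) ∘ e.inv.hom := by
    funext y
    simp only [Function.comp_apply]
    rw [map_smul]
    congr 1
    exact (congrArg (fun φ : Y ⟶ Y => φ.hom y) e.inv_hom_id).symm
  unfold ActsBij
  rw [this]
  exact he.comp (h.comp he')

theorem ActsBij.of_isZero {f : R} {X : ModuleCat.{u} R} (h : IsZero X) : ActsBij f X := by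
  have := ModuleCat.isZero_iff_subsingleton.mp h
  constructor
  · intro a b _; exact Subsingleton.elim _ _
  · intro a; exact ⟨a, Subsingleton.elim _ _⟩

theorem ActsBij.biprod {f : R} {X Y : ModuleCat.{u} R} (hX : ActsBij f X) (hY : ActsBij f Y) :
    ActsBij f (X ⊞ Y) := by
  refine ActsBij.of_iso (ModuleCat.biprodIsoProd X Y).symm ?_
  change Function.Bijective (fun p : X × Y => f • p)
  have : (fun p : X × Y => f • p) = Prod.map (fun x : X => f • x) (fun y : Y => f • y) := by
    funext p; rfl
  rw [this]
  exact Function.Bijective.prodMap hX hY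

theorem ActsBij.loc {f : R} (S : Submonoid R) {X : ModuleCat.{u} R} (hX : ActsBij f X) :
    ActsBij f ((DerCA.locFunctor S).obj X) := by
  change Function.Bijective (fun p : LocalizedModule S X => f • p)
  constructor
  · intro a b hab
    induction a using LocalizedModule.induction_on with
    | h m s =>
      induction b using LocalizedModule.induction_on with
      | h m' s' =>
        simp only [LocalizedModule.smul'_mk] at hab
        rw [LocalizedModule.mk_eq] at hab ⊢
        obtain ⟨u, hu⟩ := hab
        refine ⟨u, hX.1 ?_⟩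
        simp only [Submonoid.smul_def] at hu ⊢
        simp only [smul_comm f] 
        exact hu
  · intro b
    induction b using LocalizedModule.induction_on with
    | h m s =>
      obtain ⟨m', hm'⟩ := hX.2 m
      refine ⟨LocalizedModule.mk m' s, ?_⟩
      simp only [LocalizedModule.smul'_mk]
      rw [← hm']

theorem actsBij_extCech_X (f : R) (M : ModuleCat.{u} R) (hM : ActsBij f M) (fs : List R) :
    ∀ n : ℤ, ActsBij f ((DerCA.extCech M fs).X n) := by
  induction fs with
  | nil =>
    intro n
    by_cases hn : n = 0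
    · subst hn
      exact ActsBij.of_iso (HomologicalComplex.singleObjXSelf (ComplexShape.up ℤ) 0 M).symm hM
    · exact ActsBij.of_isZero (HomologicalComplex.isZero_single_obj_X _ _ _ _ hn)
  | cons g gs ih =>
    intro n
    refine ActsBij.of_iso (DerCA.mappingCoconeXIso
      (DerCA.locCxUnit (Submonoid.powers g) (DerCA.extCech M gs)) n).symm ?_
    exact ActsBij.biprod (ih n) (ActsBij.loc _ (ih (n - 1)))

theorem ActsBij.pow {f : R} {X : ModuleCat.{u} R} (h : ActsBij f X) (k : ℕ) :
    ActsBij (f ^ k) X := by
  induction k with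
  | zero =>
    have : (fun x : X => (f ^ 0) • x) = id := by funext x; simp
    unfold ActsBij
    rw [this]
    exact Function.bijective_id
  | succ k ih =>
    have : (fun x : X => (f ^ (k + 1)) • x) = (fun x : X => (f ^ k) • x) ∘ (fun x : X => f • x) := by
      funext x; simp [pow_succ, mul_smul]
    unfold ActsBij
    rw [this]
    exact Function.Bijective.comp ih h

theorem isZero_extCechH_of_actsBij (fs : List R) (M : ModuleCat.{u} R) (f : R)
    (hf : f ∈ Ideal.span {a : R | a ∈ fs}) (hbij : ActsBij f M) (q : ℤ) :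
    IsZero (DerCA.extCechH fs M q) := by
  have hT : TorsH (Submonoid.powers f) (DerCA.extCech M fs) := by
    intro q x
    have h1 : {a : R | a ∈ fs} ⊆ ((Ideal.torsionOf R _ x).radical : Set R) := by
      intro g hg
      obtain ⟨r, ⟨k, rfl⟩, hk⟩ := torsH_extCech M fs g hg q x
      exact ⟨k, (Ideal.mem_torsionOf_iff x _).mpr hk⟩
    have h2 : f ∈ (Ideal.torsionOf R _ x).radical := (Ideal.span_le.mpr h1) hf
    obtain ⟨k, hk⟩ := h2
    exact ⟨f ^ k, ⟨k, rfl⟩, (Ideal.mem_torsionOf_iff x _).mp hk⟩
  have hA : Acyc ((DerCA.locCx (Submonoid.powers f)).obj (DerCA.extCech M fs)) :=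
    (acyc_locCx_iff _ _).mpr hT
  have hiso : IsIso (DerCA.locCxUnit (Submonoid.powers f) (DerCA.extCech M fs)) := by
    apply isIso_locCxUnit
    rintro n s ⟨k, rfl⟩
    exact (actsBij_extCech_X f M hbij fs n).pow k
  have hC : Acyc (DerCA.extCech M fs) :=
    Acyc.of_iso (asIso (DerCA.locCxUnit (Submonoid.powers f) (DerCA.extCech M fs))).symm hA
  exact ((acyc_iff _).mp hC q).isZero_homology

end Groth.Agent.Lib.Helper47.ExtCech
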