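import Mathlib

/-!
# Norms under base change (helper47)

* `charpoly_dvd_pow`, `isIntegral_norm_of_isIntegral`: the norm (for a finite free algebra) of an
  element integral over a smaller ring is integral over that ring.
* `leftMulMatrix_basis_tmul`, `leftMulMatrix_basis_map`, `norm_map`: base change of the left
  regular representation.
* `exists_map_eq_norm`: the generic norm form has coefficients in an integrally closed `A`.
* `isRegular_iff_isRegular_norm`: McCoy for finite free algebras.
* `theta`: `(K ⊗[k] R) ⊗[K] L ≃ₐ[K ⊗[k] R] L ⊗[k] R`.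
-/

namespace Groth.Agent.Lib.Helper47.NormBC

set_option linter.unusedSectionVars false

open Polynomial Matrix
open scoped TensorProduct


section General

variable {R' S' : Type*} [CommRing R'] [CommRing S'] [Algebra R' S']
  {ι : Type*} [Fintype ι] [DecidableEq ι] (b : Module.Basis ι R' S')

/-- The ring hom `S'[X] → Matrix ι ι R'[X]` induced by the left regular representation. -/
noncomputable def polyMat : S'[X] →+* Matrix ι ι R'[X] :=
  ((matPolyEquiv (R := R') (n := ι)).symm : (Matrix ι ι R')[X] →+* Matrix ι ι R'[X]).comp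
    (Polynomial.mapRingHom (Algebra.leftMulMatrix b : S' →+* Matrix ι ι R'))

lemma polyMat_X_sub_C (x : S') :
    polyMat b (X - C x) = charmatrix (Algebra.leftMulMatrix b x) := by
  unfold polyMat
  simp only [RingHom.coe_comp, Function.comp_apply, coe_mapRingHom, Polynomial.map_sub,
    Polynomial.map_X, Polynomial.map_C, RingHom.coe_coe]
  rw [← matPolyEquiv_charmatrix]
  exact (matPolyEquiv (R := R') (n := ι)).symm_apply_apply _

lemma polyMat_map (p : R'[X]) :
    polyMat b (p.map (algebraMap R' S')) = p • (1 : Matrix ι ι R'[X]) := by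
  unfold polyMat
  simp only [RingHom.coe_comp, Function.comp_apply, coe_mapRingHom, RingHom.coe_coe]
  rw [Polynomial.map_map]
  have : (Algebra.leftMulMatrix b : S' →+* Matrix ι ι R').comp (algebraMap R' S') =
      algebraMap R' (Matrix ι ι R') := by
    ext r : 1
    exact (Algebra.leftMulMatrix b).commutes r
  rw [this, ← matPolyEquiv_smul_one]
  exact (matPolyEquiv (R := R') (n := ι)).symm_apply_apply _

lemma charpoly_dvd_pow {p : R'[X]} {x : S'} (h : aeval x p = 0) :
    (Algebra.leftMulMatrix b x).charpoly ∣ p ^ Fintype.card ι := by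
  have h1 : (X - C x) ∣ p.map (algebraMap R' S') := by
    rw [dvd_iff_isRoot, IsRoot, eval_map_algebraMap]
    exact h
  obtain ⟨q, hq⟩ := h1
  have h2 := congrArg (polyMat b) hq
  rw [map_mul, polyMat_map, polyMat_X_sub_C] at h2
  have h3 := congrArg Matrix.det h2
  rw [Matrix.det_smul, Matrix.det_one, mul_one, Matrix.det_mul] at h3
  exact ⟨_, h3⟩

include b in
lemma isIntegral_norm_of_isIntegral {R₀ : Type*} [CommRing R₀] [Algebra R₀ R'] [Algebra R₀ S']
    [IsScalarTower R₀ R' S'] {x : S'} (hx : IsIntegral R₀ x) :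
    IsIntegral R₀ (Algebra.norm R' x) := by
  obtain ⟨p, hp, hpx⟩ := hx
  have h0 : aeval x (p.map (algebraMap R₀ R')) = 0 := by
    rw [aeval_map_algebraMap]; exact hpx
  have h1 := charpoly_dvd_pow b h0
  rw [← Polynomial.map_pow] at h1
  have h2 := isIntegral_coeff_of_dvd (p ^ Fintype.card ι) _ (hp.pow _)
    (Matrix.charpoly_monic _) h1 0
  rw [Algebra.norm_eq_matrix_det b, Matrix.det_eq_sign_charpoly_coeff]
  exact ((isIntegral_one.neg).pow _).mul h2

end General



section BaseChange

variable {K L : Type*} [CommRing K] [CommRing L] [Algebra K L]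
  {ι : Type*} [Fintype ι] [DecidableEq ι] (e : Module.Basis ι K L)

lemma leftMulMatrix_basis_tmul (T : Type*) [CommRing T] [Algebra K T] (t : T) (l : L) :
    Algebra.leftMulMatrix (Algebra.TensorProduct.basis T e) (t ⊗ₜ[K] l) =
      t • (Algebra.leftMulMatrix e l).map (algebraMap K T) := by
  ext i j
  rw [Algebra.leftMulMatrix_eq_repr_mul, Algebra.TensorProduct.basis_apply,
    Algebra.TensorProduct.tmul_mul_tmul, mul_one, Algebra.TensorProduct.basis_repr_tmul]
  simp [Algebra.leftMulMatrix_eq_repr_mul]

lemma leftMulMatrix_basis_map {T₁ T₂ : Type*} [CommRing T₁] [Algebra K T₁] [CommRing T₂]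
    [Algebra K T₂] (f : T₁ →ₐ[K] T₂) (x : T₁ ⊗[K] L) :
    Algebra.leftMulMatrix (Algebra.TensorProduct.basis T₂ e)
        (Algebra.TensorProduct.map f (AlgHom.id K L) x) =
      (Algebra.leftMulMatrix (Algebra.TensorProduct.basis T₁ e) x).map f := by
  induction x using TensorProduct.induction_on with
  | zero => simp
  | tmul t l =>
    rw [Algebra.TensorProduct.map_tmul, leftMulMatrix_basis_tmul, leftMulMatrix_basis_tmul]
    ext i j
    simp
  | add x y hx hy =>
    rw [map_add, map_add, map_add, hx, hy]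
    ext i j
    simp

include e in
lemma norm_map {T₁ T₂ : Type*} [CommRing T₁] [Algebra K T₁] [CommRing T₂]
    [Algebra K T₂] (f : T₁ →ₐ[K] T₂) (x : T₁ ⊗[K] L) :
    Algebra.norm T₂ (Algebra.TensorProduct.map f (AlgHom.id K L) x) =
      f (Algebra.norm T₁ x) := by
  rw [Algebra.norm_eq_matrix_det (Algebra.TensorProduct.basis T₂ e),
    Algebra.norm_eq_matrix_det (Algebra.TensorProduct.basis T₁ e), leftMulMatrix_basis_map]
  exact (RingHom.map_det f.toRingHom _).symm

end BaseChange



section Generic

attribute [local instance] MvPolynomial.algebraMvPolynomial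

variable {A K L : Type*} [CommRing A] [IsDomain A] [IsIntegrallyClosed A] [Field K] [Algebra A K]
  [IsFractionRing A K] [CommRing L] [Algebra K L] [Algebra A L] [IsScalarTower A K L]
  {ι : Type*} [Fintype ι] [DecidableEq ι] (e : Module.Basis ι K L)
  {σ : Type*}

include e in
lemma exists_map_eq_norm (S : Finset σ) (bs : σ → L) (hbs : ∀ s, IsIntegral A (bs s)) :
    ∃ D : MvPolynomial σ A, MvPolynomial.map (algebraMap A K) D =
      Algebra.norm (MvPolynomial σ K)
        (∑ s ∈ S, (MvPolynomial.X s : MvPolynomial σ K) ⊗ₜ[K] bs s) := by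
  classical
  have hg : IsIntegral (MvPolynomial σ A)
      (∑ s ∈ S, (MvPolynomial.X s : MvPolynomial σ K) ⊗ₜ[K] bs s) := by
    refine IsIntegral.sum _ (fun s _ => ?_)
    have h1 : (MvPolynomial.X s : MvPolynomial σ K) ⊗ₜ[K] bs s =
        algebraMap (MvPolynomial σ A) (MvPolynomial σ K ⊗[K] L) (MvPolynomial.X s) *
          ((1 : MvPolynomial σ K) ⊗ₜ[K] bs s) := by
      rw [Algebra.TensorProduct.algebraMap_apply, MvPolynomial.algebraMap_def,
        MvPolynomial.map_X, Algebra.TensorProduct.tmul_mul_tmul, one_mul, mul_one]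
    rw [h1]
    refine IsIntegral.mul isIntegral_algebraMap ?_
    have h2 : IsIntegral A ((1 : MvPolynomial σ K) ⊗ₜ[K] bs s) :=
      (hbs s).map ((Algebra.TensorProduct.includeRight :
        L →ₐ[K] MvPolynomial σ K ⊗[K] L).restrictScalars A)
    exact h2.tower_top
  have hn := isIntegral_norm_of_isIntegral (Algebra.TensorProduct.basis (MvPolynomial σ K) e)
    (R₀ := MvPolynomial σ A) hg
  rw [MvPolynomial.isIntegral_iff_isIntegral_coeff] at hn
  have : Algebra.norm (MvPolynomial σ K)
        (∑ s ∈ S, (MvPolynomial.X s : MvPolynomial σ K) ⊗ₜ[K] bs s) ∈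
      Set.range (MvPolynomial.map (algebraMap A K)) := by
    rw [MvPolynomial.mem_range_map_iff_coeffs_subset]
    intro c hc
    obtain ⟨n, -, rfl⟩ := MvPolynomial.mem_coeffs_iff.mp hc
    exact IsIntegrallyClosed.isIntegral_iff.mp (hn n)
  exact this

end Generic



section McCoy

variable {T U : Type*} [CommRing T] [CommRing U] [Algebra T U]
  {ι : Type*} [Fintype ι] [DecidableEq ι] (c : Module.Basis ι T U)

include c in
lemma isRegular_iff_isRegular_norm (u : U) : IsRegular u ↔ IsRegular (Algebra.norm T u) := by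
  rw [isRegular_iff_mem_nonZeroDivisors (r := Algebra.norm T u), Algebra.norm_eq_matrix_det c,
    ← Matrix.nonsingular_iff_det_mem_nonZeroDivisors, ← Matrix.isLeftRegular_iff_nonsingular,
    Matrix.isLeftRegular_iff_mulVec_injective, ← isLeftRegular_iff_isRegular]
  constructor
  · intro h v w hvw
    have h1 : u * c.equivFun.symm v = u * c.equivFun.symm w := by
      apply c.equivFun.injective
      have := Algebra.leftMulMatrix_mulVec_repr c u (c.equivFun.symm v)
      have h2 := Algebra.leftMulMatrix_mulVec_repr c u (c.equivFun.symm w)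
      simp only [← Module.Basis.equivFun_apply, LinearEquiv.apply_symm_apply] at this h2
      rw [← this, ← h2, hvw]
    exact c.equivFun.symm.injective (h h1)
  · intro h x y hxy
    have hxy' : u * x = u * y := hxy
    apply c.equivFun.injective
    apply h
    have := Algebra.leftMulMatrix_mulVec_repr c u x
    have h2 := Algebra.leftMulMatrix_mulVec_repr c u y
    simp only [← Module.Basis.equivFun_apply] at this h2
    rw [this, h2, hxy']

end McCoy



section Theta

variable (k K L R : Type*) [Field k] [Field K] [Algebra k K] [Field L] [Algebra K L]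
  [Algebra k L] [IsScalarTower k K L] [CommRing R] [Algebra k R]

/-- The algebra structure of `L ⊗[k] R` over `K ⊗[k] R`. -/
@[reducible] noncomputable def algTU : Algebra (K ⊗[k] R) (L ⊗[k] R) :=
  (Algebra.TensorProduct.map (IsScalarTower.toAlgHom k K L) (AlgHom.id k R)).toRingHom.toAlgebra

attribute [local instance] algTU

lemma algebraMap_TU_tmul (a : K) (r : R) :
    algebraMap (K ⊗[k] R) (L ⊗[k] R) (a ⊗ₜ[k] r) = (algebraMap K L a) ⊗ₜ[k] r := by
  rw [RingHom.algebraMap_toAlgebra]
  simp

lemma isScalarTower_KTU : IsScalarTower K (K ⊗[k] R) (L ⊗[k] R) :=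
  IsScalarTower.of_algebraMap_eq (fun a => by
    rw [Algebra.TensorProduct.algebraMap_apply, Algebra.TensorProduct.algebraMap_apply,
      algebraMap_TU_tmul, Algebra.algebraMap_self, RingHom.id_apply])

attribute [local instance] isScalarTower_KTU

/-- The comparison map `(K ⊗[k] R) ⊗[K] L → L ⊗[k] R`. -/
noncomputable def thetaHom : (K ⊗[k] R) ⊗[K] L →ₐ[K ⊗[k] R] L ⊗[k] R :=
  Algebra.TensorProduct.lift (Algebra.ofId _ _)
    (Algebra.TensorProduct.includeLeft : L →ₐ[K] L ⊗[k] R) (fun _ _ => Commute.all _ _)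

lemma thetaHom_tmul_tmul (a : K) (r : R) (l : L) :
    thetaHom k K L R ((a ⊗ₜ[k] r) ⊗ₜ[K] l) = (a • l) ⊗ₜ[k] r := by
  unfold thetaHom
  rw [Algebra.TensorProduct.lift_tmul, Algebra.ofId_apply, algebraMap_TU_tmul,
    Algebra.TensorProduct.includeLeft_apply, Algebra.TensorProduct.tmul_mul_tmul, mul_one,
    Algebra.smul_def]

lemma thetaHom_eq (x : (K ⊗[k] R) ⊗[K] L) :
    thetaHom k K L R x =
      TensorProduct.AlgebraTensorModule.cancelBaseChange k K K L R
        (TensorProduct.comm K (K ⊗[k] R) L x) := by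
  induction x using TensorProduct.induction_on with
  | zero => simp
  | add x y hx hy => simp only [map_add, hx, hy]
  | tmul t l =>
    induction t using TensorProduct.induction_on with
    | zero => simp
    | add x y hx hy => simp only [TensorProduct.add_tmul, map_add, hx, hy]
    | tmul a r =>
      rw [thetaHom_tmul_tmul, TensorProduct.comm_tmul,
        TensorProduct.AlgebraTensorModule.cancelBaseChange_tmul]

lemma thetaHom_bijective : Function.Bijective (thetaHom k K L R) := by
  have : ⇑(thetaHom k K L R) =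
      ⇑((TensorProduct.comm K (K ⊗[k] R) L).trans
        (TensorProduct.AlgebraTensorModule.cancelBaseChange k K K L R)) := by
    funext x
    rw [thetaHom_eq]
    rfl
  rw [this]
  exact LinearEquiv.bijective _

/-- The comparison isomorphism `(K ⊗[k] R) ⊗[K] L ≃ L ⊗[k] R` of `K ⊗[k] R`-algebras. -/
noncomputable def theta : (K ⊗[k] R) ⊗[K] L ≃ₐ[K ⊗[k] R] L ⊗[k] R :=
  AlgEquiv.ofBijective (thetaHom k K L R) (thetaHom_bijective k K L R)

lemma theta_tmul_tmul (a : K) (r : R) (l : L) :
    theta k K L R ((a ⊗ₜ[k] r) ⊗ₜ[K] l) = (a • l) ⊗ₜ[k] r :=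
  thetaHom_tmul_tmul k K L R a r l

lemma free_TU [FiniteDimensional K L] : Module.Free (K ⊗[k] R) (L ⊗[k] R) :=
  Module.Free.of_equiv (theta k K L R).toLinearEquiv

lemma finite_TU [FiniteDimensional K L] : Module.Finite (K ⊗[k] R) (L ⊗[k] R) :=
  Module.Finite.equiv (theta k K L R).toLinearEquiv

end Theta


section Main

universe u

variable (k A K L R : Type u) [Field k]
  [CommRing A] [IsDomain A] [IsIntegrallyClosed A] [Algebra k A]
  [Field K] [Algebra A K] [IsFractionRing A K] [Algebra k K] [IsScalarTower k A K]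
  [Field L] [Algebra K L] [FiniteDimensional K L] [Algebra A L] [IsScalarTower A K L]
  [Algebra k L] [IsScalarTower k K L] [IsScalarTower k A L]
  [CommRing R] [Algebra k R]

attribute [local instance] algTU isScalarTower_KTU

/-- The map `B ⊗[k] R → L ⊗[k] R`, `B` the integral closure of `A` in `L`. -/
noncomputable abbrev incl : (integralClosure A L) ⊗[k] R →ₐ[k] L ⊗[k] R :=
  Algebra.TensorProduct.map ((integralClosure A L).val.restrictScalars k) (AlgHom.id k R)

/-- The map `A ⊗[k] R → K ⊗[k] R`. -/
noncomputable abbrev rho : A ⊗[k] R →ₐ[k] K ⊗[k] R :=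
  Algebra.TensorProduct.map (IsScalarTower.toAlgHom k A K) (AlgHom.id k R)

lemma norm_mem_range (b : (integralClosure A L) ⊗[k] R) :
    Algebra.norm (K ⊗[k] R) (incl k A L R b) ∈ Set.range (rho k A K R) := by
  classical
  obtain ⟨S, hS⟩ := TensorProduct.exists_finset b
  let e := Module.finBasis K L
  let bs : (integralClosure A L) × R → L := fun s => (s.1 : L)
  have hbs : ∀ s, IsIntegral A (bs s) := fun s => s.1.2
  obtain ⟨D, hD⟩ := exists_map_eq_norm e S bs hbs
  let f : MvPolynomial ((integralClosure A L) × R) K →ₐ[K] K ⊗[k] R :=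
    MvPolynomial.aeval (fun s => (1 : K) ⊗ₜ[k] s.2)
  have h1 : incl k A L R b = theta k K L R (Algebra.TensorProduct.map f (AlgHom.id K L)
      (∑ s ∈ S, (MvPolynomial.X s : MvPolynomial ((integralClosure A L) × R) K) ⊗ₜ[K] bs s)) := by
    rw [hS, map_sum, map_sum, map_sum]
    refine Finset.sum_congr rfl (fun s _ => ?_)
    rw [Algebra.TensorProduct.map_tmul, Algebra.TensorProduct.map_tmul, MvPolynomial.aeval_X,
      theta_tmul_tmul, one_smul]
    rfl
  rw [h1, Algebra.norm_eq_of_algEquiv, norm_map e, ← hD]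
  refine ⟨MvPolynomial.eval₂Hom (Algebra.TensorProduct.includeLeftRingHom : A →+* A ⊗[k] R)
    (fun s => (1 : A) ⊗ₜ[k] s.2) D, ?_⟩
  have h2 : ((rho k A K R : A ⊗[k] R →+* K ⊗[k] R)).comp
      (MvPolynomial.eval₂Hom (Algebra.TensorProduct.includeLeftRingHom : A →+* A ⊗[k] R)
        (fun s : (integralClosure A L) × R => (1 : A) ⊗ₜ[k] s.2)) =
      (f : _ →+* K ⊗[k] R).comp (MvPolynomial.map (algebraMap A K)) := by
    apply MvPolynomial.ringHom_ext
    · intro a
      simp [f, Algebra.TensorProduct.algebraMap_apply]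
    · intro s
      simp [f]
  exact RingHom.congr_fun h2 D

omit [IsDomain A] [IsIntegrallyClosed A] in
lemma incl_injective : Function.Injective (incl k A L R) := by
  have h := Module.Flat.rTensor_preserves_injective_linearMap (M := R)
    ((integralClosure A L).val.restrictScalars k).toLinearMap Subtype.val_injective
  exact h

include K in
lemma isUnit_tmul_one {a : A} (ha : a ≠ 0) :
    IsUnit ((algebraMap A L a) ⊗ₜ[k] (1 : R)) := by
  have h0 : algebraMap A L a ≠ 0 := by
    rw [IsScalarTower.algebraMap_apply A K L]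
    intro h
    have h1 := (algebraMap K L).injective (h.trans (map_zero _).symm)
    exact ha ((IsFractionRing.injective A K) (h1.trans (map_zero _).symm))
  exact (IsUnit.mk0 _ h0).map (Algebra.TensorProduct.includeLeft : L →ₐ[k] L ⊗[k] R)

include K in
lemma exists_mul_eq_incl (u : L ⊗[k] R) :
    ∃ a : A, a ≠ 0 ∧ ∃ s : (integralClosure A L) ⊗[k] R,
      ((algebraMap A L a) ⊗ₜ[k] (1 : R)) * u = incl k A L R s := by
  induction u using TensorProduct.induction_on with
  | zero => exact ⟨1, one_ne_zero, 0, by simp⟩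
  | tmul l r =>
    have : Algebra.IsAlgebraic K L := Algebra.IsAlgebraic.of_finite K L
    have hl : IsAlgebraic A l :=
      (IsFractionRing.isAlgebraic_iff A K L).mpr (Algebra.IsAlgebraic.isAlgebraic l)
    obtain ⟨y, hy, hyl⟩ := hl.exists_integral_multiple
    refine ⟨y, hy, (⟨y • l, hyl⟩ : integralClosure A L) ⊗ₜ[k] r, ?_⟩
    rw [Algebra.TensorProduct.tmul_mul_tmul, one_mul, Algebra.TensorProduct.map_tmul,
      ← Algebra.smul_def]
    rfl
  | add u v hu hv =>
    obtain ⟨a, ha, s, hs⟩ := hu
    obtain ⟨a', ha', s', hs'⟩ := hv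
    refine ⟨a * a', mul_ne_zero ha ha',
      ((algebraMap A (integralClosure A L) a') ⊗ₜ[k] (1 : R)) * s +
        ((algebraMap A (integralClosure A L) a) ⊗ₜ[k] (1 : R)) * s', ?_⟩
    have e1 : incl k A L R ((algebraMap A (integralClosure A L) a') ⊗ₜ[k] (1 : R)) =
        (algebraMap A L a') ⊗ₜ[k] (1 : R) := by
      rw [Algebra.TensorProduct.map_tmul]; rfl
    have e2 : incl k A L R ((algebraMap A (integralClosure A L) a) ⊗ₜ[k] (1 : R)) =
        (algebraMap A L a) ⊗ₜ[k] (1 : R) := by
      rw [Algebra.TensorProduct.map_tmul]; rfl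
    have e3 : (algebraMap A L a * algebraMap A L a') ⊗ₜ[k] (1 : R) =
        ((algebraMap A L a) ⊗ₜ[k] (1 : R)) * ((algebraMap A L a') ⊗ₜ[k] (1 : R)) := by
      rw [Algebra.TensorProduct.tmul_mul_tmul, mul_one]
    simp only [map_add, map_mul]
    rw [e1, e2, ← hs, ← hs', e3]
    ring

include K in
lemma isRegular_incl_iff (b : (integralClosure A L) ⊗[k] R) :
    IsRegular b ↔ IsRegular (incl k A L R b) := by
  rw [← isLeftRegular_iff_isRegular, ← isLeftRegular_iff_isRegular,
    isLeftRegular_iff_right_eq_zero_of_mul, isLeftRegular_iff_right_eq_zero_of_mul]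
  constructor
  · intro h u hu
    obtain ⟨a, ha, s, hs⟩ := exists_mul_eq_incl k A K L R u
    have h1 : incl k A L R (b * s) = 0 := by
      rw [map_mul, ← hs, mul_left_comm, hu, mul_zero]
    have h2 : b * s = 0 := incl_injective k A L R (h1.trans (map_zero _).symm)
    have h3 : s = 0 := h s h2
    rw [h3, map_zero] at hs
    exact (isUnit_tmul_one k A K L R ha).mul_right_eq_zero.mp hs
  · intro h s hs
    apply incl_injective k A L R
    rw [map_zero]
    apply h
    rw [← map_mul, hs, map_zero]

lemma isRegular_iff_isRegular_norm_incl (b : (integralClosure A L) ⊗[k] R) :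
    IsRegular b ↔ IsRegular (Algebra.norm (K ⊗[k] R) (incl k A L R b)) := by
  classical
  rw [isRegular_incl_iff k A K L R b]
  exact isRegular_iff_isRegular_norm
    ((Algebra.TensorProduct.basis (K ⊗[k] R) (Module.finBasis K L)).map
      (theta k K L R).toLinearEquiv) _

end Main

end Groth.Agent.Lib.Helper47.NormBC
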