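import Mathlib
import Groth.Prelude.Def_Found

set_option autoImplicit false
universe u
open IsLocalRing CategoryTheory AlgebraicGeometry

namespace Groth.Agent.Lib.Helper47.AA7202RF2

theorem rf2 {A₀ R' : Type u} [CommRing A₀] [CommRing R'] [Algebra A₀ R']
    (p : Ideal A₀) [p.IsPrime] (p' : Ideal R') [p'.IsPrime]
    (hp : p'.comap (algebraMap A₀ R') = p)
    (hfrac : ∀ z : R', ∃ r s : A₀, s ∉ p ∧ algebraMap A₀ R' s * z - algebraMap A₀ R' r ∈ p')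
    (A : Type u) [CommRing A] [IsLocalRing A] [Algebra A₀ A] [IsLocalization.AtPrime A p]
    (O' : Type u) [CommRing O'] [IsLocalRing O'] (ι : R' →+* O')
    (hι1 : ∀ w : R', w ∉ p' → IsUnit (ι w)) (hι2 : ∀ z ∈ p', ι z ∈ maximalIdeal O')
    (hι3 : ∀ z : O', ∃ r' w : R', w ∉ p' ∧ ι w * z = ι r')
    (ρ : A →+* O') (hρ : ∀ a₀ : A₀, ρ (algebraMap A₀ A a₀) = ι (algebraMap A₀ R' a₀)) :
    ∀ z : O', ∃ a : A, z - ρ a ∈ maximalIdeal O' := by
  intro z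
  obtain ⟨r', w, hw, hwz⟩ := hι3 z
  obtain ⟨r₁, s₁, hs₁, h1⟩ := hfrac r'
  obtain ⟨r₂, s₂, hs₂, h2⟩ := hfrac w
  have hmem : ∀ a₀ : A₀, algebraMap A₀ R' a₀ ∈ p' ↔ a₀ ∈ p := by
    intro a₀; rw [← hp]; rfl
  have hr₂ : r₂ ∉ p := by
    intro h
    have h3 : algebraMap A₀ R' r₂ ∈ p' := (hmem _).mpr h
    have h4 : algebraMap A₀ R' s₂ * w ∈ p' := by
      have := p'.add_mem h2 h3
      simpa using this
    rcases Ideal.IsPrime.mem_or_mem ‹p'.IsPrime› h4 with h5 | h5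
    · exact hs₂ ((hmem _).mp h5)
    · exact hw h5
  have hsr : s₁ * r₂ ∈ p.primeCompl := by
    show s₁ * r₂ ∉ p
    intro h
    rcases Ideal.IsPrime.mem_or_mem ‹p.IsPrime› h with h5 | h5
    · exact hs₁ h5
    · exact hr₂ h5
  refine ⟨IsLocalization.mk' A (r₁ * s₂) ⟨s₁ * r₂, hsr⟩, ?_⟩
  set a := IsLocalization.mk' A (r₁ * s₂) ⟨s₁ * r₂, hsr⟩ with ha
  have hspec : a * algebraMap A₀ A (s₁ * r₂) = algebraMap A₀ A (r₁ * s₂) :=
    IsLocalization.mk'_spec A _ _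
  have hρa : ρ a * (ι (algebraMap A₀ R' s₁) * ι (algebraMap A₀ R' r₂)) =
      ι (algebraMap A₀ R' r₁) * ι (algebraMap A₀ R' s₂) := by
    have := congrArg ρ hspec
    rw [map_mul, hρ, hρ, map_mul, map_mul, map_mul, map_mul] at this
    exact this
  have hu : IsUnit (ι w * (ι (algebraMap A₀ R' s₁) * ι (algebraMap A₀ R' r₂))) := by
    refine (hι1 w hw).mul ((hι1 _ ?_).mul (hι1 _ ?_))
    · intro h; exact hs₁ ((hmem _).mp h)
    · intro h; exact hr₂ ((hmem _).mp h)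
  rw [← Ideal.unit_mul_mem_iff_mem _ hu]
  have e : ι w * (ι (algebraMap A₀ R' s₁) * ι (algebraMap A₀ R' r₂)) * (z - ρ a) =
      ι (algebraMap A₀ R' r₂) * ι (algebraMap A₀ R' s₁ * r' - algebraMap A₀ R' r₁) -
        ι (algebraMap A₀ R' r₁) * ι (algebraMap A₀ R' s₂ * w - algebraMap A₀ R' r₂) := by
    simp only [map_sub, map_mul]
    linear_combination (ι (algebraMap A₀ R' s₁) * ι (algebraMap A₀ R' r₂)) * hwz - ι w * hρa
  rw [e]
  exact Ideal.sub_mem _ (Ideal.mul_mem_left _ _ (hι2 _ h1)) (Ideal.mul_mem_left _ _ (hι2 _ h2))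

end Groth.Agent.Lib.Helper47.AA7202RF2
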