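import Mathlib
import Groth.Prelude.Def_Found

set_option autoImplicit false
universe u
open IsLocalRing CategoryTheory AlgebraicGeometry

namespace Groth.Agent.Lib.Helper47.AA7202FC

theorem fc {A₀ B₀ R' : Type u} [CommRing A₀] [CommRing B₀] [CommRing R'] [Algebra A₀ R']
    (p : Ideal A₀) [p.IsPrime] (𝔮 : Ideal B₀) [𝔮.IsPrime] (p' : Ideal R') [p'.IsPrime]
    (g : B₀ →+* R') (hp : p'.comap (algebraMap A₀ R') = p) (h𝔮 : p'.comap g = 𝔮)
    (A : Type u) [CommRing A] [IsLocalRing A] [Algebra A₀ A] [IsLocalization.AtPrime A p]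
    (B : Type u) [CommRing B] [IsLocalRing B] [Algebra B₀ B] [IsLocalization.AtPrime B 𝔮]
    (O' : Type u) [CommRing O'] [IsLocalRing O'] (ι : R' →+* O')
    (hι1 : ∀ w : R', w ∉ p' → IsUnit (ι w)) (hι2 : ∀ z ∈ p', ι z ∈ maximalIdeal O')
    (ρA : A →+* O') (hρA : ∀ a₀ : A₀, ρA (algebraMap A₀ A a₀) = ι (algebraMap A₀ R' a₀))
    (ρB : B →+* O') (hρB : ∀ b₀ : B₀, ρB (algebraMap B₀ B b₀) = ι (g b₀))
    (N : ℕ) (b : B) (c : A)
    (hcore : ∀ (b₀ t : B₀) (c₀ s : A₀), t ∉ 𝔮 → s ∉ p →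
        algebraMap B₀ B t * b = algebraMap B₀ B b₀ → algebraMap A₀ A s * c = algebraMap A₀ A c₀ →
        ∃ w : R', w ∉ p' ∧
          w * (g b₀ * algebraMap A₀ R' s - algebraMap A₀ R' c₀ * g t) ∈ p' ^ N) :
    Ideal.Quotient.mk (maximalIdeal O' ^ N) (ρB b) = Ideal.Quotient.mk (maximalIdeal O' ^ N) (ρA c) := by
  obtain ⟨⟨b₀, ⟨t, ht⟩⟩, hb⟩ := IsLocalization.surj 𝔮.primeCompl b
  obtain ⟨⟨c₀, ⟨s, hs⟩⟩, hc⟩ := IsLocalization.surj p.primeCompl c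
  simp only at hb hc
  have ht' : t ∉ 𝔮 := ht
  have hs' : s ∉ p := hs
  obtain ⟨w, hw, hwz⟩ := hcore b₀ t c₀ s ht' hs' (by rw [mul_comm]; exact hb)
    (by rw [mul_comm]; exact hc)
  rw [Ideal.Quotient.eq]
  have h1 : ι (g t) * ι (algebraMap A₀ R' s) * (ρB b - ρA c) =
      ι (g b₀ * algebraMap A₀ R' s - algebraMap A₀ R' c₀ * g t) := by
    rw [map_sub, map_mul, map_mul, ← hρB, ← hρB, ← hρA, ← hρA, ← hb, ← hc, map_mul, map_mul]
    ring
  have hmap : ∀ z ∈ p' ^ N, ι z ∈ maximalIdeal O' ^ N := by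
    intro z hz
    have : (p' ^ N).map ι ≤ maximalIdeal O' ^ N := by
      rw [Ideal.map_pow]
      refine Ideal.pow_right_mono ?_ N
      rw [Ideal.map_le_iff_le_comap]
      intro z hz
      exact Ideal.mem_comap.mpr (hι2 z hz)
    exact this (Ideal.mem_map_of_mem ι hz)
  have h2 := hmap _ hwz
  rw [map_mul, ← h1] at h2
  have hu : IsUnit (ι w * (ι (g t) * ι (algebraMap A₀ R' s))) := by
    refine (hι1 w hw).mul ((hι1 _ ?_).mul (hι1 _ ?_))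
    · intro h; exact ht' (h𝔮 ▸ (Ideal.mem_comap.mpr h))
    · intro h; exact hs' (hp ▸ (Ideal.mem_comap.mpr h))
  rw [← mul_assoc] at h2
  exact (Ideal.unit_mul_mem_iff_mem _ hu).mp h2

end Groth.Agent.Lib.Helper47.AA7202FC
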