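import Mathlib
import Groth.Agent.Lib.Helper47.AA7202RF2

set_option autoImplicit false
universe u
open IsLocalRing

namespace Groth.Agent.Lib.Helper47.AA7202INJ

/-- decomposition `O' = L + m^n O'` given the case `n = 1`. -/
theorem one_sup_pow_smul_top {L O' : Type u} [CommRing L] [CommRing O'] [Algebra L O']
    (m : Ideal L) (h1 : (1 : Submodule L O') ⊔ (m • ⊤ : Submodule L O') = ⊤) (n : ℕ) :
    (1 : Submodule L O') ⊔ ((m ^ n) • ⊤ : Submodule L O') = ⊤ := by
  induction n with
  | zero => rw [pow_zero, Ideal.one_eq_top, Submodule.top_smul]; simp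
  | succ n ih =>
    have key : ((m ^ n) • ⊤ : Submodule L O') ≤
        (1 : Submodule L O') ⊔ ((m ^ (n + 1)) • ⊤ : Submodule L O') := by
      calc ((m ^ n) • ⊤ : Submodule L O')
          = (m ^ n) • ((1 : Submodule L O') ⊔ (m • ⊤ : Submodule L O')) := by rw [h1]
        _ = (m ^ n) • (1 : Submodule L O') ⊔ (m ^ n) • (m • ⊤ : Submodule L O') :=
            Submodule.smul_sup _ _ _
        _ ≤ (1 : Submodule L O') ⊔ ((m ^ (n + 1)) • ⊤ : Submodule L O') := by
            refine sup_le_sup ?_ ?_
            · exact Submodule.smul_le_right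
            · rw [← Submodule.mul_smul, ← pow_succ]
    rw [eq_top_iff]
    calc (⊤ : Submodule L O') = (1 : Submodule L O') ⊔ ((m ^ n) • ⊤ : Submodule L O') := ih.symm
      _ ≤ _ := sup_le le_sup_left key

theorem inj_aux {R R' : Type u} [CommRing R] [CommRing R'] [Algebra R R']
    (p : Ideal R) [p.IsPrime] (p' : Ideal R') [p'.IsPrime]
    (hp : p'.comap (algebraMap R R') = p)
    (hfrac : ∀ x : R', ∃ r s : R, s ∉ p ∧ algebraMap R R' s * x - algebraMap R R' r ∈ p')
    (L : Type u) [CommRing L] [Algebra R L] [IsLocalRing L] [IsLocalization.AtPrime L p]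
    (O' : Type u) [CommRing O'] [Algebra R' O'] [IsLocalRing O'] [IsLocalization.AtPrime O' p']
    [Algebra R O'] [IsScalarTower R R' O'] [Algebra L O'] [IsScalarTower R L O']
    (hmO : p.map (algebraMap R O') = maximalIdeal O')
    (ψ : R' →+* AdicCompletion (maximalIdeal L) L)
    (hψ : ∀ r : R, ψ (algebraMap R R' r) = algebraMap L _ (algebraMap R L r))
    (hψp : ∀ x ∈ p', ψ x ∈ (maximalIdeal L).map
      (algebraMap L (AdicCompletion (maximalIdeal L) L)))
    (N : ℕ) (z : R')
    (hz : ψ z ∈ (maximalIdeal L ^ N).map (algebraMap L (AdicCompletion (maximalIdeal L) L))) :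
    ∃ w : R', w ∉ p' ∧ w * z ∈ p' ^ N := by
  have hmO' : (maximalIdeal L).map (algebraMap L O') = maximalIdeal O' := by
    rw [← hmO, ← IsLocalization.AtPrime.map_eq_maximalIdeal p L, Ideal.map_map,
      ← IsScalarTower.algebraMap_eq]
  have hmp' : p'.map (algebraMap R' O') = maximalIdeal O' :=
    IsLocalization.AtPrime.map_eq_maximalIdeal p' O'
  let ev : AdicCompletion (maximalIdeal L) L →+* L ⧸ maximalIdeal L ^ N :=
    (AdicCompletion.evalₐ (maximalIdeal L) N).toRingHom
  have hev : ∀ l : L, ev (algebraMap L _ l) = Ideal.Quotient.mk (maximalIdeal L ^ N) l :=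
    fun l => by simp [ev]
  have hcomp : ev.comp (algebraMap L (AdicCompletion (maximalIdeal L) L)) =
      Ideal.Quotient.mk (maximalIdeal L ^ N) := RingHom.ext hev
  let θ : R' →+* L ⧸ maximalIdeal L ^ N := ev.comp ψ
  have hθR : ∀ r : R, θ (algebraMap R R' r) =
      Ideal.Quotient.mk (maximalIdeal L ^ N) (algebraMap R L r) :=
    fun r => by simp only [θ, RingHom.comp_apply, hψ, hev]
  have hθp : ∀ x ∈ p', ∃ e ∈ maximalIdeal L, θ x = Ideal.Quotient.mk (maximalIdeal L ^ N) e := by
    intro x hx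
    have h := hψp x hx
    have : ev (ψ x) ∈ ((maximalIdeal L).map (algebraMap L _)).map ev := Ideal.mem_map_of_mem ev h
    rw [Ideal.map_map, hcomp] at this
    obtain ⟨e, he, hee⟩ := (Ideal.mem_map_iff_of_surjective _ Ideal.Quotient.mk_surjective).mp this
    exact ⟨e, he, hee.symm⟩
  have hθz : θ z = 0 := by
    have : ev (ψ z) ∈ ((maximalIdeal L ^ N).map (algebraMap L _)).map ev :=
      Ideal.mem_map_of_mem ev hz
    rw [Ideal.map_map, hcomp, Ideal.map_quotient_self] at this
    exact (Ideal.mem_bot.mp this)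
  have hmemp : ∀ a : R, algebraMap R R' a ∈ p' ↔ a ∈ p := by intro a; rw [← hp]; rfl
  have hθu : ∀ w : p'.primeCompl, IsUnit (θ w) := by
    rintro ⟨w, hw⟩
    obtain ⟨r, s, hs, hsw⟩ := hfrac w
    have hr : r ∉ p := by
      intro h
      have h3 : algebraMap R R' r ∈ p' := (hmemp _).mpr h
      have h4 : algebraMap R R' s * w ∈ p' := by
        have := p'.add_mem hsw h3
        simpa using this
      rcases Ideal.IsPrime.mem_or_mem ‹p'.IsPrime› h4 with h5 | h5
      · exact hs ((hmemp _).mp h5)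
      · exact hw h5
    obtain ⟨e, he, hee⟩ := hθp _ hsw
    have h5 : θ (algebraMap R R' s) * θ w =
        Ideal.Quotient.mk (maximalIdeal L ^ N) (algebraMap R L r + e) := by
      rw [map_add, ← hee, ← hθR, ← map_mul, ← map_add]; congr 1; ring
    have h6 : IsUnit (algebraMap R L r + e) := by
      have hru : IsUnit (algebraMap R L r) := IsLocalization.map_units L (⟨r, hr⟩ : p.primeCompl)
      by_contra hne
      have h7 : algebraMap R L r + e ∈ maximalIdeal L := (IsLocalRing.mem_maximalIdeal _).mpr hne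
      have h8 : algebraMap R L r ∈ maximalIdeal L := by
        have := (maximalIdeal L).sub_mem h7 he
        simpa using this
      exact (IsLocalRing.mem_maximalIdeal _).mp h8 hru
    have h9 : IsUnit (θ (algebraMap R R' s) * θ w) := by rw [h5]; exact h6.map _
    exact isUnit_of_mul_isUnit_right h9
  let Θ : O' →+* L ⧸ maximalIdeal L ^ N := IsLocalization.lift (M := p'.primeCompl) (g := θ) hθu
  have hΘι : ∀ x : R', Θ (algebraMap R' O' x) = θ x := fun x => IsLocalization.lift_eq _ _
  have hΘcomp : (Θ.comp (algebraMap L O')) = Ideal.Quotient.mk (maximalIdeal L ^ N) := by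
    refine IsLocalization.ringHom_ext p.primeCompl ?_
    ext r
    simp only [RingHom.comp_apply]
    rw [← IsScalarTower.algebraMap_apply R L O', IsScalarTower.algebraMap_apply R R' O', hΘι, hθR]
  have hΘL : ∀ l : L, Θ (algebraMap L O' l) = Ideal.Quotient.mk (maximalIdeal L ^ N) l := fun l =>
    RingHom.congr_fun hΘcomp l
  have hΘm : ∀ y ∈ (maximalIdeal O') ^ N, Θ y = 0 := by
    intro y hy
    have h1 : Θ y ∈ ((maximalIdeal O') ^ N).map Θ := Ideal.mem_map_of_mem _ hy
    rw [← hmO', Ideal.map_pow, Ideal.map_map, hΘcomp, ← Ideal.map_pow,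
      Ideal.map_quotient_self] at h1
    exact Ideal.mem_bot.mp h1
  have hrf := Groth.Agent.Lib.Helper47.AA7202RF2.rf2 p p' hp hfrac L O' (algebraMap R' O')
    (fun w hw => IsLocalization.map_units O' (⟨w, hw⟩ : p'.primeCompl))
    (fun x hx => by rw [← hmp']; exact Ideal.mem_map_of_mem _ hx)
    (fun x => by
      obtain ⟨⟨r', ⟨w, hw⟩⟩, h⟩ := IsLocalization.surj p'.primeCompl x
      exact ⟨r', w, hw, by rw [mul_comm]; exact h⟩)
    (algebraMap L O') (fun a₀ => by
      rw [← IsScalarTower.algebraMap_apply, ← IsScalarTower.algebraMap_apply])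
  have h1 : (1 : Submodule L O') ⊔ (maximalIdeal L • ⊤ : Submodule L O') = ⊤ := by
    rw [eq_top_iff]
    intro x _
    obtain ⟨a, ha⟩ := hrf x
    rw [← hmO'] at ha
    have : x = algebraMap L O' a + (x - algebraMap L O' a) := by ring
    rw [this]
    refine Submodule.add_mem_sup ?_ ?_
    · exact Submodule.mem_one.mpr ⟨a, rfl⟩
    · rw [Ideal.smul_top_eq_map]; exact ha
  have hN := one_sup_pow_smul_top (maximalIdeal L) h1 N
  have hzmem : algebraMap R' O' z ∈
      (1 : Submodule L O') ⊔ ((maximalIdeal L ^ N) • ⊤ : Submodule L O') := by rw [hN]; trivial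
  obtain ⟨y1, hy1, y2, hy2, hy⟩ := Submodule.mem_sup.mp hzmem
  obtain ⟨l, rfl⟩ := Submodule.mem_one.mp hy1
  rw [Ideal.smul_top_eq_map, Submodule.restrictScalars_mem, Ideal.map_pow, hmO'] at hy2
  have h0 : Θ (algebraMap R' O' z) = 0 := by rw [hΘι, hθz]
  rw [← hy, map_add, hΘL, hΘm _ hy2, add_zero, Ideal.Quotient.eq_zero_iff_mem] at h0
  have hz' : algebraMap R' O' z ∈ (maximalIdeal O') ^ N := by
    rw [← hy]
    refine Ideal.add_mem _ ?_ hy2
    rw [← hmO', ← Ideal.map_pow]
    exact Ideal.mem_map_of_mem _ h0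
  rw [← hmp', ← Ideal.map_pow,
    IsLocalization.mem_map_algebraMap_iff p'.primeCompl] at hz'
  obtain ⟨⟨⟨a, ha⟩, ⟨w, hw⟩⟩, h⟩ := hz'
  simp only at h
  rw [← map_mul, IsLocalization.eq_iff_exists p'.primeCompl] at h
  obtain ⟨⟨c, hc⟩, hc2⟩ := h
  refine ⟨c * w, ?_, ?_⟩
  · exact (p'.primeCompl).mul_mem hc hw
  · have : c * w * z = c * a := by simp only at hc2; rw [← hc2]; ring
    rw [this]; exact Ideal.mul_mem_left _ _ ha

theorem inj {R R' : Type u} [CommRing R] [CommRing R'] [Algebra R R'] [Algebra.Etale R R']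
    (p : Ideal R) [p.IsPrime] (p' : Ideal R') [p'.IsPrime]
    (hp : p'.comap (algebraMap R R') = p)
    (hfrac : ∀ x : R', ∃ r s : R, s ∉ p ∧ algebraMap R R' s * x - algebraMap R R' r ∈ p')
    (ψ : R' →+* AdicCompletion (IsLocalRing.maximalIdeal (Localization.AtPrime p))
      (Localization.AtPrime p))
    (hψ : ∀ r : R, ψ (algebraMap R R' r) =
      algebraMap (Localization.AtPrime p) _ (algebraMap R (Localization.AtPrime p) r))
    (hψp : ∀ x ∈ p', ψ x ∈ (IsLocalRing.maximalIdeal (Localization.AtPrime p)).map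
      (algebraMap (Localization.AtPrime p)
        (AdicCompletion (IsLocalRing.maximalIdeal (Localization.AtPrime p))
          (Localization.AtPrime p))))
    (N : ℕ) (z : R')
    (hz : ψ z ∈ (IsLocalRing.maximalIdeal (Localization.AtPrime p) ^ N).map
      (algebraMap (Localization.AtPrime p)
        (AdicCompletion (IsLocalRing.maximalIdeal (Localization.AtPrime p))
          (Localization.AtPrime p)))) :
    ∃ w : R', w ∉ p' ∧ w * z ∈ p' ^ N := by
  have : p'.LiesOver p := ⟨hp.symm⟩
  let _ : Algebra (Localization.AtPrime p) (Localization.AtPrime p') :=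
    Localization.AtPrime.algebraOfLiesOver p p'
  have : Algebra.FormallyUnramified R R' := inferInstance
  have : Algebra.IsUnramifiedAt R p' := Algebra.FormallyUnramified.comp R R' _
  have hmO : p.map (algebraMap R (Localization.AtPrime p')) =
      maximalIdeal (Localization.AtPrime p') :=
    ((Algebra.isUnramifiedAt_iff_map_eq R p p').mp inferInstance).2
  exact inj_aux p p' hp hfrac (Localization.AtPrime p) (Localization.AtPrime p') hmO ψ hψ hψp N z hz

end Groth.Agent.Lib.Helper47.AA7202INJ
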