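import Groth.Agent.Lib.Helper47.BMZero

set_option autoImplicit false
universe u

namespace Groth.Agent.Lib.Helper47.BMUniq

open TopologicalSpace Topology Order AlgebraicGeometry CategoryTheory BMCoh Opposite
open CategoryTheory.Limits

section Add

variable {V : ObjectProperty Scheme.{u}} [IsConstructible V] {R : Type u} [CommRing R]
  {A : Coefs R} (T : PreTheory V R A)

lemma relCodim_eq_zero_of_dim_eq {Y Y' : Scheme.{u}} (h : WeilCoh.dim Y = WeilCoh.dim Y') :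
    relCodim Y Y' = 0 := by
  unfold relCodim
  rw [h, sub_self]

/-- push-forward along a clopen immersion is a section of restriction -/
theorem pull_push' {Y W : Obj V} (iY : Y ⟶ W) [IsClosedImmersion iY.hom] (M : A.Cat)
    (i n : ℤ) (hi : i = i + 2 * relCodim Y.scheme W.scheme)
    (hn : n = n + relCodim Y.scheme W.scheme) (b : T.gp Y M i n) :
    (T.pull iY M i n).hom ((T.push iY.hom M i n i n hi hn).hom b) = b := by
  have hpb : IsPullback (𝟙 Y : Y ⟶ Y).hom (𝟙 Y.scheme) iY.hom iY.hom :=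
    IsKernelPair.id_of_mono iY.hom
  have hi' : i = i + 2 * relCodim Y.scheme Y.scheme := by rw [relCodim_self']; ring
  have hn' : n = n + relCodim Y.scheme Y.scheme := by rw [relCodim_self']; ring
  have h1 := T.push_pull iY.hom (𝟙 Y.scheme) iY (𝟙 Y) hpb M i n i n hi hn hi' hn'
  rw [T.push_id Y M i n hi' hn', Category.comp_id] at h1
  have h2 : ((T.H i n).map (𝟙 Y : Y ⟶ Y).op).app M = 𝟙 _ := pull_id T Y M i n
  rw [h2] at h1
  exact congrArg (fun g => g.hom b) h1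

lemma isClosedImmersion_homOfLE {X : Scheme.{u}} {U U' : X.Opens} (hle : U ≤ U')
    (Uc : X.Opens) (hc : ∀ y ∈ U', y ∈ U ↔ y ∉ Uc) : IsClosedImmersion (X.homOfLE hle) := by
  apply IsClosedImmersion.of_isPreimmersion
  rw [range_homOfLE]
  have : U'.ι ⁻¹' (U : Set X) = (U'.ι ⁻¹' (Uc : Set X))ᶜ := by
    ext u
    exact hc _ (ι_mem U' u)
  rw [this]
  exact (Uc.2.preimage U'.ι.continuous).isClosed_compl

/-- the decomposition of an open into a clopen piece and its complement -/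
noncomputable abbrev mkDecompLE (Zo : Obj V) {Ω Ωc Ωt : Zo.scheme.Opens} (hle : Ω ≤ Ωt)
    (hlec : Ωc ≤ Ωt) (hc : ∀ y ∈ Ωt, y ∈ Ω ↔ y ∉ Ωc)
    (hdc : WeilCoh.dim (Ωc : Scheme.{u}) = WeilCoh.dim (Ωt : Scheme.{u})) :
    Decomp (Zo.res Ωt) :=
  { Z := Zo.res Ω
    U := Zo.res Ωc
    i := Zo.scheme.homOfLE hle
    closedImm := isClosedImmersion_homOfLE hle Ωc hc
    j := Zo.resLE hlec hdc
    range_eq := by
      change Set.range (Zo.scheme.homOfLE hlec) = _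
      rw [range_homOfLE, range_homOfLE]
      ext u
      exact ⟨fun h1 h2 => (hc _ (ι_mem Ωt u)).mp h2 h1,
        fun h1 => by_contra fun h2 => h1 ((hc _ (ι_mem Ωt u)).mpr h2)⟩ }

/-- push-forward along the inclusion of a clopen piece of the same dimension -/
noncomputable def pushLE (Zo : Obj V) {Ω Ωt : Zo.scheme.Opens} (hle : Ω ≤ Ωt)
    (hcl : IsClosedImmersion (Zo.scheme.homOfLE hle))
    (hd : WeilCoh.dim (Ω : Scheme.{u}) = WeilCoh.dim (Ωt : Scheme.{u})) (M : A.Cat) (i n : ℤ) :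
    T.gp (Zo.res Ω) M i n ⟶ T.gp (Zo.res Ωt) M i n :=
  haveI := hcl
  T.push (X := Zo.res Ω) (Y := Zo.res Ωt) (Zo.scheme.homOfLE hle) M i n i n
    (by
      have : relCodim (Zo.res Ω).scheme (Zo.res Ωt).scheme = 0 := relCodim_eq_zero_of_dim_eq hd
      rw [this]; ring)
    (by
      have : relCodim (Zo.res Ω).scheme (Zo.res Ωt).scheme = 0 := relCodim_eq_zero_of_dim_eq hd
      rw [this]; ring)

lemma rs_pushLE_self (Zo : Obj V) {Ω Ωt : Zo.scheme.Opens} (hle : Ω ≤ Ωt)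
    (hcl : IsClosedImmersion (Zo.scheme.homOfLE hle))
    (hd : WeilCoh.dim (Ω : Scheme.{u}) = WeilCoh.dim (Ωt : Scheme.{u})) (M : A.Cat) (i n : ℤ)
    (b : T.gp (Zo.res Ω) M i n) :
    (rs T Zo hle hd M i n).hom ((pushLE T Zo hle hcl hd M i n).hom b) = b := by
  haveI : IsClosedImmersion (Zo.resLE hle hd).hom := hcl
  exact pull_push' T (Zo.resLE hle hd) M i n _ _ b

lemma rs_pushLE_compl (Zo : Obj V) {Ω Ωc Ωt : Zo.scheme.Opens} (hle : Ω ≤ Ωt)
    (hcl : IsClosedImmersion (Zo.scheme.homOfLE hle))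
    (hd : WeilCoh.dim (Ω : Scheme.{u}) = WeilCoh.dim (Ωt : Scheme.{u}))
    (hlec : Ωc ≤ Ωt) (hc : ∀ y ∈ Ωt, y ∈ Ω ↔ y ∉ Ωc)
    (hdc : WeilCoh.dim (Ωc : Scheme.{u}) = WeilCoh.dim (Ωt : Scheme.{u})) (M : A.Cat) (i n : ℤ)
    (b : T.gp (Zo.res Ω) M i n) :
    (rs T Zo hlec hdc M i n).hom ((pushLE T Zo hle hcl hd M i n).hom b) = 0 := by
  obtain ⟨i₀, rfl⟩ : ∃ i₀, i = i₀ + 1 := ⟨i - 1, by ring⟩
  let D := mkDecompLE Zo hle hlec hc hdc
  have hrc : relCodim (Zo.res Ω).scheme (Zo.res Ωt).scheme = 0 := relCodim_eq_zero_of_dim_eq hd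
  have hi : i₀ + 1 = (i₀ + 1) + 2 * relCodim (Zo.res Ω).scheme (Zo.res Ωt).scheme := by
    rw [hrc]; ring
  have hn : n = n + relCodim (Zo.res Ω).scheme (Zo.res Ωt).scheme := by rw [hrc]; ring
  have hex := T.exact_push_pull D M i₀ n (i₀ + 1) n hi hn
  exact (hex _).mpr ⟨b, rfl⟩

/-- the union of finitely many opens of a family -/
def unionOpen {X : Scheme.{u}} {κ : Type*} (Ω : κ → X.Opens) (K : Finset κ) : X.Opens :=
  ⟨⋃ k ∈ K, (Ω k : Set X), isOpen_biUnion fun k _ => (Ω k).2⟩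

lemma mem_unionOpen {X : Scheme.{u}} {κ : Type*} (Ω : κ → X.Opens) (K : Finset κ) (y : X) :
    y ∈ unionOpen Ω K ↔ ∃ k ∈ K, y ∈ Ω k := by
  change y ∈ ⋃ k ∈ K, (Ω k : Set X) ↔ _
  simp

lemma dim_le_of_le (Zo : Obj V) {Ω Ωt : Zo.scheme.Opens} (hle : Ω ≤ Ωt) :
    WeilCoh.dim (Ω : Scheme.{u}) ≤ WeilCoh.dim (Ωt : Scheme.{u}) :=
  natDim_le_of_isInducing (Zo.scheme.homOfLE hle).isOpenEmbedding.isInducing (finDim_opens Zo Ωt)

/-- a class on a finite disjoint union of opens (of the same dimension) vanishes if it vanishes on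
each piece -/
theorem eq_zero_of_pieces (Zo : Obj V) (M : A.Cat) (i n : ℤ) {κ : Type*} [DecidableEq κ]
    (Ω : κ → Zo.scheme.Opens) (K : Finset κ) :
    ∀ (Ωt : Zo.scheme.Opens) (hle : ∀ k ∈ K, Ω k ≤ Ωt)
      (hd : ∀ k ∈ K, WeilCoh.dim (Ω k : Scheme.{u}) = WeilCoh.dim (Ωt : Scheme.{u}))
      (_ : ∀ k ∈ K, ∀ l ∈ K, k ≠ l → ∀ y, y ∈ Ω k → y ∉ Ω l)
      (_ : ∀ y ∈ Ωt, ∃ k ∈ K, y ∈ Ω k) (c : T.gp (Zo.res Ωt) M i n),
      (∀ k (hk : k ∈ K), (rs T Zo (hle k hk) (hd k hk) M i n).hom c = 0) → c = 0 := by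
  induction K using Finset.induction_on with
  | empty =>
    intro Ωt hle hd hdisj hcov c hc
    have : IsEmpty (Zo.res Ωt).scheme := ⟨fun u => by
      obtain ⟨k, hk, -⟩ := hcov _ (ι_mem Ωt u)
      exact absurd hk (Finset.notMem_empty k)⟩
    exact gp_eq_zero_of_isEmpty T (Zo.res Ωt) M i n c
  | insert k₀ K' hk₀ IH =>
    intro Ωt hle hd hdisj hcov c hc
    obtain ⟨i₀, rfl⟩ : ∃ i₀, i = i₀ + 1 := ⟨i - 1, by ring⟩
    have hk₀m : k₀ ∈ insert k₀ K' := Finset.mem_insert_self k₀ K'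
    by_cases hK' : K' = ∅
    · have hΩ : Ωt = Ω k₀ := by
        apply le_antisymm
        · intro y hy
          obtain ⟨k, hk, hyk⟩ := hcov y hy
          rw [hK'] at hk
          have : k = k₀ := by simpa using hk
          rw [← this]
          exact hyk
        · exact hle k₀ hk₀m
      subst hΩ
      have h2 := congrArg (fun φ => φ.hom c) (rs_refl T Zo (Ω k₀) M (i₀ + 1) n)
      exact h2.symm.trans (hc k₀ hk₀m)
    · obtain ⟨k₁, hk₁⟩ := Finset.nonempty_iff_ne_empty.mpr hK'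
      have hk₁m : k₁ ∈ insert k₀ K' := Finset.mem_insert_of_mem hk₁
      let rest := unionOpen Ω K'
      have hrest_le : rest ≤ Ωt := by
        intro y hy
        obtain ⟨k, hk, hyk⟩ := (mem_unionOpen Ω K' y).mp hy
        exact hle k (Finset.mem_insert_of_mem hk) hyk
      have hle' : ∀ k ∈ K', Ω k ≤ rest := fun k hk y hy => (mem_unionOpen Ω K' y).mpr ⟨k, hk, hy⟩
      have hdrest : WeilCoh.dim (rest : Scheme.{u}) = WeilCoh.dim (Ωt : Scheme.{u}) :=
        le_antisymm (dim_le_of_le Zo hrest_le)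
          ((hd k₁ hk₁m).symm.le.trans (dim_le_of_le Zo (hle' k₁ hk₁)))
      have hd' : ∀ k ∈ K', WeilCoh.dim (Ω k : Scheme.{u}) = WeilCoh.dim (rest : Scheme.{u}) :=
        fun k hk => (hd k (Finset.mem_insert_of_mem hk)).trans hdrest.symm
      have hrest0 : (rs T Zo hrest_le hdrest M (i₀ + 1) n).hom c = 0 := by
        apply IH rest hle' hd'
          (fun k hk l hl => hdisj k (Finset.mem_insert_of_mem hk) l (Finset.mem_insert_of_mem hl))
          (fun y hy => (mem_unionOpen Ω K' y).mp hy)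
        intro k hk
        rw [rs_rs_apply]
        exact hc k (Finset.mem_insert_of_mem hk)
      have hcmp : ∀ y ∈ Ωt, y ∈ Ω k₀ ↔ y ∉ rest := by
        intro y hy
        constructor
        · intro hy0 hyr
          obtain ⟨k, hk, hyk⟩ := (mem_unionOpen Ω K' y).mp hyr
          exact hdisj k₀ hk₀m k (Finset.mem_insert_of_mem hk)
            (fun h => hk₀ (h ▸ hk)) y hy0 hyk
        · intro hyr
          obtain ⟨k, hk, hyk⟩ := hcov y hy
          rcases Finset.mem_insert.mp hk with rfl | hk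
          · exact hyk
          · exact absurd ((mem_unionOpen Ω K' y).mpr ⟨k, hk, hyk⟩) hyr
      let D := mkDecompLE Zo (hle k₀ hk₀m) hrest_le hcmp hdrest
      have hrc : relCodim (Zo.res (Ω k₀)).scheme (Zo.res Ωt).scheme = 0 :=
        relCodim_eq_zero_of_dim_eq (hd k₀ hk₀m)
      have hi : i₀ + 1 = (i₀ + 1) + 2 * relCodim (Zo.res (Ω k₀)).scheme (Zo.res Ωt).scheme := by
        rw [hrc]; ring
      have hn : n = n + relCodim (Zo.res (Ω k₀)).scheme (Zo.res Ωt).scheme := by rw [hrc]; ring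
      obtain ⟨b, hb⟩ := ((T.exact_push_pull D M i₀ n (i₀ + 1) n hi hn) c).mp hrest0
      have hcl : IsClosedImmersion (Zo.scheme.homOfLE (hle k₀ hk₀m)) := D.closedImm
      have hb' : (pushLE T Zo (hle k₀ hk₀m) hcl (hd k₀ hk₀m) M (i₀ + 1) n).hom b = c := hb
      have h3 := rs_pushLE_self T Zo (hle k₀ hk₀m) hcl (hd k₀ hk₀m) M (i₀ + 1) n b
      rw [hb', hc k₀ hk₀m] at h3
      rw [← hb', ← h3, map_zero]

section Cover

variable (Zo : Obj V) {κ : Type*} [Fintype κ] [DecidableEq κ] (Ω : κ → Zo.scheme.Opens)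
  (Ωt : Zo.scheme.Opens) (hle : ∀ k, Ω k ≤ Ωt)
  (hd : ∀ k, WeilCoh.dim (Ω k : Scheme.{u}) = WeilCoh.dim (Ωt : Scheme.{u}))
  (hdisj : ∀ k l, k ≠ l → ∀ y, y ∈ Ω k → y ∉ Ω l) (hcov : ∀ y ∈ Ωt, ∃ k, y ∈ Ω k)

include hdisj hcov in
lemma piece_compl (k : κ) :
    ∀ y ∈ Ωt, y ∈ Ω k ↔ y ∉ unionOpen Ω (Finset.univ.erase k) := by
  intro y hy
  constructor
  · intro hy0 hyr
    obtain ⟨l, hl, hyl⟩ := (mem_unionOpen Ω _ y).mp hyr
    exact hdisj k l (fun h => (Finset.ne_of_mem_erase hl) h.symm) y hy0 hyl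
  · intro hyr
    obtain ⟨l, hyl⟩ := hcov y hy
    by_cases hlk : l = k
    · exact hlk ▸ hyl
    · exact absurd ((mem_unionOpen Ω _ y).mpr ⟨l, Finset.mem_erase.mpr ⟨hlk, Finset.mem_univ l⟩,
        hyl⟩) hyr

include hdisj hcov in
lemma isClosedImmersion_piece (k : κ) : IsClosedImmersion (Zo.scheme.homOfLE (hle k)) :=
  isClosedImmersion_homOfLE (hle k) _ (piece_compl Zo Ω Ωt hdisj hcov k)

include hdisj hcov in
lemma rs_pushLE_ne (M : A.Cat) (i n : ℤ) (k l : κ) (hkl : k ≠ l)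
    (hcl : IsClosedImmersion (Zo.scheme.homOfLE (hle k))) (b : T.gp (Zo.res (Ω k)) M i n) :
    (rs T Zo (hle l) (hd l) M i n).hom ((pushLE T Zo (hle k) hcl (hd k) M i n).hom b) = 0 := by
  have hlrest : Ω l ≤ unionOpen Ω (Finset.univ.erase k) := fun y hy =>
    (mem_unionOpen Ω _ y).mpr ⟨l, Finset.mem_erase.mpr ⟨hkl.symm, Finset.mem_univ l⟩, hy⟩
  have hrest_le : unionOpen Ω (Finset.univ.erase k) ≤ Ωt := by
    intro y hy
    obtain ⟨l', -, hyl⟩ := (mem_unionOpen Ω _ y).mp hy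
    exact hle l' hyl
  have hdrest : WeilCoh.dim (unionOpen Ω (Finset.univ.erase k) : Scheme.{u}) =
      WeilCoh.dim (Ωt : Scheme.{u}) :=
    le_antisymm (dim_le_of_le Zo hrest_le) ((hd l).symm.le.trans (dim_le_of_le Zo hlrest))
  have h0 := rs_pushLE_compl T Zo (hle k) hcl (hd k) hrest_le
    (piece_compl Zo Ω Ωt hdisj hcov k) hdrest M i n b
  rw [← rs_rs_apply T Zo hlrest hrest_le ((hd l).trans hdrest.symm) hdrest, h0, map_zero]

include hdisj hcov in
theorem sum_pushLE_rs (M : A.Cat) (i n : ℤ)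
    (hcl : ∀ k, IsClosedImmersion (Zo.scheme.homOfLE (hle k))) (c : T.gp (Zo.res Ωt) M i n) :
    c = ∑ k, (pushLE T Zo (hle k) (hcl k) (hd k) M i n).hom
      ((rs T Zo (hle k) (hd k) M i n).hom c) := by
  rw [← sub_eq_zero]
  apply eq_zero_of_pieces T Zo M i n Ω Finset.univ Ωt (fun k _ => hle k) (fun k _ => hd k)
    (fun k _ l _ => hdisj k l) (fun y hy => by
      obtain ⟨k, hk⟩ := hcov y hy
      exact ⟨k, Finset.mem_univ k, hk⟩)
  intro l _
  rw [map_sub, map_sum, Finset.sum_eq_single l]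
  · rw [rs_pushLE_self, sub_self]
  · intro k _ hkl
    exact rs_pushLE_ne T Zo Ω Ωt hle hd hdisj hcov M i n k l hkl (hcl k) _
  · intro h
    exact absurd (Finset.mem_univ l) h

end Cover

end Add

end Groth.Agent.Lib.Helper47.BMUniq
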