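import Groth.Agent.Lib.Helper47.BMPushZero

set_option autoImplicit false
universe u

namespace Groth.Agent.Lib.Helper47.BMUniq

open TopologicalSpace Topology Order AlgebraicGeometry CategoryTheory BMCoh Opposite
open CategoryTheory.Limits

section Aux

lemma isPullback_id_of_mono {C : Type*} [Category C] {W Y U : C} (f₁ : W ⟶ Y) (g : Y ⟶ U)
    [Mono g] (f : W ⟶ U) (h : f₁ ≫ g = f) : IsPullback (𝟙 W) f₁ f g := by
  refine IsPullback.of_isLimit (c := PullbackCone.mk (𝟙 W) f₁ (by rw [Category.id_comp, h]))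
    (PullbackCone.IsLimit.mk _ (fun s => s.fst) (fun s => Category.comp_id _) (fun s => ?_)
      (fun s m h1 _ => by rw [← h1, Category.comp_id]))
  rw [← cancel_mono g, Category.assoc, h, s.condition]

variable {X Z : Scheme.{u}} (g : Z ⟶ X)

lemma liftOpen_homOfLE (W : Z.Opens) {U U' : X.Opens} (hle : U ≤ U') (h : ∀ w ∈ W, g w ∈ U) :
    liftOpen g W U h ≫ X.homOfLE hle = liftOpen g W U' (fun w hw => hle (h w hw)) := by
  rw [← cancel_mono U'.ι, Category.assoc, Scheme.homOfLE_ι, liftOpen_ι, liftOpen_ι]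

variable {V : ObjectProperty Scheme.{u}} [IsConstructible V]

/-- the closed union of the closures of finitely many points -/
def clUnion (X : Obj V) (S : Finset X.scheme) : Set X.scheme :=
  ⋃ s ∈ S, closure ({s} : Set X.scheme)

lemma isClosed_clUnion (X : Obj V) (S : Finset X.scheme) : IsClosed (clUnion X S) :=
  isClosed_biUnion_finset fun _ _ => isClosed_closure

lemma mem_clUnion (X : Obj V) (S : Finset X.scheme) (y : X.scheme) :
    y ∈ clUnion X S ↔ ∃ s ∈ S, y ∈ closure ({s} : Set X.scheme) := by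
  simp [clUnion]

/-- `U ∖ C` for a closed `C` -/
def diffOpen (X : Obj V) (U : X.scheme.Opens) (C : Set X.scheme) (hC : IsClosed C) :
    X.scheme.Opens := ⟨(U : Set X.scheme) \ C, U.2.sdiff hC⟩

lemma mem_diffOpen (X : Obj V) (U : X.scheme.Opens) (C : Set X.scheme) (hC : IsClosed C)
    (y : X.scheme) : y ∈ diffOpen X U C hC ↔ y ∈ U ∧ y ∉ C := Iff.rfl

end Aux

end Groth.Agent.Lib.Helper47.BMUniq
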