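import Groth.Agent.Lib.Helper47.BMToFj

set_option autoImplicit false
universe u

namespace Groth.Agent.Lib.Helper47.BMUniq

open TopologicalSpace Topology Order AlgebraicGeometry CategoryTheory BMCoh Opposite
open CategoryTheory.Limits

section Big

variable {V : ObjectProperty Scheme.{u}} [IsConstructible V] {R : Type u} [CommRing R]
  {A : Coefs R}

lemma containsFj_opensRange {Z Y : Obj V} (g : Z ⟶ Y)
    (hbig : ∀ y : Y.scheme, y ∉ Set.range g.hom → 2 ≤ WeilCoh.codim Y.scheme y) :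
    ContainsFj Y 1 g.hom.opensRange := by
  intro y hy
  by_contra hn
  have h2 : 2 ≤ WeilCoh.codim Y.scheme y := hbig y hn
  omega

lemma dim_opensRange {Z Y : Obj V} (g : Z ⟶ Y) :
    WeilCoh.dim (g.hom.opensRange : Scheme.{u}) = WeilCoh.dim Y.scheme :=
  (dim_eq_of_iso (Scheme.Hom.isoOpensRange g.hom)).symm.trans g.dim_eq

/-- the iso of the source onto the range, as a morphism of objects -/
noncomputable def toRange {Z Y : Obj V} (g : Z ⟶ Y) : Z ⟶ Y.res g.hom.opensRange :=
  ⟨(Scheme.Hom.isoOpensRange g.hom).hom, inferInstance,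
    dim_eq_of_iso (Scheme.Hom.isoOpensRange g.hom)⟩

lemma isIso_toRange {Z Y : Obj V} (g : Z ⟶ Y) : IsIso (toRange g) :=
  ⟨⟨⟨(Scheme.Hom.isoOpensRange g.hom).inv, inferInstance,
      (dim_eq_of_iso (Scheme.Hom.isoOpensRange g.hom)).symm⟩,
    Hom.ext (by simp [toRange]), Hom.ext (by simp [toRange])⟩⟩

lemma toRange_resι {Z Y : Obj V} (g : Z ⟶ Y) :
    toRange g ≫ Y.resι g.hom.opensRange (dim_opensRange g) = g :=
  Hom.ext (by simp [toRange, Obj.resι])

lemma resLE_resι (X : Obj V) {U' U : X.scheme.Opens} (hle : U' ≤ U)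
    (hd' : WeilCoh.dim (U' : Scheme.{u}) = WeilCoh.dim (U : Scheme.{u}))
    (hd : WeilCoh.dim (U : Scheme.{u}) = WeilCoh.dim X.scheme) :
    X.resLE hle hd' ≫ X.resι U hd = X.resι U' (hd'.trans hd) :=
  Hom.ext (by simp [Obj.resLE, Obj.resι])

/-- `toFj` computed through an index -/
lemma toFj_eq (T : PreTheory V R A) (X : Obj V) (j : ℕ) (M : A.Cat) (i n : ℤ)
    (U : Idx X (ContainsFj X j)) :
    (T.toFj X j i n).app M =
      T.pull (X.resι U.1 U.2.2) M i n ≫ (T.fjι X j i n U).app M := by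
  have hle : U ≤ idxTop X j := fun _ _ => trivial
  have h := ocolimι_rs T X (ContainsFj X j) i n M hle
  have h2 : X.resLE hle (U.2.2.trans (idxTop X j).2.2.symm) ≫ X.resTop = X.resι U.1 U.2.2 :=
    resLE_resι X _ _ _
  have h3 : T.pull (X.resι U.1 U.2.2) M i n =
      T.pull X.resTop M i n ≫ rs T X hle (U.2.2.trans (idxTop X j).2.2.symm) M i n := by
    rw [← h2, pull_comp]
  rw [h3, Category.assoc]
  exact congrArg (fun t => T.pull X.resTop M i n ≫ t) h.symm

/-- the closure of a point in an open is no bigger than its closure in the whole -/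
lemma pdim_open_le (X : Obj V) (U : X.scheme.Opens) (y : (U : Scheme.{u})) :
    WeilCoh.pdim (U : Scheme.{u}) y ≤ WeilCoh.pdim X.scheme (U.ι y) := by
  have hmap : Set.MapsTo U.ι (closure ({y} : Set (U : Scheme.{u})))
      (closure ({U.ι y} : Set X.scheme)) := by
    intro z hz
    have := image_closure_subset_closure_image U.ι.continuous (s := ({y} : Set (U : Scheme.{u})))
      ⟨z, hz, rfl⟩
    simpa using this
  have hind : IsInducing (hmap.restrict U.ι _ _) :=
    (U.ι.isOpenEmbedding.isInducing.comp IsInducing.subtypeVal).codRestrict _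
  exact natDim_le_of_isInducing hind
    (lt_of_le_of_lt (topologicalKrullDim_subspace_le _ _) (finDim X))

lemma codim_le_codim_open (X : Obj V) (U : X.scheme.Opens)
    (hd : WeilCoh.dim (U : Scheme.{u}) = WeilCoh.dim X.scheme) (y : (U : Scheme.{u})) :
    WeilCoh.codim X.scheme (U.ι y) ≤ WeilCoh.codim (U : Scheme.{u}) y := by
  have := pdim_open_le X U y
  unfold WeilCoh.codim
  omega

theorem pull_injective_of_big (T : TheoryOn V R A) {Z Y : Obj V} (g : Z ⟶ Y)
    (hbig : ∀ y : Y.scheme, y ∉ Set.range g.hom → 2 ≤ WeilCoh.codim Y.scheme y) (M : A.Cat)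
    (n : ℤ) (a : T.gp Y M 2 n) (ha : (T.pull g M 2 n).hom a = 0) : a = 0 := by
  have := isIso_toRange g
  let Ri : Idx Y (ContainsFj Y 1) :=
    ⟨g.hom.opensRange, containsFj_opensRange g hbig, dim_opensRange g⟩
  have h1 : T.pull g M 2 n =
      T.pull (Y.resι _ (dim_opensRange g)) M 2 n ≫ T.pull (toRange g) M 2 n := by
    rw [← pull_comp, toRange_resι]
  have h2 : (T.pull (toRange g) M 2 n).hom
      ((T.pull (Y.resι _ (dim_opensRange g)) M 2 n).hom a) = 0 :=
    (congrArg (fun φ => φ.hom a) h1).symm.trans ha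
  have h3 := (pull_bijective_of_isIso T.toPreTheory (toRange g) M 2 n).1
  have h4 : (T.pull (Y.resι _ (dim_opensRange g)) M 2 n).hom a = 0 :=
    h3 (h2.trans (map_zero _).symm)
  have h5 := toFj_eq T.toPreTheory Y 1 M 2 n Ri
  have h6 : ((T.toFj Y 1 2 n).app M).hom a = 0 := by
    have h7 : ((T.toFj Y 1 2 n).app M).hom a =
        ((T.fjι Y 1 2 n Ri).app M).hom ((T.pull (Y.resι _ (dim_opensRange g)) M 2 n).hom a) :=
      congrArg (fun φ => φ.hom a) h5
    rw [h7, h4, map_zero]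
  have h8 := (toFj_bijective T Y M 2 n (WeilCoh.dim Y.scheme) 1 (by norm_num) (by omega)).1
  exact h8 (h6.trans (map_zero _).symm)

theorem pull_surjective_of_big (T : TheoryOn V R A) {Z Y : Obj V} (g : Z ⟶ Y)
    (hbig : ∀ y : Y.scheme, y ∉ Set.range g.hom → 2 ≤ WeilCoh.codim Y.scheme y) (M : A.Cat)
    (n : ℤ) (b : T.gp Z M 2 n) : ∃ a : T.gp Y M 2 n, (T.pull g M 2 n).hom a = b := by
  have := isIso_toRange g
  let Ri : Idx Y (ContainsFj Y 1) :=
    ⟨g.hom.opensRange, containsFj_opensRange g hbig, dim_opensRange g⟩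
  have h1 : T.pull g M 2 n =
      T.pull (Y.resι _ (dim_opensRange g)) M 2 n ≫ T.pull (toRange g) M 2 n := by
    rw [← pull_comp, toRange_resι]
  obtain ⟨b', hb'⟩ := (pull_bijective_of_isIso T.toPreTheory (toRange g) M 2 n).2 b
  obtain ⟨a, ha⟩ := (toFj_bijective T Y M 2 n (WeilCoh.dim Y.scheme) 1 (by norm_num)
    (by omega)).2 (((T.fjι Y 1 2 n Ri).app M).hom b')
  refine ⟨a, ?_⟩
  have h5 := toFj_eq T.toPreTheory Y 1 M 2 n Ri
  have h7 : ((T.toFj Y 1 2 n).app M).hom a =
      ((T.fjι Y 1 2 n Ri).app M).hom ((T.pull (Y.resι _ (dim_opensRange g)) M 2 n).hom a) :=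
    congrArg (fun φ => φ.hom a) h5
  have h9 : ((T.fjι Y 1 2 n Ri).app M).hom
      ((T.pull (Y.resι _ (dim_opensRange g)) M 2 n).hom a - b') = 0 := by
    rw [map_sub, ← h7, ha, sub_self]
  obtain ⟨R', hle, hz⟩ := ocolim_eq_zero T.toPreTheory Y (ContainsFj Y 1) 2 n M Ri _ h9
  -- apply injectivity to the inclusion `R' ⊆ R`
  have hbig' : ∀ y : (Y.res Ri.1).scheme,
      y ∉ Set.range (Y.resLE hle (R'.2.2.trans Ri.2.2.symm)).hom →
      2 ≤ WeilCoh.codim (Y.res Ri.1).scheme y := by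
    intro y hy
    have hy' : (Ri.1.ι y) ∉ R'.1 := by
      intro hmem
      apply hy
      have : y ∈ Set.range (Y.scheme.homOfLE hle) := by
        rw [range_homOfLE]
        exact hmem
      exact this
    have hc : ¬ WeilCoh.codim Y.scheme (Ri.1.ι y) ≤ 1 := fun hc => hy' (R'.2.1 _ hc)
    have := codim_le_codim_open Y Ri.1 Ri.2.2 y
    change 2 ≤ WeilCoh.codim (Ri.1 : Scheme.{u}) y
    omega
  have h10 := pull_injective_of_big T (Y.resLE hle (R'.2.2.trans Ri.2.2.symm)) hbig' M n _ hz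
  have h11 : (T.pull (Y.resι _ (dim_opensRange g)) M 2 n).hom a = b' := sub_eq_zero.mp h10
  have h12 : (T.pull g M 2 n).hom a =
      (T.pull (toRange g) M 2 n).hom ((T.pull (Y.resι _ (dim_opensRange g)) M 2 n).hom a) :=
    congrArg (fun φ => φ.hom a) h1
  rw [h12, h11, hb']

end Big

end Groth.Agent.Lib.Helper47.BMUniq
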