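import Groth.Agent.Lib.Helper47.BMFactor
import Mathlib.Algebra.Category.ModuleCat.FilteredColimits

set_option autoImplicit false
universe u

namespace Groth.Agent.Lib.Helper47.BMUniq

open TopologicalSpace Topology Order AlgebraicGeometry CategoryTheory BMCoh Opposite
open CategoryTheory.Limits

section Colim

variable {V : ObjectProperty Scheme.{u}} [IsConstructible V] {R : Type u} [CommRing R]
  {A : Coefs R} (T : PreTheory V R A)

/-- restriction between opens of an object -/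
noncomputable abbrev rs (X : Obj V) {U' U : X.scheme.Opens} (hle : U' ≤ U)
    (hd : WeilCoh.dim (U' : Scheme.{u}) = WeilCoh.dim (U : Scheme.{u})) (M : A.Cat) (i n : ℤ) :
    T.gp (X.res U) M i n ⟶ T.gp (X.res U') M i n :=
  T.pull (X.resLE hle hd) M i n

lemma pull_comp {X Y Z : Obj V} (f : X ⟶ Y) (g : Y ⟶ Z) (M : A.Cat) (i n : ℤ) :
    T.pull (f ≫ g) M i n = T.pull g M i n ≫ T.pull f M i n := by
  unfold PreTheory.pull
  rw [op_comp, Functor.map_comp, NatTrans.comp_app]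

lemma pull_id (X : Obj V) (M : A.Cat) (i n : ℤ) : T.pull (𝟙 X) M i n = 𝟙 _ := by
  unfold PreTheory.pull
  rw [op_id, CategoryTheory.Functor.map_id, NatTrans.id_app]

lemma resLE_comp (X : Obj V) {U'' U' U : X.scheme.Opens} (hle' : U'' ≤ U') (hle : U' ≤ U)
    (hd' : WeilCoh.dim (U'' : Scheme.{u}) = WeilCoh.dim (U' : Scheme.{u}))
    (hd : WeilCoh.dim (U' : Scheme.{u}) = WeilCoh.dim (U : Scheme.{u})) :
    X.resLE hle' hd' ≫ X.resLE hle hd = X.resLE (hle'.trans hle) (hd'.trans hd) :=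
  Hom.ext (Scheme.homOfLE_homOfLE X.scheme hle' hle)

lemma rs_rs (X : Obj V) {U'' U' U : X.scheme.Opens} (hle' : U'' ≤ U') (hle : U' ≤ U)
    (hd' : WeilCoh.dim (U'' : Scheme.{u}) = WeilCoh.dim (U' : Scheme.{u}))
    (hd : WeilCoh.dim (U' : Scheme.{u}) = WeilCoh.dim (U : Scheme.{u})) (M : A.Cat) (i n : ℤ) :
    rs T X hle hd M i n ≫ rs T X hle' hd' M i n = rs T X (hle'.trans hle) (hd'.trans hd) M i n := by
  unfold rs
  rw [← pull_comp, resLE_comp]

lemma rs_rs_apply (X : Obj V) {U'' U' U : X.scheme.Opens} (hle' : U'' ≤ U') (hle : U' ≤ U)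
    (hd' : WeilCoh.dim (U'' : Scheme.{u}) = WeilCoh.dim (U' : Scheme.{u}))
    (hd : WeilCoh.dim (U' : Scheme.{u}) = WeilCoh.dim (U : Scheme.{u})) (M : A.Cat) (i n : ℤ)
    (a : T.gp (X.res U) M i n) :
    (rs T X hle' hd' M i n).hom ((rs T X hle hd M i n).hom a) =
      (rs T X (hle'.trans hle) (hd'.trans hd) M i n).hom a := by
  rw [← rs_rs T X hle' hle hd' hd]
  rfl

lemma rs_refl (X : Obj V) (U : X.scheme.Opens) (M : A.Cat) (i n : ℤ) :
    rs T X (le_refl U) rfl M i n = 𝟙 _ := by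
  have : X.resLE (le_refl U) rfl = 𝟙 (X.res U) := Hom.ext (Scheme.homOfLE_rfl _ _)
  unfold rs
  rw [this, pull_id]

/-- the canonical map of an index, as a map out of `H(U)` -/
lemma ocolimι_rs (Y : Obj V) (P : Y.scheme.Opens → Prop) (i n : ℤ) (M : A.Cat)
    {U' U : Idx Y P} (hle : U' ≤ U) :
    rs T Y hle (U'.2.2.trans U.2.2.symm) M i n ≫ (T.ocolimι Y P i n U').app M =
      (T.ocolimι Y P i n U).app M := by
  let F := (idxDiag Y P).op ⋙ T.H i n
  have h := colimit.w F (homOfLE hle).op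
  have h2 := congrArg (fun t => t.app M) h
  simp only [NatTrans.comp_app] at h2
  exact h2

theorem ocolim_exists_rep (Y : Obj V) (P : Y.scheme.Opens → Prop) [IsFiltered (Idx Y P)ᵒᵖ]
    (i n : ℤ) (M : A.Cat) (z : (T.ocolim Y P i n).obj M) :
    ∃ (U : Idx Y P) (a : T.gp (Y.res U.1) M i n), ((T.ocolimι Y P i n U).app M).hom a = z := by
  let F := (idxDiag Y P).op ⋙ T.H i n
  have hc : IsColimit (((evaluation A.Cat (ModuleCat.{u} R)).obj M).mapCocone (colimit.cocone F)) :=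
    isColimitOfPreserves _ (colimit.isColimit F)
  obtain ⟨k, y, hy⟩ := Concrete.isColimit_exists_rep _ hc z
  exact ⟨k.unop, y, hy⟩

theorem ocolim_eq_zero (Y : Obj V) (P : Y.scheme.Opens → Prop) [IsFiltered (Idx Y P)ᵒᵖ]
    (i n : ℤ) (M : A.Cat) (U : Idx Y P) (a : T.gp (Y.res U.1) M i n)
    (h : ((T.ocolimι Y P i n U).app M).hom a = 0) :
    ∃ (U' : Idx Y P) (hle : U' ≤ U),
      (rs T Y hle (U'.2.2.trans U.2.2.symm) M i n).hom a = 0 := by
  let F := (idxDiag Y P).op ⋙ T.H i n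
  have hc : IsColimit (((evaluation A.Cat (ModuleCat.{u} R)).obj M).mapCocone (colimit.cocone F)) :=
    isColimitOfPreserves _ (colimit.isColimit F)
  have h0 : ((T.ocolimι Y P i n U).app M).hom a = ((T.ocolimι Y P i n U).app M).hom 0 := by
    rw [h, map_zero]
  obtain ⟨k, f, g, hfg⟩ := (Concrete.isColimit_rep_eq_iff_exists
    (F ⋙ (evaluation A.Cat (ModuleCat.{u} R)).obj M) (i := op U) (j := op U) hc a 0).mp h0
  refine ⟨k.unop, leOfHom f.unop, ?_⟩
  have h1 := hfg.trans (map_zero _)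
  have h2 : homOfLE (leOfHom f.unop) = f.unop := Subsingleton.elim _ _
  have h3 : f = (homOfLE (leOfHom f.unop)).op := by rw [h2]; rfl
  rw [h3] at h1
  exact h1

end Colim

end Groth.Agent.Lib.Helper47.BMUniq
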