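import Groth.Agent.Lib.Helper47.BMFilt

set_option autoImplicit false
universe u

namespace Groth.Agent.Lib.Helper47.BMUniq

open TopologicalSpace Topology Order AlgebraicGeometry CategoryTheory BMCoh Opposite
open CategoryTheory.Limits

section Dec

variable {V : ObjectProperty Scheme.{u}} [IsConstructible V]

/-- The decomposition of an open `U` of `X` into the trace `W` of the closure of `x` (closed part)
and the complement `U₁` (open part). -/
noncomputable abbrev mkDecomp (X : Obj V) (x : X.scheme) (U : X.scheme.Opens)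
    (W : (X.ptSub x).scheme.Opens) (hW : ∀ z, (X.ptSubι x) z ∈ U ↔ z ∈ W)
    (U₁ : X.scheme.Opens) (hle : U₁ ≤ U)
    (hU₁ : ∀ y ∈ U, y ∈ U₁ ↔ y ∉ closure ({x} : Set X.scheme))
    (hd : WeilCoh.dim (U₁ : Scheme.{u}) = WeilCoh.dim (U : Scheme.{u})) : Decomp (X.res U) :=
  { Z := (X.ptSub x).res W
    U := X.res U₁
    i := liftOpen (X.ptSubι x) W U (fun w hw => (hW w).mpr hw)
    closedImm := isClosedImmersion_liftOpen' (X.ptSubι x) W U hW
    j := X.resLE hle hd
    range_eq := by
      change Set.range (X.scheme.homOfLE hle) = _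
      rw [range_homOfLE, range_liftOpen_of_preimage (X.ptSubι x) W U hW, range_ptSubι]
      ext u
      exact hU₁ _ (ι_mem U u) }

/-- the trace on the closure of `x` of an open `U` of `X` -/
noncomputable def traceOpen (X : Obj V) (x : X.scheme) (U : X.scheme.Opens) :
    (X.ptSub x).scheme.Opens := (X.ptSubι x) ⁻¹ᵁ U

lemma mem_traceOpen (X : Obj V) (x : X.scheme) (U : X.scheme.Opens) (z : (X.ptSub x).scheme) :
    (X.ptSubι x) z ∈ U ↔ z ∈ traceOpen X x U := Iff.rfl

/-- the trace of an open containing `x`, as an index of the point `x` -/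
noncomputable def traceIdx (X : Obj V) (x : X.scheme) (U : X.scheme.Opens) (hx : x ∈ U) :
    ptIdx X x :=
  ⟨traceOpen X x U, by
    obtain ⟨ξ, hξ, -⟩ := exists_gen X x
    exact ⟨ξ, show (X.ptSubι x) ξ ∈ U by rwa [hξ]⟩, by
    obtain ⟨ξ, hξ, -⟩ := exists_gen X x
    exact IsConstructible.dim_open (X.ptSub x).mem (irreducibleSpace_ptSub X x) _
      ⟨ξ, show (X.ptSubι x) ξ ∈ U by rwa [hξ]⟩⟩

lemma codim_le_of_mem_closure (X : Obj V) {x y : X.scheme}
    (hy : y ∈ closure ({x} : Set X.scheme)) :
    WeilCoh.codim X.scheme x ≤ WeilCoh.codim X.scheme y := by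
  have h1 := pdim_le_pdim X hy
  unfold WeilCoh.codim
  omega

lemma codim_lt_of_mem_closure (X : Obj V) {x y : X.scheme}
    (hy : y ∈ closure ({x} : Set X.scheme)) (hne : x ∉ closure ({y} : Set X.scheme)) :
    WeilCoh.codim X.scheme x < WeilCoh.codim X.scheme y := by
  have h1 := pdim_lt_pdim X hy hne
  have h2 := pdim_le_dim X x
  unfold WeilCoh.codim
  omega

/-- removing the closure of a point of codimension `> m` keeps `F_m` -/
lemma containsFj_smallOpen' (X : Obj V) (m : ℕ) (x : X.scheme)
    (hx : m < WeilCoh.codim X.scheme x) (U : X.scheme.Opens)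
    (hU : ContainsFj X m U) : ContainsFj X m (smallOpen X x U) := by
  intro y hy
  refine ⟨hU y hy, fun hycl => ?_⟩
  have := codim_le_of_mem_closure X hycl
  omega

lemma relCodim_trace (X : Obj V) (x : X.scheme) (U : X.scheme.Opens) (W : ptIdx X x)
    (hU : WeilCoh.dim (U : Scheme.{u}) = WeilCoh.dim X.scheme) :
    relCodim ((X.ptSub x).res W.1).scheme (X.res U).scheme = (WeilCoh.codim X.scheme x : ℤ) := by
  have h1 : WeilCoh.dim ((X.ptSub x).res W.1).scheme = WeilCoh.pdim X.scheme x :=
    W.2.2.trans (dim_ptSub X x)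
  have h2 : WeilCoh.dim (X.res U).scheme = WeilCoh.dim X.scheme := hU
  have hle := pdim_le_dim X x
  unfold relCodim
  rw [h1, h2]
  unfold WeilCoh.codim
  omega

end Dec

end Groth.Agent.Lib.Helper47.BMUniq
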