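import Groth.Agent.Lib.Helper47.BMSubC

set_option autoImplicit false
universe u

namespace Groth.Agent.Lib.Helper47.BMUniq

open TopologicalSpace Topology Order AlgebraicGeometry CategoryTheory BMCoh Opposite
open CategoryTheory.Limits

section Deep

variable {V : ObjectProperty Scheme.{u}} [IsConstructible V] {R : Type u} [CommRing R]
  {A : Coefs R} (T : PreTheory V R A)

variable (X : Obj V) (j m : ℕ) (C : Set X.scheme) (hC : IsClosed C)
  (hdimC : WeilCoh.dim (subC X C hC).scheme + (j + 1) = WeilCoh.dim X.scheme)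

include hdimC in
lemma codim_subC (z : (subC X C hC).scheme) :
    WeilCoh.codim (subC X C hC).scheme z + (j + 1) =
      WeilCoh.codim X.scheme ((subCι X C hC) z) := by
  have h1 := pdim_subC X C hC z
  have h2 := pdim_le_dim (subC X C hC) z
  unfold WeilCoh.codim
  omega

/-- the trace of an open on the closed subscheme -/
noncomputable def trC (U : X.scheme.Opens) : (subC X C hC).scheme.Opens := (subCι X C hC) ⁻¹ᵁ U

include hdimC in
lemma containsFj_trC (U : X.scheme.Opens) (hU : ContainsFj X (j + 1 + m) U) :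
    ContainsFj (subC X C hC) m (trC X C hC U) := by
  intro z hz
  apply hU
  have := codim_subC X j C hC hdimC z
  omega

include hdimC in
lemma containsFj_inf_complOpenC (U : X.scheme.Opens) (hU : ContainsFj X (j + 1 + m) U)
    (W' : (subC X C hC).scheme.Opens) (hW' : ContainsFj (subC X C hC) m W') :
    ContainsFj X (j + 1 + m) (U ⊓ complOpen (subCι X C hC) W') := by
  intro y hy
  refine ⟨hU y hy, (mem_complOpen _ W' y).mpr fun z hz => ?_⟩
  apply hW'
  have := codim_subC X j C hC hdimC z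
  rw [hz] at this
  omega

lemma mem_inf_complOpenC_iff (U : X.scheme.Opens) (W' : (subC X C hC).scheme.Opens)
    (hW'le : W' ≤ trC X C hC U) (z : (subC X C hC).scheme) :
    (subCι X C hC) z ∈ U ⊓ complOpen (subCι X C hC) W' ↔ z ∈ W' := by
  constructor
  · intro h
    exact (mem_complOpen _ W' _).mp h.2 z rfl
  · intro hz
    exact ⟨hW'le hz, map_mem_complOpen _ W' z hz⟩

lemma relCodim_subC_res (U : X.scheme.Opens)
    (hUd : WeilCoh.dim (U : Scheme.{u}) = WeilCoh.dim X.scheme)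
    (W : (subC X C hC).scheme.Opens)
    (hWd : WeilCoh.dim (W : Scheme.{u}) = WeilCoh.dim (subC X C hC).scheme)
    (hdimC : WeilCoh.dim (subC X C hC).scheme + (j + 1) = WeilCoh.dim X.scheme) :
    relCodim ((subC X C hC).res W).scheme (X.res U).scheme = (j : ℤ) + 1 := by
  have h1 : WeilCoh.dim ((subC X C hC).res W).scheme = WeilCoh.dim (subC X C hC).scheme := hWd
  have h2 : WeilCoh.dim (X.res U).scheme = WeilCoh.dim X.scheme := hUd
  unfold relCodim
  rw [h1, h2]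
  omega


include hdimC in
/-- injectivity core: a class on `U ⊇ F_{j+1+m}X` vanishing off the closed set `C` (whose reduced
subscheme has codimension `j+1` and vanishing `F_m`-group) vanishes in `H(F_{j+1+m}X)`. -/
theorem inj_core (M : A.Cat) (i₀ n : ℤ)
    (hvan : IsZero (T.fjGp (subC X C hC) m M (i₀ + 1 - 2 * ((j : ℤ) + 1)) (n - ((j : ℤ) + 1))))
    (U : Idx X (ContainsFj X (j + 1 + m)))
    (hdO : WeilCoh.dim (diffOpen X U.1 C hC : Scheme.{u}) = WeilCoh.dim X.scheme)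
    (a : T.gp (X.res U.1) M (i₀ + 1) n)
    (hz : (rs T X (Set.sdiff_subset : diffOpen X U.1 C hC ≤ U.1) (hdO.trans U.2.2.symm) M
      (i₀ + 1) n).hom a = 0) :
    ((T.fjι X (j + 1 + m) (i₀ + 1) n U).app M).hom a = 0 := by
  have hWc := containsFj_trC X j m C hC hdimC U.1 U.2.1
  obtain ⟨W, hWeq⟩ : ∃ W : Idx (subC X C hC) (ContainsFj (subC X C hC) m),
      W.1 = trC X C hC U.1 := ⟨⟨_, hWc, dim_eq_of_containsFj' _ m _ hWc⟩, rfl⟩
  have hW₁ : ∀ z, (subCι X C hC) z ∈ U.1 ↔ z ∈ W.1 := fun z => by rw [hWeq]; exact Iff.rfl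
  have hOU : diffOpen X U.1 C hC ≤ U.1 := Set.sdiff_subset
  have hO₁ : ∀ y ∈ U.1, y ∈ diffOpen X U.1 C hC ↔ y ∉ Set.range (subCι X C hC) := by
    intro y hy
    rw [range_subCι]
    exact ⟨fun h => h.2, fun h => ⟨hy, h⟩⟩
  let D₁ := mkDecompG X (subC X C hC) (subCι X C hC) U.1 W.1 hW₁ (diffOpen X U.1 C hC) hOU hO₁
    (hdO.trans U.2.2.symm)
  have instD : IsClosedImmersion (X := ((subC X C hC).res W.1).scheme) (Y := (X.res U.1).scheme)
      D₁.i := D₁.closedImm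
  have hrc₁ : relCodim ((subC X C hC).res W.1).scheme (X.res U.1).scheme = (j : ℤ) + 1 :=
    relCodim_subC_res X j C hC U.1 U.2.2 W.1 W.2.2 hdimC
  have hi₁ : i₀ + 1 = (i₀ + 1 - 2 * ((j : ℤ) + 1)) +
      2 * relCodim ((subC X C hC).res W.1).scheme (X.res U.1).scheme := by
    rw [hrc₁]; ring
  have hn₁ : n = (n - ((j : ℤ) + 1)) +
      relCodim ((subC X C hC).res W.1).scheme (X.res U.1).scheme := by
    rw [hrc₁]; ring
  obtain ⟨b, hb⟩ := ((T.exact_push_pull D₁ M i₀ n _ _ hi₁ hn₁) a).mp hz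
  have hsub : Subsingleton (T.fjGp (subC X C hC) m M (i₀ + 1 - 2 * ((j : ℤ) + 1))
      (n - ((j : ℤ) + 1))) := ModuleCat.subsingleton_of_isZero hvan
  have hptb : ((T.fjι (subC X C hC) m (i₀ + 1 - 2 * ((j : ℤ) + 1)) (n - ((j : ℤ) + 1)) W).app
      M).hom b = 0 := Subsingleton.elim _ _
  have instF : IsFiltered (Idx (subC X C hC) (ContainsFj (subC X C hC) m))ᵒᵖ :=
    isFiltered_fj (subC X C hC) m
  obtain ⟨W', hW'le, hW'z⟩ := ocolim_eq_zero T (subC X C hC) (ContainsFj (subC X C hC) m)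
    _ _ M W b hptb
  have hW'tr : W'.1 ≤ trC X C hC U.1 := by rw [← hWeq]; exact hW'le
  have hU₃c := containsFj_inf_complOpenC X j m C hC hdimC U.1 U.2.1 W'.1 W'.2.1
  have hU₃d := dim_eq_of_containsFj' X (j + 1 + m) _ hU₃c
  have hU₃U : U.1 ⊓ complOpen (subCι X C hC) W'.1 ≤ U.1 := inf_le_left
  have hW₃ := mem_inf_complOpenC_iff X C hC U.1 W'.1 hW'tr
  let f₃ : ((subC X C hC).res W'.1).scheme ⟶
      (X.res (U.1 ⊓ complOpen (subCι X C hC) W'.1)).scheme :=
    liftOpen (subCι X C hC) W'.1 (U.1 ⊓ complOpen (subCι X C hC) W'.1)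
      (fun w hw => (hW₃ w).mpr hw)
  have instf : IsClosedImmersion f₃ :=
    isClosedImmersion_liftOpen' (subCι X C hC) W'.1 _ hW₃
  have hrc₃ : relCodim ((subC X C hC).res W'.1).scheme
      (X.res (U.1 ⊓ complOpen (subCι X C hC) W'.1)).scheme = (j : ℤ) + 1 :=
    relCodim_subC_res X j C hC _ hU₃d W'.1 W'.2.2 hdimC
  have hi₃ : i₀ + 1 = (i₀ + 1 - 2 * ((j : ℤ) + 1)) +
      2 * relCodim ((subC X C hC).res W'.1).scheme
        (X.res (U.1 ⊓ complOpen (subCι X C hC) W'.1)).scheme := by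
    rw [hrc₃]; ring
  have hn₃ : n = (n - ((j : ℤ) + 1)) +
      relCodim ((subC X C hC).res W'.1).scheme
        (X.res (U.1 ⊓ complOpen (subCι X C hC) W'.1)).scheme := by
    rw [hrc₃]; ring
  have hpb : IsPullback ((subC X C hC).scheme.homOfLE hW'le) f₃ D₁.i
      (X.scheme.homOfLE hU₃U) :=
    isPullback_liftOpen (subCι X C hC) hW'le hU₃U (fun w hw => (hW₁ w).mpr hw)
      (fun w hw => (hW₃ w).mpr hw) (fun z _ hz => (hW₃ z).mp hz)
  have hbc := T.push_pull D₁.i f₃ (X.resLE hU₃U (hU₃d.trans U.2.2.symm))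
    ((subC X C hC).resLE hW'le (W'.2.2.trans W.2.2.symm)) hpb M _ _ (i₀ + 1) n hi₁ hn₁ hi₃ hn₃
  have hbc' : (rs T X hU₃U (hU₃d.trans U.2.2.symm) M (i₀ + 1) n).hom a = 0 := by
    rw [← hb]
    have h := congrArg (fun φ => φ.hom b) hbc
    refine h.trans ?_
    change (T.push f₃ M _ _ (i₀ + 1) n hi₃ hn₃).hom
      ((rs T (subC X C hC) hW'le (W'.2.2.trans W.2.2.symm) M _ _).hom b) = 0
    rw [hW'z, map_zero]
  have h7 := congrArg (fun φ => φ.hom a)
    (ocolimι_rs T X (ContainsFj X (j + 1 + m)) (i₀ + 1) n M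
      (U' := ⟨U.1 ⊓ complOpen (subCι X C hC) W'.1, hU₃c, hU₃d⟩) (U := U) hU₃U)
  refine h7.symm.trans ?_
  change ((T.fjι X (j + 1 + m) (i₀ + 1) n ⟨_, hU₃c, hU₃d⟩).app M).hom
    ((rs T X hU₃U (hU₃d.trans U.2.2.symm) M (i₀ + 1) n).hom a) = 0
  rw [hbc', map_zero]


include hdimC in
/-- surjectivity core: a class on the complement `O` of the closed set `C` (whose reduced
subscheme has codimension `j+1` and vanishing `F_m`-group in the residue degree) extends to an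
open containing `F_{j+1+m}X`. -/
theorem surj_core (M : A.Cat) (i n : ℤ)
    (hvan : IsZero (T.fjGp (subC X C hC) m M (i + 1 - 2 * ((j : ℤ) + 1)) (n - ((j : ℤ) + 1))))
    (O : X.scheme.Opens) (hOd : WeilCoh.dim (O : Scheme.{u}) = WeilCoh.dim X.scheme)
    (hO : ∀ y, y ∈ O ↔ y ∉ C) (a₁ : T.gp (X.res O) M i n) :
    ∃ (U' : Idx X (ContainsFj X (j + 1 + m))) (hle : O ≤ U'.1) (a' : T.gp (X.res U'.1) M i n),
      (rs T X hle (hOd.trans U'.2.2.symm) M i n).hom a' = a₁ := by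
  obtain ⟨W, hWeq⟩ : ∃ W : Idx (subC X C hC) (ContainsFj (subC X C hC) m),
      W.1 = ⊤ := ⟨⟨⊤, fun _ _ => trivial, dim_top _⟩, rfl⟩
  have hW₁ : ∀ z, (subCι X C hC) z ∈ (⊤ : X.scheme.Opens) ↔ z ∈ W.1 := fun z => by
    rw [hWeq]; exact ⟨fun _ => trivial, fun _ => trivial⟩
  have hOtop : O ≤ (⊤ : X.scheme.Opens) := le_top
  have hO₁ : ∀ y ∈ (⊤ : X.scheme.Opens), y ∈ O ↔ y ∉ Set.range (subCι X C hC) := by
    intro y _
    rw [range_subCι]
    exact hO y
  have hdtop : WeilCoh.dim ((⊤ : X.scheme.Opens) : Scheme.{u}) = WeilCoh.dim X.scheme :=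
    dim_top X.scheme
  let D := mkDecompG X (subC X C hC) (subCι X C hC) ⊤ W.1 hW₁ O hOtop hO₁ (hOd.trans hdtop.symm)
  have hrc : relCodim ((subC X C hC).res W.1).scheme (X.res ⊤).scheme = (j : ℤ) + 1 :=
    relCodim_subC_res X j C hC ⊤ hdtop W.1 W.2.2 hdimC
  have hiD : i + 1 - 2 * ((j : ℤ) + 1) = i + 1 - 2 * D.codim := by
    change _ = i + 1 - 2 * relCodim ((subC X C hC).res W.1).scheme (X.res ⊤).scheme
    rw [hrc]
  have hnD : n - ((j : ℤ) + 1) = n - D.codim := by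
    change _ = n - relCodim ((subC X C hC).res W.1).scheme (X.res ⊤).scheme
    rw [hrc]
  have hsub : Subsingleton (T.fjGp (subC X C hC) m M (i + 1 - 2 * ((j : ℤ) + 1))
      (n - ((j : ℤ) + 1))) := ModuleCat.subsingleton_of_isZero hvan
  have hptb : ((T.fjι (subC X C hC) m (i + 1 - 2 * ((j : ℤ) + 1)) (n - ((j : ℤ) + 1)) W).app
      M).hom ((T.res D M i n _ _ hiD hnD).hom a₁) = 0 := Subsingleton.elim _ _
  have instF : IsFiltered (Idx (subC X C hC) (ContainsFj (subC X C hC) m))ᵒᵖ :=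
    isFiltered_fj (subC X C hC) m
  obtain ⟨W', hW'le, hW'z⟩ := ocolim_eq_zero T (subC X C hC) (ContainsFj (subC X C hC) m)
    _ _ M W _ hptb
  have hW'tr : W'.1 ≤ trC X C hC ⊤ := fun _ _ => trivial
  have hU₃c := containsFj_inf_complOpenC X j m C hC hdimC ⊤ (fun _ _ => trivial) W'.1 W'.2.1
  have hU₃d := dim_eq_of_containsFj' X (j + 1 + m) _ hU₃c
  have hU₃U : (⊤ : X.scheme.Opens) ⊓ complOpen (subCι X C hC) W'.1 ≤ ⊤ := inf_le_left
  have hW₃ := mem_inf_complOpenC_iff X C hC ⊤ W'.1 hW'tr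
  have hOU₃ : O ≤ (⊤ : X.scheme.Opens) ⊓ complOpen (subCι X C hC) W'.1 := by
    intro y hy
    refine ⟨trivial, (mem_complOpen _ W'.1 y).mpr fun z hz => ?_⟩
    exact absurd (hz ▸ subCι_mem X C hC z) ((hO y).mp hy)
  have hO₃ : ∀ y ∈ (⊤ : X.scheme.Opens) ⊓ complOpen (subCι X C hC) W'.1,
      y ∈ O ↔ y ∉ Set.range (subCι X C hC) := by
    intro y _
    rw [range_subCι]
    exact hO y
  let D' := mkDecompG X (subC X C hC) (subCι X C hC)
    ((⊤ : X.scheme.Opens) ⊓ complOpen (subCι X C hC) W'.1) W'.1 hW₃ O hOU₃ hO₃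
    (hOd.trans hU₃d.symm)
  have hrc' : relCodim ((subC X C hC).res W'.1).scheme
      (X.res ((⊤ : X.scheme.Opens) ⊓ complOpen (subCι X C hC) W'.1)).scheme = (j : ℤ) + 1 :=
    relCodim_subC_res X j C hC _ hU₃d W'.1 W'.2.2 hdimC
  have hiD' : i + 1 - 2 * ((j : ℤ) + 1) = i + 1 - 2 * D'.codim := by
    change _ = i + 1 - 2 * relCodim ((subC X C hC).res W'.1).scheme
      (X.res ((⊤ : X.scheme.Opens) ⊓ complOpen (subCι X C hC) W'.1)).scheme
    rw [hrc']
  have hnD' : n - ((j : ℤ) + 1) = n - D'.codim := by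
    change _ = n - relCodim ((subC X C hC).res W'.1).scheme
      (X.res ((⊤ : X.scheme.Opens) ⊓ complOpen (subCι X C hC) W'.1)).scheme
    rw [hrc']
  have hrp := T.res_pull D D' (X.resLE hU₃U (hU₃d.trans hdtop.symm))
    ((subC X C hC).resLE hW'le (W'.2.2.trans W.2.2.symm)) (𝟙 (X.res O))
    ((homOfLE_liftOpen (subCι X C hC) hW'le ⊤ (fun w hw => (hW₁ w).mpr hw)).trans
      (liftOpen_homOfLE (subCι X C hC) W'.1 hU₃U (fun w hw => (hW₃ w).mpr hw)).symm)
    ((Category.id_comp _).trans (resLE_comp X hOU₃ hU₃U (hOd.trans hU₃d.symm)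
      (hU₃d.trans hdtop.symm)).symm) M i n _ _ hiD hnD hiD' hnD'
  have hres' : (T.res D' M i n _ _ hiD' hnD').hom a₁ = 0 := by
    have hid : ((T.H i n).map (𝟙 (X.res O)).op).app M = 𝟙 _ := pull_id T _ M i n
    rw [hid, Category.id_comp] at hrp
    have h := congrArg (fun φ => φ.hom a₁) hrp
    exact h.symm.trans hW'z
  obtain ⟨a', ha'⟩ := ((T.exact_pull_res D' M i n _ _ hiD' hnD') a₁).mp hres'
  exact ⟨⟨_, hU₃c, hU₃d⟩, hOU₃, a', ha'⟩

end Deep

end Groth.Agent.Lib.Helper47.BMUniq
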