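import Groth.Agent.Lib.Helper47.BMDeep

set_option autoImplicit false
universe u

namespace Groth.Agent.Lib.Helper47.BMUniq

open TopologicalSpace Topology Order AlgebraicGeometry CategoryTheory BMCoh Opposite
open CategoryTheory.Limits

section DeepMain

variable {V : ObjectProperty Scheme.{u}} [IsConstructible V] {R : Type u} [CommRing R]
  {A : Coefs R} (T : PreTheory V R A)

/-- a closed set of pure codimension `≥ j+1`, of dimension `dim X - (j+1)`, containing the
complement of an open containing `F_jX` -/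
lemma exists_closed_codim (X : Obj V) (j : ℕ) (y₀ : X.scheme)
    (hy₀ : j < WeilCoh.codim X.scheme y₀) (U₁ : X.scheme.Opens) (hU₁ : ContainsFj X j U₁) :
    ∃ (C : Set X.scheme) (hC : IsClosed C),
      WeilCoh.dim (subC X C hC).scheme + (j + 1) = WeilCoh.dim X.scheme ∧
      (∀ y ∈ C, j + 1 ≤ WeilCoh.codim X.scheme y) ∧ (∀ y, y ∉ C → y ∈ U₁) := by
  have hne : Nonempty X.scheme := ⟨y₀⟩
  have hdim : j + 1 ≤ WeilCoh.dim X.scheme := by
    unfold WeilCoh.codim at hy₀
    omega
  obtain ⟨x₀, hx₀⟩ := exists_codim_eq X (j + 1) hdim hne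
  have hC : IsClosed ((U₁ : Set X.scheme)ᶜ ∪ closure ({x₀} : Set X.scheme)) :=
    U₁.2.isClosed_compl.union isClosed_closure
  have hcod : ∀ y ∈ (U₁ : Set X.scheme)ᶜ ∪ closure ({x₀} : Set X.scheme),
      j + 1 ≤ WeilCoh.codim X.scheme y := by
    rintro y (hy | hy)
    · by_contra hlt
      exact hy (hU₁ y (by omega))
    · have := codim_le_of_mem_closure X hy
      omega
  refine ⟨_, hC, ?_, hcod, fun y hy => ?_⟩
  · have h1 : WeilCoh.dim (subC X _ hC).scheme ≤ WeilCoh.dim X.scheme - (j + 1) := by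
      apply dim_subC_le X _ hC
      intro y hy
      have h2 := hcod y hy
      have h3 := pdim_le_dim X y
      unfold WeilCoh.codim at h2
      omega
    have h2 := le_dim_subC X _ hC x₀ (Or.inr (subset_closure rfl))
    have h3 := pdim_le_dim X x₀
    unfold WeilCoh.codim at hx₀
    omega
  · by_contra hyU
    exact hy (Or.inl hyU)

theorem fjRes_bijective_deep (X : Obj V) (M : A.Cat) (j m : ℕ) (i n : ℤ)
    (hZ : ∀ (C : Set X.scheme) (hC : IsClosed C),
      WeilCoh.dim (subC X C hC).scheme + (j + 1) = WeilCoh.dim X.scheme →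
      IsZero (T.fjGp (subC X C hC) m M (i - 2 * ((j : ℤ) + 1)) (n - ((j : ℤ) + 1))) ∧
      IsZero (T.fjGp (subC X C hC) m M (i + 1 - 2 * ((j : ℤ) + 1)) (n - ((j : ℤ) + 1)))) :
    Function.Bijective
      ((T.fjRes X ((Nat.le_succ j).trans (Nat.le_add_right (j + 1) m)) i n).app M).hom := by
  have hjm : j ≤ j + 1 + m := (Nat.le_succ j).trans (Nat.le_add_right (j + 1) m)
  by_cases hall : ∀ y : X.scheme, WeilCoh.codim X.scheme y ≤ j
  · -- every open containing `F_jX` is everything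
    constructor
    · rw [injective_iff_map_eq_zero]
      intro α hα
      obtain ⟨U, a, rfl⟩ := ocolim_exists_rep T X _ i n M α
      have h1 := congrArg (fun φ => φ.hom a) (fjι_fjRes T X hjm i n M U)
      have h2 : ((T.fjι X j i n (idxDown X hjm U)).app M).hom a = 0 := h1.symm.trans hα
      obtain ⟨U₁, hle, hz⟩ := ocolim_eq_zero T X (ContainsFj X j) i n M (idxDown X hjm U) a h2
      have hc : ContainsFj X (j + 1 + m) U₁.1 := fun y _ => U₁.2.1 y (hall y)
      have h7 := congrArg (fun φ => φ.hom a)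
        (ocolimι_rs T X (ContainsFj X (j + 1 + m)) i n M
          (U' := ⟨U₁.1, hc, U₁.2.2⟩) (U := U) hle)
      refine h7.symm.trans ?_
      change ((T.fjι X (j + 1 + m) i n ⟨U₁.1, hc, U₁.2.2⟩).app M).hom
        ((rs T X hle (U₁.2.2.trans U.2.2.symm) M i n).hom a) = 0
      rw [hz, map_zero]
    · intro β
      obtain ⟨U₁, a₁, rfl⟩ := ocolim_exists_rep T X _ i n M β
      have hc : ContainsFj X (j + 1 + m) U₁.1 := fun y _ => U₁.2.1 y (hall y)
      refine ⟨((T.fjι X (j + 1 + m) i n ⟨U₁.1, hc, U₁.2.2⟩).app M).hom a₁, ?_⟩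
      exact congrArg (fun φ => φ.hom a₁)
        (fjι_fjRes T X hjm i n M ⟨U₁.1, hc, U₁.2.2⟩)
  · simp only [not_forall, not_le] at hall
    obtain ⟨y₀, hy₀⟩ := hall
    constructor
    · rw [injective_iff_map_eq_zero]
      intro α hα
      obtain ⟨i₀, rfl⟩ : ∃ i₀, i = i₀ + 1 := ⟨i - 1, by ring⟩
      obtain ⟨U, a, rfl⟩ := ocolim_exists_rep T X _ (i₀ + 1) n M α
      have h1 := congrArg (fun φ => φ.hom a) (fjι_fjRes T X hjm (i₀ + 1) n M U)
      have h2 : ((T.fjι X j (i₀ + 1) n (idxDown X hjm U)).app M).hom a = 0 := h1.symm.trans hα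
      obtain ⟨U₁, hle, hz⟩ := ocolim_eq_zero T X (ContainsFj X j) (i₀ + 1) n M
        (idxDown X hjm U) a h2
      obtain ⟨C, hC, hdimC, hcod, hCU⟩ := exists_closed_codim X j y₀ hy₀ U₁.1 U₁.2.1
      have hOc : ContainsFj X j (diffOpen X U.1 C hC) := by
        intro y hy
        refine ⟨U.2.1 y (hy.trans hjm), fun hyC => ?_⟩
        have := hcod y hyC
        omega
      have hOd := dim_eq_of_containsFj' X j _ hOc
      have hOU₁ : diffOpen X U.1 C hC ≤ U₁.1 := fun y hy => hCU y hy.2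
      have hle' : U₁.1 ≤ U.1 := hle
      apply inj_core T X j m C hC hdimC M i₀ n (hZ C hC hdimC).1 U hOd a
      rw [← rs_rs_apply T X hOU₁ hle' (hOd.trans U₁.2.2.symm) (U₁.2.2.trans U.2.2.symm)]
      refine (congrArg _ hz).trans (map_zero _)
    · intro β
      obtain ⟨U₁, a₁, rfl⟩ := ocolim_exists_rep T X _ i n M β
      obtain ⟨C, hC, hdimC, hcod, hCU⟩ := exists_closed_codim X j y₀ hy₀ U₁.1 U₁.2.1
      have hOc : ContainsFj X j (⟨Cᶜ, hC.isOpen_compl⟩ : X.scheme.Opens) := by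
        intro y hy hyC
        have := hcod y hyC
        omega
      obtain ⟨O, hOeq⟩ : ∃ O : Idx X (ContainsFj X j), (O.1 : Set X.scheme) = Cᶜ :=
        ⟨⟨_, hOc, dim_eq_of_containsFj' X j _ hOc⟩, rfl⟩
      have hO : ∀ y, y ∈ O.1 ↔ y ∉ C := fun y => by
        change y ∈ (O.1 : Set X.scheme) ↔ _
        rw [hOeq]
        rfl
      have hOU₁ : O ≤ U₁ := fun y hy => hCU y ((hO y).mp hy)
      obtain ⟨U', hle, a', ha'⟩ := surj_core T X j m C hC hdimC M i n (hZ C hC hdimC).2 O.1 O.2.2 hO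
        ((rs T X hOU₁ (O.2.2.trans U₁.2.2.symm) M i n).hom a₁)
      refine ⟨((T.fjι X (j + 1 + m) i n U').app M).hom a', ?_⟩
      have h1 := congrArg (fun φ => φ.hom a') (fjι_fjRes T X hjm i n M U')
      refine h1.trans ?_
      have h7 := congrArg (fun φ => φ.hom a')
        (ocolimι_rs T X (ContainsFj X j) i n M (U' := O) (U := idxDown X hjm U') hle)
      refine h7.symm.trans ?_
      have h8 := congrArg (fun φ => φ.hom a₁)
        (ocolimι_rs T X (ContainsFj X j) i n M (U' := O) (U := U₁) hOU₁)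
      refine Eq.trans ?_ h8
      exact congrArg (fun t => ((T.fjι X j i n O).app M).hom t) ha'

end DeepMain

end Groth.Agent.Lib.Helper47.BMUniq
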