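import Groth.Agent.Lib.Helper47.BMGeom

set_option autoImplicit false
universe u

namespace Groth.Agent.Lib.Helper47.BMUniq

open TopologicalSpace Topology Order AlgebraicGeometry CategoryTheory BMCoh Opposite
open CategoryTheory.Limits

section Epi

variable {V : ObjectProperty Scheme.{u}} [IsConstructible V] {R : Type u} [CommRing R]
  {A : Coefs R} (T : PreTheory V R A)

/-- The canonical maps into an open-system colimit, evaluated at a coefficient module, are
jointly epimorphic. -/
theorem ocolim_hom_ext (Y : Obj V) (P : Y.scheme.Opens → Prop) (i n : ℤ) (M : A.Cat)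
    {N : ModuleCat.{u} R} (a b : (T.ocolim Y P i n).obj M ⟶ N)
    (h : ∀ W : Idx Y P, (T.ocolimι Y P i n W).app M ≫ a = (T.ocolimι Y P i n W).app M ≫ b) :
    a = b := by
  let F := (idxDiag Y P).op ⋙ T.H i n
  have hc : IsColimit (((evaluation A.Cat (ModuleCat.{u} R)).obj M).mapCocone (colimit.cocone F)) :=
    isColimitOfPreserves _ (colimit.isColimit F)
  refine hc.hom_ext fun W => ?_
  exact h W.unop

end Epi

end Groth.Agent.Lib.Helper47.BMUniq
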