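import Groth.Agent.Lib.Helper47.BMResData

set_option autoImplicit false
universe u

namespace Groth.Agent.Lib.Helper47.BMUniq

open TopologicalSpace Topology Order AlgebraicGeometry CategoryTheory BMCoh Opposite
open CategoryTheory.Limits

section Factor

variable {V : ObjectProperty Scheme.{u}} [IsConstructible V] {R : Type u} [CommRing R]
  {A : Coefs R} (T : PreTheory V R A)

/-- The canonical map from `H(U)` factors through the one from `H(U')` for `U' ≤ U`. -/
theorem ocolimι_factor (Y : Obj V) (P : Y.scheme.Opens → Prop) (i n : ℤ) (M : A.Cat)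
    {U' U : Idx Y P} (hle : U' ≤ U) :
    ∃ r : ((T.H i n).obj (op (Y.res U.1))).obj M ⟶ ((T.H i n).obj (op (Y.res U'.1))).obj M,
      (T.ocolimι Y P i n U).app M = r ≫ (T.ocolimι Y P i n U').app M := by
  let F := (idxDiag Y P).op ⋙ T.H i n
  have h := colimit.w F (homOfLE hle).op
  refine ⟨(F.map (homOfLE hle).op).app M, ?_⟩
  have h2 := congrArg (fun t => t.app M) h
  simp only [NatTrans.comp_app] at h2
  exact h2.symm

end Factor

end Groth.Agent.Lib.Helper47.BMUniq
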