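import Groth.Agent.Lib.Helper47.BMFinRed

set_option autoImplicit false
universe u

namespace Groth.Agent.Lib.Helper47.BMUniq

open TopologicalSpace Topology Order AlgebraicGeometry CategoryTheory BMCoh Opposite
open CategoryTheory.Limits DirectSum

section FamTot

variable {V : ObjectProperty Scheme.{u}} [IsConstructible V] {R : Type u} [CommRing R]
  {A : Coefs R} {T : PreTheory V R A}

/-- transport of a push-forward datum along an equality of target points -/
def castPt {Y X : Obj V} {φ : Y.scheme ⟶ X.scheme} {k : ℕ} {y : Y.scheme} {x x' : X.cdPt k}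
    (h : x' = x) (G : T.PtPush φ y x'.1) : T.PtPush φ y x.1 := by
  subst h
  exact G

lemma castPt_rfl {Y X : Obj V} {φ : Y.scheme ⟶ X.scheme} {k : ℕ} {y : Y.scheme} {x : X.cdPt k}
    (h : x = x) (G : T.PtPush φ y x.1) : castPt h G = G := rfl

theorem famTot_apply {Y X : Obj V} {φ : Y.scheme ⟶ X.scheme} {j k : ℕ} (t : Y.cdPt j → X.cdPt k)
    (F : ∀ y : Y.cdPt j, T.PtPush φ y.1 (t y).1) (M : A.Cat) (i n : ℤ)
    (x : X.cdPt k) (S : Finset (Y.cdPt j)) (hS : ∀ y, y ∈ S ↔ t y = x)
    (β : ⨁ y : Y.cdPt j, T.ptGp Y y.1 M i n) :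
    ((PreTheory.PtPush.famTot t F M i n).hom β) x =
      ∑ k : {y // y ∈ S}, ((castPt ((hS k.1).mp k.2) (F k.1)).cpt M i n).hom (β k.1) := by
  classical
  induction β using DirectSum.induction_on with
  | zero =>
    rw [map_zero]
    refine (Finset.sum_eq_zero fun k _ => ?_).symm
    exact map_zero _
  | of y b =>
    have e1 := PreTheory.PtPush.famTot_lof t F M i n y b
    rw [DirectSum.lof_eq_of, DirectSum.lof_eq_of] at e1
    rw [e1]
    by_cases h : t y = x
    · subst h
      have hy : y ∈ S := (hS y).mpr rfl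
      rw [Finset.sum_eq_single (⟨y, hy⟩ : {y // y ∈ S})]
      · rw [DirectSum.of_eq_same, DirectSum.of_eq_same, castPt_rfl]
      · intro k _ hk
        have hne : k.1 ≠ y := fun e => hk (Subtype.ext e)
        rw [DirectSum.of_eq_of_ne _ _ _ hne]
        exact map_zero _
      · intro h
        exact absurd (Finset.mem_univ _) h
    · rw [DirectSum.of_eq_of_ne _ _ _ (fun e => h e.symm)]
      refine (Finset.sum_eq_zero fun k _ => ?_).symm
      have hne : k.1 ≠ y := fun e => h (e ▸ (hS k.1).mp k.2)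
      rw [DirectSum.of_eq_of_ne _ _ _ hne]
      exact map_zero _
  | add β₁ β₂ h₁ h₂ =>
    rw [map_add]
    refine (congrArg₂ (· + ·) h₁ h₂).trans ?_
    rw [← Finset.sum_add_distrib]
    refine Finset.sum_congr rfl fun k _ => ?_
    exact (map_add _ _ _).symm

end FamTot

end Groth.Agent.Lib.Helper47.BMUniq
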