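import Groth.Agent.Lib.Helper47.BMColim

set_option autoImplicit false
universe u

namespace Groth.Agent.Lib.Helper47.BMUniq

open TopologicalSpace Topology Order AlgebraicGeometry CategoryTheory BMCoh Opposite
open CategoryTheory.Limits

section Filt

variable {V : ObjectProperty Scheme.{u}} [IsConstructible V] {R : Type u} [CommRing R]
  {A : Coefs R} (T : PreTheory V R A)

lemma containsFj_inf (X : Obj V) (j : ℕ) {U U' : X.scheme.Opens} (h : ContainsFj X j U)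
    (h' : ContainsFj X j U') : ContainsFj X j (U ⊓ U') := fun y hy => ⟨h y hy, h' y hy⟩

/-- dimension of an open containing `F_jX`, also for empty `X` -/
lemma dim_eq_of_containsFj' (X : Obj V) (j : ℕ) (U : X.scheme.Opens)
    (hU : ContainsFj X j U) : WeilCoh.dim (U : Scheme.{u}) = WeilCoh.dim X.scheme := by
  by_cases hne : Nonempty X.scheme
  · exact dim_eq_of_containsFj X j U hU
  · have hU' : U = ⊤ := by
      ext y
      exact absurd ⟨y⟩ hne
    rw [hU']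
    exact dim_top X.scheme

instance isFiltered_fj (X : Obj V) (j : ℕ) : IsFiltered (Idx X (ContainsFj X j))ᵒᵖ := by
  have : Nonempty (Idx X (ContainsFj X j)) := ⟨⟨⊤, fun _ _ => trivial, dim_top X.scheme⟩⟩
  haveI : IsCodirectedOrder (Idx X (ContainsFj X j)) := ⟨fun a b =>
    ⟨⟨a.1 ⊓ b.1, containsFj_inf X j a.2.1 b.2.1,
      dim_eq_of_containsFj' X j _ (containsFj_inf X j a.2.1 b.2.1)⟩, (inf_le_left : a.1 ⊓ b.1 ≤ a.1), (inf_le_right : a.1 ⊓ b.1 ≤ b.1)⟩⟩
  haveI := isCofiltered_of_directed_ge_nonempty (Idx X (ContainsFj X j))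
  exact isFiltered_op_of_isCofiltered _

instance isFiltered_pt (X : Obj V) (x : X.scheme) : IsFiltered (ptIdx X x)ᵒᵖ := by
  obtain ⟨ξ, -, hξ⟩ := exists_gen X x
  have : Nonempty (ptIdx X x) := ⟨⟨⊤, ⟨ξ, trivial⟩, dim_top _⟩⟩
  haveI : IsCodirectedOrder (ptIdx X x) := ⟨fun a b =>
    ⟨⟨a.1 ⊓ b.1, ⟨ξ, hξ a.1 a.2.1, hξ b.1 b.2.1⟩,
      IsConstructible.dim_open (X.ptSub x).mem (irreducibleSpace_ptSub X x) _
        ⟨ξ, hξ a.1 a.2.1, hξ b.1 b.2.1⟩⟩, (inf_le_left : a.1 ⊓ b.1 ≤ a.1), (inf_le_right : a.1 ⊓ b.1 ≤ b.1)⟩⟩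
  haveI := isCofiltered_of_directed_ge_nonempty (ptIdx X x)
  exact isFiltered_op_of_isCofiltered _

/-- the index for `F_j` underlying an index for `F_m`, `j ≤ m` -/
def idxDown (X : Obj V) {j m : ℕ} (h : j ≤ m) (U : Idx X (ContainsFj X m)) :
    Idx X (ContainsFj X j) := ⟨U.1, containsFj_mono X h U.1 U.2.1, U.2.2⟩

lemma fjι_fjRes (X : Obj V) {j m : ℕ} (h : j ≤ m) (i n : ℤ) (M : A.Cat)
    (U : Idx X (ContainsFj X m)) :
    (T.fjι X m i n U).app M ≫ (T.fjRes X h i n).app M = (T.fjι X j i n (idxDown X h U)).app M := by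
  rw [← NatTrans.comp_app]
  congr 1
  exact colimit.ι_pre ((idxDiag X (ContainsFj X j)).op ⋙ T.H i n)
    (idxIncl X (containsFj_mono X h)).op (op U)

end Filt

end Groth.Agent.Lib.Helper47.BMUniq
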