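import Groth.Agent.Lib.Helper47.BMFinGeom

set_option autoImplicit false
universe u

namespace Groth.Agent.Lib.Helper47.BMUniq

open TopologicalSpace Topology Order AlgebraicGeometry CategoryTheory BMCoh Opposite
open CategoryTheory.Limits

section FinCore

variable {V : ObjectProperty Scheme.{u}} [IsConstructible V] {R : Type u} [CommRing R]
  {A : Coefs R} (T : PreTheory V R A)

lemma dim_eq_of_isClosedImmersion_surjective {Z Z' : Scheme.{u}} (k : Z ⟶ Z') [IsClosedImmersion k]
    (hk : Function.Surjective k) : WeilCoh.dim Z = WeilCoh.dim Z' := by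
  have h : IsHomeomorph k :=
    isHomeomorph_iff_isEmbedding_surjective.mpr ⟨k.isClosedEmbedding.isEmbedding, hk⟩
  unfold WeilCoh.dim WeilCoh.natDim
  rw [IsHomeomorph.topologicalKrullDim_eq _ h]

/-- residue commutes with proper push-forward when the closed part upstairs is a closed subscheme
of the preimage with the same support (using the compatibility `hred` of the residue maps with
such replacements) -/
theorem res_push_red
    (hred : ∀ (S : Obj V) (D D'' : Decomp S) (gU : D''.U ⟶ D.U)
      (k : D''.Z.scheme ⟶ D.Z.scheme) [IsClosedImmersion k] [AlgebraicGeometry.Surjective k],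
      gU ≫ D.j = D''.j → k ≫ D.i = D''.i →
      ∀ (M : A.Cat) (i n i' n' : ℤ) (hi : i' = i + 1 - 2 * D.codim) (hn : n' = n - D.codim)
        (hi'' : i' = i + 1 - 2 * D''.codim) (hn'' : n' = n - D''.codim)
        (hk : i' = i' + 2 * relCodim D''.Z.scheme D.Z.scheme)
        (hk' : n' = n' + relCodim D''.Z.scheme D.Z.scheme),
      T.pull gU M i n ≫ T.res D'' M i n i' n' hi'' hn'' ≫ T.push k M i' n' i' n' hk hk' =
        T.res D M i n i' n' hi hn)
    {Xo Yo : Obj V} (f : Yo.scheme ⟶ Xo.scheme) [IsProper f] (D : Decomp Xo) (D'' : Decomp Yo)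
    (fU : D''.U.scheme ⟶ D.U.scheme) [IsProper fU] (hpbU : IsPullback D''.j.hom fU f D.j.hom)
    (ρ : D''.Z.scheme ⟶ D.Z.scheme) [IsProper ρ] (hρ : ρ ≫ D.i = D''.i ≫ f)
    (hsurj : ∀ p : Yo.scheme, f p ∈ Set.range D.i → p ∈ Set.range D''.i)
    (M : A.Cat) (i n a b c d e k : ℤ)
    (ha : a = i + 1 - 2 * D''.codim) (hb : b = n - D''.codim)
    (hc : c = i + 2 * relCodim D''.U.scheme D.U.scheme)
    (hd : d = n + relCodim D''.U.scheme D.U.scheme)
    (he : e = a + 2 * relCodim D''.Z.scheme D.Z.scheme)
    (hk : k = b + relCodim D''.Z.scheme D.Z.scheme)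
    (he' : e = c + 1 - 2 * D.codim) (hk' : k = d - D.codim) :
    T.res D'' M i n a b ha hb ≫ T.push ρ M a b e k he hk =
      T.push fU M i n c d hc hd ≫ T.res D M c d e k he' hk' := by
  -- the scheme-theoretic preimage of the closed part
  have hZ'mem : V (pullback D.i f) :=
    IsConstructible.of_isClosedImmersion (pullback.snd D.i f)
      (h := (inferInstance : IsClosedImmersion (pullback.snd D.i f))) Yo.mem
  have hrange : Set.range D''.j.hom = (Set.range (pullback.snd D.i f))ᶜ := by
    rw [D''.range_eq]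
    congr 1
    ext p
    constructor
    · rintro ⟨z, rfl⟩
      have h1 : f (D''.i z) = D.i (ρ z) := by
        rw [← Scheme.Hom.comp_apply, ← hρ, Scheme.Hom.comp_apply]
      rw [Scheme.Pullback.range_snd]
      exact ⟨ρ z, h1.symm⟩
    · intro hp
      rw [Scheme.Pullback.range_snd] at hp
      exact hsurj p hp
  let D' : Decomp Yo :=
    { Z := ⟨pullback D.i f, hZ'mem⟩
      U := D''.U
      i := pullback.snd D.i f
      closedImm := inferInstance
      j := D''.j
      range_eq := hrange }
  let kk : D''.Z.scheme ⟶ pullback D.i f := pullback.lift ρ D''.i hρ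
  have hk1 : kk ≫ pullback.snd D.i f = D''.i := pullback.lift_snd _ _ _
  have hk2 : kk ≫ pullback.fst D.i f = ρ := pullback.lift_fst _ _ _
  have hkcl : IsClosedImmersion kk := by
    have : IsClosedImmersion (kk ≫ pullback.snd D.i f) := by rw [hk1]; infer_instance
    exact IsClosedImmersion.of_comp kk (pullback.snd D.i f)
  have hksurj : Function.Surjective kk := by
    intro z'
    have h1 : f ((pullback.snd D.i f) z') ∈ Set.range D.i := by
      refine ⟨(pullback.fst D.i f) z', ?_⟩
      rw [← Scheme.Hom.comp_apply, pullback.condition, Scheme.Hom.comp_apply]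
    obtain ⟨z'', hz''⟩ := hsurj _ h1
    refine ⟨z'', ?_⟩
    apply (pullback.snd D.i f).isClosedEmbedding.injective
    rw [← Scheme.Hom.comp_apply, hk1, hz'']
  have hkS : AlgebraicGeometry.Surjective kk := ⟨hksurj⟩
  have hdimZ : WeilCoh.dim D''.Z.scheme = WeilCoh.dim (pullback D.i f) :=
    dim_eq_of_isClosedImmersion_surjective kk hksurj
  have hrc0 : relCodim D''.Z.scheme D'.Z.scheme = 0 := relCodim_eq_zero_of_dim_eq hdimZ
  have hcod : D'.codim = D''.codim := by
    change relCodim (pullback D.i f) Yo.scheme = relCodim D''.Z.scheme Yo.scheme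
    unfold relCodim
    rw [hdimZ]
  have hrcZ : relCodim D'.Z.scheme D.Z.scheme = relCodim D''.Z.scheme D.Z.scheme := by
    change relCodim (pullback D.i f) D.Z.scheme = relCodim D''.Z.scheme D.Z.scheme
    unfold relCodim
    rw [hdimZ]
  have ha' : a = i + 1 - 2 * D'.codim := by rw [hcod]; exact ha
  have hb' : b = n - D'.codim := by rw [hcod]; exact hb
  have hka : a = a + 2 * relCodim D''.Z.scheme D'.Z.scheme := by rw [hrc0]; ring
  have hkb : b = b + relCodim D''.Z.scheme D'.Z.scheme := by rw [hrc0]; ring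
  have h1 := hred Yo D' D'' (𝟙 D''.U) kk (Category.id_comp _) hk1 M i n a b ha' hb' ha hb hka hkb
  rw [pull_id, Category.id_comp] at h1
  have he2 : e = a + 2 * relCodim D'.Z.scheme D.Z.scheme := by rw [hrcZ]; exact he
  have hk2' : k = b + relCodim D'.Z.scheme D.Z.scheme := by rw [hrcZ]; exact hk
  have hpbZ : IsPullback D'.i (pullback.fst D.i f) f D.i :=
    (IsPullback.of_hasPullback D.i f).flip
  have h2 := T.res_push D D' f (pullback.fst D.i f) fU hpbZ hpbU M i n a b c d e k ha' hb' hc hd
    he2 hk2' he' hk'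
  have h3 := T.push_comp (X := D''.Z) (Y := D'.Z) (Z := D.Z) kk (pullback.fst D.i f) M a b a b e k
    hka hkb he2 hk2' he hk
  rw [← h2, ← h1, Category.assoc, h3]
  exact congrArg (fun t => T.res D'' M i n a b ha hb ≫ t) (push_congr T hk2 M a b e k he hk).symm

end FinCore

end Groth.Agent.Lib.Helper47.BMUniq
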