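import Groth.Agent.Lib.Helper47.BMNormPush

set_option autoImplicit false
universe u

namespace Groth.Agent.Lib.Helper47.BMUniq

open TopologicalSpace Topology Order AlgebraicGeometry CategoryTheory BMCoh Opposite
open CategoryTheory.Limits

section FinGeom

variable {V : ObjectProperty Scheme.{u}} [IsConstructible V]

lemma eq_of_mem_closure_of_pdim_le (X : Obj V) {s p : X.scheme}
    (hp : p ∈ closure ({s} : Set X.scheme))
    (h : WeilCoh.pdim X.scheme s ≤ WeilCoh.pdim X.scheme p) : p = s := by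
  by_cases hsp : s ∈ closure ({p} : Set X.scheme)
  · exact ((specializes_iff_mem_closure.mpr hsp).antisymm
      (specializes_iff_mem_closure.mpr hp)).eq
  · have := pdim_lt_pdim X hp hsp
    omega

/-- a neighbourhood of `x` over which the fibre of the closure of `x` is the disjoint union of
the closures of the finitely many points over `x` -/
theorem exists_nhd_fibre {Y X : Obj V} (φ : Y.scheme ⟶ X.scheme) [IsProper φ] (x : X.scheme)
    (hdimY : WeilCoh.dim Y.scheme = WeilCoh.pdim X.scheme x + 1)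
    (H : ∀ p : Y.scheme, φ p ∈ closure ({x} : Set X.scheme) →
      WeilCoh.pdim Y.scheme p ≤ WeilCoh.pdim X.scheme x)
    (U : X.scheme.Opens)
    (hU : ∀ τ : X.scheme, τ ∉ U → x ∈ closure ({τ} : Set X.scheme) → τ = x) :
    ∃ (N : X.scheme.Opens) (S : Finset (Y.cdPt 1)),
      x ∈ N ∧ (∀ p ∈ N, p ∉ U → p ∈ closure ({x} : Set X.scheme)) ∧
      (∀ p ∈ U, p ∉ closure ({x} : Set X.scheme) → p ∈ N) ∧
      (∀ y : Y.cdPt 1, y ∈ S ↔ φ y.1 = x) ∧
      (∀ p : Y.scheme, φ p ∈ N → φ p ∈ closure ({x} : Set X.scheme) → p ∈ jointC Y 1 S) ∧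
      (∀ y ∈ S, ∀ y' ∈ S, y ≠ y' → ∀ p : Y.scheme, φ p ∈ N →
        p ∈ closure ({y.1} : Set Y.scheme) → p ∉ closure ({y'.1} : Set Y.scheme)) := by
  classical
  have hEcl : IsClosed (φ ⁻¹' closure ({x} : Set X.scheme)) :=
    isClosed_closure.preimage φ.continuous
  obtain ⟨G, hGE, hGcov⟩ := exists_generic_finset Y
    (⟨(φ ⁻¹' closure ({x} : Set X.scheme))ᶜ, hEcl.isOpen_compl⟩ : Y.scheme.Opens)
  have hGE' : ∀ s ∈ G, φ s ∈ closure ({x} : Set X.scheme) := fun s hs => by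
    by_contra h
    exact hGE s hs h
  have hGcov' : ∀ p : Y.scheme, φ p ∈ closure ({x} : Set X.scheme) →
      ∃ s ∈ G, p ∈ closure ({s} : Set Y.scheme) := fun p hp => hGcov p (fun h => h hp)
  obtain ⟨GX, hGXU, hGXcov⟩ := exists_generic_finset X U
  -- key rigidity: a point over `x` in the closure of a point of `G` is that point
  have hrig : ∀ s ∈ G, ∀ p : Y.scheme, p ∈ closure ({s} : Set Y.scheme) → φ p = x → p = s := by
    intro s hs p hp hpx
    apply eq_of_mem_closure_of_pdim_le Y hp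
    have h1 := pdim_map_le φ p
    rw [hpx] at h1
    exact (H s (hGE' s hs)).trans h1
  have hB₁ : IsClosed (⋃ τ ∈ GX.filter (fun τ => x ∉ closure ({τ} : Set X.scheme)),
      closure ({τ} : Set X.scheme)) := isClosed_biUnion_finset fun _ _ => isClosed_closure
  have hB₂ : IsClosed (⋃ s ∈ G.filter (fun s => φ s ≠ x),
      φ '' closure ({s} : Set Y.scheme)) :=
    isClosed_biUnion_finset fun _ _ => φ.isClosedMap _ isClosed_closure
  have hB₃ : IsClosed (⋃ pr ∈ (G ×ˢ G).filter (fun pr => pr.1 ≠ pr.2),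
      φ '' (closure ({pr.1} : Set Y.scheme) ∩ closure ({pr.2} : Set Y.scheme))) :=
    isClosed_biUnion_finset fun _ _ => φ.isClosedMap _ (isClosed_closure.inter isClosed_closure)
  obtain ⟨N, hNeq⟩ : ∃ N : X.scheme.Opens, (N : Set X.scheme) =
      ((⋃ τ ∈ GX.filter (fun τ => x ∉ closure ({τ} : Set X.scheme)),
        closure ({τ} : Set X.scheme)) ∪
      (⋃ s ∈ G.filter (fun s => φ s ≠ x), φ '' closure ({s} : Set Y.scheme)) ∪
      (⋃ pr ∈ (G ×ˢ G).filter (fun pr => pr.1 ≠ pr.2),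
        φ '' (closure ({pr.1} : Set Y.scheme) ∩ closure ({pr.2} : Set Y.scheme))))ᶜ :=
    ⟨⟨_, ((hB₁.union hB₂).union hB₃).isOpen_compl⟩, rfl⟩
  have hN₁ : ∀ p ∈ N, ∀ τ ∈ GX, x ∉ closure ({τ} : Set X.scheme) →
      p ∉ closure ({τ} : Set X.scheme) := by
    intro p hp τ hτ hxτ hpτ
    have hp' : p ∈ (N : Set X.scheme) := hp
    rw [hNeq] at hp'
    exact hp' (Or.inl (Or.inl (Set.mem_biUnion (Finset.mem_filter.mpr ⟨hτ, hxτ⟩) hpτ)))
  have hN₂ : ∀ p : Y.scheme, φ p ∈ N → ∀ s ∈ G, φ s ≠ x →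
      p ∉ closure ({s} : Set Y.scheme) := by
    intro p hp s hs hsx hps
    have hp' : φ p ∈ (N : Set X.scheme) := hp
    rw [hNeq] at hp'
    exact hp' (Or.inl (Or.inr (Set.mem_biUnion (Finset.mem_filter.mpr ⟨hs, hsx⟩)
      (Set.mem_image_of_mem _ hps))))
  have hN₃ : ∀ p : Y.scheme, φ p ∈ N → ∀ s ∈ G, ∀ s' ∈ G, s ≠ s' →
      p ∈ closure ({s} : Set Y.scheme) → p ∉ closure ({s'} : Set Y.scheme) := by
    intro p hp s hs s' hs' hne hps hps'
    have hp' : φ p ∈ (N : Set X.scheme) := hp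
    rw [hNeq] at hp'
    refine hp' (Or.inr (Set.mem_biUnion (x := (s, s')) (Finset.mem_filter.mpr
      ⟨Finset.mem_product.mpr ⟨hs, hs'⟩, hne⟩) (Set.mem_image_of_mem _ ⟨hps, hps'⟩)))
  have hxN : x ∈ N := by
    change x ∈ (N : Set X.scheme)
    rw [hNeq]
    rintro ((h | h) | h)
    · obtain ⟨τ, hτ, hxτ⟩ := Set.mem_iUnion₂.mp h
      exact (Finset.mem_filter.mp hτ).2 hxτ
    · obtain ⟨s, hs, p, hp, hpx⟩ := Set.mem_iUnion₂.mp h
      have hs' := Finset.mem_filter.mp hs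
      exact hs'.2 (hrig s hs'.1 p hp hpx ▸ hpx)
    · obtain ⟨pr, hpr, p, hp, hpx⟩ := Set.mem_iUnion₂.mp h
      have hpr' := Finset.mem_filter.mp hpr
      have hpr'' := Finset.mem_product.mp hpr'.1
      exact hpr'.2 ((hrig pr.1 hpr''.1 p hp.1 hpx).symm.trans (hrig pr.2 hpr''.2 p hp.2 hpx))
  -- the codimension of the points of `G` over `x`
  have hcod : ∀ s ∈ G, φ s = x → WeilCoh.codim Y.scheme s = 1 := by
    intro s hs hsx
    have h1 := pdim_map_le φ s
    rw [hsx] at h1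
    have h2 := H s (hGE' s hs)
    unfold WeilCoh.codim
    omega
  have himg : ∀ s ∈ G, ∀ p' ∈ closure ({s} : Set Y.scheme),
      φ p' ∈ closure ({x} : Set X.scheme) := by
    intro s hs p' hp'
    have h2 := image_closure_subset_closure_image φ.continuous (Set.mem_image_of_mem _ hp')
    rw [Set.image_singleton] at h2
    exact closure_minimal (Set.singleton_subset_iff.mpr (hGE' s hs)) isClosed_closure h2
  refine ⟨N, (G.filter (fun s => φ s = x)).subtype (fun s => WeilCoh.codim Y.scheme s = 1),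
    hxN, ?_, ?_, ?_, ?_, ?_⟩
  · intro p hp hpU
    obtain ⟨τ, hτ, hpτ⟩ := hGXcov p hpU
    by_cases hxτ : x ∈ closure ({τ} : Set X.scheme)
    · rw [← hU τ (hGXU τ hτ) hxτ]
      exact hpτ
    · exact absurd hpτ (hN₁ p hp τ hτ hxτ)
  · intro p hpU hpx
    change p ∈ (N : Set X.scheme)
    rw [hNeq]
    rintro ((h | h) | h)
    · obtain ⟨τ, hτ, hpτ⟩ := Set.mem_iUnion₂.mp h
      exact hGXU τ (Finset.mem_filter.mp hτ).1
        ((specializes_iff_mem_closure.mpr hpτ).mem_open U.2 hpU)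
    · obtain ⟨s, hs, p', hp', rfl⟩ := Set.mem_iUnion₂.mp h
      exact hpx (himg s (Finset.mem_filter.mp hs).1 p' hp')
    · obtain ⟨pr, hpr, p', hp', rfl⟩ := Set.mem_iUnion₂.mp h
      exact hpx (himg pr.1 (Finset.mem_product.mp (Finset.mem_filter.mp hpr).1).1 p' hp'.1)
  · intro y
    rw [Finset.mem_subtype, Finset.mem_filter]
    constructor
    · exact fun h => h.2
    · intro hyx
      have hyE : φ y.1 ∈ closure ({x} : Set X.scheme) := hyx ▸ subset_closure rfl
      obtain ⟨s, hs, hys⟩ := hGcov' y.1 hyE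
      have := hrig s hs y.1 hys hyx
      exact ⟨this ▸ hs, hyx⟩
  · intro p hpN hpx
    obtain ⟨s, hs, hps⟩ := hGcov' p hpx
    have hsx : φ s = x := by
      by_contra hne
      exact hN₂ p hpN s hs hne hps
    exact (mem_jointC Y 1 _ p).mpr ⟨⟨s, hcod s hs hsx⟩,
      Finset.mem_subtype.mpr (Finset.mem_filter.mpr ⟨hs, hsx⟩), hps⟩
  · intro y hy y' hy' hne p hpN hpy
    have h1 := Finset.mem_filter.mp (Finset.mem_subtype.mp hy)
    have h2 := Finset.mem_filter.mp (Finset.mem_subtype.mp hy')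
    exact hN₃ p hpN y.1 h1.1 y'.1 h2.1 (fun e => hne (Subtype.ext e)) hpy

end FinGeom

end Groth.Agent.Lib.Helper47.BMUniq
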