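import Groth.Agent.Lib.Helper47.BMFinCore

set_option autoImplicit false
universe u

namespace Groth.Agent.Lib.Helper47.BMUniq

open TopologicalSpace Topology Order AlgebraicGeometry CategoryTheory BMCoh Opposite
open CategoryTheory.Limits

section FinMain

instance isProper_liftOpen_preimage {Zs Zt : Scheme.{u}} (g : Zs ⟶ Zt) [IsProper g]
    (W' : Zt.Opens) :
    IsProper (liftOpen g (g ⁻¹ᵁ W') W' (map_mem_of_mem_preimage g W')) := by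
  rw [liftOpen_preimage_eq]
  infer_instance

lemma isProper_liftOpen_of_iff {Zs Zt : Scheme.{u}} (g : Zs ⟶ Zt) [IsProper g]
    (W : Zs.Opens) (W' : Zt.Opens) (hW : ∀ z, z ∈ W ↔ g z ∈ W') :
    IsProper (liftOpen g W W' (fun w hw => (hW w).mp hw)) := by
  have : W = g ⁻¹ᵁ W' := by
    ext z
    exact hW z
  subst this
  exact isProper_liftOpen_preimage g W'

variable {V : ObjectProperty Scheme.{u}} [IsConstructible V]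

/-- the map from the reduced union of the closures of points over `x` to the closure of `x` -/
noncomputable def jointLift {Y X : Obj V} (φ : Y.scheme ⟶ X.scheme) (x : X.scheme) (m : ℕ)
    (S : Finset (Y.cdPt m)) (hS : ∀ y ∈ S, φ y.1 = x) :
    (jointSub Y m S).scheme ⟶ (X.ptSub x).scheme :=
  IsClosedImmersion.lift (X.ptSubι x) (jointι Y m S ≫ φ) (by
    rw [Scheme.Hom.ker_comp, Scheme.IdealSheafData.ker_subschemeι,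
      Scheme.IdealSheafData.ker_subschemeι, Scheme.IdealSheafData.map_vanishingIdeal]
    apply Scheme.IdealSheafData.vanishingIdeal_antimono
    rw [TopologicalSpace.Closeds.closure_le]
    rintro _ ⟨z, hz, rfl⟩
    have h1 : z ∈ jointC Y m S := hz
    obtain ⟨y, hy, hzy⟩ := (mem_jointC Y m S z).mp h1
    have h2 := image_closure_subset_closure_image φ.continuous (Set.mem_image_of_mem _ hzy)
    rw [Set.image_singleton, hS y hy] at h2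
    exact h2)

@[reassoc]
lemma jointLift_ι {Y X : Obj V} (φ : Y.scheme ⟶ X.scheme) (x : X.scheme) (m : ℕ)
    (S : Finset (Y.cdPt m)) (hS : ∀ y ∈ S, φ y.1 = x) :
    jointLift φ x m S hS ≫ X.ptSubι x = jointι Y m S ≫ φ :=
  IsClosedImmersion.lift_fac _ _ _

instance isProper_jointLift {Y X : Obj V} (φ : Y.scheme ⟶ X.scheme) [IsProper φ] (x : X.scheme)
    (m : ℕ) (S : Finset (Y.cdPt m)) (hS : ∀ y ∈ S, φ y.1 = x) :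
    IsProper (jointLift φ x m S hS) := by
  have : IsProper (jointLift φ x m S hS ≫ X.ptSubι x) := by
    rw [jointLift_ι]
    infer_instance
  exact IsProper.of_comp (jointLift φ x m S hS) (X.ptSubι x)

lemma jointLift_apply {Y X : Obj V} (φ : Y.scheme ⟶ X.scheme) (x : X.scheme) (m : ℕ)
    (S : Finset (Y.cdPt m)) (hS : ∀ y ∈ S, φ y.1 = x) (z : (jointSub Y m S).scheme) :
    (X.ptSubι x) ((jointLift φ x m S hS) z) = φ ((jointι Y m S) z) := by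
  rw [← Scheme.Hom.comp_apply, jointLift_ι, Scheme.Hom.comp_apply]

lemma jointIncl_jointLift {Y X : Obj V} (φ : Y.scheme ⟶ X.scheme) (x : X.scheme) (m : ℕ)
    (S : Finset (Y.cdPt m)) (hS : ∀ y ∈ S, φ y.1 = x) (y : Y.cdPt m) (hy : y ∈ S) :
    jointIncl Y m S y hy ≫ jointLift φ x m S hS = ptLift φ y.1 x (hS y hy) := by
  rw [← cancel_mono (X.ptSubι x), Category.assoc, jointLift_ι, jointIncl_ι_assoc, ptLift_ι]


variable {R : Type u} [CommRing R] {A : Coefs R} (T : PreTheory V R A)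

/-- the residue at `x` of a class pushed forward along `φ`, as the sum over the points over `x`
of the pushed-forward residues upstairs -/
theorem core_x
    (hred : ∀ (S : Obj V) (D D'' : Decomp S) (gU : D''.U ⟶ D.U)
      (k : D''.Z.scheme ⟶ D.Z.scheme) [IsClosedImmersion k] [AlgebraicGeometry.Surjective k],
      gU ≫ D.j = D''.j → k ≫ D.i = D''.i →
      ∀ (M : A.Cat) (i n i' n' : ℤ) (hi : i' = i + 1 - 2 * D.codim) (hn : n' = n - D.codim)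
        (hi'' : i' = i + 1 - 2 * D''.codim) (hn'' : n' = n - D''.codim)
        (hk : i' = i' + 2 * relCodim D''.Z.scheme D.Z.scheme)
        (hk' : n' = n' + relCodim D''.Z.scheme D.Z.scheme),
      T.pull gU M i n ≫ T.res D'' M i n i' n' hi'' hn'' ≫ T.push k M i' n' i' n' hk hk' =
        T.res D M i n i' n' hi hn)
    {Y X : Obj V} (φ : Y.scheme ⟶ X.scheme) [IsProper φ] (q : ℕ)
    (hdim : WeilCoh.dim Y.scheme + q = WeilCoh.dim X.scheme)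
    (x : X.cdPt (q + 1)) (Q : T.ResData X q) (Q' : T.ResData Y 0)
    (S : Finset (Y.cdPt 1)) (hSne : S.Nonempty) (hSx : ∀ y ∈ S, φ y.1 = x.1)
    (FS : ∀ (y : Y.cdPt 1), y ∈ S → T.PtPush φ y.1 x.1)
    (N : X.scheme.Opens) (hxN : x.1 ∈ N)
    (hNd : WeilCoh.dim (N : Scheme.{u}) = WeilCoh.dim X.scheme)
    (U₁ : Idx X (ContainsFj X q))
    (hU₁ : ∀ p, p ∈ U₁.1 ↔ p ∈ N ∧ p ∉ closure ({x.1} : Set X.scheme))
    (hfib : ∀ p : Y.scheme, φ p ∈ N → φ p ∈ closure ({x.1} : Set X.scheme) → p ∈ jointC Y 1 S)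
    (hsepN : ∀ y ∈ S, ∀ y' ∈ S, y ≠ y' → ∀ p : Y.scheme, φ p ∈ N →
      p ∈ closure ({y.1} : Set Y.scheme) → p ∉ closure ({y'.1} : Set Y.scheme))
    (hV₁c : ContainsFj Y 0 (φ ⁻¹ᵁ U₁.1))
    (hV₁d : WeilCoh.dim ((φ ⁻¹ᵁ U₁.1 : Y.scheme.Opens) : Scheme.{u}) = WeilCoh.dim Y.scheme)
    (M : A.Cat) (i n i₁ n₁ i₂ n₂ : ℤ)
    (h2 : i₂ = i₁ + 1 - 2 * ((q : ℤ) + 1)) (h2' : n₂ = n₁ - ((q : ℤ) + 1))
    (h4 : i₂ = i + 1 - 2 * (((0 : ℕ) : ℤ) + 1)) (h4' : n₂ = n - (((0 : ℕ) : ℤ) + 1))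
    (hpi : i₁ = i + 2 * relCodim (Y.res (φ ⁻¹ᵁ U₁.1)).scheme (X.res U₁.1).scheme)
    (hpn : n₁ = n + relCodim (Y.res (φ ⁻¹ᵁ U₁.1)).scheme (X.res U₁.1).scheme)
    (a : T.gp (Y.res (φ ⁻¹ᵁ U₁.1)) M i n) :
    (Q.cpt x M i₁ n₁ i₂ n₂ h2 h2').hom (((T.fjι X q i₁ n₁ U₁).app M).hom
      ((T.push (X := Y.res (φ ⁻¹ᵁ U₁.1)) (Y := X.res U₁.1)
        (liftOpen φ (φ ⁻¹ᵁ U₁.1) U₁.1 (map_mem_of_mem_preimage φ U₁.1)) M i n i₁ n₁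
        hpi hpn).hom a)) =
    ∑ k : {y // y ∈ S}, ((FS k.1 k.2).cpt M i₂ n₂).hom
      ((Q'.cpt k.1 M i n i₂ n₂ h4 h4').hom
        (((T.fjι Y 0 i n ⟨φ ⁻¹ᵁ U₁.1, hV₁c, hV₁d⟩).app M).hom a)) := by
  classical
  obtain ⟨y₀, hy₀⟩ := hSne
  -- the opens upstairs
  have hU₁N : U₁.1 ≤ N := fun p hp => ((hU₁ p).mp hp).1
  have hV₁N : φ ⁻¹ᵁ U₁.1 ≤ φ ⁻¹ᵁ N := preimage_le_preimage φ hU₁N
  have hNYd : WeilCoh.dim ((φ ⁻¹ᵁ N : Y.scheme.Opens) : Scheme.{u}) = WeilCoh.dim Y.scheme :=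
    dim_eq_of_containsFj' Y 0 _ (fun p hp => hV₁N (hV₁c p hp))
  -- the decomposition downstairs
  have hU₁' : ∀ p ∈ N, p ∈ U₁.1 ↔ p ∉ closure ({x.1} : Set X.scheme) := fun p hp =>
    ⟨fun h => ((hU₁ p).mp h).2, fun h => (hU₁ p).mpr ⟨hp, h⟩⟩
  have hrcD : relCodim ((X.ptSub x.1).res (traceIdx X x.1 N hxN).1).scheme (X.res N).scheme =
      (q : ℤ) + 1 := by
    rw [relCodim_trace X x.1 N (traceIdx X x.1 N hxN) hNd, x.2, codim_cast]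
  have hiD : i₂ = i₁ + 1 - 2 * relCodim ((X.ptSub x.1).res (traceIdx X x.1 N hxN).1).scheme
      (X.res N).scheme := by rw [hrcD]; exact h2
  have hnD : n₂ = n₁ - relCodim ((X.ptSub x.1).res (traceIdx X x.1 N hxN).1).scheme
      (X.res N).scheme := by rw [hrcD]; exact h2'
  have hL := cpt_fjι_eq T X q Q M i₁ n₁ i₂ n₂ h2 h2' x N hNd (traceIdx X x.1 N hxN)
    (fun _ => Iff.rfl) U₁ hU₁N hU₁' hiD hnD
    ((T.push (X := Y.res (φ ⁻¹ᵁ U₁.1)) (Y := X.res U₁.1)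
      (liftOpen φ (φ ⁻¹ᵁ U₁.1) U₁.1 (map_mem_of_mem_preimage φ U₁.1)) M i n i₁ n₁ hpi hpn).hom a)
  rw [hL]
  -- the decomposition upstairs
  have hsep : ∀ y ∈ S, ∀ y' ∈ S, y ≠ y' → ∀ p ∈ (φ ⁻¹ᵁ N : Y.scheme.Opens),
      p ∈ closure ({y.1} : Set Y.scheme) → p ∉ closure ({y'.1} : Set Y.scheme) :=
    fun y hy y' hy' hne p hp => hsepN y hy y' hy' hne p hp
  have hSY : ∀ y ∈ S, y.1 ∈ (φ ⁻¹ᵁ N : Y.scheme.Opens) := fun y hy => by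
    apply mem_preimage_of_map_mem
    rw [hSx y hy]
    exact hxN
  have hjc : ∀ p : Y.scheme, p ∈ jointC Y 1 S → φ p ∈ closure ({x.1} : Set X.scheme) := by
    intro p hp
    obtain ⟨y, hy, hpy⟩ := (mem_jointC Y 1 S p).mp hp
    have h2 := image_closure_subset_closure_image φ.continuous (Set.mem_image_of_mem _ hpy)
    rw [Set.image_singleton, hSx y hy] at h2
    exact h2
  have hV₁'' : ∀ p ∈ (φ ⁻¹ᵁ N : Y.scheme.Opens),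
      p ∈ (φ ⁻¹ᵁ U₁.1 : Y.scheme.Opens) ↔ p ∉ Set.range (jointι Y 1 S) := by
    intro p hp
    rw [range_jointι]
    constructor
    · intro h hC
      exact ((hU₁ (φ p)).mp h).2 (hjc p hC)
    · intro h
      exact (hU₁ (φ p)).mpr ⟨hp, fun hcl => h (hfib p hp hcl)⟩
  -- the map of closed parts
  have hρmem : ∀ z, z ∈ jointZ Y 1 S (φ ⁻¹ᵁ N) ↔
      (jointLift φ x.1 1 S hSx) z ∈ (traceIdx X x.1 N hxN).1 := by
    intro z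
    change φ ((jointι Y 1 S) z) ∈ N ↔ (X.ptSubι x.1) ((jointLift φ x.1 1 S hSx) z) ∈ N
    rw [jointLift_apply]
  have hρprop := isProper_liftOpen_of_iff (jointLift φ x.1 1 S hSx) (jointZ Y 1 S (φ ⁻¹ᵁ N))
    (traceIdx X x.1 N hxN).1 hρmem
  have hρ : liftOpen (jointLift φ x.1 1 S hSx) (jointZ Y 1 S (φ ⁻¹ᵁ N))
        (traceIdx X x.1 N hxN).1 (fun w hw => (hρmem w).mp hw) ≫
      (mkDecomp X x.1 N (traceIdx X x.1 N hxN).1 (fun _ => Iff.rfl) U₁.1 hU₁N hU₁'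
        (U₁.2.2.trans hNd.symm)).i =
      (mkDecompG Y (jointSub Y 1 S) (jointι Y 1 S) (φ ⁻¹ᵁ N) (jointZ Y 1 S (φ ⁻¹ᵁ N))
        (fun _ => Iff.rfl) (φ ⁻¹ᵁ U₁.1) hV₁N hV₁'' (hV₁d.trans hNYd.symm)).i ≫
        liftOpen φ (φ ⁻¹ᵁ N) N (map_mem_of_mem_preimage φ N) := by
    rw [← cancel_mono N.ι]
    simp only [Category.assoc, liftOpen_ι]
    rw [liftOpen_ι_assoc, liftOpen_ι_assoc, jointLift_ι]
  have hsurj : ∀ p : (Y.res (φ ⁻¹ᵁ N)).scheme,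
      (liftOpen φ (φ ⁻¹ᵁ N) N (map_mem_of_mem_preimage φ N)) p ∈ Set.range
        (mkDecomp X x.1 N (traceIdx X x.1 N hxN).1 (fun _ => Iff.rfl) U₁.1 hU₁N hU₁'
          (U₁.2.2.trans hNd.symm)).i →
      p ∈ Set.range (mkDecompG Y (jointSub Y 1 S) (jointι Y 1 S) (φ ⁻¹ᵁ N)
        (jointZ Y 1 S (φ ⁻¹ᵁ N)) (fun _ => Iff.rfl) (φ ⁻¹ᵁ U₁.1) hV₁N hV₁''
        (hV₁d.trans hNYd.symm)).i := by
    intro p hp
    have h1 : Set.range (mkDecomp X x.1 N (traceIdx X x.1 N hxN).1 (fun _ => Iff.rfl) U₁.1 hU₁N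
        hU₁' (U₁.2.2.trans hNd.symm)).i = N.ι ⁻¹' (Set.range (X.ptSubι x.1)) :=
      range_liftOpen_of_preimage (X.ptSubι x.1) (traceIdx X x.1 N hxN).1 N (fun _ => Iff.rfl)
    have h2 : Set.range (mkDecompG Y (jointSub Y 1 S) (jointι Y 1 S) (φ ⁻¹ᵁ N)
        (jointZ Y 1 S (φ ⁻¹ᵁ N)) (fun _ => Iff.rfl) (φ ⁻¹ᵁ U₁.1) hV₁N hV₁''
        (hV₁d.trans hNYd.symm)).i = (φ ⁻¹ᵁ N).ι ⁻¹' (Set.range (jointι Y 1 S)) :=
      range_liftOpen_of_preimage (jointι Y 1 S) (jointZ Y 1 S (φ ⁻¹ᵁ N)) (φ ⁻¹ᵁ N)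
        (fun _ => Iff.rfl)
    rw [h1] at hp
    rw [h2]
    change (φ ⁻¹ᵁ N).ι p ∈ Set.range (jointι Y 1 S)
    rw [range_jointι]
    have hp' : N.ι ((liftOpen φ (φ ⁻¹ᵁ N) N (map_mem_of_mem_preimage φ N)) p) ∈
        Set.range (X.ptSubι x.1) := hp
    rw [liftOpen_apply, range_ptSubι] at hp'
    exact hfib _ (ι_mem (φ ⁻¹ᵁ N) p) hp'
  -- dimension bookkeeping
  have hdZ : WeilCoh.dim ((jointSub Y 1 S).res (jointZ Y 1 S (φ ⁻¹ᵁ N))).scheme =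
      WeilCoh.pdim Y.scheme y₀.1 := dim_jointZ Y 1 S (φ ⁻¹ᵁ N) hsep hSY y₀ hy₀
  have hpy : ∀ y : Y.cdPt 1, WeilCoh.pdim Y.scheme y.1 + 1 = WeilCoh.dim Y.scheme :=
    fun y => pdim_cdPt Y 1 y
  have hpx := pdim_cdPt X (q + 1) x
  have hdW : WeilCoh.dim ((X.ptSub x.1).res (traceIdx X x.1 N hxN).1).scheme =
      WeilCoh.pdim X.scheme x.1 := (traceIdx X x.1 N hxN).2.2.trans (dim_ptSub X x.1)
  have hdNY : WeilCoh.dim (Y.res (φ ⁻¹ᵁ N)).scheme = WeilCoh.dim Y.scheme := hNYd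
  have hcod'' : relCodim ((jointSub Y 1 S).res (jointZ Y 1 S (φ ⁻¹ᵁ N))).scheme
      (Y.res (φ ⁻¹ᵁ N)).scheme = 1 := by
    have := hpy y₀
    unfold relCodim
    rw [hdZ, hdNY]
    omega
  have hrcZ : relCodim ((jointSub Y 1 S).res (jointZ Y 1 S (φ ⁻¹ᵁ N))).scheme
      ((X.ptSub x.1).res (traceIdx X x.1 N hxN).1).scheme = 0 := by
    have := hpy y₀
    unfold relCodim
    rw [hdZ, hdW]
    omega
  have ha : i₂ = i + 1 - 2 * relCodim ((jointSub Y 1 S).res (jointZ Y 1 S (φ ⁻¹ᵁ N))).scheme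
      (Y.res (φ ⁻¹ᵁ N)).scheme := by rw [hcod'']; omega
  have hb : n₂ = n - relCodim ((jointSub Y 1 S).res (jointZ Y 1 S (φ ⁻¹ᵁ N))).scheme
      (Y.res (φ ⁻¹ᵁ N)).scheme := by rw [hcod'']; omega
  have he : i₂ = i₂ + 2 * relCodim ((jointSub Y 1 S).res (jointZ Y 1 S (φ ⁻¹ᵁ N))).scheme
      ((X.ptSub x.1).res (traceIdx X x.1 N hxN).1).scheme := by rw [hrcZ]; ring
  have hk : n₂ = n₂ + relCodim ((jointSub Y 1 S).res (jointZ Y 1 S (φ ⁻¹ᵁ N))).scheme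
      ((X.ptSub x.1).res (traceIdx X x.1 N hxN).1).scheme := by rw [hrcZ]; ring
  have hrp := res_push_red T hred (Xo := X.res N) (Yo := Y.res (φ ⁻¹ᵁ N))
    (liftOpen φ (φ ⁻¹ᵁ N) N (map_mem_of_mem_preimage φ N))
    (mkDecomp X x.1 N (traceIdx X x.1 N hxN).1 (fun _ => Iff.rfl) U₁.1 hU₁N hU₁'
      (U₁.2.2.trans hNd.symm))
    (mkDecompG Y (jointSub Y 1 S) (jointι Y 1 S) (φ ⁻¹ᵁ N) (jointZ Y 1 S (φ ⁻¹ᵁ N))
      (fun _ => Iff.rfl) (φ ⁻¹ᵁ U₁.1) hV₁N hV₁'' (hV₁d.trans hNYd.symm))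
    (liftOpen φ (φ ⁻¹ᵁ U₁.1) U₁.1 (map_mem_of_mem_preimage φ U₁.1))
    (isPullback_liftOpen_preimage φ hU₁N)
    (liftOpen (jointLift φ x.1 1 S hSx) (jointZ Y 1 S (φ ⁻¹ᵁ N))
      (traceIdx X x.1 N hxN).1 (fun w hw => (hρmem w).mp hw))
    hρ hsurj M i n i₂ n₂ i₁ n₁ i₂ n₂ ha hb hpi hpn he hk hiD hnD
  have hrp' := congrArg (fun ψ => ψ.hom a) hrp
  refine (congrArg (fun t => ((T.ptι X x.1 i₂ n₂ (traceIdx X x.1 N hxN)).app M).hom t)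
    hrp'.symm).trans ?_
  -- decompose the residue upstairs along the pieces
  obtain ⟨c, hc⟩ : ∃ c, c = (T.res (mkDecompG Y (jointSub Y 1 S) (jointι Y 1 S) (φ ⁻¹ᵁ N)
      (jointZ Y 1 S (φ ⁻¹ᵁ N)) (fun _ => Iff.rfl) (φ ⁻¹ᵁ U₁.1) hV₁N hV₁''
      (hV₁d.trans hNYd.symm)) M i n i₂ n₂ ha hb).hom a := ⟨_, rfl⟩
  change ((T.ptι X x.1 i₂ n₂ (traceIdx X x.1 N hxN)).app M).hom
    ((T.push (liftOpen (jointLift φ x.1 1 S hSx) (jointZ Y 1 S (φ ⁻¹ᵁ N))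
      (traceIdx X x.1 N hxN).1 (fun w hw => (hρmem w).mp hw)) M i₂ n₂ i₂ n₂ he hk).hom
      ((T.res (mkDecompG Y (jointSub Y 1 S) (jointι Y 1 S) (φ ⁻¹ᵁ N)
      (jointZ Y 1 S (φ ⁻¹ᵁ N)) (fun _ => Iff.rfl) (φ ⁻¹ᵁ U₁.1) hV₁N hV₁''
      (hV₁d.trans hNYd.symm)) M i n i₂ n₂ ha hb).hom a)) = _
  rw [← hc]
  have hsum := joint_sum T Y 1 S (φ ⁻¹ᵁ N) hsep hSY M i₂ n₂ c
  have hsum' := congrArg (fun t => ((T.ptι X x.1 i₂ n₂ (traceIdx X x.1 N hxN)).app M).hom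
    ((T.push (liftOpen (jointLift φ x.1 1 S hSx) (jointZ Y 1 S (φ ⁻¹ᵁ N))
      (traceIdx X x.1 N hxN).1 (fun w hw => (hρmem w).mp hw)) M i₂ n₂ i₂ n₂ he hk).hom t)) hsum
  refine hsum'.trans ?_
  rw [map_sum, map_sum]
  refine Finset.sum_congr rfl fun k _ => ?_
  -- the map from the piece to the trace of the closure of `x`
  have hfk : ∀ w ∈ traceOpen Y k.1.1 (φ ⁻¹ᵁ N),
      (ptLift φ k.1.1 x.1 (hSx k.1 k.2)) w ∈ (traceIdx X x.1 N hxN).1 := by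
    intro w hw
    change (X.ptSubι x.1) ((ptLift φ k.1.1 x.1 (hSx k.1 k.2)) w) ∈ N
    rw [ptLift_apply]
    exact hw
  have hfkiff : ∀ w, w ∈ traceOpen Y k.1.1 (φ ⁻¹ᵁ N) ↔
      (ptLift φ k.1.1 x.1 (hSx k.1 k.2)) w ∈ (traceIdx X x.1 N hxN).1 := by
    intro w
    change φ ((Y.ptSubι k.1.1) w) ∈ N ↔
      (X.ptSubι x.1) ((ptLift φ k.1.1 x.1 (hSx k.1 k.2)) w) ∈ N
    rw [ptLift_apply]
  have hfkprop : IsProper (liftOpen (ptLift φ k.1.1 x.1 (hSx k.1 k.2))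
      (traceOpen Y k.1.1 (φ ⁻¹ᵁ N)) (traceIdx X x.1 N hxN).1 (fun w hw => (hfkiff w).mp hw)) :=
    isProper_liftOpen_of_iff _ _ _ hfkiff
  have hcompk : (pieceHom Y 1 S (φ ⁻¹ᵁ N) hsep hSY k.1 k.2).hom ≫
      liftOpen (jointLift φ x.1 1 S hSx) (jointZ Y 1 S (φ ⁻¹ᵁ N))
        (traceIdx X x.1 N hxN).1 (fun w hw => (hρmem w).mp hw) =
      liftOpen (ptLift φ k.1.1 x.1 (hSx k.1 k.2))
        (traceOpen Y k.1.1 (φ ⁻¹ᵁ N)) (traceIdx X x.1 N hxN).1 (fun w hw => (hfkiff w).mp hw) := by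
    rw [pieceHom_hom, ← cancel_mono (traceIdx X x.1 N hxN).1.ι, Category.assoc, liftOpen_ι,
      liftOpen_ι_assoc, liftOpen_ι, jointIncl_jointLift]
  have hdWk : WeilCoh.dim ((Y.ptSub k.1.1).res (traceOpen Y k.1.1 (φ ⁻¹ᵁ N))).scheme =
      WeilCoh.pdim Y.scheme k.1.1 := dim_traceOpen Y 1 (φ ⁻¹ᵁ N) k.1 (hSY k.1 k.2)
  have hrck : relCodim ((Y.ptSub k.1.1).res (traceOpen Y k.1.1 (φ ⁻¹ᵁ N))).scheme
      ((X.ptSub x.1).res (traceIdx X x.1 N hxN).1).scheme = 0 := by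
    have := hpy k.1
    unfold relCodim
    rw [hdWk, hdW]
    omega
  have hik : i₂ = i₂ + 2 * relCodim ((Y.ptSub k.1.1).res (traceOpen Y k.1.1 (φ ⁻¹ᵁ N))).scheme
      ((X.ptSub x.1).res (traceIdx X x.1 N hxN).1).scheme := by rw [hrck]; ring
  have hnk : n₂ = n₂ + relCodim ((Y.ptSub k.1.1).res (traceOpen Y k.1.1 (φ ⁻¹ᵁ N))).scheme
      ((X.ptSub x.1).res (traceIdx X x.1 N hxN).1).scheme := by rw [hrck]; ring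
  have hpc := T.push_comp (X := (Y.ptSub k.1.1).res (traceOpen Y k.1.1 (φ ⁻¹ᵁ N)))
    (Y := (jointSub Y 1 S).res (jointZ Y 1 S (φ ⁻¹ᵁ N)))
    (Z := (X.ptSub x.1).res (traceIdx X x.1 N hxN).1)
    (pieceHom Y 1 S (φ ⁻¹ᵁ N) hsep hSY k.1 k.2).hom
    (liftOpen (jointLift φ x.1 1 S hSx) (jointZ Y 1 S (φ ⁻¹ᵁ N))
      (traceIdx X x.1 N hxN).1 (fun w hw => (hρmem w).mp hw))
    M i₂ n₂ i₂ n₂ i₂ n₂
    (by rw [relCodim_piece Y 1 S (φ ⁻¹ᵁ N) hsep hSY k.1 k.2]; ring)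
    (by rw [relCodim_piece Y 1 S (φ ⁻¹ᵁ N) hsep hSY k.1 k.2]; ring) he hk hik hnk
  have hpc' := (hpc.trans (push_congr T hcompk M i₂ n₂ i₂ n₂ hik hnk))
  have h1 := congrArg (fun ψ => ψ.hom
    ((T.pull (pieceHom Y 1 S (φ ⁻¹ᵁ N) hsep hSY k.1 k.2) M i₂ n₂).hom c)) hpc'
  have hcompF : liftOpen (ptLift φ k.1.1 x.1 (hSx k.1 k.2))
        (traceOpen Y k.1.1 (φ ⁻¹ᵁ N)) (traceIdx X x.1 N hxN).1 (fun w hw => (hfkiff w).mp hw) ≫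
      (traceIdx X x.1 N hxN).1.ι ≫ X.ptSubι x.1 =
      (traceIdx Y k.1.1 (φ ⁻¹ᵁ N) (hSY k.1 k.2)).1.ι ≫ Y.ptSubι k.1.1 ≫ φ := by
    rw [liftOpen_ι_assoc, ptLift_ι]
    rfl
  have specF := @PreTheory.PtPush.cpt_spec V _ R _ A T Y X φ k.1.1 x.1 (FS k.1 k.2) M i₂ n₂
    (traceIdx Y k.1.1 (φ ⁻¹ᵁ N) (hSY k.1 k.2)) (traceIdx X x.1 N hxN)
    (liftOpen (ptLift φ k.1.1 x.1 (hSx k.1 k.2))
        (traceOpen Y k.1.1 (φ ⁻¹ᵁ N)) (traceIdx X x.1 N hxN).1 (fun w hw => (hfkiff w).mp hw))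
    hfkprop hcompF hik hnk
  have specF' := congrArg (fun ψ => ψ.hom
    ((T.pull (pieceHom Y 1 S (φ ⁻¹ᵁ N) hsep hSY k.1 k.2) M i₂ n₂).hom c)) specF
  have hg : (pieceHom Y 1 S (φ ⁻¹ᵁ N) hsep hSY k.1 k.2).hom ≫
      (mkDecompG Y (jointSub Y 1 S) (jointι Y 1 S) (φ ⁻¹ᵁ N) (jointZ Y 1 S (φ ⁻¹ᵁ N))
        (fun _ => Iff.rfl) (φ ⁻¹ᵁ U₁.1) hV₁N hV₁'' (hV₁d.trans hNYd.symm)).i ≫
      (Y.resι (φ ⁻¹ᵁ N) hNYd).hom =
      (traceIdx Y k.1.1 (φ ⁻¹ᵁ N) (hSY k.1 k.2)).1.ι ≫ Y.ptSubι k.1.1 := by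
    have e1 : (mkDecompG Y (jointSub Y 1 S) (jointι Y 1 S) (φ ⁻¹ᵁ N) (jointZ Y 1 S (φ ⁻¹ᵁ N))
        (fun _ => Iff.rfl) (φ ⁻¹ᵁ U₁.1) hV₁N hV₁'' (hV₁d.trans hNYd.symm)).i ≫
        (Y.resι (φ ⁻¹ᵁ N) hNYd).hom = (jointZ Y 1 S (φ ⁻¹ᵁ N)).ι ≫ jointι Y 1 S :=
      liftOpen_ι (jointι Y 1 S) (jointZ Y 1 S (φ ⁻¹ᵁ N)) (φ ⁻¹ᵁ N) (fun w hw => hw)
    rw [e1, pieceHom_hom, liftOpen_ι_assoc, jointIncl_ι]
    rfl
  have hh : (𝟙 (Y.res (φ ⁻¹ᵁ U₁.1)) : Y.res (φ ⁻¹ᵁ U₁.1) ⟶ _).hom ≫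
      (mkDecompG Y (jointSub Y 1 S) (jointι Y 1 S) (φ ⁻¹ᵁ N) (jointZ Y 1 S (φ ⁻¹ᵁ N))
        (fun _ => Iff.rfl) (φ ⁻¹ᵁ U₁.1) hV₁N hV₁'' (hV₁d.trans hNYd.symm)).j.hom ≫
      (Y.resι (φ ⁻¹ᵁ N) hNYd).hom = (φ ⁻¹ᵁ U₁.1).ι := by
    rw [id_hom, Category.id_comp]
    exact Y.scheme.homOfLE_ι hV₁N
  have specQ := Q'.cpt_spec k.1 M i n i₂ n₂ h4 h4' (Y.resι (φ ⁻¹ᵁ N) hNYd)
    (mkDecompG Y (jointSub Y 1 S) (jointι Y 1 S) (φ ⁻¹ᵁ N) (jointZ Y 1 S (φ ⁻¹ᵁ N))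
        (fun _ => Iff.rfl) (φ ⁻¹ᵁ U₁.1) hV₁N hV₁'' (hV₁d.trans hNYd.symm))
    (traceIdx Y k.1.1 (φ ⁻¹ᵁ N) (hSY k.1 k.2))
    (pieceHom Y 1 S (φ ⁻¹ᵁ N) hsep hSY k.1 k.2) hg ⟨φ ⁻¹ᵁ U₁.1, hV₁c, hV₁d⟩
    (𝟙 (Y.res (φ ⁻¹ᵁ U₁.1))) hh ha hb
  have hid : T.pull (𝟙 (Y.res (φ ⁻¹ᵁ U₁.1))) M i n = 𝟙 _ := pull_id T _ M i n
  rw [hid, Category.id_comp] at specQ
  have specQ' := congrArg (fun ψ => ψ.hom a) specQ
  have e2 : (Q'.cpt k.1 M i n i₂ n₂ h4 h4').hom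
      (((T.fjι Y 0 i n ⟨φ ⁻¹ᵁ U₁.1, hV₁c, hV₁d⟩).app M).hom a) =
      ((T.ptι Y k.1.1 i₂ n₂ (traceIdx Y k.1.1 (φ ⁻¹ᵁ N) (hSY k.1 k.2))).app M).hom
        ((T.pull (pieceHom Y 1 S (φ ⁻¹ᵁ N) hsep hSY k.1 k.2) M i₂ n₂).hom c) := by
    rw [hc]
    exact specQ'
  rw [e2]
  refine Eq.trans ?_ specF'.symm
  exact congrArg (fun t => ((T.ptι X x.1 i₂ n₂ (traceIdx X x.1 N hxN)).app M).hom t) h1

end FinMain

end Groth.Agent.Lib.Helper47.BMUniq
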