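import Groth.Agent.Lib.Helper47.BMFinMain

set_option autoImplicit false
universe u

namespace Groth.Agent.Lib.Helper47.BMUniq

open TopologicalSpace Topology Order AlgebraicGeometry CategoryTheory BMCoh Opposite
open CategoryTheory.Limits

section FinRed

variable {V : ObjectProperty Scheme.{u}} [IsConstructible V]

/-- an open of `X` containing `F_q X` whose preimage in the closure of `y` lies in a given
nonempty open -/
lemma exists_open_X_preimage_le {Y X : Obj V} (φ : Y.scheme ⟶ X.scheme) [IsProper φ] (y : Y.scheme)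
    (q : ℕ) (hd : WeilCoh.pdim Y.scheme y + q = WeilCoh.dim X.scheme)
    (W : (Y.ptSub y).scheme.Opens) (hWne : (W : Set (Y.ptSub y).scheme).Nonempty) :
    ∃ U : X.scheme.Opens, ContainsFj X q U ∧
      ∀ z : (Y.ptSub y).scheme, φ ((Y.ptSubι y) z) ∈ U → z ∈ W := by
  have hcl1 : IsClosed ((Y.ptSubι y) '' ((W : Set (Y.ptSub y).scheme)ᶜ)) :=
    (Y.ptSubι y).isClosedEmbedding.isClosedMap _ W.2.isClosed_compl
  have hcl : IsClosed (φ '' ((Y.ptSubι y) '' ((W : Set (Y.ptSub y).scheme)ᶜ))) :=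
    φ.isClosedMap _ hcl1
  refine ⟨⟨_, hcl.isOpen_compl⟩, ?_, ?_⟩
  · rintro p hp ⟨_, ⟨z, hzW, rfl⟩, hz⟩
    obtain ⟨ξ₀, hξ₀, hξW⟩ := exists_gen Y y
    have hzy : (Y.ptSubι y) z ∈ closure ({y} : Set Y.scheme) := by
      rw [← range_ptSubι]; exact ⟨z, rfl⟩
    have hne : y ∉ closure ({(Y.ptSubι y) z} : Set Y.scheme) := by
      intro hy
      have h2 : (Y.ptSubι y) z ⤳ (Y.ptSubι y) ξ₀ := by
        rw [hξ₀]; exact specializes_iff_mem_closure.mpr hy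
      have h3 : z ⤳ ξ₀ := (Y.ptSubι y).isClosedEmbedding.isInducing.specializes_iff.mp h2
      exact hzW (h3.mem_open W.2 (hξW W hWne))
    have hlt := pdim_lt_pdim Y hzy hne
    have hle := pdim_map_le φ ((Y.ptSubι y) z)
    rw [hz] at hle
    have h1 := pdim_le_dim X p
    unfold WeilCoh.codim at hp
    omega
  · intro z hz
    by_contra hzW
    exact hz ⟨_, ⟨z, hzW, rfl⟩, rfl⟩

variable {R : Type u} [CommRing R] {A : Coefs R} (T : PreTheory V R A)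

/-- representatives, on an open `U ⊇ F_q X` and its preimage, of the two classes compared -/
theorem reduce_rep {Y X : Obj V} [IsIntegral Y.scheme] (φ : Y.scheme ⟶ X.scheme) [IsProper φ]
    (q : ℕ) (w : X.cdPt q) (hη : WeilCoh.codim Y.scheme (genericPoint Y.scheme) = 0)
    (P : T.PushData X q) (L : T.PtPush φ (genericPoint Y.scheme) w.1) (P' : T.PushData Y 0)
    (M : A.Cat) (i n i₁ n₁ i₃ n₃ : ℤ)
    (h1 : i₁ = i + 2 * (q : ℤ)) (h1' : n₁ = n + (q : ℤ))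
    (h3 : i₃ = i + 2 * ((0 : ℕ) : ℤ)) (h3' : n₃ = n + ((0 : ℕ) : ℤ))
    (a : T.ptGp Y (genericPoint Y.scheme) M i n) :
    ∃ (U : Idx X (ContainsFj X q)) (hVc : ContainsFj Y 0 (φ ⁻¹ᵁ U.1))
      (hVd : WeilCoh.dim ((φ ⁻¹ᵁ U.1 : Y.scheme.Opens) : Scheme.{u}) = WeilCoh.dim Y.scheme)
      (hpi : i₁ = i₃ + 2 * relCodim (Y.res (φ ⁻¹ᵁ U.1)).scheme (X.res U.1).scheme)
      (hpn : n₁ = n₃ + relCodim (Y.res (φ ⁻¹ᵁ U.1)).scheme (X.res U.1).scheme)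
      (a' : T.gp (Y.res (φ ⁻¹ᵁ U.1)) M i₃ n₃),
      (P.cpt w M i n i₁ n₁ h1 h1').hom ((L.cpt M i n).hom a) =
        ((T.fjι X q i₁ n₁ U).app M).hom
          ((T.push (X := Y.res (φ ⁻¹ᵁ U.1)) (Y := X.res U.1)
            (liftOpen φ (φ ⁻¹ᵁ U.1) U.1 (map_mem_of_mem_preimage φ U.1)) M i₃ n₃ i₁ n₁
            hpi hpn).hom a') ∧
      (P'.cpt ⟨genericPoint Y.scheme, hη⟩ M i n i₃ n₃ h3 h3').hom a =
        ((T.fjι Y 0 i₃ n₃ ⟨φ ⁻¹ᵁ U.1, hVc, hVd⟩).app M).hom a' := by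
  -- dimensions
  have hpη : WeilCoh.pdim Y.scheme (genericPoint Y.scheme) + 0 = WeilCoh.dim Y.scheme :=
    pdim_cdPt Y 0 ⟨genericPoint Y.scheme, hη⟩
  have hpw := pdim_cdPt X q w
  have hLd : WeilCoh.pdim Y.scheme (genericPoint Y.scheme) = WeilCoh.pdim X.scheme w.1 := by
    have h := L.codim_eq
    unfold relCodim at h
    rw [dim_ptSub, dim_ptSub] at h
    omega
  obtain ⟨V₀, a₀, rfl⟩ := ocolim_exists_rep T (Y.ptSub (genericPoint Y.scheme)) _ i n M a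
  obtain ⟨Uo, hUoc, hUole⟩ := exists_open_X_preimage_le φ (genericPoint Y.scheme) q
    (by omega) V₀.1 V₀.2.1
  obtain ⟨U, hUeq⟩ : ∃ U : Idx X (ContainsFj X q), U.1 = Uo :=
    ⟨⟨Uo, hUoc, dim_eq_of_containsFj' X q _ hUoc⟩, rfl⟩
  have hwU : w.1 ∈ U.1 := U.2.1 w.1 (le_of_eq w.2)
  have hηV : genericPoint Y.scheme ∈ φ ⁻¹ᵁ U.1 := by
    apply mem_preimage_of_map_mem
    rw [L.maps_pt]
    exact hwU
  have hVc : ContainsFj Y 0 (φ ⁻¹ᵁ U.1) := by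
    intro p hp
    have hpcl : p ∈ closure ({genericPoint Y.scheme} : Set Y.scheme) := by
      rw [(genericPoint_spec Y.scheme).def]
      trivial
    have h1 := pdim_le_dim Y p
    have hpeq : p = genericPoint Y.scheme := by
      apply eq_of_mem_closure_of_pdim_le Y hpcl
      unfold WeilCoh.codim at hp
      omega
    rw [hpeq]
    exact hηV
  have hVd : WeilCoh.dim ((φ ⁻¹ᵁ U.1 : Y.scheme.Opens) : Scheme.{u}) = WeilCoh.dim Y.scheme :=
    dim_eq_of_containsFj' Y 0 _ hVc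
  -- the indices
  have hWV₀ : traceIdx Y (genericPoint Y.scheme) (φ ⁻¹ᵁ U.1) hηV ≤ V₀ :=
    fun z hz => hUole z (hUeq ▸ hz)
  have h7 := congrArg (fun ψ => ψ.hom a₀)
    (ocolimι_rs T (Y.ptSub (genericPoint Y.scheme))
      (fun U => (U : Set (Y.ptSub (genericPoint Y.scheme)).scheme).Nonempty) i n M
      (U' := traceIdx Y (genericPoint Y.scheme) (φ ⁻¹ᵁ U.1) hηV) (U := V₀) hWV₀)
  obtain ⟨b, hb⟩ : ∃ b, b = (rs T (Y.ptSub (genericPoint Y.scheme)) hWV₀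
      ((traceIdx Y (genericPoint Y.scheme) (φ ⁻¹ᵁ U.1) hηV).2.2.trans V₀.2.2.symm) M i n).hom a₀ :=
    ⟨_, rfl⟩
  have h7' : ((T.ptι Y (genericPoint Y.scheme) i n
      (traceIdx Y (genericPoint Y.scheme) (φ ⁻¹ᵁ U.1) hηV)).app M).hom b =
      ((T.ptι Y (genericPoint Y.scheme) i n V₀).app M).hom a₀ := by
    rw [hb]; exact h7
  -- dimensions of the four schemes
  have hdW : WeilCoh.dim ((Y.ptSub (genericPoint Y.scheme)).res
      (traceIdx Y (genericPoint Y.scheme) (φ ⁻¹ᵁ U.1) hηV).1).scheme =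
      WeilCoh.pdim Y.scheme (genericPoint Y.scheme) :=
    (traceIdx Y (genericPoint Y.scheme) (φ ⁻¹ᵁ U.1) hηV).2.2.trans (dim_ptSub Y _)
  have hdW' : WeilCoh.dim ((X.ptSub w.1).res (traceIdx X w.1 U.1 hwU).1).scheme =
      WeilCoh.pdim X.scheme w.1 := (traceIdx X w.1 U.1 hwU).2.2.trans (dim_ptSub X _)
  have hdV : WeilCoh.dim (Y.res (φ ⁻¹ᵁ U.1)).scheme = WeilCoh.dim Y.scheme := hVd
  have hdU : WeilCoh.dim (X.res U.1).scheme = WeilCoh.dim X.scheme := U.2.2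
  have rcf : relCodim ((Y.ptSub (genericPoint Y.scheme)).res
      (traceIdx Y (genericPoint Y.scheme) (φ ⁻¹ᵁ U.1) hηV).1).scheme
      (Y.res (φ ⁻¹ᵁ U.1)).scheme = 0 := by
    unfold relCodim; rw [hdW, hdV]; omega
  have rcL : relCodim ((Y.ptSub (genericPoint Y.scheme)).res
      (traceIdx Y (genericPoint Y.scheme) (φ ⁻¹ᵁ U.1) hηV).1).scheme
      ((X.ptSub w.1).res (traceIdx X w.1 U.1 hwU).1).scheme = 0 := by
    unfold relCodim; rw [hdW, hdW']; omega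
  have rcg : relCodim ((X.ptSub w.1).res (traceIdx X w.1 U.1 hwU).1).scheme
      (X.res U.1).scheme = (q : ℤ) := by
    unfold relCodim; rw [hdW', hdU]; omega
  have rcφ : relCodim (Y.res (φ ⁻¹ᵁ U.1)).scheme (X.res U.1).scheme = (q : ℤ) := by
    unfold relCodim; rw [hdV, hdU]; omega
  have rct : relCodim ((Y.ptSub (genericPoint Y.scheme)).res
      (traceIdx Y (genericPoint Y.scheme) (φ ⁻¹ᵁ U.1) hηV).1).scheme
      (X.res U.1).scheme = (q : ℤ) := by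
    unfold relCodim; rw [hdW, hdU]; omega
  have hpi : i₁ = i₃ + 2 * relCodim (Y.res (φ ⁻¹ᵁ U.1)).scheme (X.res U.1).scheme := by
    rw [rcφ]; omega
  have hpn : n₁ = n₃ + relCodim (Y.res (φ ⁻¹ᵁ U.1)).scheme (X.res U.1).scheme := by
    rw [rcφ]; omega
  -- the three specs
  have instf : IsClosedImmersion (liftOpen (Y.ptSubι (genericPoint Y.scheme))
      (traceIdx Y (genericPoint Y.scheme) (φ ⁻¹ᵁ U.1) hηV).1 (φ ⁻¹ᵁ U.1)
      (fun w hw => (mem_traceOpen Y (genericPoint Y.scheme) (φ ⁻¹ᵁ U.1) w).mpr hw)) :=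
    isClosedImmersion_liftOpen' (Y.ptSubι (genericPoint Y.scheme))
      (traceIdx Y (genericPoint Y.scheme) (φ ⁻¹ᵁ U.1) hηV).1 (φ ⁻¹ᵁ U.1)
      (mem_traceOpen Y (genericPoint Y.scheme) (φ ⁻¹ᵁ U.1))
  have instfp : IsProper (liftOpen (Y.ptSubι (genericPoint Y.scheme))
      (traceIdx Y (genericPoint Y.scheme) (φ ⁻¹ᵁ U.1) hηV).1 (φ ⁻¹ᵁ U.1)
      (fun w hw => (mem_traceOpen Y (genericPoint Y.scheme) (φ ⁻¹ᵁ U.1) w).mpr hw)) :=
    inferInstance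
  have hi3 : i₃ = i + 2 * relCodim ((Y.ptSub (genericPoint Y.scheme)).res
      (traceIdx Y (genericPoint Y.scheme) (φ ⁻¹ᵁ U.1) hηV).1).scheme
      (Y.res (φ ⁻¹ᵁ U.1)).scheme := by rw [rcf]; omega
  have hn3 : n₃ = n + relCodim ((Y.ptSub (genericPoint Y.scheme)).res
      (traceIdx Y (genericPoint Y.scheme) (φ ⁻¹ᵁ U.1) hηV).1).scheme
      (Y.res (φ ⁻¹ᵁ U.1)).scheme := by rw [rcf]; omega
  have specP' := @PreTheory.PushData.cpt_spec V _ R _ A T Y 0 P'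
    ⟨genericPoint Y.scheme, hη⟩ M i n i₃ n₃ h3 h3' ⟨φ ⁻¹ᵁ U.1, hVc, hVd⟩
    (traceIdx Y (genericPoint Y.scheme) (φ ⁻¹ᵁ U.1) hηV)
    (liftOpen (Y.ptSubι (genericPoint Y.scheme))
      (traceIdx Y (genericPoint Y.scheme) (φ ⁻¹ᵁ U.1) hηV).1 (φ ⁻¹ᵁ U.1)
      (fun w hw => (mem_traceOpen Y (genericPoint Y.scheme) (φ ⁻¹ᵁ U.1) w).mpr hw))
    instfp (liftOpen_ι _ _ _ _) hi3 hn3
  have specP'b := congrArg (fun ψ => ψ.hom b) specP'
  have hfLiff : ∀ z, z ∈ (traceIdx Y (genericPoint Y.scheme) (φ ⁻¹ᵁ U.1) hηV).1 ↔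
      (ptLift φ (genericPoint Y.scheme) w.1 L.maps_pt) z ∈ (traceIdx X w.1 U.1 hwU).1 := by
    intro z
    change φ ((Y.ptSubι (genericPoint Y.scheme)) z) ∈ U.1 ↔
      (X.ptSubι w.1) ((ptLift φ (genericPoint Y.scheme) w.1 L.maps_pt) z) ∈ U.1
    rw [ptLift_apply]
  have instL : IsProper (liftOpen (ptLift φ (genericPoint Y.scheme) w.1 L.maps_pt)
      (traceIdx Y (genericPoint Y.scheme) (φ ⁻¹ᵁ U.1) hηV).1 (traceIdx X w.1 U.1 hwU).1
      (fun z hz => (hfLiff z).mp hz)) := isProper_liftOpen_of_iff _ _ _ hfLiff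
  have hcompL : liftOpen (ptLift φ (genericPoint Y.scheme) w.1 L.maps_pt)
      (traceIdx Y (genericPoint Y.scheme) (φ ⁻¹ᵁ U.1) hηV).1 (traceIdx X w.1 U.1 hwU).1
      (fun z hz => (hfLiff z).mp hz) ≫ (traceIdx X w.1 U.1 hwU).1.ι ≫ X.ptSubι w.1 =
      (traceIdx Y (genericPoint Y.scheme) (φ ⁻¹ᵁ U.1) hηV).1.ι ≫
        Y.ptSubι (genericPoint Y.scheme) ≫ φ := by
    rw [liftOpen_ι_assoc, ptLift_ι]
  have hiL : i = i + 2 * relCodim ((Y.ptSub (genericPoint Y.scheme)).res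
      (traceIdx Y (genericPoint Y.scheme) (φ ⁻¹ᵁ U.1) hηV).1).scheme
      ((X.ptSub w.1).res (traceIdx X w.1 U.1 hwU).1).scheme := by rw [rcL]; ring
  have hnL : n = n + relCodim ((Y.ptSub (genericPoint Y.scheme)).res
      (traceIdx Y (genericPoint Y.scheme) (φ ⁻¹ᵁ U.1) hηV).1).scheme
      ((X.ptSub w.1).res (traceIdx X w.1 U.1 hwU).1).scheme := by rw [rcL]; ring
  have specL := @PreTheory.PtPush.cpt_spec V _ R _ A T Y X φ (genericPoint Y.scheme) w.1 L M i n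
    (traceIdx Y (genericPoint Y.scheme) (φ ⁻¹ᵁ U.1) hηV) (traceIdx X w.1 U.1 hwU)
    (liftOpen (ptLift φ (genericPoint Y.scheme) w.1 L.maps_pt)
      (traceIdx Y (genericPoint Y.scheme) (φ ⁻¹ᵁ U.1) hηV).1 (traceIdx X w.1 U.1 hwU).1
      (fun z hz => (hfLiff z).mp hz))
    instL hcompL hiL hnL
  have specLb := congrArg (fun ψ => ψ.hom b) specL
  -- the map for `P`
  have instg : IsClosedImmersion (liftOpen (X.ptSubι w.1) (traceIdx X w.1 U.1 hwU).1 U.1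
      (fun z hz => (mem_traceOpen X w.1 U.1 z).mpr hz)) :=
    isClosedImmersion_liftOpen' (X.ptSubι w.1) (traceIdx X w.1 U.1 hwU).1 U.1 (mem_traceOpen X w.1 U.1)
  have instgp : IsProper (liftOpen (X.ptSubι w.1) (traceIdx X w.1 U.1 hwU).1 U.1
      (fun z hz => (mem_traceOpen X w.1 U.1 z).mpr hz)) := inferInstance
  have hig : i₁ = i + 2 * relCodim ((X.ptSub w.1).res (traceIdx X w.1 U.1 hwU).1).scheme
      (X.res U.1).scheme := by rw [rcg]; exact h1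
  have hng : n₁ = n + relCodim ((X.ptSub w.1).res (traceIdx X w.1 U.1 hwU).1).scheme
      (X.res U.1).scheme := by rw [rcg]; exact h1'
  have specP := @PreTheory.PushData.cpt_spec V _ R _ A T X q P w M i n i₁ n₁ h1 h1' U
    (traceIdx X w.1 U.1 hwU)
    (liftOpen (X.ptSubι w.1) (traceIdx X w.1 U.1 hwU).1 U.1
      (fun z hz => (mem_traceOpen X w.1 U.1 z).mpr hz))
    instgp (liftOpen_ι _ _ _ _) hig hng
  have hit : i₁ = i + 2 * relCodim ((Y.ptSub (genericPoint Y.scheme)).res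
      (traceIdx Y (genericPoint Y.scheme) (φ ⁻¹ᵁ U.1) hηV).1).scheme (X.res U.1).scheme := by
    rw [rct]; exact h1
  have hnt : n₁ = n + relCodim ((Y.ptSub (genericPoint Y.scheme)).res
      (traceIdx Y (genericPoint Y.scheme) (φ ⁻¹ᵁ U.1) hηV).1).scheme (X.res U.1).scheme := by
    rw [rct]; exact h1'
  have hcomp : liftOpen (ptLift φ (genericPoint Y.scheme) w.1 L.maps_pt)
      (traceIdx Y (genericPoint Y.scheme) (φ ⁻¹ᵁ U.1) hηV).1 (traceIdx X w.1 U.1 hwU).1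
      (fun z hz => (hfLiff z).mp hz) ≫
      liftOpen (X.ptSubι w.1) (traceIdx X w.1 U.1 hwU).1 U.1
        (fun z hz => (mem_traceOpen X w.1 U.1 z).mpr hz) =
      liftOpen (Y.ptSubι (genericPoint Y.scheme))
        (traceIdx Y (genericPoint Y.scheme) (φ ⁻¹ᵁ U.1) hηV).1 (φ ⁻¹ᵁ U.1)
        (fun w hw => (mem_traceOpen Y (genericPoint Y.scheme) (φ ⁻¹ᵁ U.1) w).mpr hw) ≫
      liftOpen φ (φ ⁻¹ᵁ U.1) U.1 (map_mem_of_mem_preimage φ U.1) := by
    rw [← cancel_mono U.1.ι]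
    simp only [Category.assoc, liftOpen_ι]
    rw [liftOpen_ι_assoc, liftOpen_ι_assoc, ptLift_ι]
  have hpc1 := T.push_comp
    (X := (Y.ptSub (genericPoint Y.scheme)).res
      (traceIdx Y (genericPoint Y.scheme) (φ ⁻¹ᵁ U.1) hηV).1)
    (Y := (X.ptSub w.1).res (traceIdx X w.1 U.1 hwU).1) (Z := X.res U.1)
    (liftOpen (ptLift φ (genericPoint Y.scheme) w.1 L.maps_pt)
      (traceIdx Y (genericPoint Y.scheme) (φ ⁻¹ᵁ U.1) hηV).1 (traceIdx X w.1 U.1 hwU).1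
      (fun z hz => (hfLiff z).mp hz))
    (liftOpen (X.ptSubι w.1) (traceIdx X w.1 U.1 hwU).1 U.1
      (fun z hz => (mem_traceOpen X w.1 U.1 z).mpr hz))
    M i n i n i₁ n₁ hiL hnL hig hng hit hnt
  have hpc2 := T.push_comp
    (X := (Y.ptSub (genericPoint Y.scheme)).res
      (traceIdx Y (genericPoint Y.scheme) (φ ⁻¹ᵁ U.1) hηV).1)
    (Y := Y.res (φ ⁻¹ᵁ U.1)) (Z := X.res U.1)
    (liftOpen (Y.ptSubι (genericPoint Y.scheme))
      (traceIdx Y (genericPoint Y.scheme) (φ ⁻¹ᵁ U.1) hηV).1 (φ ⁻¹ᵁ U.1)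
      (fun w hw => (mem_traceOpen Y (genericPoint Y.scheme) (φ ⁻¹ᵁ U.1) w).mpr hw))
    (liftOpen φ (φ ⁻¹ᵁ U.1) U.1 (map_mem_of_mem_preimage φ U.1))
    M i n i₃ n₃ i₁ n₁ hi3 hn3 hpi hpn hit hnt
  have hpush := (hpc1.trans (push_congr T hcomp M i n i₁ n₁ hit hnt)).trans hpc2.symm
  have hpushb := congrArg (fun ψ => ψ.hom b) hpush
  refine ⟨U, hVc, hVd, hpi, hpn, (T.push (liftOpen (Y.ptSubι (genericPoint Y.scheme))
      (traceIdx Y (genericPoint Y.scheme) (φ ⁻¹ᵁ U.1) hηV).1 (φ ⁻¹ᵁ U.1)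
      (fun w hw => (mem_traceOpen Y (genericPoint Y.scheme) (φ ⁻¹ᵁ U.1) w).mpr hw))
      M i n i₃ n₃ hi3 hn3).hom b, ?_, ?_⟩
  · rw [← h7']
    refine (congrArg (fun t => (P.cpt w M i n i₁ n₁ h1 h1').hom t) specLb).trans ?_
    refine (congrArg (fun ψ => ψ.hom ((T.push (liftOpen (ptLift φ (genericPoint Y.scheme) w.1
      L.maps_pt) (traceIdx Y (genericPoint Y.scheme) (φ ⁻¹ᵁ U.1) hηV).1 (traceIdx X w.1 U.1 hwU).1
      (fun z hz => (hfLiff z).mp hz)) M i n i n hiL hnL).hom b)) specP).trans ?_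
    exact congrArg (fun t => ((T.fjι X q i₁ n₁ U).app M).hom t) hpushb
  · rw [← h7']
    exact specP'b

end FinRed

end Groth.Agent.Lib.Helper47.BMUniq
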