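import Groth.Agent.Lib.Helper47.BMFamTot

set_option autoImplicit false
universe u

namespace Groth.Agent.Lib.Helper47.BMUniq

open TopologicalSpace Topology Order AlgebraicGeometry CategoryTheory BMCoh Opposite
open CategoryTheory.Limits DirectSum

section Final

variable {V : ObjectProperty Scheme.{u}} [IsConstructible V] {R : Type u} [CommRing R]
  {A : Coefs R} (T : PreTheory V R A)

/-- the residue at a point with no point over it of a pushed-forward class vanishes -/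
theorem cpt_push_eq_zero {Y X : Obj V} (φ : Y.scheme ⟶ X.scheme) [IsProper φ] (q : ℕ)
    (x : X.cdPt (q + 1)) (Q : T.ResData X q)
    (N : X.scheme.Opens) (hxN : x.1 ∈ N)
    (U₁ : Idx X (ContainsFj X q)) (hU₁N : U₁.1 ≤ N)
    (hback : ∀ p : Y.scheme, φ p ∈ N → φ p ∈ U₁.1)
    (hV₁d : WeilCoh.dim ((φ ⁻¹ᵁ U₁.1 : Y.scheme.Opens) : Scheme.{u}) = WeilCoh.dim Y.scheme)
    (M : A.Cat) (i n i₁ n₁ i₂ n₂ : ℤ)
    (h2 : i₂ = i₁ + 1 - 2 * ((q : ℤ) + 1)) (h2' : n₂ = n₁ - ((q : ℤ) + 1))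
    (hpi : i₁ = i + 2 * relCodim (Y.res (φ ⁻¹ᵁ U₁.1)).scheme (X.res U₁.1).scheme)
    (hpn : n₁ = n + relCodim (Y.res (φ ⁻¹ᵁ U₁.1)).scheme (X.res U₁.1).scheme)
    (a : T.gp (Y.res (φ ⁻¹ᵁ U₁.1)) M i n) :
    (Q.cpt x M i₁ n₁ i₂ n₂ h2 h2').hom (((T.fjι X q i₁ n₁ U₁).app M).hom
      ((T.push (X := Y.res (φ ⁻¹ᵁ U₁.1)) (Y := X.res U₁.1)
        (liftOpen φ (φ ⁻¹ᵁ U₁.1) U₁.1 (map_mem_of_mem_preimage φ U₁.1)) M i n i₁ n₁
        hpi hpn).hom a)) = 0 := by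
  have hNc : ContainsFj X q N := fun p hp => hU₁N (U₁.2.1 p hp)
  have hNd : WeilCoh.dim (N : Scheme.{u}) = WeilCoh.dim X.scheme :=
    dim_eq_of_containsFj' X q N hNc
  have hle1 : φ ⁻¹ᵁ U₁.1 ≤ φ ⁻¹ᵁ N := preimage_le_preimage φ hU₁N
  have hle2 : φ ⁻¹ᵁ N ≤ φ ⁻¹ᵁ U₁.1 := fun p hp => hback p hp
  have hVNd : WeilCoh.dim ((φ ⁻¹ᵁ N : Y.scheme.Opens) : Scheme.{u}) = WeilCoh.dim Y.scheme := by
    have h : φ ⁻¹ᵁ N = φ ⁻¹ᵁ U₁.1 := le_antisymm hle2 hle1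
    rw [h]
    exact hV₁d
  obtain ⟨aN, haN⟩ : ∃ aN, aN = (rs T Y hle2 (hVNd.trans hV₁d.symm) M i n).hom a := ⟨_, rfl⟩
  have e1 : a = (rs T Y hle1 (hV₁d.trans hVNd.symm) M i n).hom aN := by
    rw [haN]
    exact ((rs_rs_apply T Y hle1 hle2 (hV₁d.trans hVNd.symm) (hVNd.trans hV₁d.symm) M i n a).trans
      (congrArg (fun ψ => ψ.hom a) (rs_refl T Y (φ ⁻¹ᵁ U₁.1) M i n))).symm
  have hdVN : WeilCoh.dim (Y.res (φ ⁻¹ᵁ N)).scheme = WeilCoh.dim Y.scheme := hVNd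
  have hdN : WeilCoh.dim (X.res N).scheme = WeilCoh.dim X.scheme := hNd
  have hdV₁ : WeilCoh.dim (Y.res (φ ⁻¹ᵁ U₁.1)).scheme = WeilCoh.dim Y.scheme := hV₁d
  have hdU₁ : WeilCoh.dim (X.res U₁.1).scheme = WeilCoh.dim X.scheme := U₁.2.2
  have hrc : relCodim (Y.res (φ ⁻¹ᵁ N)).scheme (X.res N).scheme =
      relCodim (Y.res (φ ⁻¹ᵁ U₁.1)).scheme (X.res U₁.1).scheme := by
    unfold relCodim
    rw [hdVN, hdN, hdV₁, hdU₁]
  have hpiN : i₁ = i + 2 * relCodim (Y.res (φ ⁻¹ᵁ N)).scheme (X.res N).scheme := by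
    rw [hrc]; exact hpi
  have hpnN : n₁ = n + relCodim (Y.res (φ ⁻¹ᵁ N)).scheme (X.res N).scheme := by
    rw [hrc]; exact hpn
  have hbc := T.push_pull (X := Y.res (φ ⁻¹ᵁ N)) (Y := X.res N)
    (X' := Y.res (φ ⁻¹ᵁ U₁.1)) (Y' := X.res U₁.1)
    (liftOpen φ (φ ⁻¹ᵁ N) N (map_mem_of_mem_preimage φ N))
    (liftOpen φ (φ ⁻¹ᵁ U₁.1) U₁.1 (map_mem_of_mem_preimage φ U₁.1))
    (X.resLE hU₁N (U₁.2.2.trans hNd.symm)) (Y.resLE hle1 (hV₁d.trans hVNd.symm))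
    (isPullback_liftOpen_preimage φ hU₁N) M i n i₁ n₁ hpiN hpnN hpi hpn
  have hbc' := congrArg (fun ψ => ψ.hom aN) hbc
  have e2 : (T.push (X := Y.res (φ ⁻¹ᵁ U₁.1)) (Y := X.res U₁.1)
      (liftOpen φ (φ ⁻¹ᵁ U₁.1) U₁.1 (map_mem_of_mem_preimage φ U₁.1)) M i n i₁ n₁
      hpi hpn).hom a =
      (rs T X hU₁N (U₁.2.2.trans hNd.symm) M i₁ n₁).hom
        ((T.push (X := Y.res (φ ⁻¹ᵁ N)) (Y := X.res N)
          (liftOpen φ (φ ⁻¹ᵁ N) N (map_mem_of_mem_preimage φ N)) M i n i₁ n₁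
          hpiN hpnN).hom aN) :=
    (congrArg (fun t => (T.push (X := Y.res (φ ⁻¹ᵁ U₁.1)) (Y := X.res U₁.1)
      (liftOpen φ (φ ⁻¹ᵁ U₁.1) U₁.1 (map_mem_of_mem_preimage φ U₁.1)) M i n i₁ n₁
      hpi hpn).hom t) e1).trans hbc'.symm
  have h7 := congrArg (fun ψ => ψ.hom ((T.push (X := Y.res (φ ⁻¹ᵁ N)) (Y := X.res N)
      (liftOpen φ (φ ⁻¹ᵁ N) N (map_mem_of_mem_preimage φ N)) M i n i₁ n₁ hpiN hpnN).hom aN))
    (ocolimι_rs T X (ContainsFj X q) i₁ n₁ M (U' := U₁) (U := ⟨N, hNc, hNd⟩) hU₁N)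
  rw [e2]
  refine (congrArg (fun t => (Q.cpt x M i₁ n₁ i₂ n₂ h2 h2').hom t) h7).trans ?_
  exact cpt_fjι_eq_zero_of_mem T X q Q M i₁ n₁ i₂ n₂ h2 h2' x ⟨N, hNc, hNd⟩ hxN _

/-- an open of an integral object containing the generic point contains `F_0` -/
lemma containsFj_zero_of_mem (Y : Obj V) [IsIntegral Y.scheme]
    (hη : WeilCoh.codim Y.scheme (genericPoint Y.scheme) = 0) (O : Y.scheme.Opens)
    (hO : genericPoint Y.scheme ∈ O) : ContainsFj Y 0 O := by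
  have hpη : WeilCoh.pdim Y.scheme (genericPoint Y.scheme) + 0 = WeilCoh.dim Y.scheme :=
    pdim_cdPt Y 0 ⟨genericPoint Y.scheme, hη⟩
  intro p hp
  have hpcl : p ∈ closure ({genericPoint Y.scheme} : Set Y.scheme) := by
    rw [(genericPoint_spec Y.scheme).def]
    trivial
  have h1 := pdim_le_dim Y p
  have hpeq : p = genericPoint Y.scheme := by
    apply eq_of_mem_closure_of_pdim_le Y hpcl
    unfold WeilCoh.codim at hp
    omega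
  rw [hpeq]
  exact hO

/-- the total residue of the push-forward of a class from the generic point of an integral
object mapping properly and generically finitely onto the closure of a point -/
theorem resTot_push_eq_famTot
    (hred : ∀ (S : Obj V) (D D'' : Decomp S) (gU : D''.U ⟶ D.U)
      (k : D''.Z.scheme ⟶ D.Z.scheme) [IsClosedImmersion k] [AlgebraicGeometry.Surjective k],
      gU ≫ D.j = D''.j → k ≫ D.i = D''.i →
      ∀ (M : A.Cat) (i n i' n' : ℤ) (hi : i' = i + 1 - 2 * D.codim) (hn : n' = n - D.codim)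
        (hi'' : i' = i + 1 - 2 * D''.codim) (hn'' : n' = n - D''.codim)
        (hk : i' = i' + 2 * relCodim D''.Z.scheme D.Z.scheme)
        (hk' : n' = n' + relCodim D''.Z.scheme D.Z.scheme),
      T.pull gU M i n ≫ T.res D'' M i n i' n' hi'' hn'' ≫ T.push k M i' n' i' n' hk hk' =
        T.res D M i n i' n' hi hn)
    {Y X : Obj V} [IsIntegral Y.scheme] (φ : Y.scheme ⟶ X.scheme) [IsProper φ] (q : ℕ)
    (w : X.cdPt q) (hη : WeilCoh.codim Y.scheme (genericPoint Y.scheme) = 0)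
    (P : T.PushData X q) (Q : T.ResData X q) (L : T.PtPush φ (genericPoint Y.scheme) w.1)
    (P' : T.PushData Y 0) (Q' : T.ResData Y 0) (t : Y.cdPt 1 → X.cdPt (q + 1))
    (F : ∀ y : Y.cdPt 1, T.PtPush φ y.1 (t y).1)
    (M : A.Cat) (i n i₁ n₁ i₂ n₂ i₃ n₃ : ℤ)
    (h1 : i₁ = i + 2 * (q : ℤ)) (h1' : n₁ = n + (q : ℤ))
    (h2 : i₂ = i₁ + 1 - 2 * ((q : ℤ) + 1)) (h2' : n₂ = n₁ - ((q : ℤ) + 1))
    (h3 : i₃ = i + 2 * ((0 : ℕ) : ℤ)) (h3' : n₃ = n + ((0 : ℕ) : ℤ))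
    (h4 : i₂ = i₃ + 1 - 2 * (((0 : ℕ) : ℤ) + 1)) (h4' : n₂ = n₃ - (((0 : ℕ) : ℤ) + 1))
    (a : T.ptGp Y (genericPoint Y.scheme) M i n) :
    (Q.tot M i₁ n₁ i₂ n₂ h2 h2').hom ((P.cpt w M i n i₁ n₁ h1 h1').hom ((L.cpt M i n).hom a)) =
      (BMCoh.PreTheory.PtPush.famTot t F M i₂ n₂).hom
        ((Q'.tot M i₃ n₃ i₂ n₂ h4 h4').hom
          ((P'.cpt ⟨genericPoint Y.scheme, hη⟩ M i n i₃ n₃ h3 h3').hom a)) := by
  classical
  -- dimensions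
  have hpη : WeilCoh.pdim Y.scheme (genericPoint Y.scheme) + 0 = WeilCoh.dim Y.scheme :=
    pdim_cdPt Y 0 ⟨genericPoint Y.scheme, hη⟩
  have hpw := pdim_cdPt X q w
  have hLd : WeilCoh.pdim Y.scheme (genericPoint Y.scheme) = WeilCoh.pdim X.scheme w.1 := by
    have h := L.codim_eq
    unfold relCodim at h
    rw [dim_ptSub, dim_ptSub] at h
    omega
  have hdim : WeilCoh.dim Y.scheme + q = WeilCoh.dim X.scheme := by omega
  obtain ⟨U, hVc, hVd, hpi, hpn, a', hα, hα'⟩ :=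
    reduce_rep T φ q w hη P L P' M i n i₁ n₁ i₃ n₃ h1 h1' h3 h3' a
  rw [hα, hα']
  refine DFinsupp.ext fun x => ?_
  have hpx := pdim_cdPt X (q + 1) x
  have hdimY : WeilCoh.dim Y.scheme = WeilCoh.pdim X.scheme x.1 + 1 := by omega
  have hφη : φ (genericPoint Y.scheme) = w.1 := L.maps_pt
  have hH : ∀ p : Y.scheme, φ p ∈ closure ({x.1} : Set X.scheme) →
      WeilCoh.pdim Y.scheme p ≤ WeilCoh.pdim X.scheme x.1 := by
    intro p hp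
    have hpcl : p ∈ closure ({genericPoint Y.scheme} : Set Y.scheme) := by
      rw [(genericPoint_spec Y.scheme).def]
      trivial
    have hne : genericPoint Y.scheme ∉ closure ({p} : Set Y.scheme) := by
      intro hcl
      have hpeq : p = genericPoint Y.scheme :=
        ((specializes_iff_mem_closure.mpr hcl).antisymm
          (specializes_iff_mem_closure.mpr hpcl)).eq
      rw [hpeq, hφη] at hp
      have h0 := codim_le_of_mem_closure X hp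
      have h1 := w.2
      have h2 := x.2
      omega
    have h3 := pdim_lt_pdim Y hpcl hne
    omega
  have hU : ∀ τ : X.scheme, τ ∉ U.1 → x.1 ∈ closure ({τ} : Set X.scheme) → τ = x.1 := by
    intro τ hτ hcl
    have hcτ : q < WeilCoh.codim X.scheme τ := by
      by_contra h
      exact hτ (U.2.1 τ (by omega))
    have h2 := x.2
    exact (eq_of_mem_closure_of_codim_eq X hcl (by omega)).symm
  obtain ⟨N, S, hxN, hN1, hN2, hSiff, hfib, hsepN⟩ := exists_nhd_fibre φ x.1 hdimY hH U.1 hU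
  have hS' : ∀ y, y ∈ S ↔ t y = x := fun y => (hSiff y).trans
    ⟨fun h => Subtype.ext ((F y).maps_pt.symm.trans h),
      fun h => (F y).maps_pt.trans (congrArg Subtype.val h)⟩
  -- the small open
  obtain ⟨U₁, hU₁eq⟩ : ∃ U₁ : Idx X (ContainsFj X q), U₁.1 = smallOpen X x.1 U.1 :=
    ⟨⟨smallOpen X x.1 U.1, containsFj_smallOpen X q x U.1 U.2.1,
      dim_eq_of_containsFj' X q _ (containsFj_smallOpen X q x U.1 U.2.1)⟩, rfl⟩
  have hU₁ : ∀ p, p ∈ U₁.1 ↔ p ∈ N ∧ p ∉ closure ({x.1} : Set X.scheme) := by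
    intro p
    rw [hU₁eq]
    constructor
    · rintro ⟨hpU, hpcl⟩
      exact ⟨hN2 p hpU hpcl, hpcl⟩
    · rintro ⟨hpN, hpcl⟩
      refine ⟨?_, hpcl⟩
      by_contra hpU
      exact hpcl (hN1 p hpN hpU)
  have hU₁U : U₁.1 ≤ U.1 := by
    rw [hU₁eq]
    exact Set.sdiff_subset
  have hU₁N : U₁.1 ≤ N := fun p hp => ((hU₁ p).mp hp).1
  have hwU₁ : w.1 ∈ U₁.1 := U₁.2.1 w.1 (le_of_eq w.2)
  have hV₁c : ContainsFj Y 0 (φ ⁻¹ᵁ U₁.1) := by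
    apply containsFj_zero_of_mem Y hη
    apply mem_preimage_of_map_mem
    rw [hφη]
    exact hwU₁
  have hV₁d : WeilCoh.dim ((φ ⁻¹ᵁ U₁.1 : Y.scheme.Opens) : Scheme.{u}) = WeilCoh.dim Y.scheme :=
    dim_eq_of_containsFj' Y 0 _ hV₁c
  have hNd : WeilCoh.dim (N : Scheme.{u}) = WeilCoh.dim X.scheme :=
    dim_eq_of_containsFj' X q N (fun p hp => hU₁N (U₁.2.1 p hp))
  have hleV : φ ⁻¹ᵁ U₁.1 ≤ φ ⁻¹ᵁ U.1 := preimage_le_preimage φ hU₁U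
  obtain ⟨a₁, ha₁⟩ : ∃ a₁, a₁ = (rs T Y hleV (hV₁d.trans hVd.symm) M i₃ n₃).hom a' := ⟨_, rfl⟩
  have hR := congrArg (fun ψ => ψ.hom a') (ocolimι_rs T Y (ContainsFj Y 0) i₃ n₃ M
    (U' := ⟨φ ⁻¹ᵁ U₁.1, hV₁c, hV₁d⟩) (U := ⟨φ ⁻¹ᵁ U.1, hVc, hVd⟩) hleV)
  have hdV : WeilCoh.dim (Y.res (φ ⁻¹ᵁ U.1)).scheme = WeilCoh.dim Y.scheme := hVd
  have hdU : WeilCoh.dim (X.res U.1).scheme = WeilCoh.dim X.scheme := U.2.2
  have hdV₁ : WeilCoh.dim (Y.res (φ ⁻¹ᵁ U₁.1)).scheme = WeilCoh.dim Y.scheme := hV₁d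
  have hdU₁ : WeilCoh.dim (X.res U₁.1).scheme = WeilCoh.dim X.scheme := U₁.2.2
  have hrc : relCodim (Y.res (φ ⁻¹ᵁ U₁.1)).scheme (X.res U₁.1).scheme =
      relCodim (Y.res (φ ⁻¹ᵁ U.1)).scheme (X.res U.1).scheme := by
    unfold relCodim
    rw [hdV, hdU, hdV₁, hdU₁]
  have hpi₁ : i₁ = i₃ + 2 * relCodim (Y.res (φ ⁻¹ᵁ U₁.1)).scheme (X.res U₁.1).scheme := by
    rw [hrc]; exact hpi
  have hpn₁ : n₁ = n₃ + relCodim (Y.res (φ ⁻¹ᵁ U₁.1)).scheme (X.res U₁.1).scheme := by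
    rw [hrc]; exact hpn
  have hbc := T.push_pull (X := Y.res (φ ⁻¹ᵁ U.1)) (Y := X.res U.1)
    (X' := Y.res (φ ⁻¹ᵁ U₁.1)) (Y' := X.res U₁.1)
    (liftOpen φ (φ ⁻¹ᵁ U.1) U.1 (map_mem_of_mem_preimage φ U.1))
    (liftOpen φ (φ ⁻¹ᵁ U₁.1) U₁.1 (map_mem_of_mem_preimage φ U₁.1))
    (X.resLE hU₁U (U₁.2.2.trans U.2.2.symm)) (Y.resLE hleV (hV₁d.trans hVd.symm))
    (isPullback_liftOpen_preimage φ hU₁U) M i₃ n₃ i₁ n₁ hpi hpn hpi₁ hpn₁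
  have hbc' := congrArg (fun ψ => ψ.hom a') hbc
  have hLx := congrArg (fun ψ => ψ.hom ((T.push (X := Y.res (φ ⁻¹ᵁ U.1)) (Y := X.res U.1)
      (liftOpen φ (φ ⁻¹ᵁ U.1) U.1 (map_mem_of_mem_preimage φ U.1)) M i₃ n₃ i₁ n₁
      hpi hpn).hom a'))
    (ocolimι_rs T X (ContainsFj X q) i₁ n₁ M (U' := U₁) (U := U) hU₁U)
  have hLHS : ((Q.tot M i₁ n₁ i₂ n₂ h2 h2').hom (((T.fjι X q i₁ n₁ U).app M).hom
      ((T.push (X := Y.res (φ ⁻¹ᵁ U.1)) (Y := X.res U.1)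
        (liftOpen φ (φ ⁻¹ᵁ U.1) U.1 (map_mem_of_mem_preimage φ U.1)) M i₃ n₃ i₁ n₁
        hpi hpn).hom a'))) x =
      (Q.cpt x M i₁ n₁ i₂ n₂ h2 h2').hom (((T.fjι X q i₁ n₁ U₁).app M).hom
        ((T.push (X := Y.res (φ ⁻¹ᵁ U₁.1)) (Y := X.res U₁.1)
          (liftOpen φ (φ ⁻¹ᵁ U₁.1) U₁.1 (map_mem_of_mem_preimage φ U₁.1)) M i₃ n₃ i₁ n₁
          hpi₁ hpn₁).hom a₁)) := by
    change (Q.cpt x M i₁ n₁ i₂ n₂ h2 h2').hom _ = _
    refine congrArg (fun t => (Q.cpt x M i₁ n₁ i₂ n₂ h2 h2').hom t) ?_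
    refine hLx.symm.trans (congrArg (fun t => ((T.fjι X q i₁ n₁ U₁).app M).hom t) ?_)
    rw [ha₁]
    exact hbc'
  have hRHS := famTot_apply t F M i₂ n₂ x S hS'
    ((Q'.tot M i₃ n₃ i₂ n₂ h4 h4').hom (((T.fjι Y 0 i₃ n₃ ⟨φ ⁻¹ᵁ U.1, hVc, hVd⟩).app M).hom a'))
  refine hLHS.trans (Eq.trans ?_ hRHS.symm)
  by_cases hSne : S.Nonempty
  · have hcore := core_x T hred φ q hdim x Q Q' S hSne (fun y hy => (hSiff y).mp hy)
      (fun y hy => castPt ((hS' y).mp hy) (F y)) N hxN hNd U₁ hU₁ hfib hsepN hV₁c hV₁d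
      M i₃ n₃ i₁ n₁ i₂ n₂ h2 h2' h4 h4' hpi₁ hpn₁ a₁
    refine hcore.trans (Finset.sum_congr rfl fun k _ => ?_)
    refine congrArg (fun t => ((castPt ((hS' k.1).mp k.2) (F k.1)).cpt M i₂ n₂).hom t) ?_
    change _ = (Q'.cpt k.1 M i₃ n₃ i₂ n₂ h4 h4').hom _
    refine congrArg (fun t => (Q'.cpt k.1 M i₃ n₃ i₂ n₂ h4 h4').hom t) ?_
    rw [ha₁]
    exact hR
  · have hSe : S = ∅ := Finset.not_nonempty_iff_eq_empty.mp hSne
    have hback : ∀ p : Y.scheme, φ p ∈ N → φ p ∈ U₁.1 := by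
      intro p hp
      refine (hU₁ (φ p)).mpr ⟨hp, fun hcl => ?_⟩
      have hj := hfib p hp hcl
      rw [hSe] at hj
      obtain ⟨y, hy, -⟩ := (mem_jointC Y 1 ∅ p).mp hj
      exact absurd hy (Finset.notMem_empty y)
    have hz := cpt_push_eq_zero T φ q x Q N hxN U₁ hU₁N hback hV₁d M i₃ n₃ i₁ n₁ i₂ n₂ h2 h2'
      hpi₁ hpn₁ a₁
    rw [hz]
    refine (Finset.sum_eq_zero fun k _ => ?_).symm
    exact absurd k.2 (hSe ▸ Finset.notMem_empty k.1)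

end Final

end Groth.Agent.Lib.Helper47.BMUniq
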