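import Groth.Agent.Lib.Helper47.BMResExact

set_option autoImplicit false
universe u

namespace Groth.Agent.Lib.Helper47.BMUniq

open TopologicalSpace Topology Order AlgebraicGeometry CategoryTheory BMCoh Opposite
open CategoryTheory.Limits

section Pb

/-- The genuine cartesian square of restrictions of `g` to opens. -/
lemma isPullback_liftOpen {X Z : Scheme.{u}} (g : Z ⟶ X) {W' W : Z.Opens} (hW : W' ≤ W)
    {U' U : X.Opens} (hU : U' ≤ U) (h : ∀ w ∈ W, g w ∈ U) (h' : ∀ w ∈ W', g w ∈ U')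
    (hpb : ∀ z ∈ W, g z ∈ U' → z ∈ W') :
    IsPullback (Z.homOfLE hW) (liftOpen g W' U' h') (liftOpen g W U h) (X.homOfLE hU) := by
  have hsq : Z.homOfLE hW ≫ liftOpen g W U h = liftOpen g W' U' h' ≫ X.homOfLE hU := by
    rw [homOfLE_liftOpen, liftOpen_homOfLE]
  have hrange : ∀ s : PullbackCone (liftOpen g W U h) (X.homOfLE hU),
      Set.range s.fst ⊆ Set.range (Z.homOfLE hW) := by
    intro s
    rw [range_homOfLE]
    rintro _ ⟨t, rfl⟩
    apply hpb _ (ι_mem W _)
    rw [← liftOpen_apply g W U h]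
    have h1 := congrArg (fun φ : s.pt ⟶ (U : Scheme.{u}) => φ t) s.condition
    simp only [Scheme.Hom.comp_apply] at h1
    rw [h1]
    have h2 : U.ι (X.homOfLE hU (s.snd t)) = U'.ι (s.snd t) := by
      rw [← Scheme.Hom.comp_apply, X.homOfLE_ι]
    rw [h2]
    exact ι_mem U' _
  refine IsPullback.of_isLimit (c := PullbackCone.mk _ _ hsq)
    (PullbackCone.IsLimit.mk _ (fun s => IsOpenImmersion.lift (Z.homOfLE hW) s.fst (hrange s))
      (fun s => IsOpenImmersion.lift_fac _ _ _) (fun s => ?_)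
      (fun s m h1 _ => ?_))
  · rw [← cancel_mono (X.homOfLE hU), Category.assoc, ← hsq, ← Category.assoc,
      IsOpenImmersion.lift_fac, s.condition]
  · rw [← cancel_mono (Z.homOfLE hW), IsOpenImmersion.lift_fac, h1]

end Pb

section Gen

variable {V : ObjectProperty Scheme.{u}} [IsConstructible V]

/-- removing the part of the closure of `s` outside `W'` keeps `F_m` when `codim s = m` -/
lemma containsFj_inf_complOpen (X : Obj V) (m : ℕ) (s : X.scheme)
    (hs : WeilCoh.codim X.scheme s = m) (W' : ptIdx X s) (Up : X.scheme.Opens)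
    (hUp : ContainsFj X m Up) : ContainsFj X m (Up ⊓ complOpen (X.ptSubι s) W'.1) := by
  obtain ⟨ξ, hξ, hξW⟩ := exists_gen X s
  have hrange : ∀ z, (X.ptSubι s) z ∈ closure ({s} : Set X.scheme) := fun z => by
    rw [← range_ptSubι]; exact ⟨z, rfl⟩
  intro y hy
  refine ⟨hUp y hy, (mem_complOpen _ W'.1 y).mpr fun z hz => ?_⟩
  by_contra hzW
  have hys : y ∈ closure ({s} : Set X.scheme) := hz ▸ hrange z
  by_cases hsy : s ∈ closure ({y} : Set X.scheme)
  · have h2 : (X.ptSubι s) z ⤳ (X.ptSubι s) ξ := by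
      rw [hz, hξ]; exact specializes_iff_mem_closure.mpr hsy
    have h3 : z ⤳ ξ := (X.ptSubι s).isClosedEmbedding.isInducing.specializes_iff.mp h2
    exact hzW (h3.mem_open W'.1.2 (hξW W'.1 W'.2.1))
  · have := codim_lt_of_mem_closure X hys hsy
    omega

lemma not_mem_closure_of_mem_complOpen_compl (X : Obj V) (s : X.scheme)
    (W' : (X.ptSub s).scheme.Opens) (y : X.scheme)
    (hy : y ∉ closure ({s} : Set X.scheme)) : y ∈ complOpen (X.ptSubι s) W' := by
  refine (mem_complOpen _ W' y).mpr fun z hz => absurd ?_ hy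
  rw [← hz, ← range_ptSubι]
  exact ⟨z, rfl⟩

end Gen

end Groth.Agent.Lib.Helper47.BMUniq
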