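import Groth.Agent.Lib.Helper47.BMLift

set_option autoImplicit false
universe u

namespace Groth.Agent.Lib.Helper47.BMUniq

open TopologicalSpace Topology Order AlgebraicGeometry CategoryTheory BMCoh

section Sch

variable {V : ObjectProperty Scheme.{u}} [IsConstructible V]

lemma finDim (X : Obj V) : topologicalKrullDim X.scheme < ⊤ := IsConstructible.finiteDim X.mem

lemma finDim_opens (X : Obj V) (U : X.scheme.Opens) : topologicalKrullDim (U : Scheme.{u}) < ⊤ :=
  lt_of_le_of_lt U.ι.isOpenEmbedding.isInducing.topologicalKrullDim_le (finDim X)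

lemma range_ptSubι (X : Obj V) (x : X.scheme) :
    Set.range (X.ptSubι x) = closure ({x} : Set X.scheme) := by
  rw [Scheme.IdealSheafData.range_subschemeι, Scheme.IdealSheafData.coe_support_vanishingIdeal]
  rfl

/-- the reduced closure of a point is homeomorphic to the closure of the point -/
noncomputable def ptSubHomeo (X : Obj V) (x : X.scheme) :
    (X.ptSub x).scheme ≃ₜ ↥(closure ({x} : Set X.scheme)) :=
  ((X.ptSubι x).isClosedEmbedding.isEmbedding.toHomeomorph).trans
    (Homeomorph.setCongr (range_ptSubι X x))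

lemma dim_ptSub (X : Obj V) (x : X.scheme) :
    WeilCoh.dim (X.ptSub x).scheme = WeilCoh.pdim X.scheme x :=
  natDim_eq_of_homeomorph (ptSubHomeo X x)

lemma pdim_le_dim (X : Obj V) (x : X.scheme) : WeilCoh.pdim X.scheme x ≤ WeilCoh.dim X.scheme :=
  natDim_le_of_le (topologicalKrullDim_subspace_le _ _) (finDim X)

lemma pdim_lt_pdim (X : Obj V) {x y : X.scheme} (hy : y ∈ closure ({x} : Set X.scheme))
    (hne : x ∉ closure ({y} : Set X.scheme)) : WeilCoh.pdim X.scheme y < WeilCoh.pdim X.scheme x := by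
  refine natDim_lt_of_ssubset (A := closure ({y} : Set X.scheme)) (B := closure ({x} : Set X.scheme))
    (closure_minimal (Set.singleton_subset_iff.mpr hy) isClosed_closure) isClosed_closure
    isIrreducible_singleton.closure ?_ ⟨y, subset_closure rfl⟩
    (lt_of_le_of_lt (topologicalKrullDim_subspace_le _ _) (finDim X))
  intro h
  apply hne
  rw [h]
  exact subset_closure rfl

lemma exists_pdim_eq_dim (X : Obj V) [Nonempty X.scheme] :
    ∃ η : X.scheme, WeilCoh.pdim X.scheme η = WeilCoh.dim X.scheme :=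
  exists_natDim_closure_eq (finDim X)

/-- the generic point of the reduced closure of `x` -/
lemma exists_gen (X : Obj V) (x : X.scheme) : ∃ ξ : (X.ptSub x).scheme, (X.ptSubι x) ξ = x ∧
    ∀ W : (X.ptSub x).scheme.Opens, (W : Set (X.ptSub x).scheme).Nonempty → ξ ∈ W := by
  have hx : x ∈ Set.range (X.ptSubι x) := by rw [range_ptSubι]; exact subset_closure rfl
  obtain ⟨ξ, hξ⟩ := hx
  refine ⟨ξ, hξ, fun W ⟨w, hw⟩ => ?_⟩
  have h1 : (X.ptSubι x) w ∈ closure ({x} : Set X.scheme) := by
    rw [← range_ptSubι]; exact ⟨w, rfl⟩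
  have h2 : (X.ptSubι x) ξ ⤳ (X.ptSubι x) w := by
    rw [hξ]; exact specializes_iff_mem_closure.mpr h1
  have h3 : ξ ⤳ w := (X.ptSubι x).isClosedEmbedding.isInducing.specializes_iff.mp h2
  exact h3.mem_open W.2 hw

lemma irreducibleSpace_ptSub (X : Obj V) (x : X.scheme) : IrreducibleSpace (X.ptSub x).scheme := by
  obtain ⟨ξ, -, hξ⟩ := exists_gen X x
  have hd : closure ({ξ} : Set (X.ptSub x).scheme) = Set.univ := by
    rw [← dense_iff_closure_eq]
    exact dense_iff_inter_open.mpr fun U hU hne => ⟨ξ, hξ ⟨U, hU⟩ hne, rfl⟩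
  have h := (isIrreducible_singleton (x := ξ)).closure
  rw [hd] at h
  exact (irreducibleSpace_def _).mpr h

/-- The open `X ∖ (closure x ∖ W)`. -/
noncomputable def bigOpen (X : Obj V) (x : X.scheme) (W : (X.ptSub x).scheme.Opens) : X.scheme.Opens :=
  complOpen (X.ptSubι x) W

lemma containsFj_bigOpen (X : Obj V) (j : ℕ) (x : X.cdPt j) (W : (X.ptSub x.1).scheme.Opens)
    (hW : (W : Set (X.ptSub x.1).scheme).Nonempty) : ContainsFj X j (bigOpen X x.1 W) := by
  intro y hy
  by_contra hyU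
  have hyU' : ¬ ∀ z, (X.ptSubι x.1) z = y → z ∈ W := fun h => hyU ((mem_complOpen _ W y).mpr h)
  simp only [not_forall] at hyU'
  obtain ⟨z, hz, hzW⟩ := hyU'
  obtain ⟨ξ, hξ, hξW⟩ := exists_gen X x.1
  have hycl : y ∈ closure ({x.1} : Set X.scheme) := by
    rw [← range_ptSubι]; exact ⟨z, hz⟩
  have hx : x.1 ∉ closure ({y} : Set X.scheme) := by
    intro hxy
    have hcl : IsClosed ((X.ptSubι x.1) '' (W : Set (X.ptSub x.1).scheme)ᶜ) :=
      (X.ptSubι x.1).isClosedEmbedding.isClosedMap _ W.2.isClosed_compl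
    have hsub : closure ({y} : Set X.scheme) ⊆ (X.ptSubι x.1) '' (W : Set (X.ptSub x.1).scheme)ᶜ :=
      closure_minimal (Set.singleton_subset_iff.mpr ⟨z, hzW, hz⟩) hcl
    obtain ⟨z', hz'W, hz'⟩ := hsub hxy
    have : z' = ξ := (X.ptSubι x.1).isClosedEmbedding.injective (hz'.trans hξ.symm)
    exact hz'W (this ▸ hξW W hW)
  have hlt := pdim_lt_pdim X hycl hx
  have hxj : WeilCoh.codim X.scheme x.1 = j := x.2
  have hle := pdim_le_dim X x.1
  unfold WeilCoh.codim at hy hxj
  omega

/-- an open containing the points of codimension `0` has the dimension of the whole object -/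
lemma dim_eq_of_containsFj (X : Obj V) [Nonempty X.scheme] (j : ℕ) (U : X.scheme.Opens)
    (hU : ContainsFj X j U) : WeilCoh.dim (U : Scheme.{u}) = WeilCoh.dim X.scheme := by
  apply le_antisymm
  · exact natDim_le_of_isInducing U.ι.isOpenEmbedding.isInducing (finDim X)
  · obtain ⟨η, hη⟩ := exists_pdim_eq_dim X
    have hηU : η ∈ U := by
      apply hU
      unfold WeilCoh.codim
      omega
    obtain ⟨ξ, hξ, -⟩ := exists_gen X η
    let U' : (X.ptSub η).scheme.Opens := (X.ptSubι η) ⁻¹ᵁ U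
    have hξU' : ξ ∈ U' := by
      change (X.ptSubι η) ξ ∈ U
      rwa [hξ]
    have h1 : WeilCoh.dim (U' : Scheme.{u}) = WeilCoh.dim (X.ptSub η).scheme :=
      IsConstructible.dim_open (X.ptSub η).mem (irreducibleSpace_ptSub X η) U' ⟨ξ, hξU'⟩
    have h2 : WeilCoh.dim (U' : Scheme.{u}) ≤ WeilCoh.dim (U : Scheme.{u}) :=
      natDim_le_of_isInducing
        (isInducing_liftOpen (X.ptSubι η) U' U (fun w hw => hw)) (finDim_opens X U)
    rw [h1, dim_ptSub, hη] at h2
    exact h2

/-- The data needed to evaluate a push-forward datum on the image of `H(W)`. -/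
theorem exists_data (X : Obj V) (j : ℕ) (x : X.cdPt j) (W : ptIdx X x.1) :
    ∃ (U : Idx X (ContainsFj X j))
      (f : ((X.ptSub x.1).res W.1).scheme ⟶ (X.res U.1).scheme) (_ : IsProper f),
      f ≫ U.1.ι = W.1.ι ≫ X.ptSubι x.1 ∧
      relCodim ((X.ptSub x.1).res W.1).scheme (X.res U.1).scheme = (j : ℤ) := by
  have : Nonempty X.scheme := ⟨x.1⟩
  have hc := containsFj_bigOpen X j x W.1 W.2.1
  have hd := dim_eq_of_containsFj X j _ hc
  refine ⟨⟨bigOpen X x.1 W.1, hc, hd⟩,
    liftOpen (X.ptSubι x.1) W.1 _ (map_mem_complOpen (X.ptSubι x.1) W.1), ?_, ?_, ?_⟩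
  · have := isClosedImmersion_liftOpen (X.ptSubι x.1) W.1
    exact (inferInstance : IsProper (liftOpen (X.ptSubι x.1) W.1 (complOpen (X.ptSubι x.1) W.1)
      (map_mem_complOpen (X.ptSubι x.1) W.1)))
  · exact liftOpen_ι _ _ _ _
  · have h1 : WeilCoh.dim ((X.ptSub x.1).res W.1).scheme = WeilCoh.pdim X.scheme x.1 :=
      W.2.2.trans (dim_ptSub X x.1)
    have h2 : WeilCoh.dim (X.res (bigOpen X x.1 W.1)).scheme = WeilCoh.dim X.scheme := hd
    have hxj : WeilCoh.codim X.scheme x.1 = j := x.2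
    have hle := pdim_le_dim X x.1
    unfold relCodim
    rw [h1, h2]
    unfold WeilCoh.codim at hxj
    omega

end Sch

end Groth.Agent.Lib.Helper47.BMUniq
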