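import Groth.Agent.Lib.Helper47.BMInjStep

set_option autoImplicit false
universe u

namespace Groth.Agent.Lib.Helper47.BMUniq

open TopologicalSpace Topology Order AlgebraicGeometry CategoryTheory BMCoh Opposite
open CategoryTheory.Limits

section Inj2

variable {V : ObjectProperty Scheme.{u}} [IsConstructible V] {R : Type u} [CommRing R]
  {A : Coefs R} (T : PreTheory V R A)

theorem eq_zero_of_vanish (X : Obj V) (j : ℕ) (M : A.Cat)
    (isrc nsrc i₀ n : ℤ) (hi : i₀ + 1 = isrc + 2 * ((j + 1 : ℕ) : ℤ))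
    (hn : n = nsrc + ((j + 1 : ℕ) : ℤ))
    (hvan : ∀ x : X.scheme, WeilCoh.codim X.scheme x = j + 1 →
      IsZero (T.ptGp X x M isrc nsrc))
    (S : Finset X.scheme) :
    (∀ s ∈ S, j + 1 ≤ WeilCoh.codim X.scheme s) →
    ∀ (U : Idx X (ContainsFj X (j + 1))) (U₁ : Idx X (ContainsFj X j)) (hle : U₁.1 ≤ U.1)
      (a : T.gp (X.res U.1) M (i₀ + 1) n),
      (∀ y ∈ U.1, y ∉ U₁.1 → ∃ s ∈ S, y ∈ closure ({s} : Set X.scheme)) →
      (rs T X hle (U₁.2.2.trans U.2.2.symm) M (i₀ + 1) n).hom a = 0 →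
      ((T.fjι X (j + 1) (i₀ + 1) n U).app M).hom a = 0 := by
  classical
  induction S using Finset.induction_on with
  | empty =>
    intro _ U U₁ hle a hcov hzero
    have hUU : U.1 ≤ U₁.1 := fun y hy => by
      by_contra h
      obtain ⟨s, hs, _⟩ := hcov y hy h
      exact absurd hs (Finset.notMem_empty s)
    obtain ⟨U₁o, hU₁c, hU₁d⟩ := U₁
    obtain rfl : U₁o = U.1 := le_antisymm hle hUU
    have h0 : a = 0 :=
      (congrArg (fun φ => φ.hom a) (rs_refl T X U.1 M (i₀ + 1) n)).symm.trans hzero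
    rw [h0, map_zero]
  | insert s S' hsS' IH =>
    intro hS U U₁ hle a hcov hzero
    have IH' := IH (fun s' hs' => hS s' (Finset.mem_insert_of_mem hs'))
    by_cases h1 : ∃ s' ∈ S', s ∈ closure ({s'} : Set X.scheme)
    · obtain ⟨s₁, hs₁, hss₁⟩ := h1
      refine IH' U U₁ hle a (fun y hy hy1 => ?_) hzero
      obtain ⟨t, ht, hyt⟩ := hcov y hy hy1
      rcases Finset.mem_insert.mp ht with rfl | ht'
      · exact ⟨s₁, hs₁,
          closure_minimal (Set.singleton_subset_iff.mpr hss₁) isClosed_closure hyt⟩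
      · exact ⟨t, ht', hyt⟩
    by_cases h2 : s ∈ U.1
    swap
    · refine IH' U U₁ hle a (fun y hy hy1 => ?_) hzero
      obtain ⟨t, ht, hyt⟩ := hcov y hy hy1
      rcases Finset.mem_insert.mp ht with rfl | ht'
      · exact absurd ((specializes_iff_mem_closure.mpr hyt).mem_open U.1.2 hy) h2
      · exact ⟨t, ht', hyt⟩
    by_cases h3 : WeilCoh.codim X.scheme s = j + 1
    · exact step_case4_inj T X j M isrc nsrc i₀ n hi hn hvan S' s h3
        (fun s' hs' => hS s' (Finset.mem_insert_of_mem hs')) h1 IH' U U₁ hle a h2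
        (fun y hy hy1 => by
          obtain ⟨t, ht, hyt⟩ := hcov y hy hy1
          rcases Finset.mem_insert.mp ht with rfl | ht'
          · exact Or.inl hyt
          · exact Or.inr ⟨t, ht', hyt⟩) hzero
    · have hlt : j + 1 < WeilCoh.codim X.scheme s :=
        lt_of_le_of_ne (hS s (Finset.mem_insert_self s S')) (Ne.symm h3)
      have hc0 := containsFj_smallOpen' X (j + 1) s hlt U.1 U.2.1
      have hd0 := dim_eq_of_containsFj' X (j + 1) _ hc0
      have hc1 : ContainsFj X j (U₁.1 ⊓ smallOpen X s U.1) :=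
        containsFj_inf X j U₁.2.1 (containsFj_mono X (Nat.le_succ j) _ hc0)
      have hd1 := dim_eq_of_containsFj' X j _ hc1
      have hle0 : smallOpen X s U.1 ≤ U.1 := Set.sdiff_subset
      have hleft : U₁.1 ⊓ smallOpen X s U.1 ≤ U₁.1 := inf_le_left
      have h4 := IH' ⟨smallOpen X s U.1, hc0, hd0⟩ ⟨U₁.1 ⊓ smallOpen X s U.1, hc1, hd1⟩
        inf_le_right ((rs T X hle0 (hd0.trans U.2.2.symm) M (i₀ + 1) n).hom a)
        (fun y hy hy1 => by
          obtain ⟨t, ht, hyt⟩ := hcov y hy.1 (fun h => hy1 ⟨h, hy⟩)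
          rcases Finset.mem_insert.mp ht with rfl | ht'
          · exact absurd hyt hy.2
          · exact ⟨t, ht', hyt⟩)
        (by
          rw [rs_rs_apply, ← rs_rs_apply T X hleft hle (hd1.trans U₁.2.2.symm)
            (U₁.2.2.trans U.2.2.symm), hzero, map_zero])
      have h7 := congrArg (fun φ => φ.hom a)
        (ocolimι_rs T X (ContainsFj X (j + 1)) (i₀ + 1) n M
          (U' := ⟨smallOpen X s U.1, hc0, hd0⟩) (U := U) hle0)
      exact h7.symm.trans h4

/-- a finite set of generic points of the irreducible components of the complement of an open -/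
lemma exists_generic_finset (X : Obj V) (U : X.scheme.Opens) :
    ∃ S : Finset X.scheme, (∀ s ∈ S, s ∉ U) ∧
      ∀ y, y ∉ U → ∃ s ∈ S, y ∈ closure ({s} : Set X.scheme) := by
  classical
  by_cases hne : Nonempty X.scheme
  swap
  · exact ⟨∅, by simp, fun y _ => absurd ⟨y⟩ hne⟩
  have := noetherianSpace X
  obtain ⟨F, hFfin, hFcl, hFirr, hFU⟩ :=
    NoetherianSpace.exists_finite_set_isClosed_irreducible U.2.isClosed_compl
  choose! η hη using fun t (ht : t ∈ F) => QuasiSober.sober (hFirr t ht) (hFcl t ht)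
  refine ⟨hFfin.toFinset.image η, ?_, ?_⟩
  · intro s hs
    obtain ⟨t, ht, rfl⟩ := Finset.mem_image.mp hs
    have ht' : t ∈ F := hFfin.mem_toFinset.mp ht
    have hηt : η t ∈ t := by
      have h : η t ∈ closure ({η t} : Set X.scheme) := subset_closure rfl
      rwa [(hη t ht').def] at h
    exact (Set.ext_iff.mp hFU (η t)).mpr (Set.mem_sUnion.mpr ⟨t, ht', hηt⟩)
  · intro y hy1
    obtain ⟨t, ht, hyt⟩ := Set.mem_sUnion.mp ((Set.ext_iff.mp hFU y).mp hy1)
    exact ⟨η t, Finset.mem_image.mpr ⟨t, hFfin.mem_toFinset.mpr ht, rfl⟩,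
      by rw [(hη t ht).def]; exact hyt⟩

theorem fjRes_injective (X : Obj V) (j : ℕ) (M : A.Cat) (i n : ℤ)
    (h0 : ∀ x : X.scheme, WeilCoh.codim X.scheme x = j + 1 →
      IsZero (T.ptGp X x M (i - 2 * ((j : ℤ) + 1)) (n - ((j : ℤ) + 1)))) :
    Function.Injective ((T.fjRes X (Nat.le_succ j) i n).app M).hom := by
  obtain ⟨i₀, rfl⟩ : ∃ i₀, i = i₀ + 1 := ⟨i - 1, by ring⟩
  rw [injective_iff_map_eq_zero]
  intro β hβ
  obtain ⟨U, a, rfl⟩ := ocolim_exists_rep T X _ (i₀ + 1) n M β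
  have h1 := congrArg (fun φ => φ.hom a) (fjι_fjRes T X (Nat.le_succ j) (i₀ + 1) n M U)
  have h2 : ((T.fjι X j (i₀ + 1) n (idxDown X (Nat.le_succ j) U)).app M).hom a = 0 :=
    h1.symm.trans hβ
  obtain ⟨U₁, hle, hz⟩ := ocolim_eq_zero T X (ContainsFj X j) (i₀ + 1) n M
    (idxDown X (Nat.le_succ j) U) a h2
  obtain ⟨S, hSU, hScov⟩ := exists_generic_finset X U₁.1
  refine eq_zero_of_vanish T X j M (i₀ + 1 - 2 * ((j : ℤ) + 1)) (n - ((j : ℤ) + 1)) i₀ n
    (by push_cast; ring) (by push_cast; ring) h0 S ?_ U U₁ hle a (fun y _ hy1 => hScov y hy1) hz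
  intro s hs
  by_contra hlt
  exact hSU s hs (U₁.2.1 _ (by omega))

end Inj2

end Groth.Agent.Lib.Helper47.BMUniq
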