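import Groth.Agent.Lib.Helper47.BMGen

set_option autoImplicit false
universe u

namespace Groth.Agent.Lib.Helper47.BMUniq

open TopologicalSpace Topology Order AlgebraicGeometry CategoryTheory BMCoh Opposite
open CategoryTheory.Limits

section Inj

variable {V : ObjectProperty Scheme.{u}} [IsConstructible V] {R : Type u} [CommRing R]
  {A : Coefs R} (T : PreTheory V R A)

/-- The key step of injectivity of `H(F_{j+1}X) → H(F_jX)` under vanishing of the groups of the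
points of codimension `j + 1`. -/
theorem step_case4_inj (X : Obj V) (j : ℕ) (M : A.Cat)
    (isrc nsrc i₀ n : ℤ) (hi : i₀ + 1 = isrc + 2 * ((j + 1 : ℕ) : ℤ))
    (hn : n = nsrc + ((j + 1 : ℕ) : ℤ))
    (hvan : ∀ x : X.scheme, WeilCoh.codim X.scheme x = j + 1 →
      IsZero (T.ptGp X x M isrc nsrc))
    (S' : Finset X.scheme) (s : X.scheme) (hs : WeilCoh.codim X.scheme s = j + 1)
    (hS' : ∀ s' ∈ S', j + 1 ≤ WeilCoh.codim X.scheme s')
    (h1 : ¬ ∃ s' ∈ S', s ∈ closure ({s'} : Set X.scheme))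
    (IH : ∀ (U : Idx X (ContainsFj X (j + 1))) (U₁ : Idx X (ContainsFj X j)) (hle : U₁.1 ≤ U.1)
      (a : T.gp (X.res U.1) M (i₀ + 1) n),
      (∀ y ∈ U.1, y ∉ U₁.1 → ∃ s' ∈ S', y ∈ closure ({s'} : Set X.scheme)) →
      (rs T X hle (U₁.2.2.trans U.2.2.symm) M (i₀ + 1) n).hom a = 0 →
      ((T.fjι X (j + 1) (i₀ + 1) n U).app M).hom a = 0)
    (U : Idx X (ContainsFj X (j + 1))) (U₁ : Idx X (ContainsFj X j)) (hle : U₁.1 ≤ U.1)
    (a : T.gp (X.res U.1) M (i₀ + 1) n) (h2 : s ∈ U.1)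
    (hcov : ∀ y ∈ U.1, y ∉ U₁.1 → y ∈ closure ({s} : Set X.scheme) ∨
      ∃ s' ∈ S', y ∈ closure ({s'} : Set X.scheme))
    (hzero : (rs T X hle (U₁.2.2.trans U.2.2.symm) M (i₀ + 1) n).hom a = 0) :
    ((T.fjι X (j + 1) (i₀ + 1) n U).app M).hom a = 0 := by
  have hne : Nonempty X.scheme := ⟨s⟩
  have hCcl := isClosed_clUnion X S'
  have hsC : s ∉ clUnion X S' := fun h => h1 ((mem_clUnion X S' s).mp h)
  have hcodC : ∀ y ∈ clUnion X S', j + 1 ≤ WeilCoh.codim X.scheme y := by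
    intro y hy
    obtain ⟨s', hs', hys'⟩ := (mem_clUnion X S' y).mp hy
    exact (hS' s' hs').trans (codim_le_of_mem_closure X hys')
  let Y₁o := diffOpen X U.1 (clUnion X S') hCcl
  let O₁o := smallOpen X s Y₁o
  have hO₁c : ContainsFj X j O₁o := by
    intro y hy
    refine ⟨⟨U.2.1 y (hy.trans (Nat.le_succ j)), fun hyC => ?_⟩, fun hys => ?_⟩
    · have := hcodC y hyC
      omega
    · have := codim_le_of_mem_closure X hys
      omega
  have hO₁Y : O₁o ≤ Y₁o := Set.sdiff_subset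
  have hY₁U : Y₁o ≤ U.1 := Set.sdiff_subset
  have hY₁c : ContainsFj X j Y₁o := fun y hy => hO₁Y (hO₁c y hy)
  have hO₁d := dim_eq_of_containsFj X j _ hO₁c
  have hY₁d := dim_eq_of_containsFj X j _ hY₁c
  have hO₁U₁ : O₁o ≤ U₁.1 := by
    intro y hy
    by_contra hyU₁
    rcases hcov y hy.1.1 hyU₁ with h | h
    · exact hy.2 h
    · exact hy.1.2 ((mem_clUnion X S' y).mpr h)
  have hsY₁ : s ∈ Y₁o := ⟨h2, hsC⟩
  let W : ptIdx X s := traceIdx X s Y₁o hsY₁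
  have hW₁ : ∀ z, (X.ptSubι s) z ∈ Y₁o ↔ z ∈ W.1 := fun z => Iff.rfl
  let D₁ := mkDecomp X s Y₁o W.1 hW₁ O₁o hO₁Y
    (fun y hy => ⟨fun h => h.2, fun h => ⟨hy, h⟩⟩) (hO₁d.trans hY₁d.symm)
  have instD : IsClosedImmersion (X := ((X.ptSub s).res W.1).scheme) (Y := (X.res Y₁o).scheme)
      D₁.i := D₁.closedImm
  have hrc₁ : relCodim ((X.ptSub s).res W.1).scheme (X.res Y₁o).scheme = ((j + 1 : ℕ) : ℤ) := by
    rw [relCodim_trace X s Y₁o W hY₁d, hs]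
  have hi₁ : i₀ + 1 = isrc + 2 * relCodim ((X.ptSub s).res W.1).scheme (X.res Y₁o).scheme := by
    rw [hrc₁]; exact hi
  have hn₁ : n = nsrc + relCodim ((X.ptSub s).res W.1).scheme (X.res Y₁o).scheme := by
    rw [hrc₁]; exact hn
  have hdYU : WeilCoh.dim (Y₁o : Scheme.{u}) = WeilCoh.dim (U.1 : Scheme.{u}) :=
    hY₁d.trans U.2.2.symm
  have hdOY : WeilCoh.dim (O₁o : Scheme.{u}) = WeilCoh.dim (Y₁o : Scheme.{u}) :=
    hO₁d.trans hY₁d.symm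
  have hdOU₁ : WeilCoh.dim (O₁o : Scheme.{u}) = WeilCoh.dim (U₁.1 : Scheme.{u}) :=
    hO₁d.trans U₁.2.2.symm
  have hzO : (rs T X hO₁Y hdOY M (i₀ + 1) n).hom
      ((rs T X hY₁U hdYU M (i₀ + 1) n).hom a) = 0 := by
    rw [rs_rs_apply, ← rs_rs_apply T X hO₁U₁ hle hdOU₁ (U₁.2.2.trans U.2.2.symm), hzero, map_zero]
  obtain ⟨b, hb⟩ := ((T.exact_push_pull D₁ M i₀ n isrc nsrc hi₁ hn₁) _).mp hzO
  -- b dies on a smaller open of the closure of s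
  have hsub : Subsingleton (T.ptGp X s M isrc nsrc) :=
    ModuleCat.subsingleton_of_isZero (hvan s hs)
  have hptb : ((T.ptι X s isrc nsrc W).app M).hom b = 0 := Subsingleton.elim _ _
  obtain ⟨W', hW'le, hW'z⟩ := ocolim_eq_zero T (X.ptSub s)
    (fun U => (U : Set (X.ptSub s).scheme).Nonempty) isrc nsrc M W b hptb
  -- the shrunken opens
  have hU₃c := containsFj_inf_complOpen X (j + 1) s hs W' U.1 U.2.1
  have hU₃d := dim_eq_of_containsFj X (j + 1) _ hU₃c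
  let Y₃ : X.scheme.Opens := Y₁o ⊓ complOpen (X.ptSubι s) W'.1
  have hY₃c : ContainsFj X j Y₃ := fun y hy =>
    ⟨hO₁Y (hO₁c y hy), not_mem_closure_of_mem_complOpen_compl X s W'.1 y (hO₁c y hy).2⟩
  have hY₃d := dim_eq_of_containsFj X j _ hY₃c
  have hY₃Y₁ : Y₃ ≤ Y₁o := inf_le_left
  have hY₃U₃ : Y₃ ≤ U.1 ⊓ complOpen (X.ptSubι s) W'.1 := fun y hy => ⟨hY₁U hy.1, hy.2⟩
  have hU₃U : U.1 ⊓ complOpen (X.ptSubι s) W'.1 ≤ U.1 := inf_le_left
  have hW₃ : ∀ z, (X.ptSubι s) z ∈ Y₃ ↔ z ∈ W'.1 := by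
    intro z
    constructor
    · intro h
      exact (mem_complOpen _ W'.1 _).mp h.2 z rfl
    · intro hz
      exact ⟨hW'le hz, map_mem_complOpen _ W'.1 z hz⟩
  let f₃ : ((X.ptSub s).res W'.1).scheme ⟶ (X.res Y₃).scheme :=
    liftOpen (X.ptSubι s) W'.1 Y₃ (fun w hw => (hW₃ w).mpr hw)
  have instf : IsClosedImmersion f₃ := isClosedImmersion_liftOpen' (X.ptSubι s) W'.1 Y₃ hW₃
  have hrc₃ : relCodim ((X.ptSub s).res W'.1).scheme (X.res Y₃).scheme = ((j + 1 : ℕ) : ℤ) := by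
    rw [relCodim_trace X s Y₃ W' hY₃d, hs]
  have hi₃ : i₀ + 1 = isrc + 2 * relCodim ((X.ptSub s).res W'.1).scheme (X.res Y₃).scheme := by
    rw [hrc₃]; exact hi
  have hn₃ : n = nsrc + relCodim ((X.ptSub s).res W'.1).scheme (X.res Y₃).scheme := by
    rw [hrc₃]; exact hn
  have hpb : IsPullback ((X.ptSub s).scheme.homOfLE hW'le) f₃ D₁.i (X.scheme.homOfLE hY₃Y₁) :=
    isPullback_liftOpen (X.ptSubι s) hW'le hY₃Y₁ (fun w hw => (hW₁ w).mpr hw)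
      (fun w hw => (hW₃ w).mpr hw) (fun z _ hz => (hW₃ z).mp hz)
  have hbc := T.push_pull D₁.i f₃ (X.resLE hY₃Y₁ (hY₃d.trans hY₁d.symm))
    ((X.ptSub s).resLE hW'le (W'.2.2.trans W.2.2.symm)) hpb M isrc nsrc (i₀ + 1) n hi₁ hn₁ hi₃ hn₃
  have hbc' : (rs T X hY₃Y₁ (hY₃d.trans hY₁d.symm) M (i₀ + 1) n).hom
      ((T.push D₁.i M isrc nsrc (i₀ + 1) n hi₁ hn₁).hom b) = 0 := by
    have h := congrArg (fun φ => φ.hom b) hbc
    refine h.trans ?_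
    change (T.push f₃ M isrc nsrc (i₀ + 1) n hi₃ hn₃).hom
      ((rs T (X.ptSub s) hW'le (W'.2.2.trans W.2.2.symm) M isrc nsrc).hom b) = 0
    rw [hW'z, map_zero]
  -- apply the induction hypothesis
  have hIH := IH ⟨U.1 ⊓ complOpen (X.ptSubι s) W'.1, hU₃c, hU₃d⟩ ⟨Y₃, hY₃c, hY₃d⟩ hY₃U₃
    ((rs T X hU₃U (hU₃d.trans U.2.2.symm) M (i₀ + 1) n).hom a) (by
      intro y hy hyY
      by_contra hnot
      exact hyY ⟨⟨hy.1, fun hC => hnot ((mem_clUnion X S' y).mp hC)⟩, hy.2⟩) (by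
      rw [rs_rs_apply, ← rs_rs_apply T X hY₃Y₁ hY₁U (hY₃d.trans hY₁d.symm) hdYU, ← hb]
      exact hbc')
  have h7 := congrArg (fun φ => φ.hom a)
    (ocolimι_rs T X (ContainsFj X (j + 1)) (i₀ + 1) n M
      (U' := ⟨U.1 ⊓ complOpen (X.ptSubι s) W'.1, hU₃c, hU₃d⟩) (U := U) hU₃U)
  exact h7.symm.trans hIH

end Inj

end Groth.Agent.Lib.Helper47.BMUniq
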