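import Groth.Agent.Lib.Helper47.BMJointGeom

set_option autoImplicit false
universe u

namespace Groth.Agent.Lib.Helper47.BMUniq

open TopologicalSpace Topology Order AlgebraicGeometry CategoryTheory BMCoh Opposite
open CategoryTheory.Limits

section JointAdd

variable {V : ObjectProperty Scheme.{u}} [IsConstructible V] {R : Type u} [CommRing R]
  {A : Coefs R} (T : PreTheory V R A)

lemma push_congr {X' Y' : Obj V} {f f' : X'.scheme ⟶ Y'.scheme} [IsProper f] [IsProper f']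
    (h : f = f') (M : A.Cat) (i n i' n' : ℤ)
    (hi : i' = i + 2 * relCodim X'.scheme Y'.scheme) (hn : n' = n + relCodim X'.scheme Y'.scheme) :
    T.push f M i n i' n' hi hn = T.push f' M i n i' n' hi hn := by
  subst h
  rfl

variable (X : Obj V) (m : ℕ) (S : Finset (X.cdPt m)) (Y : X.scheme.Opens)
  (hsep : ∀ x ∈ S, ∀ x' ∈ S, x ≠ x' → ∀ y ∈ Y, y ∈ closure ({x.1} : Set X.scheme) →
    y ∉ closure ({x'.1} : Set X.scheme))
  (hSY : ∀ x ∈ S, x.1 ∈ Y)

/-- the isomorphism of objects `W_x ≅ Ω_x` -/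
noncomputable def pieceIso (x : X.cdPt m) (hx : x ∈ S) :
    (X.ptSub x.1).res (traceOpen X x.1 Y) ⟶ (jointSub X m S).res (jointΩ X m S Y x) :=
  haveI := isIso_pieceMap X m S Y hsep x hx
  homOfIso (pieceMap X m S Y hsep x hx)

lemma isIso_pieceIso (x : X.cdPt m) (hx : x ∈ S) : IsIso (pieceIso X m S Y hsep x hx) := by
  have := isIso_pieceMap X m S Y hsep x hx
  exact isIso_homOfIso (pieceMap X m S Y hsep x hx)

include hsep hSY in
lemma dim_Ω_eq_Z (x : X.cdPt m) (hx : x ∈ S) :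
    WeilCoh.dim (jointΩ X m S Y x : Scheme.{u}) = WeilCoh.dim (jointZ X m S Y : Scheme.{u}) :=
  (dim_jointΩ X m S Y hsep x hx (hSY x hx)).trans (dim_jointZ X m S Y hsep hSY x hx).symm

/-- `g_x : W_x ⟶ Z_Y` -/
noncomputable def pieceHom (x : X.cdPt m) (hx : x ∈ S) :
    (X.ptSub x.1).res (traceOpen X x.1 Y) ⟶ (jointSub X m S).res (jointZ X m S Y) :=
  pieceIso X m S Y hsep x hx ≫
    (jointSub X m S).resLE (jointΩ_le X m S Y x) (dim_Ω_eq_Z X m S Y hsep hSY x hx)

lemma pieceHom_hom (x : X.cdPt m) (hx : x ∈ S) :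
    (pieceHom X m S Y hsep hSY x hx).hom =
      liftOpen (jointIncl X m S x hx) (traceOpen X x.1 Y) (jointZ X m S Y)
        (fun w hw => jointΩ_le X m S Y x ((jointIncl_mem_Ω X m S Y hsep x hx w).mpr hw)) :=
  liftOpen_homOfLE (jointIncl X m S x hx) (traceOpen X x.1 Y) (jointΩ_le X m S Y x)
    (fun w hw => (jointIncl_mem_Ω X m S Y hsep x hx w).mpr hw)

instance isClosedImmersion_pieceHom (x : X.cdPt m) (hx : x ∈ S) :
    IsClosedImmersion (pieceHom X m S Y hsep hSY x hx).hom := by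
  rw [pieceHom_hom]
  refine isClosedImmersion_liftOpen' (jointIncl X m S x hx) (traceOpen X x.1 Y) (jointZ X m S Y)
    (fun w => ?_)
  change (jointι X m S) ((jointIncl X m S x hx) w) ∈ Y ↔ _
  rw [jointIncl_apply]
  rfl

include hsep hSY in
lemma relCodim_piece (x : X.cdPt m) (hx : x ∈ S) :
    relCodim ((X.ptSub x.1).res (traceOpen X x.1 Y)).scheme
      ((jointSub X m S).res (jointZ X m S Y)).scheme = 0 :=
  relCodim_eq_zero_of_dim_eq (pieceHom X m S Y hsep hSY x hx).dim_eq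

lemma pull_pieceHom (x : X.cdPt m) (hx : x ∈ S) (M : A.Cat) (i n : ℤ) :
    T.pull (pieceHom X m S Y hsep hSY x hx) M i n =
      rs T (jointSub X m S) (jointΩ_le X m S Y x) (dim_Ω_eq_Z X m S Y hsep hSY x hx) M i n ≫
        T.pull (pieceIso X m S Y hsep x hx) M i n :=
  pull_comp T _ _ M i n

theorem joint_eq_zero (M : A.Cat) (i n : ℤ)
    (c : T.gp ((jointSub X m S).res (jointZ X m S Y)) M i n)
    (hc : ∀ (x : X.cdPt m) (hx : x ∈ S),
      (T.pull (pieceHom X m S Y hsep hSY x hx) M i n).hom c = 0) : c = 0 := by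
  classical
  apply eq_zero_of_pieces T (jointSub X m S) M i n (κ := {x // x ∈ S})
    (fun k => jointΩ X m S Y k.1) Finset.univ (jointZ X m S Y)
    (fun k _ => jointΩ_le X m S Y k.1) (fun k _ => dim_Ω_eq_Z X m S Y hsep hSY k.1 k.2)
    (fun k _ l _ hkl y hy => jointΩ_disjoint X m S Y hsep k.1 k.2 l.1 l.2
      (fun e => hkl (Subtype.ext e)) y hy)
    (fun z hz => by
      obtain ⟨x, hx, hzx⟩ := jointΩ_cover X m S Y hsep z hz
      exact ⟨⟨x, hx⟩, Finset.mem_univ _, hzx⟩)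
  intro k _
  have h1 := hc k.1 k.2
  have h2 := pull_pieceHom T X m S Y hsep hSY k.1 k.2 M i n
  have := isIso_pieceIso X m S Y hsep k.1 k.2
  have h3 := (pull_bijective_of_isIso T (pieceIso X m S Y hsep k.1 k.2) M i n).1
  apply h3
  rw [map_zero]
  exact (congrArg (fun φ => φ.hom c) h2).symm.trans h1

theorem pull_push_piece_self (x : X.cdPt m) (hx : x ∈ S) (M : A.Cat) (i n : ℤ)
    (hi : i = i + 2 * relCodim ((X.ptSub x.1).res (traceOpen X x.1 Y)).scheme
      ((jointSub X m S).res (jointZ X m S Y)).scheme)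
    (hn : n = n + relCodim ((X.ptSub x.1).res (traceOpen X x.1 Y)).scheme
      ((jointSub X m S).res (jointZ X m S Y)).scheme)
    (b : T.gp ((X.ptSub x.1).res (traceOpen X x.1 Y)) M i n) :
    (T.pull (pieceHom X m S Y hsep hSY x hx) M i n).hom
      ((T.push (pieceHom X m S Y hsep hSY x hx).hom M i n i n hi hn).hom b) = b :=
  pull_push' T (pieceHom X m S Y hsep hSY x hx) M i n hi hn b

theorem pull_push_piece_ne (x : X.cdPt m) (hx : x ∈ S) (x' : X.cdPt m) (hx' : x' ∈ S)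
    (hne : x ≠ x') (M : A.Cat) (i n : ℤ)
    (hi : i = i + 2 * relCodim ((X.ptSub x.1).res (traceOpen X x.1 Y)).scheme
      ((jointSub X m S).res (jointZ X m S Y)).scheme)
    (hn : n = n + relCodim ((X.ptSub x.1).res (traceOpen X x.1 Y)).scheme
      ((jointSub X m S).res (jointZ X m S Y)).scheme)
    (b : T.gp ((X.ptSub x.1).res (traceOpen X x.1 Y)) M i n) :
    (T.pull (pieceHom X m S Y hsep hSY x' hx') M i n).hom
      ((T.push (pieceHom X m S Y hsep hSY x hx).hom M i n i n hi hn).hom b) = 0 := by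
  classical
  have hiso := isIso_pieceMap X m S Y hsep x hx
  have : IsIso (pieceIso X m S Y hsep x hx).hom := hiso
  let Ω : {x // x ∈ S} → (jointSub X m S).scheme.Opens := fun k => jointΩ X m S Y k.1
  have hle : ∀ k : {x // x ∈ S}, Ω k ≤ jointZ X m S Y := fun k => jointΩ_le X m S Y k.1
  have hd : ∀ k : {x // x ∈ S}, WeilCoh.dim (Ω k : Scheme.{u}) =
      WeilCoh.dim (jointZ X m S Y : Scheme.{u}) := fun k => dim_Ω_eq_Z X m S Y hsep hSY k.1 k.2
  have hdisj : ∀ k l : {x // x ∈ S}, k ≠ l → ∀ y, y ∈ Ω k → y ∉ Ω l :=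
    fun k l hkl y hy => jointΩ_disjoint X m S Y hsep k.1 k.2 l.1 l.2
      (fun e => hkl (Subtype.ext e)) y hy
  have hcov : ∀ y ∈ jointZ X m S Y, ∃ k : {x // x ∈ S}, y ∈ Ω k := fun z hz => by
    obtain ⟨x, hx, hzx⟩ := jointΩ_cover X m S Y hsep z hz
    exact ⟨⟨x, hx⟩, hzx⟩
  have hcl := isClosedImmersion_piece (jointSub X m S) Ω (jointZ X m S Y) hle hdisj hcov ⟨x, hx⟩
  have hrc1 : relCodim ((X.ptSub x.1).res (traceOpen X x.1 Y)).scheme
      ((jointSub X m S).res (jointΩ X m S Y x)).scheme = 0 :=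
    relCodim_eq_zero_of_dim_eq (pieceIso X m S Y hsep x hx).dim_eq
  have hrc2 : relCodim ((jointSub X m S).res (jointΩ X m S Y x)).scheme
      ((jointSub X m S).res (jointZ X m S Y)).scheme = 0 :=
    relCodim_eq_zero_of_dim_eq (dim_Ω_eq_Z X m S Y hsep hSY x hx)
  have : IsClosedImmersion ((jointSub X m S).scheme.homOfLE (jointΩ_le X m S Y x)) := hcl
  have hi1 : i = i + 2 * relCodim ((X.ptSub x.1).res (traceOpen X x.1 Y)).scheme
      ((jointSub X m S).res (jointΩ X m S Y x)).scheme := by rw [hrc1]; ring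
  have hn1 : n = n + relCodim ((X.ptSub x.1).res (traceOpen X x.1 Y)).scheme
      ((jointSub X m S).res (jointΩ X m S Y x)).scheme := by rw [hrc1]; ring
  have hcomp := T.push_comp (X := (X.ptSub x.1).res (traceOpen X x.1 Y))
    (Y := (jointSub X m S).res (jointΩ X m S Y x)) (Z := (jointSub X m S).res (jointZ X m S Y))
    (pieceIso X m S Y hsep x hx).hom
    ((jointSub X m S).scheme.homOfLE (jointΩ_le X m S Y x)) M i n i n i n
    hi1 hn1 (by rw [hrc2]; ring) (by rw [hrc2]; ring) hi hn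
  let b' := (T.push (pieceIso X m S Y hsep x hx).hom M i n i n hi1 hn1).hom b
  have h1 : (T.push (pieceHom X m S Y hsep hSY x hx).hom M i n i n hi hn).hom b =
      (pushLE T (jointSub X m S) (hle ⟨x, hx⟩) hcl (hd ⟨x, hx⟩) M i n).hom b' :=
    (congrArg (fun φ => φ.hom b) hcomp).symm
  rw [h1]
  have h2 := pull_pieceHom T X m S Y hsep hSY x' hx' M i n
  have h3 := rs_pushLE_ne T (jointSub X m S) Ω (jointZ X m S Y) hle hd hdisj hcov M i n
    ⟨x, hx⟩ ⟨x', hx'⟩ (fun e => hne (congrArg Subtype.val e)) hcl b'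
  have h4 := congrArg
    (fun φ => φ.hom ((pushLE T (jointSub X m S) (hle ⟨x, hx⟩) hcl (hd ⟨x, hx⟩) M i n).hom b')) h2
  refine h4.trans ?_
  change (T.pull (pieceIso X m S Y hsep x' hx') M i n).hom
    ((rs T (jointSub X m S) (hle ⟨x', hx'⟩) (hd ⟨x', hx'⟩) M i n).hom
      ((pushLE T (jointSub X m S) (hle ⟨x, hx⟩) hcl (hd ⟨x, hx⟩) M i n).hom b')) = 0
  rw [h3, map_zero]

theorem joint_sum (M : A.Cat) (i n : ℤ)
    (c : T.gp ((jointSub X m S).res (jointZ X m S Y)) M i n) :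
    c = ∑ k : {x // x ∈ S}, (T.push (pieceHom X m S Y hsep hSY k.1 k.2).hom M i n i n
        (by rw [relCodim_piece X m S Y hsep hSY k.1 k.2]; ring)
        (by rw [relCodim_piece X m S Y hsep hSY k.1 k.2]; ring)).hom
      ((T.pull (pieceHom X m S Y hsep hSY k.1 k.2) M i n).hom c) := by
  classical
  rw [← sub_eq_zero]
  apply joint_eq_zero T X m S Y hsep hSY M i n
  intro x hx
  rw [map_sub, map_sum, Finset.sum_eq_single (⟨x, hx⟩ : {x // x ∈ S})]
  · rw [pull_push_piece_self, sub_self]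
  · intro k _ hk
    exact pull_push_piece_ne T X m S Y hsep hSY k.1 k.2 x hx
      (fun e => hk (Subtype.ext e)) M i n _ _ _
  · intro h
    exact absurd (Finset.mem_univ _) h

end JointAdd

end Groth.Agent.Lib.Helper47.BMUniq
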