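import Groth.Agent.Lib.Helper47.BMJointAdd

set_option autoImplicit false
universe u

namespace Groth.Agent.Lib.Helper47.BMUniq

open TopologicalSpace Topology Order AlgebraicGeometry CategoryTheory BMCoh Opposite
open CategoryTheory.Limits

section JointDec

variable {V : ObjectProperty Scheme.{u}} [IsConstructible V] {R : Type u} [CommRing R]
  {A : Coefs R} (T : PreTheory V R A)

/-- The decomposition of an open `U` of `X` into the trace `W` of a closed subscheme and the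
complement `U₁`. -/
noncomputable abbrev mkDecompG (X : Obj V) (Zf : Obj V) (g : Zf.scheme ⟶ X.scheme)
    [IsClosedImmersion g] (U : X.scheme.Opens)
    (W : Zf.scheme.Opens) (hW : ∀ z, g z ∈ U ↔ z ∈ W)
    (U₁ : X.scheme.Opens) (hle : U₁ ≤ U)
    (hU₁ : ∀ y ∈ U, y ∈ U₁ ↔ y ∉ Set.range g)
    (hd : WeilCoh.dim (U₁ : Scheme.{u}) = WeilCoh.dim (U : Scheme.{u})) : Decomp (X.res U) :=
  { Z := Zf.res W
    U := X.res U₁
    i := liftOpen g W U (fun w hw => (hW w).mpr hw)
    closedImm := isClosedImmersion_liftOpen' g W U hW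
    j := X.resLE hle hd
    range_eq := by
      change Set.range (X.scheme.homOfLE hle) = _
      rw [range_homOfLE, range_liftOpen_of_preimage g W U hW]
      ext u
      exact hU₁ _ (ι_mem U u) }

variable (X : Obj V) (j : ℕ) (S : Finset (X.cdPt (j + 1))) (Y : Idx X (ContainsFj X (j + 1)))

/-- the open complement of the union of the closures -/
abbrev jointO : X.scheme.Opens := diffOpen X Y.1 (jointC X (j + 1) S) (isClosed_jointC X (j + 1) S)

lemma containsFj_jointO : ContainsFj X j (jointO X j S Y) := by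
  intro y hy
  refine ⟨Y.2.1 y (by omega), fun hC => ?_⟩
  obtain ⟨x, -, hyx⟩ := (mem_jointC X (j + 1) S y).mp hC
  have h1 := codim_le_of_mem_closure X hyx
  have h2 := x.2
  omega

/-- the complement as an index -/
noncomputable abbrev jointOIdx : Idx X (ContainsFj X j) :=
  ⟨jointO X j S Y, containsFj_jointO X j S Y,
    dim_eq_of_containsFj' X j _ (containsFj_jointO X j S Y)⟩

lemma hSY_of_idx : ∀ x ∈ S, x.1 ∈ Y.1 := fun x _ => Y.2.1 x.1 (le_of_eq x.2)

/-- the joint decomposition -/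
noncomputable abbrev jointD : Decomp (X.res Y.1) :=
  mkDecompG X (jointSub X (j + 1) S) (jointι X (j + 1) S) Y.1 (jointZ X (j + 1) S Y.1)
    (fun _ => Iff.rfl) (jointO X j S Y) Set.sdiff_subset
    (fun y hy => by
      rw [range_jointι]
      exact ⟨fun h => h.2, fun h => ⟨hy, h⟩⟩)
    ((jointOIdx X j S Y).2.2.trans Y.2.2.symm)

variable (hsep : ∀ x ∈ S, ∀ x' ∈ S, x ≠ x' → ∀ y ∈ Y.1, y ∈ closure ({x.1} : Set X.scheme) →
    y ∉ closure ({x'.1} : Set X.scheme))

lemma pieceHom_comp_i (x : X.cdPt (j + 1)) (hx : x ∈ S) :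
    (pieceHom X (j + 1) S Y.1 hsep (hSY_of_idx X j S Y) x hx).hom ≫ (jointD X j S Y).i =
      liftOpen (X.ptSubι x.1) (traceOpen X x.1 Y.1) Y.1
        (fun w hw => (mem_traceOpen X x.1 Y.1 w).mpr hw) := by
  rw [pieceHom_hom, ← cancel_mono Y.1.ι, Category.assoc, liftOpen_ι, liftOpen_ι]
  refine (liftOpen_ι_assoc (jointIncl X (j + 1) S x hx) (traceOpen X x.1 Y.1)
    (jointZ X (j + 1) S Y.1) _ (jointι X (j + 1) S)).trans
    (congrArg (fun t => (traceOpen X x.1 Y.1).ι ≫ t) (jointIncl_ι X (j + 1) S x hx))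

include hsep in
lemma relCodim_jointD (x₀ : X.cdPt (j + 1)) (hx₀ : x₀ ∈ S) :
    (jointD X j S Y).codim = ((j : ℤ) + 1) := by
  have h1 : WeilCoh.dim ((jointSub X (j + 1) S).res (jointZ X (j + 1) S Y.1)).scheme =
      WeilCoh.pdim X.scheme x₀.1 :=
    dim_jointZ X (j + 1) S Y.1 hsep (hSY_of_idx X j S Y) x₀ hx₀
  have h2 : WeilCoh.dim (X.res Y.1).scheme = WeilCoh.dim X.scheme := Y.2.2
  have h3 := pdim_cdPt X (j + 1) x₀
  change relCodim _ _ = _
  unfold relCodim
  rw [h1, h2]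
  omega

/-- the closed immersion `W_x → Y` -/
noncomputable abbrev traceMap (x : X.cdPt (j + 1)) :
    ((X.ptSub x.1).res (traceOpen X x.1 Y.1)).scheme ⟶ (X.res Y.1).scheme :=
  liftOpen (X.ptSubι x.1) (traceOpen X x.1 Y.1) Y.1
    (fun w hw => (mem_traceOpen X x.1 Y.1 w).mpr hw)

instance isClosedImmersion_traceMap (x : X.cdPt (j + 1)) :
    IsClosedImmersion (traceMap X j Y x) :=
  isClosedImmersion_liftOpen' (X.ptSubι x.1) (traceOpen X x.1 Y.1) Y.1 (mem_traceOpen X x.1 Y.1)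

lemma relCodim_traceMap (x : X.cdPt (j + 1)) :
    relCodim ((X.ptSub x.1).res (traceOpen X x.1 Y.1)).scheme (X.res Y.1).scheme =
      ((j + 1 : ℕ) : ℤ) := by
  have h := relCodim_trace X x.1 Y.1 (traceIdx X x.1 Y.1 (Y.2.1 x.1 (le_of_eq x.2))) Y.2.2
  exact h.trans (congrArg (fun t : ℕ => (t : ℤ)) x.2)

include hsep in
lemma relCodim_jointD' (x₀ : X.cdPt (j + 1)) (hx₀ : x₀ ∈ S) :
    relCodim ((jointSub X (j + 1) S).res (jointZ X (j + 1) S Y.1)).scheme (X.res Y.1).scheme =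
      ((j + 1 : ℕ) : ℤ) := by
  have h := relCodim_jointD X j S Y hsep x₀ hx₀
  push_cast
  exact h

instance isClosedImmersion_jointD_i : IsClosedImmersion (jointD X j S Y).i :=
  (jointD X j S Y).closedImm

/-- push-forward from a piece to `Y` factors through the joint closed part -/
lemma push_traceMap_eq (x : X.cdPt (j + 1)) (hx : x ∈ S)
    (M : A.Cat) (i' n' i₁ n₁ : ℤ)
    (hi : i₁ = i' + 2 * relCodim ((X.ptSub x.1).res (traceOpen X x.1 Y.1)).scheme
      (X.res Y.1).scheme)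
    (hn : n₁ = n' + relCodim ((X.ptSub x.1).res (traceOpen X x.1 Y.1)).scheme (X.res Y.1).scheme)
    (hi0 : i' = i' + 2 * relCodim ((X.ptSub x.1).res (traceOpen X x.1 Y.1)).scheme
      ((jointSub X (j + 1) S).res (jointZ X (j + 1) S Y.1)).scheme)
    (hn0 : n' = n' + relCodim ((X.ptSub x.1).res (traceOpen X x.1 Y.1)).scheme
      ((jointSub X (j + 1) S).res (jointZ X (j + 1) S Y.1)).scheme)
    (hiD : i₁ = i' + 2 * relCodim ((jointSub X (j + 1) S).res (jointZ X (j + 1) S Y.1)).scheme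
      (X.res Y.1).scheme)
    (hnD : n₁ = n' + relCodim ((jointSub X (j + 1) S).res (jointZ X (j + 1) S Y.1)).scheme
      (X.res Y.1).scheme)
    (β : T.gp ((X.ptSub x.1).res (traceOpen X x.1 Y.1)) M i' n') :
    (T.push (traceMap X j Y x) M i' n' i₁ n₁ hi hn).hom β =
      (T.push (jointD X j S Y).i M i' n' i₁ n₁ hiD hnD).hom
        ((T.push (pieceHom X (j + 1) S Y.1 hsep (hSY_of_idx X j S Y) x hx).hom M i' n' i' n'
          hi0 hn0).hom β) := by
  have hcomp := T.push_comp (X := (X.ptSub x.1).res (traceOpen X x.1 Y.1))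
    (Y := (jointSub X (j + 1) S).res (jointZ X (j + 1) S Y.1)) (Z := X.res Y.1)
    (pieceHom X (j + 1) S Y.1 hsep (hSY_of_idx X j S Y) x hx).hom (jointD X j S Y).i
    M i' n' i' n' i₁ n₁ hi0 hn0 hiD hnD hi hn
  have hcong := push_congr T (pieceHom_comp_i X j S Y hsep x hx) M i' n' i₁ n₁ hi hn
  exact (congrArg (fun φ => φ.hom β) (hcomp.trans hcong)).symm

/-- the residue at `x ∈ S` of a class on the complement, through the joint decomposition -/
lemma cpt_jointO (Q : T.ResData X j) (x : X.cdPt (j + 1)) (hx : x ∈ S) (M : A.Cat)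
    (i n i' n' : ℤ) (hi : i' = i + 1 - 2 * ((j : ℤ) + 1)) (hn : n' = n - ((j : ℤ) + 1))
    (hiD : i' = i + 1 - 2 * (jointD X j S Y).codim) (hnD : n' = n - (jointD X j S Y).codim)
    (a : T.gp (X.res (jointO X j S Y)) M i n) :
    (Q.cpt x M i n i' n' hi hn).hom (((T.fjι X j i n (jointOIdx X j S Y)).app M).hom a) =
      ((T.ptι X x.1 i' n' (traceIdx X x.1 Y.1 (hSY_of_idx X j S Y x hx))).app M).hom
        ((T.pull (pieceHom X (j + 1) S Y.1 hsep (hSY_of_idx X j S Y) x hx) M i' n').hom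
          ((T.res (jointD X j S Y) M i n i' n' hiD hnD).hom a)) := by
  have hg : (pieceHom X (j + 1) S Y.1 hsep (hSY_of_idx X j S Y) x hx).hom ≫
      (jointD X j S Y).i ≫ (X.resι Y.1 Y.2.2).hom =
      (traceIdx X x.1 Y.1 (hSY_of_idx X j S Y x hx)).1.ι ≫ X.ptSubι x.1 := by
    rw [← Category.assoc, pieceHom_comp_i]
    exact liftOpen_ι _ _ _ _
  have hh : (𝟙 (X.res (jointOIdx X j S Y).1) : X.res (jointOIdx X j S Y).1 ⟶ _).hom ≫
      (jointD X j S Y).j.hom ≫
      (X.resι Y.1 Y.2.2).hom = (jointOIdx X j S Y).1.ι := by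
    rw [id_hom, Category.id_comp]
    exact X.scheme.homOfLE_ι (Set.sdiff_subset : jointO X j S Y ≤ Y.1)
  have spec := Q.cpt_spec x M i n i' n' hi hn (X.resι Y.1 Y.2.2) (jointD X j S Y)
    (traceIdx X x.1 Y.1 (hSY_of_idx X j S Y x hx))
    (pieceHom X (j + 1) S Y.1 hsep (hSY_of_idx X j S Y) x hx) hg (jointOIdx X j S Y)
    (𝟙 (X.res (jointOIdx X j S Y).1)) hh hiD hnD
  have hid : T.pull (𝟙 (X.res (jointOIdx X j S Y).1)) M i n = 𝟙 _ := pull_id T _ M i n
  rw [hid, Category.id_comp] at spec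
  exact congrArg (fun φ => φ.hom a) spec

section Main

variable (Q : T.ResData X j) (x₀ : X.cdPt (j + 1)) (hx₀ : x₀ ∈ S) (M : A.Cat)
  (i n i' n' : ℤ) (hi : i' = i + 1 - 2 * ((j : ℤ) + 1)) (hn : n' = n - ((j : ℤ) + 1))
  (hi2 : i + 1 = i' + 2 * ((j + 1 : ℕ) : ℤ)) (hn2 : n = n' + ((j + 1 : ℕ) : ℤ))

include hsep hx₀ hi2 hn2 in
/-- the sum of the push-forwards of the residues of a class vanishes -/
theorem joint_complex (a : T.gp (X.res (jointO X j S Y)) M i n) :
    ∃ β : ∀ k : {x // x ∈ S}, T.gp ((X.ptSub k.1.1).res (traceOpen X k.1.1 Y.1)) M i' n',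
      (∀ k : {x // x ∈ S}, (Q.cpt k.1 M i n i' n' hi hn).hom
          (((T.fjι X j i n (jointOIdx X j S Y)).app M).hom a) =
        ((T.ptι X k.1.1 i' n' (traceIdx X k.1.1 Y.1 (hSY_of_idx X j S Y k.1 k.2))).app M).hom
          (β k)) ∧
      ∑ k : {x // x ∈ S}, (T.push (traceMap X j Y k.1) M i' n' (i + 1) n
        (by rw [relCodim_traceMap]; exact hi2) (by rw [relCodim_traceMap]; exact hn2)).hom
        (β k) = 0 := by
  have hcod := relCodim_jointD X j S Y hsep x₀ hx₀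
  have hcod' := relCodim_jointD' X j S Y hsep x₀ hx₀
  have hiD : i' = i + 1 - 2 * (jointD X j S Y).codim := by rw [hcod]; exact hi
  have hnD : n' = n - (jointD X j S Y).codim := by rw [hcod]; exact hn
  have hiD2 : i + 1 = i' + 2 * relCodim ((jointSub X (j + 1) S).res
      (jointZ X (j + 1) S Y.1)).scheme (X.res Y.1).scheme := by rw [hcod']; exact hi2
  have hnD2 : n = n' + relCodim ((jointSub X (j + 1) S).res
      (jointZ X (j + 1) S Y.1)).scheme (X.res Y.1).scheme := by rw [hcod']; exact hn2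
  let r := (T.res (jointD X j S Y) M i n i' n' hiD hnD).hom a
  refine ⟨fun k => (T.pull (pieceHom X (j + 1) S Y.1 hsep (hSY_of_idx X j S Y) k.1 k.2)
    M i' n').hom r, fun k => cpt_jointO T X j S Y hsep Q k.1 k.2 M i n i' n' hi hn hiD hnD a, ?_⟩
  have hsum := joint_sum T X (j + 1) S Y.1 hsep (hSY_of_idx X j S Y) M i' n' r
  have hex := T.exact_res_push (jointD X j S Y) M i n i' n' hiD hnD hiD2 hnD2
  have h0 : (T.push (jointD X j S Y).i M i' n' (i + 1) n hiD2 hnD2).hom r = 0 :=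
    (hex r).mpr ⟨a, rfl⟩
  rw [hsum, map_sum] at h0
  refine Eq.trans (Finset.sum_congr rfl fun k _ => ?_) h0
  exact push_traceMap_eq T X j S Y hsep k.1 k.2 M i' n' (i + 1) n _ _ _ _ hiD2 hnD2 _

include hsep hx₀ hi2 hn2 in
/-- classes on the pieces whose push-forwards sum to zero are the residues of a class -/
theorem joint_exact
    (b : ∀ k : {x // x ∈ S}, T.gp ((X.ptSub k.1.1).res (traceOpen X k.1.1 Y.1)) M i' n')
    (hb : ∑ k : {x // x ∈ S}, (T.push (traceMap X j Y k.1) M i' n' (i + 1) n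
        (by rw [relCodim_traceMap]; exact hi2) (by rw [relCodim_traceMap]; exact hn2)).hom
        (b k) = 0) :
    ∃ a : T.gp (X.res (jointO X j S Y)) M i n, ∀ k : {x // x ∈ S},
      (Q.cpt k.1 M i n i' n' hi hn).hom (((T.fjι X j i n (jointOIdx X j S Y)).app M).hom a) =
        ((T.ptι X k.1.1 i' n' (traceIdx X k.1.1 Y.1 (hSY_of_idx X j S Y k.1 k.2))).app M).hom
          (b k) := by
  classical
  have hcod := relCodim_jointD X j S Y hsep x₀ hx₀
  have hcod' := relCodim_jointD' X j S Y hsep x₀ hx₀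
  have hiD : i' = i + 1 - 2 * (jointD X j S Y).codim := by rw [hcod]; exact hi
  have hnD : n' = n - (jointD X j S Y).codim := by rw [hcod]; exact hn
  have hiD2 : i + 1 = i' + 2 * relCodim ((jointSub X (j + 1) S).res
      (jointZ X (j + 1) S Y.1)).scheme (X.res Y.1).scheme := by rw [hcod']; exact hi2
  have hnD2 : n = n' + relCodim ((jointSub X (j + 1) S).res
      (jointZ X (j + 1) S Y.1)).scheme (X.res Y.1).scheme := by rw [hcod']; exact hn2
  have hi0 : ∀ k : {x // x ∈ S}, i' = i' + 2 * relCodim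
      ((X.ptSub k.1.1).res (traceOpen X k.1.1 Y.1)).scheme
      ((jointSub X (j + 1) S).res (jointZ X (j + 1) S Y.1)).scheme := fun k => by
    rw [relCodim_piece X (j + 1) S Y.1 hsep (hSY_of_idx X j S Y) k.1 k.2]; ring
  have hn0 : ∀ k : {x // x ∈ S}, n' = n' + relCodim
      ((X.ptSub k.1.1).res (traceOpen X k.1.1 Y.1)).scheme
      ((jointSub X (j + 1) S).res (jointZ X (j + 1) S Y.1)).scheme := fun k => by
    rw [relCodim_piece X (j + 1) S Y.1 hsep (hSY_of_idx X j S Y) k.1 k.2]; ring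
  let bb : T.gp ((jointSub X (j + 1) S).res (jointZ X (j + 1) S Y.1)) M i' n' :=
    ∑ k : {x // x ∈ S}, (T.push (pieceHom X (j + 1) S Y.1 hsep (hSY_of_idx X j S Y) k.1 k.2).hom
      M i' n' i' n' (hi0 k) (hn0 k)).hom (b k)
  have hex := T.exact_res_push (jointD X j S Y) M i n i' n' hiD hnD hiD2 hnD2
  have h0 : (T.push (jointD X j S Y).i M i' n' (i + 1) n hiD2 hnD2).hom bb = 0 := by
    rw [map_sum]
    refine Eq.trans (Finset.sum_congr rfl fun k _ => ?_) hb
    exact (push_traceMap_eq T X j S Y hsep k.1 k.2 M i' n' (i + 1) n _ _ (hi0 k) (hn0 k)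
      hiD2 hnD2 (b k)).symm
  obtain ⟨a, ha⟩ := (hex bb).mp h0
  refine ⟨a, fun k => ?_⟩
  rw [cpt_jointO T X j S Y hsep Q k.1 k.2 M i n i' n' hi hn hiD hnD a, ha]
  congr 1
  rw [map_sum, Finset.sum_eq_single k]
  · exact pull_push_piece_self T X (j + 1) S Y.1 hsep (hSY_of_idx X j S Y) k.1 k.2 M i' n'
      (hi0 k) (hn0 k) (b k)
  · intro l _ hl
    exact pull_push_piece_ne T X (j + 1) S Y.1 hsep (hSY_of_idx X j S Y) l.1 l.2 k.1 k.2
      (fun e => hl (Subtype.ext e)) M i' n' (hi0 l) (hn0 l) (b l)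
  · intro h
    exact absurd (Finset.mem_univ _) h

end Main

end JointDec

end Groth.Agent.Lib.Helper47.BMUniq
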