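import Groth.Agent.Lib.Helper47.BMAdd

set_option autoImplicit false
universe u

namespace Groth.Agent.Lib.Helper47.BMUniq

open TopologicalSpace Topology Order AlgebraicGeometry CategoryTheory BMCoh Opposite
open CategoryTheory.Limits

section TopAux

variable {S : Type u} [TopologicalSpace S]

lemma krullDim_le_coe_natDim (h : topologicalKrullDim S < ⊤) :
    topologicalKrullDim S ≤ ((WeilCoh.natDim S : ℕ) : WithBot ℕ∞) := by
  unfold WeilCoh.natDim
  generalize topologicalKrullDim S = a at *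
  induction a using WithBot.recBotCoe with
  | bot => exact bot_le
  | coe a =>
    induction a using ENat.recTopCoe with
    | top => exact absurd h (lt_irrefl _)
    | coe n => simp

lemma natDim_le_of_krullDim_le {d : ℕ} (h : topologicalKrullDim S ≤ ((d : ℕ) : WithBot ℕ∞)) :
    WeilCoh.natDim S ≤ d := by
  unfold WeilCoh.natDim
  generalize topologicalKrullDim S = a at *
  induction a using WithBot.recBotCoe with
  | bot => simp
  | coe a =>
    have hab : a ≤ (d : ℕ∞) := by exact_mod_cast h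
    simpa using ENat.toNat_le_toNat hab (ENat.natCast_ne_top d)

/-- the dimension of a space covered by opens of dimension at most `d` -/
lemma krullDim_le_of_open_cover {ι : Type*} (U : ι → Set S) (hU : ∀ l, IsOpen (U l))
    (hcov : ∀ z : S, ∃ l, z ∈ U l) (d : WithBot ℕ∞)
    (hd : ∀ l, topologicalKrullDim (U l) ≤ d) : topologicalKrullDim S ≤ d := by
  unfold topologicalKrullDim Order.krullDim
  refine iSup_le fun p => ?_
  obtain ⟨z, hz⟩ := p.head.isIrreducible.nonempty
  obtain ⟨l, hl⟩ := hcov z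
  exact (Groth.Agent.Lib.Helper84.length_le_dim_of_isOpen (U l) (hU l) p ⟨z, hz, hl⟩).trans (hd l)

end TopAux

section Red

/-- The reduced induced closed subscheme structure is reduced. -/
theorem isReduced_subscheme_vanishingIdeal {X : Scheme.{u}} (Z : TopologicalSpace.Closeds X) :
    IsReduced (Scheme.IdealSheafData.vanishingIdeal Z).subscheme := by
  set I := Scheme.IdealSheafData.vanishingIdeal Z with hI
  have h1 : ∀ U : X.affineOpens, IsReduced (Spec (.of (Γ(X, U) ⧸ I.ideal U))) := by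
    intro U
    rw [affine_isReduced_iff]
    change _root_.IsReduced (Γ(X, U) ⧸ I.ideal U)
    rw [← Ideal.isRadical_iff_quotient_reduced, hI, Scheme.IdealSheafData.vanishingIdeal_ideal]
    exact PrimeSpectrum.isRadical_vanishingIdeal _
  have : ∀ U, IsReduced (I.subschemeCover.openCover.X U) := fun U => h1 U
  exact IsReduced.of_openCover _ I.subschemeCover.openCover

/-- a surjective restriction of a closed immersion into a reduced scheme is an isomorphism -/
lemma isIso_liftOpen_gen {Z' Z : Scheme.{u}} (g : Z' ⟶ Z) [IsClosedImmersion g] [IsReduced Z]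
    (W : Z'.Opens) (U : Z.Opens) (hW : ∀ z, g z ∈ U ↔ z ∈ W)
    (hU : (U : Set Z) ⊆ Set.range g) :
    IsIso (liftOpen g W U (fun w hw => (hW w).mpr hw)) := by
  have h1 : IsClosedImmersion (liftOpen g W U (fun w hw => (hW w).mpr hw)) :=
    isClosedImmersion_liftOpen' g W U hW
  have h2 : Surjective (liftOpen g W U (fun w hw => (hW w).mpr hw)) := by
    refine ⟨fun u => ?_⟩
    obtain ⟨z, hz⟩ := hU (ι_mem U u)
    have hzW : z ∈ W := (hW z).mp (hz ▸ ι_mem U u)
    obtain ⟨w, hw⟩ := exists_ι_eq W z hzW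
    refine ⟨w, ?_⟩
    apply U.ι.isOpenEmbedding.injective
    rw [liftOpen_apply, hw, hz]
  exact isIso_of_isClosedImmersion_of_surjective _

end Red

section Joint

variable {V : ObjectProperty Scheme.{u}} [IsConstructible V]

/-- the union of the closures of finitely many points of codimension `m` -/
def jointC (X : Obj V) (m : ℕ) (S : Finset (X.cdPt m)) : Set X.scheme :=
  ⋃ x ∈ S, closure ({x.1} : Set X.scheme)

lemma isClosed_jointC (X : Obj V) (m : ℕ) (S : Finset (X.cdPt m)) : IsClosed (jointC X m S) :=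
  isClosed_biUnion_finset fun _ _ => isClosed_closure

lemma mem_jointC (X : Obj V) (m : ℕ) (S : Finset (X.cdPt m)) (y : X.scheme) :
    y ∈ jointC X m S ↔ ∃ x ∈ S, y ∈ closure ({x.1} : Set X.scheme) := by
  simp [jointC]

noncomputable abbrev jointIdeal (X : Obj V) (m : ℕ) (S : Finset (X.cdPt m)) : X.scheme.IdealSheafData :=
  Scheme.IdealSheafData.vanishingIdeal (X := X.scheme) ⟨jointC X m S, isClosed_jointC X m S⟩

/-- the reduced closed subscheme on the union of the closures -/
noncomputable abbrev jointSub (X : Obj V) (m : ℕ) (S : Finset (X.cdPt m)) : Obj V :=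
  ⟨(jointIdeal X m S).subscheme,
    IsConstructible.of_isClosedImmersion (jointIdeal X m S).subschemeι
      (h := (inferInstance : IsClosedImmersion (jointIdeal X m S).subschemeι)) X.mem⟩

noncomputable abbrev jointι (X : Obj V) (m : ℕ) (S : Finset (X.cdPt m)) :
    (jointSub X m S).scheme ⟶ X.scheme := (jointIdeal X m S).subschemeι

lemma range_jointι (X : Obj V) (m : ℕ) (S : Finset (X.cdPt m)) :
    Set.range (jointι X m S) = jointC X m S := by
  rw [Scheme.IdealSheafData.range_subschemeι, Scheme.IdealSheafData.coe_support_vanishingIdeal]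
  rfl

instance isReduced_jointSub (X : Obj V) (m : ℕ) (S : Finset (X.cdPt m)) :
    IsReduced (jointSub X m S).scheme :=
  isReduced_subscheme_vanishingIdeal _

/-- the closed immersion of the closure of one of the points into the union -/
noncomputable def jointIncl (X : Obj V) (m : ℕ) (S : Finset (X.cdPt m)) (x : X.cdPt m)
    (hx : x ∈ S) : (X.ptSub x.1).scheme ⟶ (jointSub X m S).scheme :=
  Scheme.IdealSheafData.inclusion (Scheme.IdealSheafData.vanishingIdeal_antimono (by
    intro y hy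
    exact (mem_jointC X m S y).mpr ⟨x, hx, hy⟩))

@[reassoc]
lemma jointIncl_ι (X : Obj V) (m : ℕ) (S : Finset (X.cdPt m)) (x : X.cdPt m) (hx : x ∈ S) :
    jointIncl X m S x hx ≫ jointι X m S = X.ptSubι x.1 :=
  Scheme.IdealSheafData.inclusion_subschemeι _

instance isClosedImmersion_jointIncl (X : Obj V) (m : ℕ) (S : Finset (X.cdPt m)) (x : X.cdPt m)
    (hx : x ∈ S) : IsClosedImmersion (jointIncl X m S x hx) := by
  have : IsClosedImmersion (jointIncl X m S x hx ≫ jointι X m S) := by
    rw [jointIncl_ι]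
    infer_instance
  exact IsClosedImmersion.of_comp_isClosedImmersion (jointIncl X m S x hx) (jointι X m S)

lemma jointIncl_apply (X : Obj V) (m : ℕ) (S : Finset (X.cdPt m)) (x : X.cdPt m) (hx : x ∈ S)
    (z : (X.ptSub x.1).scheme) :
    (jointι X m S) ((jointIncl X m S x hx) z) = (X.ptSubι x.1) z := by
  rw [← Scheme.Hom.comp_apply, jointIncl_ι]

section Pieces

variable (X : Obj V) (m : ℕ) (S : Finset (X.cdPt m)) (Y : X.scheme.Opens)

/-- trace of `Y` on the joint subscheme -/
noncomputable def jointZ : (jointSub X m S).scheme.Opens := (jointι X m S) ⁻¹ᵁ Y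

lemma mem_jointZ (z : (jointSub X m S).scheme) :
    (jointι X m S) z ∈ Y ↔ z ∈ jointZ X m S Y := Iff.rfl

/-- the union of the closures of the other points -/
def othersC (x : X.cdPt m) : Set X.scheme :=
  ⋃ x' ∈ {x' : X.cdPt m | x' ∈ S ∧ x' ≠ x}, closure ({x'.1} : Set X.scheme)

lemma isClosed_othersC (x : X.cdPt m) : IsClosed (othersC X m S x) :=
  Set.Finite.isClosed_biUnion (S.finite_toSet.subset fun _ h => h.1) fun _ _ => isClosed_closure

lemma mem_othersC (x : X.cdPt m) (y : X.scheme) :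
    y ∈ othersC X m S x ↔ ∃ x' ∈ S, x' ≠ x ∧ y ∈ closure ({x'.1} : Set X.scheme) := by
  unfold othersC
  rw [Set.mem_iUnion₂]
  constructor
  · rintro ⟨x', ⟨h1, h2⟩, h3⟩
    exact ⟨x', h1, h2, h3⟩
  · rintro ⟨x', h1, h2, h3⟩
    exact ⟨x', ⟨h1, h2⟩, h3⟩

/-- the piece of the trace lying in the closure of `x` -/
noncomputable def jointΩ (x : X.cdPt m) : (jointSub X m S).scheme.Opens :=
  (jointι X m S) ⁻¹ᵁ (diffOpen X Y (othersC X m S x) (isClosed_othersC X m S x))

lemma mem_jointΩ (x : X.cdPt m) (z : (jointSub X m S).scheme) :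
    z ∈ jointΩ X m S Y x ↔ (jointι X m S) z ∈ Y ∧ (jointι X m S) z ∉ othersC X m S x := Iff.rfl

lemma jointΩ_le (x : X.cdPt m) : jointΩ X m S Y x ≤ jointZ X m S Y := fun _ hz => hz.1

lemma jointι_mem_jointC (z : (jointSub X m S).scheme) : (jointι X m S) z ∈ jointC X m S := by
  rw [← range_jointι]
  exact ⟨z, rfl⟩

variable (hsep : ∀ x ∈ S, ∀ x' ∈ S, x ≠ x' → ∀ y ∈ Y, y ∈ closure ({x.1} : Set X.scheme) →
  y ∉ closure ({x'.1} : Set X.scheme))

include hsep in
lemma mem_jointΩ_iff (x : X.cdPt m) (hx : x ∈ S) (z : (jointSub X m S).scheme)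
    (hz : z ∈ jointZ X m S Y) :
    z ∈ jointΩ X m S Y x ↔ (jointι X m S) z ∈ closure ({x.1} : Set X.scheme) := by
  constructor
  · intro h
    obtain ⟨x', hx', hzx'⟩ := (mem_jointC X m S _).mp (jointι_mem_jointC X m S z)
    by_cases hxx : x' = x
    · exact hxx ▸ hzx'
    · exact absurd ((mem_othersC X m S x _).mpr ⟨x', hx', hxx, hzx'⟩) h.2
  · intro h
    refine ⟨hz, fun ho => ?_⟩
    obtain ⟨x', hx', hne, hcl⟩ := (mem_othersC X m S x _).mp ho
    exact hsep x hx x' hx' (fun e => hne e.symm) _ hz h hcl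

include hsep in
lemma jointΩ_disjoint (x : X.cdPt m) (hx : x ∈ S) (x' : X.cdPt m) (_ : x' ∈ S) (hne : x ≠ x')
    (z : (jointSub X m S).scheme) (hz : z ∈ jointΩ X m S Y x) : z ∉ jointΩ X m S Y x' := by
  intro hz'
  have h1 := (mem_jointΩ_iff X m S Y hsep x hx z hz.1).mp hz
  exact hz'.2 ((mem_othersC X m S x' _).mpr ⟨x, hx, hne, h1⟩)

include hsep in
lemma jointΩ_cover (z : (jointSub X m S).scheme) (hz : z ∈ jointZ X m S Y) :
    ∃ x ∈ S, z ∈ jointΩ X m S Y x := by
  obtain ⟨x, hx, hzx⟩ := (mem_jointC X m S _).mp (jointι_mem_jointC X m S z)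
  exact ⟨x, hx, (mem_jointΩ_iff X m S Y hsep x hx z hz).mpr hzx⟩

include hsep in
lemma jointIncl_mem_Ω (x : X.cdPt m) (hx : x ∈ S) (w : (X.ptSub x.1).scheme) :
    (jointIncl X m S x hx) w ∈ jointΩ X m S Y x ↔ w ∈ traceOpen X x.1 Y := by
  constructor
  · intro h
    have := h.1
    rw [jointIncl_apply] at this
    exact this
  · intro h
    have hY : (jointι X m S) ((jointIncl X m S x hx) w) ∈ Y := by
      rw [jointIncl_apply]; exact h
    refine (mem_jointΩ_iff X m S Y hsep x hx _ hY).mpr ?_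
    rw [jointIncl_apply, ← range_ptSubι]
    exact ⟨w, rfl⟩

include hsep in
lemma jointΩ_subset_range (x : X.cdPt m) (hx : x ∈ S) :
    (jointΩ X m S Y x : Set (jointSub X m S).scheme) ⊆ Set.range (jointIncl X m S x hx) := by
  intro z hz
  have h1 := (mem_jointΩ_iff X m S Y hsep x hx z hz.1).mp hz
  rw [← range_ptSubι] at h1
  obtain ⟨w, hw⟩ := h1
  refine ⟨w, ?_⟩
  apply (jointι X m S).isClosedEmbedding.injective
  rw [jointIncl_apply, hw]

/-- the piece map `W_x → Ω_x` -/
noncomputable abbrev pieceMap (x : X.cdPt m) (hx : x ∈ S) :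
    ((X.ptSub x.1).res (traceOpen X x.1 Y)).scheme ⟶
      ((jointSub X m S).res (jointΩ X m S Y x)).scheme :=
  liftOpen (jointIncl X m S x hx) (traceOpen X x.1 Y) (jointΩ X m S Y x)
    (fun w hw => (jointIncl_mem_Ω X m S Y hsep x hx w).mpr hw)

include hsep in
lemma isIso_pieceMap (x : X.cdPt m) (hx : x ∈ S) : IsIso (pieceMap X m S Y hsep x hx) :=
  isIso_liftOpen_gen (jointIncl X m S x hx) (traceOpen X x.1 Y) (jointΩ X m S Y x)
    (jointIncl_mem_Ω X m S Y hsep x hx) (jointΩ_subset_range X m S Y hsep x hx)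

lemma pdim_cdPt (x : X.cdPt m) : WeilCoh.pdim X.scheme x.1 + m = WeilCoh.dim X.scheme := by
  have h1 := pdim_le_dim X x.1
  have h2 := x.2
  unfold WeilCoh.codim at h2
  omega

lemma dim_traceOpen (x : X.cdPt m) (hxY : x.1 ∈ Y) :
    WeilCoh.dim (traceOpen X x.1 Y : Scheme.{u}) = WeilCoh.pdim X.scheme x.1 :=
  (traceIdx X x.1 Y hxY).2.2.trans (dim_ptSub X x.1)

include hsep in
lemma dim_jointΩ (x : X.cdPt m) (hx : x ∈ S) (hxY : x.1 ∈ Y) :
    WeilCoh.dim (jointΩ X m S Y x : Scheme.{u}) = WeilCoh.pdim X.scheme x.1 := by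
  have := isIso_pieceMap X m S Y hsep x hx
  exact (dim_eq_of_iso (asIso (pieceMap X m S Y hsep x hx))).symm.trans (dim_traceOpen X m Y x hxY)

include hsep in
lemma dim_jointZ (hSY : ∀ x ∈ S, x.1 ∈ Y) (x₀ : X.cdPt m) (hx₀ : x₀ ∈ S) :
    WeilCoh.dim (jointZ X m S Y : Scheme.{u}) = WeilCoh.pdim X.scheme x₀.1 := by
  apply le_antisymm
  · apply natDim_le_of_krullDim_le
    refine krullDim_le_of_open_cover (ι := {x // x ∈ S})
      (fun l => Set.range ((jointSub X m S).scheme.homOfLE (jointΩ_le X m S Y l.1)))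
      (fun l => ((jointSub X m S).scheme.homOfLE
        (jointΩ_le X m S Y l.1)).isOpenEmbedding.isOpen_range) ?_ _ ?_
    · intro z
      obtain ⟨x, hx, hzx⟩ := jointΩ_cover X m S Y hsep _ (ι_mem (jointZ X m S Y) z)
      refine ⟨⟨x, hx⟩, ?_⟩
      rw [range_homOfLE]
      exact hzx
    · intro l
      have hh := ((jointSub X m S).scheme.homOfLE
        (jointΩ_le X m S Y l.1)).isOpenEmbedding.isEmbedding.toHomeomorph
      rw [← IsHomeomorph.topologicalKrullDim_eq _ hh.isHomeomorph]
      refine (krullDim_le_coe_natDim (finDim_opens (jointSub X m S) (jointΩ X m S Y l.1))).trans ?_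
      have h1 : WeilCoh.natDim ↥(jointΩ X m S Y l.1 : Scheme.{u}) = WeilCoh.pdim X.scheme x₀.1 := by
        have h2 := dim_jointΩ X m S Y hsep l.1 l.2 (hSY l.1 l.2)
        have h3 := pdim_cdPt X m l.1
        have h4 := pdim_cdPt X m x₀
        unfold WeilCoh.dim at h2
        omega
      rw [h1]
  · rw [← dim_jointΩ X m S Y hsep x₀ hx₀ (hSY x₀ hx₀)]
    exact dim_le_of_le (jointSub X m S) (jointΩ_le X m S Y x₀)

end Pieces

end Joint

end Groth.Agent.Lib.Helper47.BMUniq
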