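import Groth.Agent.Lib.Helper47.BMMid2

set_option autoImplicit false
universe u

namespace Groth.Agent.Lib.Helper47.BMUniq

open TopologicalSpace Topology Order AlgebraicGeometry CategoryTheory BMCoh Opposite
open CategoryTheory.Limits DirectSum

section L0Geom

variable {V : ObjectProperty Scheme.{u}} [IsConstructible V]

/-- the finite set of all points of codimension `0` and a closed set, away from which the
closures of these points are disjoint and cover -/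
theorem exists_top_finset (X : Obj V) : ∃ (S₀ : Finset (X.cdPt 0)) (B : Set X.scheme),
    IsClosed B ∧ (∀ x : X.cdPt 0, x ∈ S₀) ∧ (∀ y, WeilCoh.codim X.scheme y ≤ 0 → y ∉ B) ∧
    (∀ y, y ∉ B → ∃ x ∈ S₀, y ∈ closure ({x.1} : Set X.scheme)) ∧
    (∀ y, y ∉ B → y ∉ sepC X 0 S₀) := by
  classical
  obtain ⟨Gen, -, hGencov⟩ := exists_generic_finset X ⊥
  let S₀ : Finset (X.cdPt 0) := Gen.subtype (fun x => WeilCoh.codim X.scheme x = 0)
  let Ghigh := Gen.filter (fun s => WeilCoh.codim X.scheme s ≠ 0)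
  have hSmem : ∀ x : X.cdPt 0, x ∈ S₀ ↔ x.1 ∈ Gen := fun x => Finset.mem_subtype
  refine ⟨S₀, sepC X 0 S₀ ∪ clUnion X Ghigh,
    (isClosed_sepC X 0 S₀).union (isClosed_clUnion X Ghigh), ?_, ?_, ?_, ?_⟩
  · intro x
    obtain ⟨s, hs, hxs⟩ := hGencov x.1 (fun h => h)
    have e : x.1 = s := eq_of_mem_closure_of_codim_eq X hxs (by rw [x.2]; exact Nat.zero_le _)
    exact (hSmem x).mpr (e ▸ hs)
  · intro y hy
    rintro (h | h)
    · exact not_mem_sepC_of_codim_le X 0 S₀ y hy h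
    · obtain ⟨s, hs, hys⟩ := (mem_clUnion X Ghigh y).mp h
      have hs' := Finset.mem_filter.mp hs
      have h2 := codim_le_of_mem_closure X hys
      have h3 := hs'.2
      omega
  · intro y hy
    obtain ⟨s, hs, hys⟩ := hGencov y (fun h => h)
    by_cases hsc : WeilCoh.codim X.scheme s = 0
    · exact ⟨⟨s, hsc⟩, (hSmem _).mpr hs, hys⟩
    · exact absurd (Or.inr ((mem_clUnion X Ghigh y).mpr
        ⟨s, Finset.mem_filter.mpr ⟨hs, hsc⟩, hys⟩)) hy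
  · intro y hy h
    exact hy (Or.inl h)

variable (X : Obj V) (S₀ : Finset (X.cdPt 0)) (Y : X.scheme.Opens)

/-- the piece of `Y` in the closure of `x` -/
def piece0 (x : X.cdPt 0) : X.scheme.Opens :=
  diffOpen X Y (othersC X 0 S₀ x) (isClosed_othersC X 0 S₀ x)

lemma piece0_le (x : X.cdPt 0) : piece0 X S₀ Y x ≤ Y := fun _ h => h.1

variable (hg1 : ∀ y ∈ Y, ∃ x ∈ S₀, y ∈ closure ({x.1} : Set X.scheme))
  (hg2 : ∀ y ∈ Y, y ∉ sepC X 0 S₀)

include hg1 hg2 in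
lemma mem_piece0_iff (x : X.cdPt 0) (hx : x ∈ S₀) (y : X.scheme) (hy : y ∈ Y) :
    y ∈ piece0 X S₀ Y x ↔ y ∈ closure ({x.1} : Set X.scheme) := by
  constructor
  · intro h
    obtain ⟨x', hx', hyx'⟩ := hg1 y hy
    by_cases hxx : x' = x
    · exact hxx ▸ hyx'
    · exact absurd ((mem_othersC X 0 S₀ x y).mpr ⟨x', hx', hxx, hyx'⟩) h.2
  · intro h
    refine ⟨hy, fun ho => ?_⟩
    obtain ⟨x', hx', hne, hcl⟩ := (mem_othersC X 0 S₀ x y).mp ho
    exact hg2 y hy ((mem_sepC X 0 S₀ y).mpr ⟨x, hx, h, x', hx', hne, hcl⟩)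

include hg1 hg2 in
lemma piece0_disjoint (x : X.cdPt 0) (hx : x ∈ S₀) (x' : X.cdPt 0) (_ : x' ∈ S₀) (hne : x ≠ x')
    (y : X.scheme) (hy : y ∈ piece0 X S₀ Y x) : y ∉ piece0 X S₀ Y x' := by
  intro hy'
  have h1 := (mem_piece0_iff X S₀ Y hg1 hg2 x hx y hy.1).mp hy
  exact hy'.2 ((mem_othersC X 0 S₀ x' y).mpr ⟨x, hx, hne, h1⟩)

include hg1 hg2 in
lemma piece0_cover (y : X.scheme) (hy : y ∈ Y) : ∃ x ∈ S₀, y ∈ piece0 X S₀ Y x := by
  obtain ⟨x, hx, hyx⟩ := hg1 y hy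
  exact ⟨x, hx, (mem_piece0_iff X S₀ Y hg1 hg2 x hx y hy).mpr hyx⟩

include hg1 hg2 in
lemma mem_piece0_self (x : X.cdPt 0) (hx : x ∈ S₀) (hxY : x.1 ∈ Y) : x.1 ∈ piece0 X S₀ Y x :=
  (mem_piece0_iff X S₀ Y hg1 hg2 x hx x.1 hxY).mpr (subset_closure rfl)

include hg1 hg2 in
lemma piece0_subset_closure (x : X.cdPt 0) (hx : x ∈ S₀) :
    (piece0 X S₀ Y x : Set X.scheme) ⊆ closure ({x.1} : Set X.scheme) :=
  fun y hy => (mem_piece0_iff X S₀ Y hg1 hg2 x hx y hy.1).mp hy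

include hg1 hg2 in
lemma dim_piece0 (x : X.cdPt 0) (hx : x ∈ S₀) (hxY : x.1 ∈ Y) :
    WeilCoh.dim (piece0 X S₀ Y x : Scheme.{u}) = WeilCoh.dim X.scheme :=
  dim_eq_of_mem_codim_zero X _ x.1 (mem_piece0_self X S₀ Y hg1 hg2 x hx hxY) x.2

end L0Geom

end Groth.Agent.Lib.Helper47.BMUniq
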