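import Groth.Agent.Lib.Helper47.BML0Surj

set_option autoImplicit false
universe u

namespace Groth.Agent.Lib.Helper47.BMUniq

open TopologicalSpace Topology Order AlgebraicGeometry CategoryTheory BMCoh Opposite
open CategoryTheory.Limits DirectSum

section L0Inj

variable {V : ObjectProperty Scheme.{u}} [IsConstructible V] {R : Type u} [CommRing R]
  {A : Coefs R} (T : PreTheory V R A)

/-- the closed immersion of the trace of an open on the closure of a point -/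
noncomputable abbrev trMap (X : Obj V) (Y : X.scheme.Opens) (x : X.scheme) :
    ((X.ptSub x).res (traceOpen X x Y)).scheme ⟶ (X.res Y).scheme :=
  liftOpen (X.ptSubι x) (traceOpen X x Y) Y (fun w hw => (mem_traceOpen X x Y w).mpr hw)

instance isClosedImmersion_trMap (X : Obj V) (Y : X.scheme.Opens) (x : X.scheme) :
    IsClosedImmersion (trMap X Y x) :=
  isClosedImmersion_liftOpen' (X.ptSubι x) (traceOpen X x Y) Y (mem_traceOpen X x Y)

lemma relCodim_trMap (X : Obj V) (Y : X.scheme.Opens)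
    (hYd : WeilCoh.dim (Y : Scheme.{u}) = WeilCoh.dim X.scheme) (x : X.scheme) (hx : x ∈ Y) :
    relCodim ((X.ptSub x).res (traceOpen X x Y)).scheme (X.res Y).scheme =
      (WeilCoh.codim X.scheme x : ℤ) :=
  relCodim_trace X x Y (traceIdx X x Y hx) hYd

/-- evaluation of a push-forward datum on a class on the trace of an open containing `F_m` -/
lemma cpt_trMap (X : Obj V) (m : ℕ) (P : T.PushData X m)
    (Y : Idx X (ContainsFj X m)) (x : X.cdPt m) (M : A.Cat) (i' n' i₁ n₁ : ℤ)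
    (hi2 : i₁ = i' + 2 * (m : ℤ)) (hn2 : n₁ = n' + (m : ℤ))
    (hi3 : i₁ = i' + 2 * relCodim ((X.ptSub x.1).res (traceOpen X x.1 Y.1)).scheme
      (X.res Y.1).scheme)
    (hn3 : n₁ = n' + relCodim ((X.ptSub x.1).res (traceOpen X x.1 Y.1)).scheme
      (X.res Y.1).scheme)
    (β : T.gp ((X.ptSub x.1).res (traceOpen X x.1 Y.1)) M i' n') :
    (P.cpt x M i' n' i₁ n₁ hi2 hn2).hom
      (((T.ptι X x.1 i' n' (traceIdx X x.1 Y.1 (Y.2.1 x.1 (le_of_eq x.2)))).app M).hom β) =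
      ((T.fjι X m i₁ n₁ Y).app M).hom
        ((T.push (X := (X.ptSub x.1).res (traceOpen X x.1 Y.1)) (Y := X.res Y.1)
          (trMap X Y.1 x.1) M i' n' i₁ n₁ hi3 hn3).hom β) := by
  have inst : @IsProper ((X.ptSub x.1).res (traceIdx X x.1 Y.1 (Y.2.1 x.1 (le_of_eq x.2))).1).scheme
      (X.res Y.1).scheme (trMap X Y.1 x.1) := by
    change IsProper (trMap X Y.1 x.1)
    infer_instance
  have spec := P.cpt_spec x M i' n' i₁ n₁ hi2 hn2 Y
    (traceIdx X x.1 Y.1 (Y.2.1 x.1 (le_of_eq x.2))) (trMap X Y.1 x.1)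
    (liftOpen_ι _ _ _ _) hi3 hn3
  exact congrArg (fun φ => φ.hom β) spec

/-- base change for the push-forward from the trace -/
lemma rs_push_trMap (X : Obj V) (Y Y' : X.scheme.Opens) (hle : Y' ≤ Y)
    (hd : WeilCoh.dim (Y' : Scheme.{u}) = WeilCoh.dim (Y : Scheme.{u}))
    (x : X.scheme) (M : A.Cat) (i' n' i₁ n₁ : ℤ)
    (hi3 : i₁ = i' + 2 * relCodim ((X.ptSub x).res (traceOpen X x Y)).scheme (X.res Y).scheme)
    (hn3 : n₁ = n' + relCodim ((X.ptSub x).res (traceOpen X x Y)).scheme (X.res Y).scheme)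
    (hi3' : i₁ = i' + 2 * relCodim ((X.ptSub x).res (traceOpen X x Y')).scheme
      (X.res Y').scheme)
    (hn3' : n₁ = n' + relCodim ((X.ptSub x).res (traceOpen X x Y')).scheme (X.res Y').scheme)
    (hdW : WeilCoh.dim (traceOpen X x Y' : Scheme.{u}) =
      WeilCoh.dim (traceOpen X x Y : Scheme.{u}))
    (b : T.gp ((X.ptSub x).res (traceOpen X x Y)) M i' n') :
    (rs T X hle hd M i₁ n₁).hom
      ((T.push (trMap X Y x) M i' n' i₁ n₁ hi3 hn3).hom b) =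
    (T.push (trMap X Y' x) M i' n' i₁ n₁ hi3' hn3').hom
      ((rs T (X.ptSub x) (traceOpen_mono X x hle) hdW M i' n').hom b) := by
  have hpb : IsPullback ((X.ptSub x).scheme.homOfLE (traceOpen_mono X x hle))
      (trMap X Y' x) (trMap X Y x) (X.scheme.homOfLE hle) :=
    isPullback_liftOpen (X.ptSubι x) (traceOpen_mono X x hle) hle
      (fun w hw => (mem_traceOpen X x Y w).mpr hw)
      (fun w hw => (mem_traceOpen X x Y' w).mpr hw) (fun z _ hz => hz)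
  have hbc := T.push_pull (trMap X Y x) (trMap X Y' x)
    (X.resLE hle hd)
    ((X.ptSub x).resLE (traceOpen_mono X x hle) hdW) hpb M i' n' i₁ n₁ hi3 hn3 hi3' hn3'
  exact congrArg (fun φ => φ.hom b) hbc

/-- the push-forward from the closure of `x` dies on an open disjoint from that closure -/
lemma rs_push_trMap_off (X : Obj V) (Y Yl : X.scheme.Opens) (hle : Yl ≤ Y)
    (hd : WeilCoh.dim (Yl : Scheme.{u}) = WeilCoh.dim (Y : Scheme.{u}))
    (x : X.scheme) (hoff : ∀ y ∈ Yl, y ∉ closure ({x} : Set X.scheme))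
    (M : A.Cat) (i' n' i₁ n₁ : ℤ)
    (hi3 : i₁ = i' + 2 * relCodim ((X.ptSub x).res (traceOpen X x Y)).scheme (X.res Y).scheme)
    (hn3 : n₁ = n' + relCodim ((X.ptSub x).res (traceOpen X x Y)).scheme (X.res Y).scheme)
    (b : T.gp ((X.ptSub x).res (traceOpen X x Y)) M i' n') :
    (rs T X hle hd M i₁ n₁).hom ((T.push (trMap X Y x) M i' n' i₁ n₁ hi3 hn3).hom b) = 0 := by
  obtain ⟨i₀, rfl⟩ : ∃ i₀, i₁ = i₀ + 1 := ⟨i₁ - 1, by ring⟩
  have hls : Yl ≤ smallOpen X x Y := fun y hy => ⟨hle hy, hoff y hy⟩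
  have hsY : smallOpen X x Y ≤ Y := Set.sdiff_subset
  have hds : WeilCoh.dim (smallOpen X x Y : Scheme.{u}) = WeilCoh.dim (Y : Scheme.{u}) :=
    le_antisymm (dim_le_of_le X hsY) (hd.symm.le.trans (dim_le_of_le X hls))
  let D := mkDecomp X x Y (traceOpen X x Y) (fun z => Iff.rfl) (smallOpen X x Y) hsY
    (fun y hy => ⟨fun h => h.2, fun h => ⟨hy, h⟩⟩) hds
  have hex := T.exact_push_pull D M i₀ n₁ i' n' hi3 hn3
  have h0 : (rs T X hsY hds M (i₀ + 1) n₁).hom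
      ((T.push (trMap X Y x) M i' n' (i₀ + 1) n₁ hi3 hn3).hom b) = 0 :=
    (hex _).mpr ⟨b, rfl⟩
  rw [← rs_rs_apply T X hls hsY (hd.trans hds.symm) hds, h0, map_zero]

/-- on an irreducible reduced open, push-forward from the trace of the closure of the generic
point is injective -/
lemma eq_zero_of_push_trMap_eq_zero (X : Obj V) [IsReduced X.scheme] (Yl : X.scheme.Opens)
    (l : X.scheme) (hsub : (Yl : Set X.scheme) ⊆ closure ({l} : Set X.scheme))
    (M : A.Cat) (i n : ℤ)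
    (hi3 : i = i + 2 * relCodim ((X.ptSub l).res (traceOpen X l Yl)).scheme (X.res Yl).scheme)
    (hn3 : n = n + relCodim ((X.ptSub l).res (traceOpen X l Yl)).scheme (X.res Yl).scheme)
    (b : T.gp ((X.ptSub l).res (traceOpen X l Yl)) M i n)
    (hb : (T.push (trMap X Yl l) M i n i n hi3 hn3).hom b = 0) : b = 0 := by
  have hiso : IsIso (trMap X Yl l) :=
    isIso_liftOpen_of_subset X l (traceOpen X l Yl) Yl (fun z => Iff.rfl) hsub
  let e : (X.ptSub l).res (traceOpen X l Yl) ⟶ X.res Yl := homOfIso (trMap X Yl l)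
  have hecl : IsClosedImmersion e.hom := isClosedImmersion_trMap X Yl l
  have h1 := pull_push' T e M i n hi3 hn3 b
  have h2 : (T.push e.hom M i n i n hi3 hn3).hom b = 0 := hb
  rw [h2, map_zero] at h1
  exact h1.symm

theorem tot0_injective (X : Obj V) [IsReduced X.scheme] (P : T.PushData X 0) (M : A.Cat)
    (i n : ℤ) (hi : i = i + 2 * ((0 : ℕ) : ℤ)) (hn : n = n + ((0 : ℕ) : ℤ))
    (ξ : T.ptSum X 0 M i n) (hξ : (P.tot M i n i n hi hn).hom ξ = 0) : ξ = 0 := by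
  classical
  obtain ⟨S₀, B, hBcl, hall, hB0, hBcov, hBsep⟩ := exists_top_finset X
  have hrep : ∀ x : X.cdPt 0, ∃ (W : ptIdx X x.1)
      (b : T.gp ((X.ptSub x.1).res W.1) M i n),
      ((T.ptι X x.1 i n W).app M).hom b = ξ x :=
    fun x => ocolim_exists_rep T (X.ptSub x.1) _ i n M (ξ x)
  choose Wz bz hWb using hrep
  have hopen : IsOpen (Bᶜ ∩ ⋂ x ∈ S₀, (complOpen (X.ptSubι x.1) (Wz x).1 : Set X.scheme)) :=
    hBcl.isOpen_compl.inter
      (isOpen_biInter_finset fun x _ => (complOpen (X.ptSubι x.1) (Wz x).1).2)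
  have hYc : ContainsFj X 0 (⟨_, hopen⟩ : X.scheme.Opens) := by
    intro y hy
    refine ⟨hB0 y hy, Set.mem_iInter₂.mpr fun x _ => ?_⟩
    exact (containsFj_inf_complOpen X 0 x.1 x.2 (Wz x) ⊤ (fun _ _ => trivial) y hy).2
  obtain ⟨Y₀, hY₀eq⟩ : ∃ Y₀ : Idx X (ContainsFj X 0), (Y₀.1 : Set X.scheme) =
      Bᶜ ∩ ⋂ x ∈ S₀, (complOpen (X.ptSubι x.1) (Wz x).1 : Set X.scheme) :=
    ⟨⟨_, hYc, dim_eq_of_containsFj' X 0 _ hYc⟩, rfl⟩
  have hY₀mem : ∀ y, y ∈ Y₀.1 → y ∉ B ∧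
      ∀ x ∈ S₀, y ∈ complOpen (X.ptSubι x.1) (Wz x).1 := by
    intro y hy
    have h : y ∈ (Y₀.1 : Set X.scheme) := hy
    rw [hY₀eq] at h
    exact ⟨h.1, fun x hx => Set.mem_iInter₂.mp h.2 x hx⟩
  have htr : ∀ x : X.cdPt 0, traceOpen X x.1 Y₀.1 ≤ (Wz x).1 := by
    intro x z hz
    exact (mem_complOpen _ _ _).mp ((hY₀mem _ hz).2 x (hall x)) z rfl
  have hxY₀ : ∀ x : X.cdPt 0, x.1 ∈ Y₀.1 := fun x => Y₀.2.1 x.1 (le_of_eq x.2)
  let b₀ : ∀ x : X.cdPt 0, T.gp ((X.ptSub x.1).res (traceOpen X x.1 Y₀.1)) M i n :=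
    fun x => (rs T (X.ptSub x.1) (htr x)
      ((traceIdx X x.1 Y₀.1 (hxY₀ x)).2.2.trans (Wz x).2.2.symm) M i n).hom (bz x)
  have hb₀ : ∀ x : X.cdPt 0,
      ((T.ptι X x.1 i n (traceIdx X x.1 Y₀.1 (hxY₀ x))).app M).hom (b₀ x) = ξ x := fun x =>
    (congrArg (fun φ => φ.hom (bz x)) (ocolimι_rs T (X.ptSub x.1)
      (fun U => (U : Set (X.ptSub x.1).scheme).Nonempty) i n M
      (U' := traceIdx X x.1 Y₀.1 (hxY₀ x)) (U := Wz x) (htr x))).trans (hWb x)
  have hrc : ∀ (Y : Idx X (ContainsFj X 0)) (x : X.cdPt 0),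
      relCodim ((X.ptSub x.1).res (traceOpen X x.1 Y.1)).scheme (X.res Y.1).scheme = 0 := by
    intro Y x
    rw [relCodim_trMap X Y.1 Y.2.2 x.1 (Y.2.1 x.1 (le_of_eq x.2)), x.2]
    rfl
  have hi3 : ∀ (Y : Idx X (ContainsFj X 0)) (x : X.cdPt 0), i = i + 2 *
      relCodim ((X.ptSub x.1).res (traceOpen X x.1 Y.1)).scheme (X.res Y.1).scheme :=
    fun Y x => by rw [hrc Y x]; ring
  have hn3 : ∀ (Y : Idx X (ContainsFj X 0)) (x : X.cdPt 0), n = n +
      relCodim ((X.ptSub x.1).res (traceOpen X x.1 Y.1)).scheme (X.res Y.1).scheme :=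
    fun Y x => by rw [hrc Y x]; ring
  have hsum : (P.tot M i n i n hi hn).hom ξ =
      ((T.fjι X 0 i n Y₀).app M).hom
        (∑ x ∈ S₀, (T.push (trMap X Y₀.1 x.1) M i n i n (hi3 Y₀ x) (hn3 Y₀ x)).hom (b₀ x)) := by
    rw [tot_eq_sum T P M i n i n hi hn ξ S₀ (fun x hx => absurd (hall x) hx), map_sum]
    refine Finset.sum_congr rfl fun x _ => ?_
    rw [← hb₀ x]
    exact cpt_trMap T X 0 P Y₀ x M i n i n hi hn (hi3 Y₀ x) (hn3 Y₀ x) (b₀ x)
  rw [hsum] at hξ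
  obtain ⟨Y', hle, hz⟩ := ocolim_eq_zero T X (ContainsFj X 0) i n M Y₀ _ hξ
  have hxY' : ∀ x : X.cdPt 0, x.1 ∈ Y'.1 := fun x => Y'.2.1 x.1 (le_of_eq x.2)
  have hdW : ∀ x : X.cdPt 0, WeilCoh.dim (traceOpen X x.1 Y'.1 : Scheme.{u}) =
      WeilCoh.dim (traceOpen X x.1 Y₀.1 : Scheme.{u}) := fun x =>
    (traceIdx X x.1 Y'.1 (hxY' x)).2.2.trans (traceIdx X x.1 Y₀.1 (hxY₀ x)).2.2.symm
  let b' : ∀ x : X.cdPt 0, T.gp ((X.ptSub x.1).res (traceOpen X x.1 Y'.1)) M i n :=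
    fun x => (rs T (X.ptSub x.1) (traceOpen_mono X x.1 hle) (hdW x) M i n).hom (b₀ x)
  have hb'1 : ∀ x : X.cdPt 0,
      ((T.ptι X x.1 i n (traceIdx X x.1 Y'.1 (hxY' x))).app M).hom (b' x) = ξ x := fun x =>
    (congrArg (fun φ => φ.hom (b₀ x)) (ocolimι_rs T (X.ptSub x.1)
      (fun U => (U : Set (X.ptSub x.1).scheme).Nonempty) i n M
      (U' := traceIdx X x.1 Y'.1 (hxY' x)) (U := traceIdx X x.1 Y₀.1 (hxY₀ x))
      (traceOpen_mono X x.1 hle))).trans (hb₀ x)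
  have hb'2 : ∑ x ∈ S₀, (T.push (trMap X Y'.1 x.1) M i n i n (hi3 Y' x) (hn3 Y' x)).hom
      (b' x) = 0 := by
    rw [map_sum] at hz
    refine Eq.trans (Finset.sum_congr rfl fun x _ => ?_) hz
    exact (rs_push_trMap T X Y₀.1 Y'.1 hle (Y'.2.2.trans Y₀.2.2.symm) x.1 M i n i n
      (hi3 Y₀ x) (hn3 Y₀ x) (hi3 Y' x) (hn3 Y' x) (hdW x) (b₀ x)).symm
  -- the good properties of `Y'`
  have hg1 : ∀ y ∈ Y'.1, ∃ x ∈ S₀, y ∈ closure ({x.1} : Set X.scheme) :=
    fun y hy => hBcov y (hY₀mem y (hle hy)).1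
  have hg2 : ∀ y ∈ Y'.1, y ∉ sepC X 0 S₀ := fun y hy => hBsep y (hY₀mem y (hle hy)).1
  -- one component at a time
  refine DFinsupp.ext fun l => ?_
  change ξ l = 0
  let Yl := piece0 X S₀ Y'.1 l
  have hYl : Yl ≤ Y'.1 := piece0_le X S₀ Y'.1 l
  have hlYl : l.1 ∈ Yl := mem_piece0_self X S₀ Y'.1 hg1 hg2 l (hall l) (hxY' l)
  have hdYl : WeilCoh.dim (Yl : Scheme.{u}) = WeilCoh.dim (Y'.1 : Scheme.{u}) :=
    (dim_piece0 X S₀ Y'.1 hg1 hg2 l (hall l) (hxY' l)).trans Y'.2.2.symm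
  have hsub := piece0_subset_closure X S₀ Y'.1 hg1 hg2 l (hall l)
  have h1 := congrArg (fun t => (rs T X hYl hdYl M i n).hom t) hb'2
  simp only [map_sum, map_zero] at h1
  rw [Finset.sum_eq_single l] at h1
  · have hdWl : WeilCoh.dim (traceOpen X l.1 Yl : Scheme.{u}) =
        WeilCoh.dim (traceOpen X l.1 Y'.1 : Scheme.{u}) :=
      (traceIdx X l.1 Yl hlYl).2.2.trans (traceIdx X l.1 Y'.1 (hxY' l)).2.2.symm
    have hrcl : relCodim ((X.ptSub l.1).res (traceOpen X l.1 Yl)).scheme (X.res Yl).scheme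
        = 0 := by
      rw [relCodim_trMap X Yl (hdYl.trans Y'.2.2) l.1 hlYl, l.2]
      rfl
    have hil : i = i + 2 * relCodim ((X.ptSub l.1).res (traceOpen X l.1 Yl)).scheme
        (X.res Yl).scheme := by rw [hrcl]; ring
    have hnl : n = n + relCodim ((X.ptSub l.1).res (traceOpen X l.1 Yl)).scheme
        (X.res Yl).scheme := by rw [hrcl]; ring
    rw [rs_push_trMap T X Y'.1 Yl hYl hdYl l.1 M i n i n (hi3 Y' l) (hn3 Y' l) hil hnl hdWl
      (b' l)] at h1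
    have h2 := eq_zero_of_push_trMap_eq_zero T X Yl l.1 hsub M i n hil hnl _ h1
    have h3 := congrArg (fun φ => φ.hom (b' l)) (ocolimι_rs T (X.ptSub l.1)
      (fun U => (U : Set (X.ptSub l.1).scheme).Nonempty) i n M
      (U' := traceIdx X l.1 Yl hlYl) (U := traceIdx X l.1 Y'.1 (hxY' l))
      (traceOpen_mono X l.1 hYl))
    rw [← hb'1 l]
    refine h3.symm.trans ?_
    change ((T.ptι X l.1 i n (traceIdx X l.1 Yl hlYl)).app M).hom
      ((rs T (X.ptSub l.1) (traceOpen_mono X l.1 hYl) hdWl M i n).hom (b' l)) = 0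
    rw [h2]
    exact map_zero _
  · intro k _ hkl
    apply rs_push_trMap_off T X Y'.1 Yl hYl hdYl k.1
    intro y hy hyk
    have hyl := hsub hy
    exact hg2 y (hYl hy) ((mem_sepC X 0 S₀ y).mpr
      ⟨l, hall l, hyl, k, hall k, hkl, hyk⟩)
  · intro h
    exact absurd (hall l) h

end L0Inj

end Groth.Agent.Lib.Helper47.BMUniq
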