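import Groth.Agent.Lib.Helper47.BML0Geom

set_option autoImplicit false
universe u

namespace Groth.Agent.Lib.Helper47.BMUniq

open TopologicalSpace Topology Order AlgebraicGeometry CategoryTheory BMCoh Opposite
open CategoryTheory.Limits DirectSum

section L0Surj

variable {V : ObjectProperty Scheme.{u}} [IsConstructible V] {R : Type u} [CommRing R]
  {A : Coefs R} (T : PreTheory V R A)

lemma push_pull_iso {Y₁ Y₂ : Obj V} (e : Y₁ ⟶ Y₂) [IsIso e] [IsClosedImmersion e.hom]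
    (M : A.Cat) (i n : ℤ) (hi : i = i + 2 * relCodim Y₁.scheme Y₂.scheme)
    (hn : n = n + relCodim Y₁.scheme Y₂.scheme) (c : T.gp Y₂ M i n) :
    (T.push e.hom M i n i n hi hn).hom ((T.pull e M i n).hom c) = c :=
  (pull_bijective_of_isIso T e M i n).1 (pull_push' T e M i n hi hn _)

variable (X : Obj V) [IsReduced X.scheme] (P : T.PushData X 0) (M : A.Cat) (i n : ℤ)
  (hi : i = i + 2 * ((0 : ℕ) : ℤ)) (hn : n = n + ((0 : ℕ) : ℤ))
  (S₀ : Finset (X.cdPt 0)) (Y : Idx X (ContainsFj X 0))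
  (hg1 : ∀ y ∈ Y.1, ∃ x ∈ S₀, y ∈ closure ({x.1} : Set X.scheme))
  (hg2 : ∀ y ∈ Y.1, y ∉ sepC X 0 S₀)

include hg1 hg2 in
lemma trace_piece0_iff (x : X.cdPt 0) (hx : x ∈ S₀) (z : (X.ptSub x.1).scheme) :
    (X.ptSubι x.1) z ∈ Y.1 ↔ z ∈ traceOpen X x.1 (piece0 X S₀ Y.1 x) := by
  constructor
  · intro h
    refine (mem_piece0_iff X S₀ Y.1 hg1 hg2 x hx _ h).mpr ?_
    rw [← range_ptSubι]
    exact ⟨z, rfl⟩
  · intro h
    exact h.1

include hg1 hg2 in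
theorem fjι_pushLE_piece (x : X.cdPt 0) (hx : x ∈ S₀)
    (hcl : IsClosedImmersion (X.scheme.homOfLE (piece0_le X S₀ Y.1 x)))
    (hd : WeilCoh.dim (piece0 X S₀ Y.1 x : Scheme.{u}) = WeilCoh.dim (Y.1 : Scheme.{u}))
    (c : T.gp (X.res (piece0 X S₀ Y.1 x)) M i n) :
    ∃ β : T.gp ((X.ptSub x.1).res (traceOpen X x.1 (piece0 X S₀ Y.1 x))) M i n,
      ((T.fjι X 0 i n Y).app M).hom
          ((pushLE T X (piece0_le X S₀ Y.1 x) hcl hd M i n).hom c) =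
        (P.cpt x M i n i n hi hn).hom
          (((T.ptι X x.1 i n (traceIdx X x.1 (piece0 X S₀ Y.1 x)
            (mem_piece0_self X S₀ Y.1 hg1 hg2 x hx (Y.2.1 x.1 (le_of_eq x.2))))).app M).hom
            β) := by
  have hiso := isIso_liftOpen_of_subset X x.1 (traceOpen X x.1 (piece0 X S₀ Y.1 x))
    (piece0 X S₀ Y.1 x) (fun z => Iff.rfl) (piece0_subset_closure X S₀ Y.1 hg1 hg2 x hx)
  let e : (X.ptSub x.1).res (traceOpen X x.1 (piece0 X S₀ Y.1 x)) ⟶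
      X.res (piece0 X S₀ Y.1 x) :=
    homOfIso (liftOpen (X.ptSubι x.1) (traceOpen X x.1 (piece0 X S₀ Y.1 x))
      (piece0 X S₀ Y.1 x) (fun w hw => (Iff.rfl : _ ↔ w ∈ traceOpen X x.1 _).mpr hw))
  have he : IsIso e := isIso_homOfIso _
  have hehom : IsIso e.hom := hiso
  have hrc1 : relCodim ((X.ptSub x.1).res (traceOpen X x.1 (piece0 X S₀ Y.1 x))).scheme
      (X.res (piece0 X S₀ Y.1 x)).scheme = 0 := relCodim_eq_zero_of_dim_eq e.dim_eq
  have hrc2 : relCodim (X.res (piece0 X S₀ Y.1 x)).scheme (X.res Y.1).scheme = 0 :=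
    relCodim_eq_zero_of_dim_eq hd
  have hrc3 : relCodim ((X.ptSub x.1).res (traceOpen X x.1 (piece0 X S₀ Y.1 x))).scheme
      (X.res Y.1).scheme = 0 := relCodim_eq_zero_of_dim_eq (e.dim_eq.trans hd)
  have hi1 : i = i + 2 * relCodim ((X.ptSub x.1).res (traceOpen X x.1
      (piece0 X S₀ Y.1 x))).scheme (X.res (piece0 X S₀ Y.1 x)).scheme := by rw [hrc1]; ring
  have hn1 : n = n + relCodim ((X.ptSub x.1).res (traceOpen X x.1
      (piece0 X S₀ Y.1 x))).scheme (X.res (piece0 X S₀ Y.1 x)).scheme := by rw [hrc1]; ring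
  have hi2 : i = i + 2 * relCodim (X.res (piece0 X S₀ Y.1 x)).scheme (X.res Y.1).scheme := by
    rw [hrc2]; ring
  have hn2 : n = n + relCodim (X.res (piece0 X S₀ Y.1 x)).scheme (X.res Y.1).scheme := by
    rw [hrc2]; ring
  have hi3 : i = i + 2 * relCodim ((X.ptSub x.1).res (traceOpen X x.1
      (piece0 X S₀ Y.1 x))).scheme (X.res Y.1).scheme := by rw [hrc3]; ring
  have hn3 : n = n + relCodim ((X.ptSub x.1).res (traceOpen X x.1
      (piece0 X S₀ Y.1 x))).scheme (X.res Y.1).scheme := by rw [hrc3]; ring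
  refine ⟨(T.pull e M i n).hom c, ?_⟩
  have h1 : (T.push e.hom M i n i n hi1 hn1).hom ((T.pull e M i n).hom c) = c :=
    push_pull_iso T e M i n hi1 hn1 c
  -- the closed immersion of the trace into `Y`
  let f : ((X.ptSub x.1).res (traceOpen X x.1 (piece0 X S₀ Y.1 x))).scheme ⟶
      (X.res Y.1).scheme :=
    liftOpen (X.ptSubι x.1) (traceOpen X x.1 (piece0 X S₀ Y.1 x)) Y.1
      (fun w hw => (trace_piece0_iff X S₀ Y hg1 hg2 x hx w).mpr hw)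
  have hfcl : IsClosedImmersion f :=
    isClosedImmersion_liftOpen' (X.ptSubι x.1) (traceOpen X x.1 (piece0 X S₀ Y.1 x)) Y.1
      (trace_piece0_iff X S₀ Y hg1 hg2 x hx)
  have hf : e.hom ≫ X.scheme.homOfLE (piece0_le X S₀ Y.1 x) = f :=
    liftOpen_homOfLE (X.ptSubι x.1) (traceOpen X x.1 (piece0 X S₀ Y.1 x))
      (piece0_le X S₀ Y.1 x) (fun w hw => (Iff.rfl : _ ↔ w ∈ traceOpen X x.1 _).mpr hw)
  have hcl' : IsClosedImmersion (X.scheme.homOfLE (piece0_le X S₀ Y.1 x)) := hcl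
  have hcomp := T.push_comp (X := (X.ptSub x.1).res (traceOpen X x.1 (piece0 X S₀ Y.1 x)))
    (Y := X.res (piece0 X S₀ Y.1 x)) (Z := X.res Y.1) e.hom
    (X.scheme.homOfLE (piece0_le X S₀ Y.1 x)) M i n i n i n hi1 hn1 hi2 hn2 hi3 hn3
  have hcong := push_congr T hf M i n i n hi3 hn3
  have h2 : (pushLE T X (piece0_le X S₀ Y.1 x) hcl hd M i n).hom c =
      (T.push f M i n i n hi3 hn3).hom ((T.pull e M i n).hom c) := by
    have h3 := congrArg (fun φ => φ.hom ((T.pull e M i n).hom c)) (hcomp.trans hcong)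
    have h4 : (T.push (X.scheme.homOfLE (piece0_le X S₀ Y.1 x)) M i n i n hi2 hn2).hom c =
        (T.push (X.scheme.homOfLE (piece0_le X S₀ Y.1 x)) M i n i n hi2 hn2).hom
          ((T.push e.hom M i n i n hi1 hn1).hom ((T.pull e M i n).hom c)) := by rw [h1]
    exact h4.trans h3
  rw [h2]
  have inst : @IsProper ((X.ptSub x.1).res (traceIdx X x.1 (piece0 X S₀ Y.1 x)
      (mem_piece0_self X S₀ Y.1 hg1 hg2 x hx (Y.2.1 x.1 (le_of_eq x.2)))).1).scheme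
      (X.res Y.1).scheme f := by
    change IsProper f
    infer_instance
  have spec := P.cpt_spec x M i n i n hi hn Y
    (traceIdx X x.1 (piece0 X S₀ Y.1 x)
      (mem_piece0_self X S₀ Y.1 hg1 hg2 x hx (Y.2.1 x.1 (le_of_eq x.2)))) f
    (liftOpen_ι _ _ _ _) hi3 hn3
  exact (congrArg (fun φ => φ.hom ((T.pull e M i n).hom c)) spec).symm

omit hg1 hg2 S₀ Y in
theorem tot0_surjective (α : T.fjGp X 0 M i n) :
    ∃ ξ : T.ptSum X 0 M i n, (P.tot M i n i n hi hn).hom ξ = α := by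
  classical
  obtain ⟨U, a, rfl⟩ := ocolim_exists_rep T X _ i n M α
  obtain ⟨S₀, B, hBcl, hall, hB0, hBcov, hBsep⟩ := exists_top_finset X
  have hYc : ContainsFj X 0
      (⟨(U.1 : Set X.scheme) ∩ Bᶜ, U.1.2.inter hBcl.isOpen_compl⟩ : X.scheme.Opens) :=
    fun y hy => ⟨U.2.1 y hy, hB0 y hy⟩
  obtain ⟨Y, hYeq⟩ : ∃ Y : Idx X (ContainsFj X 0), (Y.1 : Set X.scheme) =
      (U.1 : Set X.scheme) ∩ Bᶜ := ⟨⟨_, hYc, dim_eq_of_containsFj' X 0 _ hYc⟩, rfl⟩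
  have hYmem : ∀ y, y ∈ Y.1 → y ∈ U.1 ∧ y ∉ B := by
    intro y hy
    have h : y ∈ (Y.1 : Set X.scheme) := hy
    rw [hYeq] at h
    exact h
  have hYU : Y.1 ≤ U.1 := fun y hy => (hYmem y hy).1
  have hg1 : ∀ y ∈ Y.1, ∃ x ∈ S₀, y ∈ closure ({x.1} : Set X.scheme) :=
    fun y hy => hBcov y (hYmem y hy).2
  have hg2 : ∀ y ∈ Y.1, y ∉ sepC X 0 S₀ := fun y hy => hBsep y (hYmem y hy).2
  have hxY : ∀ x : X.cdPt 0, x.1 ∈ Y.1 := fun x => Y.2.1 x.1 (le_of_eq x.2)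
  let c := (rs T X hYU (Y.2.2.trans U.2.2.symm) M i n).hom a
  have hα : ((T.fjι X 0 i n U).app M).hom a = ((T.fjι X 0 i n Y).app M).hom c :=
    (congrArg (fun φ => φ.hom a) (ocolimι_rs T X (ContainsFj X 0) i n M
      (U' := Y) (U := U) hYU)).symm
  let Ω : {x // x ∈ S₀} → X.scheme.Opens := fun k => piece0 X S₀ Y.1 k.1
  have hle : ∀ k, Ω k ≤ Y.1 := fun k => piece0_le X S₀ Y.1 k.1
  have hd : ∀ k, WeilCoh.dim (Ω k : Scheme.{u}) = WeilCoh.dim (Y.1 : Scheme.{u}) :=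
    fun k => (dim_piece0 X S₀ Y.1 hg1 hg2 k.1 k.2 (hxY k.1)).trans Y.2.2.symm
  have hdisj : ∀ k l : {x // x ∈ S₀}, k ≠ l → ∀ y, y ∈ Ω k → y ∉ Ω l :=
    fun k l hkl y hy => piece0_disjoint X S₀ Y.1 hg1 hg2 k.1 k.2 l.1 l.2
      (fun e => hkl (Subtype.ext e)) y hy
  have hcov : ∀ y ∈ Y.1, ∃ k : {x // x ∈ S₀}, y ∈ Ω k := fun y hy => by
    obtain ⟨x, hx, hyx⟩ := piece0_cover X S₀ Y.1 hg1 hg2 y hy
    exact ⟨⟨x, hx⟩, hyx⟩
  have hcl := fun k => isClosedImmersion_piece X Ω Y.1 hle hdisj hcov k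
  have hsum := sum_pushLE_rs T X Ω Y.1 hle hd hdisj hcov M i n hcl c
  have hβ : ∀ k : {x // x ∈ S₀}, ∃ β : T.gp ((X.ptSub k.1.1).res
      (traceOpen X k.1.1 (piece0 X S₀ Y.1 k.1))) M i n,
      ((T.fjι X 0 i n Y).app M).hom ((pushLE T X (hle k) (hcl k) (hd k) M i n).hom
        ((rs T X (hle k) (hd k) M i n).hom c)) =
        (P.cpt k.1 M i n i n hi hn).hom
          (((T.ptι X k.1.1 i n (traceIdx X k.1.1 (piece0 X S₀ Y.1 k.1)
            (mem_piece0_self X S₀ Y.1 hg1 hg2 k.1 k.2 (hxY k.1)))).app M).hom β) :=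
    fun k => fjι_pushLE_piece T X P M i n hi hn S₀ Y hg1 hg2 k.1 k.2 (hcl k) (hd k) _
  choose β hβ' using hβ
  refine ⟨∑ k : {x // x ∈ S₀}, DirectSum.lof R (X.cdPt 0)
    (fun y : X.cdPt 0 => T.ptGp X y.1 M i n) k.1
    (((T.ptι X k.1.1 i n (traceIdx X k.1.1 (piece0 X S₀ Y.1 k.1)
      (mem_piece0_self X S₀ Y.1 hg1 hg2 k.1 k.2 (hxY k.1)))).app M).hom (β k)), ?_⟩
  rw [map_sum, hα]
  conv_rhs => rw [hsum, map_sum]
  refine Finset.sum_congr rfl fun k _ => ?_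
  rw [hβ' k]
  exact P.tot_lof M i n i n hi hn k.1 _

end L0Surj

end Groth.Agent.Lib.Helper47.BMUniq
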