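import Groth.Agent.Lib.Helper47.BMTop

set_option autoImplicit false
universe u

namespace Groth.Agent.Lib.Helper47.BMUniq

open TopologicalSpace Topology Order AlgebraicGeometry CategoryTheory BMCoh

section Lift

variable {X Z : Scheme.{u}} (g : Z ⟶ X)

lemma ι_mem {X : Scheme.{u}} (U : X.Opens) (u : (U : Scheme.{u})) : U.ι u ∈ U := by
  have : U.ι u ∈ Set.range U.ι := ⟨u, rfl⟩
  rwa [Scheme.Opens.range_ι] at this

lemma exists_ι_eq {X : Scheme.{u}} (U : X.Opens) (x : X) (hx : x ∈ U) :
    ∃ u : (U : Scheme.{u}), U.ι u = x := by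
  have : x ∈ Set.range U.ι := by rwa [Scheme.Opens.range_ι]
  exact this

/-- lift of the restriction of `g` to an open `W` of the source through an open `U` of the target -/
noncomputable def liftOpen (W : Z.Opens) (U : X.Opens) (h : ∀ w ∈ W, g w ∈ U) :
    (W : Scheme.{u}) ⟶ (U : Scheme.{u}) :=
  IsOpenImmersion.lift U.ι (W.ι ≫ g) (by
    rw [Scheme.Opens.range_ι]
    rintro _ ⟨w, rfl⟩
    exact h _ (ι_mem W w))

@[reassoc]
lemma liftOpen_ι (W : Z.Opens) (U : X.Opens) (h : ∀ w ∈ W, g w ∈ U) :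
    liftOpen g W U h ≫ U.ι = W.ι ≫ g :=
  IsOpenImmersion.lift_fac _ _ _

lemma liftOpen_apply (W : Z.Opens) (U : X.Opens) (h : ∀ w ∈ W, g w ∈ U) (w : (W : Scheme.{u})) :
    U.ι ((liftOpen g W U h) w) = g (W.ι w) := by
  have := congrArg (fun φ : (W : Scheme.{u}) ⟶ X => φ w) (liftOpen_ι g W U h)
  simpa using this

lemma isInducing_liftOpen [IsPreimmersion g] (W : Z.Opens) (U : X.Opens) (h : ∀ w ∈ W, g w ∈ U) :
    IsInducing (liftOpen g W U h) := by
  have h1 : IsInducing (⇑U.ι ∘ ⇑(liftOpen g W U h)) := by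
    have h2 : (⇑U.ι ∘ ⇑(liftOpen g W U h)) = (⇑g ∘ ⇑W.ι) := by
      funext w
      exact liftOpen_apply g W U h w
    rw [h2]
    exact g.isEmbedding.isInducing.comp W.ι.isOpenEmbedding.isInducing
  exact IsInducing.of_comp (liftOpen g W U h).continuous U.ι.continuous h1

/-- the complement in `X` of the image of the complement of `W` -/
def complOpen [IsClosedImmersion g] (W : Z.Opens) : X.Opens :=
  ⟨(g '' (W : Set Z)ᶜ)ᶜ, (g.isClosedEmbedding.isClosedMap _ W.2.isClosed_compl).isOpen_compl⟩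

lemma mem_complOpen [IsClosedImmersion g] (W : Z.Opens) (y : X) :
    y ∈ complOpen g W ↔ ∀ z, g z = y → z ∈ W := by
  change y ∈ (g '' (W : Set Z)ᶜ)ᶜ ↔ _
  simp only [Set.mem_compl_iff, Set.mem_image, not_exists, not_and]
  constructor
  · intro h z hz
    by_contra hzW
    exact h z hzW hz
  · intro h z hzW hz
    exact hzW (h z hz)

lemma map_mem_complOpen [IsClosedImmersion g] (W : Z.Opens) (w : Z) (hw : w ∈ W) :
    g w ∈ complOpen g W := by
  rw [mem_complOpen]
  intro z hz
  rwa [g.isClosedEmbedding.injective hz]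

lemma isClosedImmersion_liftOpen [IsClosedImmersion g] (W : Z.Opens) :
    IsClosedImmersion (liftOpen g W (complOpen g W) (map_mem_complOpen g W)) := by
  set f := liftOpen g W (complOpen g W) (map_mem_complOpen g W) with hf
  have : IsPreimmersion (f ≫ (complOpen g W).ι) := by
    rw [hf, liftOpen_ι]
    infer_instance
  have : IsPreimmersion f := IsPreimmersion.of_comp f (complOpen g W).ι
  apply IsClosedImmersion.of_isPreimmersion
  have hr : Set.range f = (complOpen g W).ι ⁻¹' (Set.range g) := by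
    ext u
    constructor
    · rintro ⟨w, rfl⟩
      exact ⟨W.ι w, (liftOpen_apply g W _ _ w).symm⟩
    · rintro ⟨z, hz⟩
      have hzW : z ∈ W := (mem_complOpen g W _).mp (ι_mem _ u) z hz
      obtain ⟨w, hw⟩ := exists_ι_eq W z hzW
      refine ⟨w, ?_⟩
      apply (complOpen g W).ι.isOpenEmbedding.injective
      rw [hf, liftOpen_apply, hw, hz]
  rw [hr]
  exact g.isClosedEmbedding.isClosed_range.preimage (complOpen g W).ι.continuous

end Lift

end Groth.Agent.Lib.Helper47.BMUniq
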