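import Groth.Agent.Lib.Helper47.BMMidAux

set_option autoImplicit false
universe u

namespace Groth.Agent.Lib.Helper47.BMUniq

open TopologicalSpace Topology Order AlgebraicGeometry CategoryTheory BMCoh Opposite
open CategoryTheory.Limits DirectSum

section Mid1

variable {V : ObjectProperty Scheme.{u}} [IsConstructible V] {R : Type u} [CommRing R]
  {A : Coefs R} (T : PreTheory V R A)

/-- evaluation of a push-forward datum on a class on the trace of an open containing `F_{j+1}` -/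
lemma cpt_traceMap (X : Obj V) (j : ℕ) (P : T.PushData X (j + 1))
    (Y : Idx X (ContainsFj X (j + 1))) (x : X.cdPt (j + 1)) (M : A.Cat) (i' n' i₁ n₁ : ℤ)
    (hi2 : i₁ = i' + 2 * ((j + 1 : ℕ) : ℤ)) (hn2 : n₁ = n' + ((j + 1 : ℕ) : ℤ))
    (hi3 : i₁ = i' + 2 * relCodim ((X.ptSub x.1).res (traceOpen X x.1 Y.1)).scheme
      (X.res Y.1).scheme)
    (hn3 : n₁ = n' + relCodim ((X.ptSub x.1).res (traceOpen X x.1 Y.1)).scheme
      (X.res Y.1).scheme)
    (β : T.gp ((X.ptSub x.1).res (traceOpen X x.1 Y.1)) M i' n') :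
    (P.cpt x M i' n' i₁ n₁ hi2 hn2).hom
      (((T.ptι X x.1 i' n' (traceIdx X x.1 Y.1 (Y.2.1 x.1 (le_of_eq x.2)))).app M).hom β) =
      ((T.fjι X (j + 1) i₁ n₁ Y).app M).hom
        ((T.push (X := (X.ptSub x.1).res (traceOpen X x.1 Y.1)) (Y := X.res Y.1)
          (traceMap X j Y x) M i' n' i₁ n₁ hi3 hn3).hom β) := by
  have inst : @IsProper ((X.ptSub x.1).res (traceIdx X x.1 Y.1 (Y.2.1 x.1 (le_of_eq x.2))).1).scheme
      (X.res Y.1).scheme (traceMap X j Y x) := by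
    change IsProper (traceMap X j Y x)
    infer_instance
  have spec := P.cpt_spec x M i' n' i₁ n₁ hi2 hn2 Y
    (traceIdx X x.1 Y.1 (Y.2.1 x.1 (le_of_eq x.2))) (traceMap X j Y x)
    (liftOpen_ι _ _ _ _) hi3 hn3
  exact congrArg (fun φ => φ.hom β) spec

theorem tot_tot_eq_zero_aux (X : Obj V) (j : ℕ) (Q : T.ResData X j) (P : T.PushData X (j + 1))
    (M : A.Cat) (i n i' n' : ℤ) (hi : i' = i + 1 - 2 * ((j : ℤ) + 1))
    (hn : n' = n - ((j : ℤ) + 1)) (hi2 : i + 1 = i' + 2 * ((j + 1 : ℕ) : ℤ))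
    (hn2 : n = n' + ((j + 1 : ℕ) : ℤ)) (S : Finset (X.cdPt (j + 1)))
    (Y : Idx X (ContainsFj X (j + 1)))
    (hsep : ∀ x ∈ S, ∀ x' ∈ S, x ≠ x' → ∀ y ∈ Y.1, y ∈ closure ({x.1} : Set X.scheme) →
      y ∉ closure ({x'.1} : Set X.scheme))
    (x₀ : X.cdPt (j + 1)) (hx₀ : x₀ ∈ S) (a : T.gp (X.res (jointO X j S Y)) M i n) :
    ∑ x ∈ S, (P.cpt x M i' n' (i + 1) n hi2 hn2).hom
      ((Q.cpt x M i n i' n' hi hn).hom
        (((T.fjι X j i n (jointOIdx X j S Y)).app M).hom a)) = 0 := by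
  classical
  obtain ⟨β, hβ1, hβ2⟩ := joint_complex T X j S Y hsep Q x₀ hx₀ M i n i' n' hi hn hi2 hn2 a
  rw [← Finset.sum_coe_sort S]
  have hterm : ∀ k : {x // x ∈ S}, (P.cpt k.1 M i' n' (i + 1) n hi2 hn2).hom
      ((Q.cpt k.1 M i n i' n' hi hn).hom
        (((T.fjι X j i n (jointOIdx X j S Y)).app M).hom a)) =
      ((T.fjι X (j + 1) (i + 1) n Y).app M).hom
        ((T.push (traceMap X j Y k.1) M i' n' (i + 1) n
          (by rw [relCodim_traceMap]; exact hi2) (by rw [relCodim_traceMap]; exact hn2)).hom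
          (β k)) := by
    intro k
    rw [hβ1 k]
    exact cpt_traceMap T X j P Y k.1 M i' n' (i + 1) n hi2 hn2 _ _ (β k)
  rw [Finset.sum_congr rfl fun k _ => hterm k, ← map_sum, hβ2, map_zero]

/-- the composite of the total residue and the total push-forward vanishes -/
theorem tot_tot_eq_zero (X : Obj V) (j : ℕ) (Q : T.ResData X j) (P : T.PushData X (j + 1))
    (M : A.Cat) (i n i' n' : ℤ) (hi : i' = i + 1 - 2 * ((j : ℤ) + 1))
    (hn : n' = n - ((j : ℤ) + 1)) (hi2 : i + 1 = i' + 2 * ((j + 1 : ℕ) : ℤ))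
    (hn2 : n = n' + ((j + 1 : ℕ) : ℤ)) (α : T.fjGp X j M i n) :
    (P.tot M i' n' (i + 1) n hi2 hn2).hom ((Q.tot M i n i' n' hi hn).hom α) = 0 := by
  classical
  obtain ⟨O₀, a₀, rfl⟩ := ocolim_exists_rep T X _ i n M α
  obtain ⟨Gen, hGenO, hGencov⟩ := exists_generic_finset X O₀.1
  let S : Finset (X.cdPt (j + 1)) := Gen.subtype (fun x => WeilCoh.codim X.scheme x = j + 1)
  have hGcod : ∀ s ∈ Gen, j + 1 ≤ WeilCoh.codim X.scheme s := fun s hs => by
    by_contra h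
    exact hGenO s hs (O₀.2.1 s (by omega))
  have hSmem : ∀ x : X.cdPt (j + 1), x ∈ S ↔ x.1 ∈ Gen := fun x => Finset.mem_subtype
  have hout : ∀ x : X.cdPt (j + 1), x ∉ S → x.1 ∈ O₀.1 := by
    intro x hx
    by_contra hxO
    obtain ⟨s, hs, hxs⟩ := hGencov x.1 hxO
    have e : x.1 = s := eq_of_mem_closure_of_codim_eq X hxs (by rw [x.2]; exact hGcod s hs)
    exact hx ((hSmem x).mpr (e ▸ hs))
  have hsupp : ∀ x, x ∉ S →
      ((Q.tot M i n i' n' hi hn).hom (((T.fjι X j i n O₀).app M).hom a₀)) x = 0 :=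
    fun x hx => cpt_fjι_eq_zero_of_mem T X j Q M i n i' n' hi hn x O₀ (hout x hx) a₀
  rw [tot_eq_sum T P M i' n' (i + 1) n hi2 hn2 _ S hsupp]
  by_cases hSne : S.Nonempty
  swap
  · rw [Finset.not_nonempty_iff_eq_empty.mp hSne, Finset.sum_empty]
  obtain ⟨x₀, hx₀⟩ := hSne
  let Ghigh := Gen.filter (fun s => WeilCoh.codim X.scheme s ≠ j + 1)
  have hBcl : IsClosed (sepC X (j + 1) S ∪ clUnion X Ghigh) :=
    (isClosed_sepC X (j + 1) S).union (isClosed_clUnion X Ghigh)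
  have hYc : ContainsFj X (j + 1)
      (⟨(sepC X (j + 1) S ∪ clUnion X Ghigh)ᶜ, hBcl.isOpen_compl⟩ : X.scheme.Opens) := by
    intro y hy
    rintro (h | h)
    · exact not_mem_sepC_of_codim_le X (j + 1) S y hy h
    · obtain ⟨s, hs, hys⟩ := (mem_clUnion X Ghigh y).mp h
      have hs' := Finset.mem_filter.mp hs
      have h1 := hGcod s hs'.1
      have h2 := codim_le_of_mem_closure X hys
      have h3 := hs'.2
      omega
  obtain ⟨Y, hYeq⟩ : ∃ Y : Idx X (ContainsFj X (j + 1)),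
      (Y.1 : Set X.scheme) = (sepC X (j + 1) S ∪ clUnion X Ghigh)ᶜ :=
    ⟨⟨_, hYc, dim_eq_of_containsFj' X (j + 1) _ hYc⟩, rfl⟩
  have hYmem : ∀ y, y ∈ Y.1 ↔ y ∉ sepC X (j + 1) S ∪ clUnion X Ghigh := fun y => by
    change y ∈ (Y.1 : Set X.scheme) ↔ _
    rw [hYeq]
    rfl
  have hsep := hsep_of_not_mem_sepC X (j + 1) S Y.1
    (fun y hy h => (hYmem y).mp hy (Or.inl h))
  have hOle : jointO X j S Y ≤ O₀.1 := by
    intro y hy
    by_contra hyO
    obtain ⟨s, hs, hys⟩ := hGencov y hyO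
    by_cases hsc : WeilCoh.codim X.scheme s = j + 1
    · exact hy.2 ((mem_jointC X (j + 1) S y).mpr ⟨⟨s, hsc⟩, (hSmem _).mpr hs, hys⟩)
    · exact (hYmem y).mp hy.1
        (Or.inr ((mem_clUnion X Ghigh y).mpr ⟨s, Finset.mem_filter.mpr ⟨hs, hsc⟩, hys⟩))
  have hα : ((T.fjι X j i n O₀).app M).hom a₀ =
      ((T.fjι X j i n (jointOIdx X j S Y)).app M).hom
        ((rs T X hOle ((jointOIdx X j S Y).2.2.trans O₀.2.2.symm) M i n).hom a₀) :=
    (congrArg (fun φ => φ.hom a₀) (ocolimι_rs T X (ContainsFj X j) i n M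
      (U' := jointOIdx X j S Y) (U := O₀) hOle)).symm
  have haux := tot_tot_eq_zero_aux T X j Q P M i n i' n' hi hn hi2 hn2 S Y hsep x₀ hx₀
    ((rs T X hOle ((jointOIdx X j S Y).2.2.trans O₀.2.2.symm) M i n).hom a₀)
  rw [← hα] at haux
  exact haux

end Mid1

end Groth.Agent.Lib.Helper47.BMUniq
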