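import Groth.Agent.Lib.Helper47.BMMid1

set_option autoImplicit false
universe u

namespace Groth.Agent.Lib.Helper47.BMUniq

open TopologicalSpace Topology Order AlgebraicGeometry CategoryTheory BMCoh Opposite
open CategoryTheory.Limits DirectSum

section Mid2

variable {V : ObjectProperty Scheme.{u}} [IsConstructible V] {R : Type u} [CommRing R]
  {A : Coefs R} (T : PreTheory V R A)

lemma traceOpen_mono (X : Obj V) (x : X.scheme) {Y' Y : X.scheme.Opens} (hle : Y' ≤ Y) :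
    traceOpen X x Y' ≤ traceOpen X x Y := fun _ hz => hle hz

/-- base change for the push-forward from the trace -/
lemma rs_push_traceMap (X : Obj V) (j : ℕ) (Y Y' : Idx X (ContainsFj X (j + 1)))
    (hle : Y'.1 ≤ Y.1) (x : X.cdPt (j + 1)) (M : A.Cat) (i' n' i₁ n₁ : ℤ)
    (hi3 : i₁ = i' + 2 * relCodim ((X.ptSub x.1).res (traceOpen X x.1 Y.1)).scheme
      (X.res Y.1).scheme)
    (hn3 : n₁ = n' + relCodim ((X.ptSub x.1).res (traceOpen X x.1 Y.1)).scheme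
      (X.res Y.1).scheme)
    (hi3' : i₁ = i' + 2 * relCodim ((X.ptSub x.1).res (traceOpen X x.1 Y'.1)).scheme
      (X.res Y'.1).scheme)
    (hn3' : n₁ = n' + relCodim ((X.ptSub x.1).res (traceOpen X x.1 Y'.1)).scheme
      (X.res Y'.1).scheme)
    (hdW : WeilCoh.dim (traceOpen X x.1 Y'.1 : Scheme.{u}) =
      WeilCoh.dim (traceOpen X x.1 Y.1 : Scheme.{u}))
    (b : T.gp ((X.ptSub x.1).res (traceOpen X x.1 Y.1)) M i' n') :
    (rs T X hle (Y'.2.2.trans Y.2.2.symm) M i₁ n₁).hom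
      ((T.push (traceMap X j Y x) M i' n' i₁ n₁ hi3 hn3).hom b) =
    (T.push (traceMap X j Y' x) M i' n' i₁ n₁ hi3' hn3').hom
      ((rs T (X.ptSub x.1) (traceOpen_mono X x.1 hle) hdW M i' n').hom b) := by
  have hpb : IsPullback ((X.ptSub x.1).scheme.homOfLE (traceOpen_mono X x.1 hle))
      (traceMap X j Y' x) (traceMap X j Y x) (X.scheme.homOfLE hle) :=
    isPullback_liftOpen (X.ptSubι x.1) (traceOpen_mono X x.1 hle) hle
      (fun w hw => (mem_traceOpen X x.1 Y.1 w).mpr hw)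
      (fun w hw => (mem_traceOpen X x.1 Y'.1 w).mpr hw) (fun z _ hz => hz)
  have hbc := T.push_pull (traceMap X j Y x) (traceMap X j Y' x)
    (X.resLE hle (Y'.2.2.trans Y.2.2.symm))
    ((X.ptSub x.1).resLE (traceOpen_mono X x.1 hle) hdW) hpb M i' n' i₁ n₁ hi3 hn3 hi3' hn3'
  exact congrArg (fun φ => φ.hom b) hbc

theorem exists_of_sum_eq_zero (X : Obj V) (j : ℕ) (Q : T.ResData X j)
    (M : A.Cat) (i n i' n' : ℤ) (hi : i' = i + 1 - 2 * ((j : ℤ) + 1))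
    (hn : n' = n - ((j : ℤ) + 1)) (hi2 : i + 1 = i' + 2 * ((j + 1 : ℕ) : ℤ))
    (hn2 : n = n' + ((j + 1 : ℕ) : ℤ)) (S : Finset (X.cdPt (j + 1)))
    (Y : Idx X (ContainsFj X (j + 1)))
    (hsep : ∀ x ∈ S, ∀ x' ∈ S, x ≠ x' → ∀ y ∈ Y.1, y ∈ closure ({x.1} : Set X.scheme) →
      y ∉ closure ({x'.1} : Set X.scheme))
    (x₀ : X.cdPt (j + 1)) (hx₀ : x₀ ∈ S) (ξ : T.ptSum X (j + 1) M i' n')
    (hS : ∀ x, x ∉ S → ξ x = 0)
    (b : ∀ k : {x // x ∈ S}, T.gp ((X.ptSub k.1.1).res (traceOpen X k.1.1 Y.1)) M i' n')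
    (hb1 : ∀ k : {x // x ∈ S},
      ((T.ptι X k.1.1 i' n' (traceIdx X k.1.1 Y.1 (hSY_of_idx X j S Y k.1 k.2))).app M).hom
        (b k) = ξ k.1)
    (hb2 : ∑ k : {x // x ∈ S}, (T.push (traceMap X j Y k.1) M i' n' (i + 1) n
        (by rw [relCodim_traceMap]; exact hi2) (by rw [relCodim_traceMap]; exact hn2)).hom
        (b k) = 0) :
    ∃ α : T.fjGp X j M i n, (Q.tot M i n i' n' hi hn).hom α = ξ := by
  obtain ⟨a, ha⟩ := joint_exact T X j S Y hsep Q x₀ hx₀ M i n i' n' hi hn hi2 hn2 b hb2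
  refine ⟨((T.fjι X j i n (jointOIdx X j S Y)).app M).hom a, ?_⟩
  refine DFinsupp.ext fun x => ?_
  change (Q.cpt x M i n i' n' hi hn).hom (((T.fjι X j i n (jointOIdx X j S Y)).app M).hom a) = ξ x
  by_cases hx : x ∈ S
  · exact (ha ⟨x, hx⟩).trans (hb1 ⟨x, hx⟩)
  · rw [hS x hx]
    exact cpt_fjι_eq_zero_of_mem T X j Q M i n i' n' hi hn x (jointOIdx X j S Y)
      ⟨Y.2.1 x.1 (le_of_eq x.2), not_mem_jointC_of_not_mem X (j + 1) S x hx⟩ a

theorem exists_of_tot_eq_zero (X : Obj V) (j : ℕ) (Q : T.ResData X j)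
    (P : T.PushData X (j + 1)) (M : A.Cat) (i n i' n' : ℤ)
    (hi : i' = i + 1 - 2 * ((j : ℤ) + 1)) (hn : n' = n - ((j : ℤ) + 1))
    (hi2 : i + 1 = i' + 2 * ((j + 1 : ℕ) : ℤ)) (hn2 : n = n' + ((j + 1 : ℕ) : ℤ))
    (ξ : T.ptSum X (j + 1) M i' n') (hξ : (P.tot M i' n' (i + 1) n hi2 hn2).hom ξ = 0) :
    ∃ α : T.fjGp X j M i n, (Q.tot M i n i' n' hi hn).hom α = ξ := by
  classical
  let ξ' : ⨁ x : X.cdPt (j + 1), T.ptGp X x.1 M i' n' := ξ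
  let S : Finset (X.cdPt (j + 1)) := DFinsupp.support ξ'
  have hS : ∀ x, x ∉ S → ξ x = 0 := fun x hx => DFinsupp.notMem_support_iff.mp hx
  by_cases hSne : S.Nonempty
  swap
  · refine ⟨0, ?_⟩
    rw [map_zero]
    refine DFinsupp.ext fun x => ?_
    have : x ∉ S := fun h => hSne ⟨x, h⟩
    exact (hS x this).symm
  obtain ⟨x₀, hx₀⟩ := hSne
  have hrep : ∀ x : X.cdPt (j + 1), ∃ (W : ptIdx X x.1)
      (b : T.gp ((X.ptSub x.1).res W.1) M i' n'),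
      ((T.ptι X x.1 i' n' W).app M).hom b = ξ x :=
    fun x => ocolim_exists_rep T (X.ptSub x.1) _ i' n' M (ξ x)
  choose Wz bz hWb using hrep
  have hopen : IsOpen ((sepC X (j + 1) S)ᶜ ∩
      ⋂ x ∈ S, (complOpen (X.ptSubι x.1) (Wz x).1 : Set X.scheme)) :=
    (isClosed_sepC X (j + 1) S).isOpen_compl.inter
      (isOpen_biInter_finset fun x _ => (complOpen (X.ptSubι x.1) (Wz x).1).2)
  have hYc : ContainsFj X (j + 1) (⟨_, hopen⟩ : X.scheme.Opens) := by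
    intro y hy
    refine ⟨not_mem_sepC_of_codim_le X (j + 1) S y hy, Set.mem_iInter₂.mpr fun x _ => ?_⟩
    exact (containsFj_inf_complOpen X (j + 1) x.1 x.2 (Wz x) ⊤ (fun _ _ => trivial) y hy).2
  obtain ⟨Y₀, hY₀eq⟩ : ∃ Y₀ : Idx X (ContainsFj X (j + 1)), (Y₀.1 : Set X.scheme) =
      (sepC X (j + 1) S)ᶜ ∩ ⋂ x ∈ S, (complOpen (X.ptSubι x.1) (Wz x).1 : Set X.scheme) :=
    ⟨⟨_, hYc, dim_eq_of_containsFj' X (j + 1) _ hYc⟩, rfl⟩
  have hY₀mem : ∀ y, y ∈ Y₀.1 → y ∉ sepC X (j + 1) S ∧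
      ∀ x ∈ S, y ∈ complOpen (X.ptSubι x.1) (Wz x).1 := by
    intro y hy
    have h : y ∈ (Y₀.1 : Set X.scheme) := hy
    rw [hY₀eq] at h
    exact ⟨h.1, fun x hx => Set.mem_iInter₂.mp h.2 x hx⟩
  have hsep₀ := hsep_of_not_mem_sepC X (j + 1) S Y₀.1 (fun y hy => (hY₀mem y hy).1)
  have htr : ∀ x ∈ S, traceOpen X x.1 Y₀.1 ≤ (Wz x).1 := by
    intro x hx z hz
    exact (mem_complOpen _ _ _).mp ((hY₀mem _ hz).2 x hx) z rfl
  let b₀ : ∀ k : {x // x ∈ S}, T.gp ((X.ptSub k.1.1).res (traceOpen X k.1.1 Y₀.1)) M i' n' :=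
    fun k => (rs T (X.ptSub k.1.1) (htr k.1 k.2)
      ((traceIdx X k.1.1 Y₀.1 (hSY_of_idx X j S Y₀ k.1 k.2)).2.2.trans (Wz k.1).2.2.symm)
      M i' n').hom (bz k.1)
  have hb₀ : ∀ k : {x // x ∈ S},
      ((T.ptι X k.1.1 i' n' (traceIdx X k.1.1 Y₀.1 (hSY_of_idx X j S Y₀ k.1 k.2))).app M).hom
        (b₀ k) = ξ k.1 := fun k =>
    (congrArg (fun φ => φ.hom (bz k.1)) (ocolimι_rs T (X.ptSub k.1.1)
      (fun U => (U : Set (X.ptSub k.1.1).scheme).Nonempty) i' n' M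
      (U' := traceIdx X k.1.1 Y₀.1 (hSY_of_idx X j S Y₀ k.1 k.2)) (U := Wz k.1)
      (htr k.1 k.2))).trans (hWb k.1)
  have hsum : (P.tot M i' n' (i + 1) n hi2 hn2).hom ξ =
      ((T.fjι X (j + 1) (i + 1) n Y₀).app M).hom
        (∑ k : {x // x ∈ S}, (T.push (traceMap X j Y₀ k.1) M i' n' (i + 1) n
          (by rw [relCodim_traceMap]; exact hi2) (by rw [relCodim_traceMap]; exact hn2)).hom
          (b₀ k)) := by
    rw [tot_eq_sum T P M i' n' (i + 1) n hi2 hn2 ξ S hS, ← Finset.sum_coe_sort S, map_sum]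
    refine Finset.sum_congr rfl fun k _ => ?_
    rw [← hb₀ k]
    exact cpt_traceMap T X j P Y₀ k.1 M i' n' (i + 1) n hi2 hn2 _ _ (b₀ k)
  rw [hsum] at hξ
  obtain ⟨Y', hle, hz⟩ := ocolim_eq_zero T X (ContainsFj X (j + 1)) (i + 1) n M Y₀ _ hξ
  have hsep' : ∀ x ∈ S, ∀ x' ∈ S, x ≠ x' → ∀ y ∈ Y'.1,
      y ∈ closure ({x.1} : Set X.scheme) → y ∉ closure ({x'.1} : Set X.scheme) :=
    fun x hx x' hx' hne y hy => hsep₀ x hx x' hx' hne y (hle hy)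
  let b' : ∀ k : {x // x ∈ S}, T.gp ((X.ptSub k.1.1).res (traceOpen X k.1.1 Y'.1)) M i' n' :=
    fun k => (rs T (X.ptSub k.1.1) (traceOpen_mono X k.1.1 hle)
      ((traceIdx X k.1.1 Y'.1 (hSY_of_idx X j S Y' k.1 k.2)).2.2.trans
        (traceIdx X k.1.1 Y₀.1 (hSY_of_idx X j S Y₀ k.1 k.2)).2.2.symm) M i' n').hom (b₀ k)
  have hb'1 : ∀ k : {x // x ∈ S},
      ((T.ptι X k.1.1 i' n' (traceIdx X k.1.1 Y'.1 (hSY_of_idx X j S Y' k.1 k.2))).app M).hom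
        (b' k) = ξ k.1 := fun k =>
    (congrArg (fun φ => φ.hom (b₀ k)) (ocolimι_rs T (X.ptSub k.1.1)
      (fun U => (U : Set (X.ptSub k.1.1).scheme).Nonempty) i' n' M
      (U' := traceIdx X k.1.1 Y'.1 (hSY_of_idx X j S Y' k.1 k.2))
      (U := traceIdx X k.1.1 Y₀.1 (hSY_of_idx X j S Y₀ k.1 k.2))
      (traceOpen_mono X k.1.1 hle))).trans (hb₀ k)
  have hb'2 : ∑ k : {x // x ∈ S}, (T.push (traceMap X j Y' k.1) M i' n' (i + 1) n
        (by rw [relCodim_traceMap]; exact hi2) (by rw [relCodim_traceMap]; exact hn2)).hom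
        (b' k) = 0 := by
    rw [map_sum] at hz
    refine Eq.trans (Finset.sum_congr rfl fun k _ => ?_) hz
    exact (rs_push_traceMap T X j Y₀ Y' hle k.1 M i' n' (i + 1) n _ _ _ _ _ (b₀ k)).symm
  exact exists_of_sum_eq_zero T X j Q M i n i' n' hi hn hi2 hn2 S Y' hsep' x₀ hx₀ ξ hS b'
    hb'1 hb'2

end Mid2

end Groth.Agent.Lib.Helper47.BMUniq
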