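import Groth.Agent.Lib.Helper47.BMJointDec

set_option autoImplicit false
universe u

namespace Groth.Agent.Lib.Helper47.BMUniq

open TopologicalSpace Topology Order AlgebraicGeometry CategoryTheory BMCoh Opposite
open CategoryTheory.Limits DirectSum

section MidAux

variable {V : ObjectProperty Scheme.{u}} [IsConstructible V] {R : Type u} [CommRing R]
  {A : Coefs R} (T : PreTheory V R A)

/-- a specialisation of `x` of the same codimension is `x` -/
lemma eq_of_mem_closure_of_codim_eq (X : Obj V) {x y : X.scheme}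
    (hy : y ∈ closure ({x} : Set X.scheme))
    (hc : WeilCoh.codim X.scheme y ≤ WeilCoh.codim X.scheme x) : y = x := by
  by_cases hxy : x ∈ closure ({y} : Set X.scheme)
  · exact ((specializes_iff_mem_closure.mpr hxy).antisymm
      (specializes_iff_mem_closure.mpr hy)).eq
  · have := codim_lt_of_mem_closure X hy hxy
    omega

/-- the residue at a point lying in the open vanishes -/
theorem cpt_fjι_eq_zero_of_mem (X : Obj V) (j : ℕ) (Q : T.ResData X j) (M : A.Cat)
    (i n i' n' : ℤ) (hi : i' = i + 1 - 2 * ((j : ℤ) + 1)) (hn : n' = n - ((j : ℤ) + 1))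
    (x : X.cdPt (j + 1)) (O : Idx X (ContainsFj X j)) (hxO : x.1 ∈ O.1)
    (a : T.gp (X.res O.1) M i n) :
    (Q.cpt x M i n i' n' hi hn).hom (((T.fjι X j i n O).app M).hom a) = 0 := by
  have hne : Nonempty X.scheme := ⟨x.1⟩
  have hc₁ : ContainsFj X j (smallOpen X x.1 O.1) := containsFj_smallOpen X j x O.1 O.2.1
  have hd₁ := dim_eq_of_containsFj X j _ hc₁
  let U₁ : Idx X (ContainsFj X j) := ⟨smallOpen X x.1 O.1, hc₁, hd₁⟩
  have hle : U₁.1 ≤ O.1 := Set.sdiff_subset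
  let W : ptIdx X x.1 := traceIdx X x.1 O.1 hxO
  have hrc : relCodim ((X.ptSub x.1).res W.1).scheme (X.res O.1).scheme = (j : ℤ) + 1 := by
    rw [relCodim_trace X x.1 O.1 W O.2.2, x.2, codim_cast]
  have hiD : i' = i + 1 - 2 * relCodim ((X.ptSub x.1).res W.1).scheme (X.res O.1).scheme := by
    rw [hrc]; exact hi
  have hnD : n' = n - relCodim ((X.ptSub x.1).res W.1).scheme (X.res O.1).scheme := by
    rw [hrc]; exact hn
  have h3 := congrArg (fun φ => φ.hom a)
    (ocolimι_rs T X (ContainsFj X j) i n M (U' := U₁) (U := O) hle)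
  have h4 : ((T.fjι X j i n O).app M).hom a =
      ((T.fjι X j i n U₁).app M).hom
        ((rs T X hle (hd₁.trans O.2.2.symm) M i n).hom a) := h3.symm
  rw [h4, cpt_fjι_eq T X j Q M i n i' n' hi hn x O.1 O.2.2 W (fun z => Iff.rfl) U₁ hle
    (fun y hy => ⟨fun h => h.2, fun h => ⟨hy, h⟩⟩) hiD hnD]
  have h5 := (T.exact_pull_res (mkDecomp X x.1 O.1 W.1 (fun z => Iff.rfl) U₁.1 hle
    (fun y hy => ⟨fun h => h.2, fun h => ⟨hy, h⟩⟩) (U₁.2.2.trans O.2.2.symm)) M i n i' n'
    hiD hnD).apply_apply_eq_zero a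
  have h6 : ((T.res (mkDecomp X x.1 O.1 W.1 (fun z => Iff.rfl) U₁.1 hle
      (fun y hy => ⟨fun h => h.2, fun h => ⟨hy, h⟩⟩) (U₁.2.2.trans O.2.2.symm)) M i n i' n'
      hiD hnD).hom ((rs T X hle (hd₁.trans O.2.2.symm) M i n).hom a)) = 0 := h5
  rw [h6, map_zero]

/-- the total push-forward of an element supported in a finite set -/
theorem tot_eq_sum {X : Obj V} {m : ℕ} (P : T.PushData X m) (M : A.Cat) (i n i' n' : ℤ)
    (hi : i' = i + 2 * (m : ℤ)) (hn : n' = n + (m : ℤ)) (ξ : T.ptSum X m M i n)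
    (S : Finset (X.cdPt m)) (hS : ∀ x, x ∉ S → ξ x = 0) :
    (P.tot M i n i' n' hi hn).hom ξ = ∑ x ∈ S, (P.cpt x M i n i' n' hi hn).hom (ξ x) := by
  classical
  have h1 : ξ = ∑ x ∈ S, DirectSum.lof R (X.cdPt m) (fun y : X.cdPt m => T.ptGp X y.1 M i n) x
      (ξ x) := by
    refine DFinsupp.ext fun y => ?_
    rw [DFinsupp.finsetSum_apply]
    by_cases hy : y ∈ S
    · rw [Finset.sum_eq_single y]
      · exact (DFinsupp.single_eq_same (β := fun y : X.cdPt m => T.ptGp X y.1 M i n)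
          (i := y) (b := ξ y)).symm
      · intro x _ hxy
        exact DFinsupp.single_eq_of_ne (β := fun y : X.cdPt m => T.ptGp X y.1 M i n)
          (fun e => hxy e.symm)
      · intro h; exact absurd hy h
    · rw [hS y hy]
      symm
      apply Finset.sum_eq_zero
      intro x hx
      exact DFinsupp.single_eq_of_ne (β := fun y : X.cdPt m => T.ptGp X y.1 M i n)
        (fun e => hy (e ▸ hx))
  conv_lhs => rw [h1]
  rw [map_sum]
  exact Finset.sum_congr rfl fun x _ => P.tot_lof M i n i' n' hi hn x (ξ x)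

/-- the locus where two of the closures meet -/
def sepC (X : Obj V) (m : ℕ) (S : Finset (X.cdPt m)) : Set X.scheme :=
  ⋃ x ∈ S, (closure ({x.1} : Set X.scheme) ∩ othersC X m S x)

lemma isClosed_sepC (X : Obj V) (m : ℕ) (S : Finset (X.cdPt m)) : IsClosed (sepC X m S) :=
  isClosed_biUnion_finset fun x _ => isClosed_closure.inter (isClosed_othersC X m S x)

lemma mem_sepC (X : Obj V) (m : ℕ) (S : Finset (X.cdPt m)) (y : X.scheme) :
    y ∈ sepC X m S ↔ ∃ x ∈ S, y ∈ closure ({x.1} : Set X.scheme) ∧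
      ∃ x' ∈ S, x' ≠ x ∧ y ∈ closure ({x'.1} : Set X.scheme) := by
  unfold sepC
  rw [Set.mem_iUnion₂]
  constructor
  · rintro ⟨x, hx, h1, h2⟩
    exact ⟨x, hx, h1, (mem_othersC X m S x y).mp h2⟩
  · rintro ⟨x, hx, h1, h2⟩
    exact ⟨x, hx, h1, (mem_othersC X m S x y).mpr h2⟩

lemma not_mem_sepC_of_codim_le (X : Obj V) (m : ℕ) (S : Finset (X.cdPt m)) (y : X.scheme)
    (hy : WeilCoh.codim X.scheme y ≤ m) : y ∉ sepC X m S := by
  intro h
  obtain ⟨x, -, h1, x', -, hne, h2⟩ := (mem_sepC X m S y).mp h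
  have e1 : y = x.1 := eq_of_mem_closure_of_codim_eq X h1 (hy.trans (le_of_eq x.2.symm))
  have e2 : y = x'.1 := eq_of_mem_closure_of_codim_eq X h2 (hy.trans (le_of_eq x'.2.symm))
  exact hne (Subtype.ext (e2.symm.trans e1))

lemma hsep_of_not_mem_sepC (X : Obj V) (m : ℕ) (S : Finset (X.cdPt m)) (Y : X.scheme.Opens)
    (hY : ∀ y ∈ Y, y ∉ sepC X m S) :
    ∀ x ∈ S, ∀ x' ∈ S, x ≠ x' → ∀ y ∈ Y, y ∈ closure ({x.1} : Set X.scheme) →
      y ∉ closure ({x'.1} : Set X.scheme) :=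
  fun x hx x' hx' hne y hy h1 h2 =>
    hY y hy ((mem_sepC X m S y).mpr ⟨x, hx, h1, x', hx', fun e => hne e.symm, h2⟩)

lemma not_mem_jointC_of_not_mem (X : Obj V) (m : ℕ) (S : Finset (X.cdPt m)) (x : X.cdPt m)
    (hx : x ∉ S) : x.1 ∉ jointC X m S := by
  intro h
  obtain ⟨s, hs, hxs⟩ := (mem_jointC X m S x.1).mp h
  have e : x.1 = s.1 := eq_of_mem_closure_of_codim_eq X hxs (by rw [x.2, s.2])
  exact hx ((Subtype.ext e : x = s) ▸ hs)

end MidAux

end Groth.Agent.Lib.Helper47.BMUniq
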