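import Mathlib.RingTheory.Localization.Integral
import Mathlib.RingTheory.IntegralClosure.IntegrallyClosed
import Mathlib.RingTheory.Localization.Away.Basic
import Mathlib.RingTheory.Finiteness.Basic

set_option autoImplicit false

namespace Groth.Agent.Lib.Helper47.BMUniq

section NormAlg

/-- a common denominator for the integral closure when it is a finite module -/
lemma exists_denominator_of_fg {A K : Type*} [CommRing A] [IsDomain A] [Field K] [Algebra A K]
    [IsFractionRing A K] (hfin : (integralClosure A K).toSubmodule.FG) :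
    ∃ s : A, s ≠ 0 ∧ ∀ k : K, IsIntegral A k → ∃ a : A, algebraMap A K s * k = algebraMap A K a := by
  classical
  obtain ⟨S, hS⟩ := hfin
  obtain ⟨b, hb⟩ := IsLocalization.exist_integer_multiples_of_finset (nonZeroDivisors A) S
  refine ⟨b.1, nonZeroDivisors.ne_zero b.2, fun k hk => ?_⟩
  have hk' : k ∈ (integralClosure A K).toSubmodule := hk
  rw [← hS] at hk'
  refine Submodule.span_induction (p := fun k _ => ∃ a : A, algebraMap A K b.1 * k = algebraMap A K a)
    ?_ ?_ ?_ ?_ hk'
  · intro x hx
    obtain ⟨a, ha⟩ := hb x hx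
    refine ⟨a, ?_⟩
    rw [ha, Algebra.smul_def]
  · exact ⟨0, by simp⟩
  · rintro x y _ _ ⟨a, ha⟩ ⟨a', ha'⟩
    exact ⟨a + a', by rw [mul_add, ha, ha', map_add]⟩
  · rintro c x _ ⟨a, ha⟩
    refine ⟨c * a, ?_⟩
    rw [Algebra.smul_def, map_mul, ← ha]
    ring

/-- after inverting a common denominator of the integral closure, the ring is integrally closed
in its fraction field -/
lemma exists_of_isIntegral_of_away {A A' K : Type*} [CommRing A] [CommRing A'] [Field K]
    [Algebra A K] [Algebra A' K] [Algebra A A'] [IsScalarTower A A' K] (s : A)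
    [IsLocalization.Away s A']
    (hs : ∀ k : K, IsIntegral A k → ∃ a : A, algebraMap A K s * k = algebraMap A K a)
    (k : K) (hk : IsIntegral A' k) : ∃ a' : A', algebraMap A' K a' = k := by
  obtain ⟨⟨m, hm⟩, hint⟩ :=
    IsIntegral.exists_multiple_integral_of_isLocalization (Submonoid.powers s) k hk
  obtain ⟨a, ha⟩ := hs _ hint
  have hu : IsUnit (algebraMap A A' (s * m)) := by
    rw [map_mul]
    exact (IsLocalization.map_units A' (⟨s, Submonoid.mem_powers s⟩ : Submonoid.powers s)).mul
      (IsLocalization.map_units A' (⟨m, hm⟩ : Submonoid.powers s))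
  obtain ⟨v, hv⟩ := hu
  refine ⟨algebraMap A A' a * (v⁻¹ : A'ˣ), ?_⟩
  have h1 : algebraMap A' K (algebraMap A A' (s * m)) * k = algebraMap A' K (algebraMap A A' a) := by
    rw [← IsScalarTower.algebraMap_apply, ← IsScalarTower.algebraMap_apply, ← ha, map_mul,
      Submonoid.smul_def, Algebra.smul_def, mul_assoc]
  rw [map_mul, ← h1, ← hv]
  have h2 : algebraMap A' K (v : A') * algebraMap A' K ((v⁻¹ : A'ˣ) : A') = 1 := by
    rw [← map_mul, Units.mul_inv, map_one]
  calc algebraMap A' K (v : A') * k * algebraMap A' K ((v⁻¹ : A'ˣ) : A')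
      = (algebraMap A' K (v : A') * algebraMap A' K ((v⁻¹ : A'ˣ) : A')) * k := by ring
    _ = k := by rw [h2, one_mul]

end NormAlg

end Groth.Agent.Lib.Helper47.BMUniq
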