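import Groth.Agent.Lib.Helper47.BMNormAlg
import Groth.Prelude.Def_Curv2
import Mathlib.AlgebraicGeometry.Normalization
import Mathlib.AlgebraicGeometry.FunctionField
import Mathlib.AlgebraicGeometry.Morphisms.Finite

set_option autoImplicit false
universe u

namespace Groth.Agent.Lib.Helper47.BMUniq

open AlgebraicGeometry CategoryTheory Opposite TopologicalSpace

section NormIso

lemma isIso_map_homOfLE' {X : Scheme.{u}} {V V' : X.Opens} (h : V = V') (hle : V ≤ V') :
    IsIso (X.presheaf.map (homOfLE hle).op) := by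
  subst h
  have : homOfLE hle = 𝟙 V := Subsingleton.elim _ _
  rw [this, op_id, X.presheaf.map_id]
  infer_instance

variable (Z : Scheme.{u}) [IsIntegral Z]

lemma preimage_fromSpecStalk_eq_top (U : Z.Opens) (hU : genericPoint Z ∈ U) :
    (Z.fromSpecStalk (genericPoint Z)) ⁻¹ᵁ U = ⊤ := by
  ext p
  simp only [Opens.coe_top, Set.mem_univ, iff_true]
  have h : (Z.fromSpecStalk (genericPoint Z)) p ∈ Set.range (Z.fromSpecStalk (genericPoint Z)) :=
    ⟨p, rfl⟩
  rw [Scheme.range_fromSpecStalk] at h
  exact h.mem_open U.2 hU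

/-- the identification of the function field with the sections of `Spec K` over the preimage of
an open -/
noncomputable def thetaHom (U : Z.Opens) : Z.functionField ⟶
    Γ(Spec Z.functionField, (Z.fromSpecStalk (genericPoint Z)) ⁻¹ᵁ U) :=
  (Scheme.ΓSpecIso Z.functionField).inv ≫
    (Spec Z.functionField).presheaf.map (homOfLE le_top).op

lemma isIso_thetaHom (U : Z.Opens) (hU : genericPoint Z ∈ U) : IsIso (thetaHom Z U) := by
  have := isIso_map_homOfLE' (preimage_fromSpecStalk_eq_top Z U hU) le_top
  unfold thetaHom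
  infer_instance

lemma fromSpecStalk_app_eq (U : Z.Opens) (hU : genericPoint Z ∈ U) :
    (Z.fromSpecStalk (genericPoint Z)).app U =
      Z.presheaf.germ U (genericPoint Z) hU ≫ thetaHom Z U :=
  Scheme.fromSpecStalk_app hU


/-- the ring equivalence between the function field and the sections of `Spec K` -/
noncomputable def thetaEquiv (U : Z.Opens) (hU : genericPoint Z ∈ U) : Z.functionField ≃+*
    Γ(Spec Z.functionField, (Z.fromSpecStalk (genericPoint Z)) ⁻¹ᵁ U) :=
  haveI := isIso_thetaHom Z U hU
  (asIso (thetaHom Z U)).commRingCatIsoToRingEquiv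

lemma thetaEquiv_germ (U : Z.Opens) (hU : genericPoint Z ∈ U) (a : Γ(Z, U)) :
    thetaEquiv Z U hU ((Z.presheaf.germ U (genericPoint Z) hU).hom a) =
      ((Z.fromSpecStalk (genericPoint Z)).app U).hom a := by
  rw [fromSpecStalk_app_eq Z U hU]
  rfl

lemma mem_of_nonempty (U : Z.Opens) [h : Nonempty U] : genericPoint Z ∈ U :=
  ((genericPoint_spec Z).mem_open_set_iff U.isOpen).mpr (by simpa using h)

lemma algebraMap_functionField (U : Z.Opens) [Nonempty U] (a : Γ(Z, U)) :
    algebraMap Γ(Z, U) Z.functionField a =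
      (Z.presheaf.germ U (genericPoint Z) (mem_of_nonempty Z U)).hom a := rfl

/-- transport of integrality from `C_U` to the function field -/
lemma isIntegral_symm_of_isIntegralElem (U : Z.Opens) [Nonempty U]
    (c : Γ(Spec Z.functionField, (Z.fromSpecStalk (genericPoint Z)) ⁻¹ᵁ U))
    (hc : ((Z.fromSpecStalk (genericPoint Z)).app U).hom.IsIntegralElem c) :
    IsIntegral Γ(Z, U) ((thetaEquiv Z U (mem_of_nonempty Z U)).symm c) := by
  obtain ⟨p, hp, hpc⟩ := hc
  refine ⟨p, hp, ?_⟩
  have h1 := Polynomial.hom_eval₂ p ((Z.fromSpecStalk (genericPoint Z)).app U).hom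
    ((thetaEquiv Z U (mem_of_nonempty Z U)).symm : _ →+* Z.functionField) c
  rw [hpc, map_zero] at h1
  rw [h1]
  congr 1
  ext a
  change _ = (thetaEquiv Z U (mem_of_nonempty Z U)).symm
    (((Z.fromSpecStalk (genericPoint Z)).app U).hom a)
  rw [← thetaEquiv_germ Z U (mem_of_nonempty Z U) a, RingEquiv.symm_apply_apply]
  rfl

/-- transport of integrality from the function field to `C_U` -/
lemma isIntegralElem_of_isIntegral (U : Z.Opens) [Nonempty U] (k : Z.functionField)
    (hk : IsIntegral Γ(Z, U) k) :
    ((Z.fromSpecStalk (genericPoint Z)).app U).hom.IsIntegralElem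
      (thetaEquiv Z U (mem_of_nonempty Z U) k) := by
  obtain ⟨p, hp, hpk⟩ := hk
  refine ⟨p, hp, ?_⟩
  have h1 := Polynomial.hom_eval₂ p (algebraMap Γ(Z, U) Z.functionField)
    ((thetaEquiv Z U (mem_of_nonempty Z U)).toRingHom) k
  rw [hpk, map_zero] at h1
  rw [h1]
  congr 1
  ext a
  exact (thetaEquiv_germ Z U (mem_of_nonempty Z U) a).symm


variable [QuasiCompact (Z.fromSpecStalk (genericPoint Z))]
  [QuasiSeparated (Z.fromSpecStalk (genericPoint Z))]

/-- if the sections over the affine open `U` are integrally closed in the function field, the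
normalization map is an isomorphism over `U` -/
lemma isIso_fromNormalization_app (U : Z.Opens) (hU : IsAffineOpen U) [Nonempty U]
    (hIC : ∀ k : Z.functionField, IsIntegral Γ(Z, U) k →
      ∃ a : Γ(Z, U), algebraMap Γ(Z, U) Z.functionField a = k) :
    IsIso ((Z.fromSpecStalk (genericPoint Z)).fromNormalization.app U) := by
  let _ := ((Z.fromSpecStalk (genericPoint Z)).app U).hom.toAlgebra
  rw [Scheme.Hom.fromNormalization_app _ hU]
  have hbij : Function.Bijective (algebraMap Γ(Z, U) (integralClosure Γ(Z, U)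
      Γ(Spec Z.functionField, (Z.fromSpecStalk (genericPoint Z)) ⁻¹ᵁ U))) := by
    constructor
    · rw [injective_iff_map_eq_zero]
      intro a ha
      have h1 : ((Z.fromSpecStalk (genericPoint Z)).app U).hom a = 0 := congrArg Subtype.val ha
      rw [← thetaEquiv_germ Z U (mem_of_nonempty Z U) a] at h1
      have h2 := (thetaEquiv Z U (mem_of_nonempty Z U)).injective (h1.trans (map_zero _).symm)
      exact germ_injective_of_isIntegral Z (genericPoint Z) (mem_of_nonempty Z U)
        (h2.trans (map_zero (Z.presheaf.germ U (genericPoint Z) (mem_of_nonempty Z U)).hom).symm)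
    · rintro ⟨c, hc⟩
      obtain ⟨a, ha⟩ := hIC _ (isIntegral_symm_of_isIntegralElem Z U c hc)
      refine ⟨a, Subtype.ext ?_⟩
      change ((Z.fromSpecStalk (genericPoint Z)).app U).hom a = c
      rw [← thetaEquiv_germ Z U (mem_of_nonempty Z U) a, ← algebraMap_functionField, ha,
        RingEquiv.apply_symm_apply]
  have : IsIso (CommRingCat.ofHom (algebraMap Γ(Z, U) (integralClosure Γ(Z, U)
      Γ(Spec Z.functionField, (Z.fromSpecStalk (genericPoint Z)) ⁻¹ᵁ U)))) :=
    (ConcreteCategory.isIso_iff_bijective _).mpr hbij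
  infer_instance


/-- finiteness of the normalization map makes the integral closure in the function field a
finite module -/
lemma fg_integralClosure_of_isFinite (U : Z.Opens) (hU : IsAffineOpen U) [Nonempty U]
    [IsFinite (Z.fromSpecStalk (genericPoint Z)).fromNormalization] :
    (integralClosure Γ(Z, U) Z.functionField).toSubmodule.FG := by
  let alg := ((Z.fromSpecStalk (genericPoint Z)).app U).hom.toAlgebra
  have hfin := IsFinite.finite_app (Z.fromSpecStalk (genericPoint Z)).fromNormalization U hU
  rw [Scheme.Hom.fromNormalization_app _ hU] at hfin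
  have h2 : (((Z.fromSpecStalk (genericPoint Z)).normalizationObjIso hU).hom.hom).Finite :=
    RingHom.Finite.of_surjective _
      (ConcreteCategory.bijective_of_isIso
        ((Z.fromSpecStalk (genericPoint Z)).normalizationObjIso hU).hom).2
  have h3 := RingHom.Finite.comp h2 hfin
  have h4 : (((Z.fromSpecStalk (genericPoint Z)).normalizationObjIso hU).hom.hom).comp
      (CommRingCat.ofHom (algebraMap Γ(Z, U) (integralClosure Γ(Z, U)
        Γ(Spec Z.functionField, (Z.fromSpecStalk (genericPoint Z)) ⁻¹ᵁ U))) ≫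
        ((Z.fromSpecStalk (genericPoint Z)).normalizationObjIso hU).inv).hom =
      algebraMap Γ(Z, U) (integralClosure Γ(Z, U)
        Γ(Spec Z.functionField, (Z.fromSpecStalk (genericPoint Z)) ⁻¹ᵁ U)) := by
    rw [← CommRingCat.hom_comp, Category.assoc, Iso.inv_hom_id, Category.comp_id]
    rfl
  rw [h4] at h3
  have h5 : Module.Finite Γ(Z, U) (integralClosure Γ(Z, U)
      Γ(Spec Z.functionField, (Z.fromSpecStalk (genericPoint Z)) ⁻¹ᵁ U)) :=
    RingHom.finite_algebraMap.mp h3
  let e : Z.functionField ≃ₐ[Γ(Z, U)]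
      Γ(Spec Z.functionField, (Z.fromSpecStalk (genericPoint Z)) ⁻¹ᵁ U) :=
    AlgEquiv.ofRingEquiv (f := thetaEquiv Z U (mem_of_nonempty Z U))
      (fun a => thetaEquiv_germ Z U (mem_of_nonempty Z U) a)
  have h6 : Module.Finite Γ(Z, U) (integralClosure Γ(Z, U) Z.functionField) :=
    Module.Finite.equiv e.mapIntegralClosure.symm.toLinearEquiv
  exact Module.Finite.iff_fg.mp h6


/-- a finite normalization map is an isomorphism over a nonempty open -/
theorem exists_isIso_fromNormalization
    [IsFinite (Z.fromSpecStalk (genericPoint Z)).fromNormalization] :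
    ∃ W : Z.Opens, (W : Set Z).Nonempty ∧
      IsIso ((Z.fromSpecStalk (genericPoint Z)).fromNormalization ∣_ W) := by
  obtain ⟨_, ⟨U, hU, rfl⟩, hηU, -⟩ := Z.isBasis_affineOpens.exists_subset_of_mem_open
    (Set.mem_univ (genericPoint Z)) isOpen_univ
  have : Nonempty U := ⟨⟨_, hηU⟩⟩
  have := functionField_isFractionRing_of_isAffineOpen Z U hU
  obtain ⟨s, hs0, hs⟩ := exists_denominator_of_fg (fg_integralClosure_of_isFinite Z U hU)
  have hηs : genericPoint Z ∈ Z.basicOpen s := by
    rw [Scheme.mem_basicOpen Z s (genericPoint Z) hηU]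
    apply IsUnit.mk0
    intro h0
    exact hs0 (germ_injective_of_isIntegral Z (genericPoint Z) hηU
      (h0.trans (map_zero (Z.presheaf.germ U (genericPoint Z) hηU).hom).symm))
  have : Nonempty (Z.basicOpen s) := ⟨⟨_, hηs⟩⟩
  have hU' : IsAffineOpen (Z.basicOpen s) := hU.basicOpen s
  have : IsLocalization.Away s Γ(Z, Z.basicOpen s) := hU.isLocalization_basicOpen s
  have : IsScalarTower Γ(Z, U) Γ(Z, Z.basicOpen s) Z.functionField := by
    refine IsScalarTower.of_algebraMap_eq' ?_
    ext a
    exact (Z.presheaf.germ_res_apply (homOfLE (Z.basicOpen_le s)) (genericPoint Z) hηs a).symm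
  have hiso := isIso_fromNormalization_app Z (Z.basicOpen s) hU'
    (fun k hk => exists_of_isIntegral_of_away s hs k hk)
  exact ⟨Z.basicOpen s, ⟨_, hηs⟩, (isIso_morphismRestrict_iff_isIso_app _ hU').mpr hiso⟩

end NormIso

end Groth.Agent.Lib.Helper47.BMUniq
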