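import Groth.Agent.Lib.Helper47.BMPtPush
import Groth.Agent.Lib.Helper47.BML0Surj
import Groth.Agent.Lib.Helper47.BMNormIso

set_option autoImplicit false
universe u

namespace Groth.Agent.Lib.Helper47.BMUniq

open TopologicalSpace Topology Order AlgebraicGeometry CategoryTheory BMCoh Opposite
open CategoryTheory.Limits

section NormPush

lemma map_mem_of_mem_preimage {Zs Zt : Scheme.{u}} (g : Zs ⟶ Zt) (W' : Zt.Opens) :
    ∀ w ∈ g ⁻¹ᵁ W', g w ∈ W' := fun _ h => h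

lemma mem_preimage_of_map_mem {Zs Zt : Scheme.{u}} (g : Zs ⟶ Zt) (W' : Zt.Opens) (w : Zs)
    (h : g w ∈ W') : w ∈ g ⁻¹ᵁ W' := h

lemma liftOpen_preimage_eq {Zs Zt : Scheme.{u}} (g : Zs ⟶ Zt) (W' : Zt.Opens) :
    liftOpen g (g ⁻¹ᵁ W') W' (map_mem_of_mem_preimage g W') = g ∣_ W' := by
  rw [← cancel_mono W'.ι, liftOpen_ι, morphismRestrict_ι]

lemma preimage_le_preimage {Zs Zt : Scheme.{u}} (g : Zs ⟶ Zt) {W' W'₀ : Zt.Opens}
    (hle : W' ≤ W'₀) : g ⁻¹ᵁ W' ≤ g ⁻¹ᵁ W'₀ := fun _ hz => hle hz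

lemma isPullback_liftOpen_preimage {Zs Zt : Scheme.{u}} (g : Zs ⟶ Zt) {W' W'₀ : Zt.Opens}
    (hle : W' ≤ W'₀) :
    IsPullback (Zs.homOfLE (preimage_le_preimage g hle))
      (liftOpen g (g ⁻¹ᵁ W') W' (map_mem_of_mem_preimage g W'))
      (liftOpen g (g ⁻¹ᵁ W'₀) W'₀ (map_mem_of_mem_preimage g W'₀)) (Zt.homOfLE hle) :=
  isPullback_liftOpen g (preimage_le_preimage g hle) hle (map_mem_of_mem_preimage g W'₀)
    (map_mem_of_mem_preimage g W') (fun z _ hz => mem_preimage_of_map_mem g W' z hz)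

lemma isIso_liftOpen_of_le {Zs Zt : Scheme.{u}} (g : Zs ⟶ Zt) {W' W'₀ : Zt.Opens}
    (hle : W' ≤ W'₀) (hiso : IsIso (g ∣_ W'₀)) :
    IsIso (liftOpen g (g ⁻¹ᵁ W') W' (map_mem_of_mem_preimage g W')) := by
  have hpb := isPullback_liftOpen_preimage g hle
  rw [liftOpen_preimage_eq g W'₀] at hpb
  exact hpb.isIso_snd_of_isIso

variable {V : ObjectProperty Scheme.{u}} [IsConstructible V]

/-- an open of the closure of `x` containing the generic point whose preimage lies in a given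
nonempty open of the closure of `y` -/
lemma exists_open_preimage_le {Y X : Obj V} (φ : Y.scheme ⟶ X.scheme) [IsProper φ] (y : Y.scheme)
    (x : X.scheme) (h : φ y = x) (hd : WeilCoh.pdim Y.scheme y = WeilCoh.pdim X.scheme x)
    (W : (Y.ptSub y).scheme.Opens) (hWne : (W : Set (Y.ptSub y).scheme).Nonempty) :
    ∃ W'o : (X.ptSub x).scheme.Opens,
      (∀ ξ : (Y.ptSub y).scheme, (Y.ptSubι y) ξ = y → (ptLift φ y x h) ξ ∈ W'o) ∧
      (ptLift φ y x h) ⁻¹ᵁ W'o ≤ W := by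
  have hcl : IsClosed ((ptLift φ y x h) '' ((W : Set (Y.ptSub y).scheme)ᶜ)) :=
    (ptLift φ y x h).isClosedMap _ W.2.isClosed_compl
  refine ⟨⟨_, hcl.isOpen_compl⟩, ?_, ?_⟩
  · rintro ξ hξ ⟨z, hzW, hz⟩
    obtain ⟨ξ₀, hξ₀, hξW⟩ := exists_gen Y y
    have hξξ : ξ₀ = ξ := (Y.ptSubι y).isClosedEmbedding.injective (hξ₀.trans hξ.symm)
    subst hξξ
    have hzy : (Y.ptSubι y) z ∈ closure ({y} : Set Y.scheme) := by
      rw [← range_ptSubι]; exact ⟨z, rfl⟩
    have hne : y ∉ closure ({(Y.ptSubι y) z} : Set Y.scheme) := by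
      intro hy
      have h2 : (Y.ptSubι y) z ⤳ (Y.ptSubι y) ξ₀ := by
        rw [hξ₀]; exact specializes_iff_mem_closure.mpr hy
      have h3 : z ⤳ ξ₀ := (Y.ptSubι y).isClosedEmbedding.isInducing.specializes_iff.mp h2
      exact hzW (h3.mem_open W.2 (hξW W hWne))
    have hlt := pdim_lt_pdim Y hzy hne
    have hle := pdim_map_le φ ((Y.ptSubι y) z)
    have himg : φ ((Y.ptSubι y) z) = x := by
      rw [← ptLift_apply φ y x h z, hz, ptLift_gen φ y x h ξ₀ hξ₀]
    rw [himg] at hle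
    omega
  · intro z hz
    by_contra hzW
    exact hz ⟨z, hzW, rfl⟩


lemma isIso_liftOpen_of_iff {Zs Zt : Scheme.{u}} (g : Zs ⟶ Zt) {W'₀ : Zt.Opens}
    (hiso : IsIso (g ∣_ W'₀)) (W : Zs.Opens) (W' : Zt.Opens) (hle : W' ≤ W'₀)
    (hW : ∀ z, z ∈ W ↔ g z ∈ W') : IsIso (liftOpen g W W' (fun w hw => (hW w).mp hw)) := by
  have : W = g ⁻¹ᵁ W' := by
    ext z
    exact hW z
  subst this
  exact isIso_liftOpen_of_le g hle hiso

variable {R : Type u} [CommRing R] {A : Coefs R} (T : PreTheory V R A)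

/-- push-forward along an isomorphism is bijective -/
lemma push_bijective_of_isIso {Y₁ Y₂ : Obj V} (f : Y₁.scheme ⟶ Y₂.scheme) [IsIso f] (M : A.Cat)
    (i n : ℤ) (hi : i = i + 2 * relCodim Y₁.scheme Y₂.scheme)
    (hn : n = n + relCodim Y₁.scheme Y₂.scheme) :
    Function.Bijective (T.push f M i n i n hi hn).hom := by
  have h1 := isIso_homOfIso (Y := Y₁) (Y' := Y₂) f
  have h2 : IsClosedImmersion (homOfIso (Y := Y₁) (Y' := Y₂) f).hom := by
    change IsClosedImmersion f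
    infer_instance
  constructor
  · intro b b' hbb'
    have e1 := pull_push' T (homOfIso (Y := Y₁) (Y' := Y₂) f) M i n hi hn b
    have e2 := pull_push' T (homOfIso (Y := Y₁) (Y' := Y₂) f) M i n hi hn b'
    change (T.pull _ M i n).hom ((T.push f M i n i n hi hn).hom b) = b at e1
    change (T.pull _ M i n).hom ((T.push f M i n i n hi hn).hom b') = b' at e2
    rw [← e1, ← e2, hbb']
  · intro c
    exact ⟨_, push_pull_iso T (homOfIso (Y := Y₁) (Y' := Y₂) f) M i n hi hn c⟩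


theorem ptPush_bijective_of_isIso {Y X : Obj V} (φ : Y.scheme ⟶ X.scheme) [IsProper φ]
    (y : Y.scheme) (x : X.scheme) (L : T.PtPush φ y x)
    (W'₀ : (X.ptSub x).scheme.Opens) (hiso : IsIso (ptLift φ y x L.maps_pt ∣_ W'₀))
    (hne₀ : (W'₀ : Set (X.ptSub x).scheme).Nonempty) (M : A.Cat) (i n : ℤ) :
    Function.Bijective (L.cpt M i n).hom := by
  obtain ⟨ξ, hξ, hξW⟩ := exists_gen Y y
  obtain ⟨ξ', hξ', hξ'W⟩ := exists_gen X x
  have hgξ : (ptLift φ y x L.maps_pt) ξ = ξ' :=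
    (X.ptSubι x).isClosedEmbedding.injective ((ptLift_gen φ y x _ ξ hξ).trans hξ'.symm)
  have hd : WeilCoh.pdim Y.scheme y = WeilCoh.pdim X.scheme x := by
    have h1 := L.codim_eq
    unfold relCodim at h1
    rw [dim_ptSub, dim_ptSub] at h1
    omega
  -- the preimage index
  have hpre : ∀ W' : (X.ptSub x).scheme.Opens, (W' : Set (X.ptSub x).scheme).Nonempty →
      ∃ W₁ : ptIdx Y y, ∀ z, z ∈ W₁.1 ↔ (ptLift φ y x L.maps_pt) z ∈ W' := by
    intro W' hW'
    have hne : (((ptLift φ y x L.maps_pt) ⁻¹ᵁ W' : (Y.ptSub y).scheme.Opens) :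
        Set (Y.ptSub y).scheme).Nonempty :=
      ⟨ξ, mem_preimage_of_map_mem _ W' ξ (hgξ ▸ hξ'W W' hW')⟩
    exact ⟨⟨_, hne, IsConstructible.dim_open (Y.ptSub y).mem (irreducibleSpace_ptSub Y y) _ hne⟩,
      fun z => Iff.rfl⟩
  -- the formula for `L` through an open of the iso locus
  have formula : ∀ (W' : ptIdx X x) (_ : W'.1 ≤ W'₀) (W₁ : ptIdx Y y)
      (hW₁ : ∀ z, z ∈ W₁.1 ↔ (ptLift φ y x L.maps_pt) z ∈ W'.1)
      (hf : IsIso (liftOpen (ptLift φ y x L.maps_pt) W₁.1 W'.1 (fun w hw => (hW₁ w).mp hw)))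
      (hi' : i = i + 2 * relCodim ((Y.ptSub y).res W₁.1).scheme ((X.ptSub x).res W'.1).scheme)
      (hn' : n = n + relCodim ((Y.ptSub y).res W₁.1).scheme ((X.ptSub x).res W'.1).scheme)
      (a : T.gp ((Y.ptSub y).res W₁.1) M i n),
      (L.cpt M i n).hom (((T.ptι Y y i n W₁).app M).hom a) =
        ((T.ptι X x i n W').app M).hom
          ((T.push (liftOpen (ptLift φ y x L.maps_pt) W₁.1 W'.1 (fun w hw => (hW₁ w).mp hw))
            M i n i n hi' hn').hom a) := by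
    intro W' _ W₁ hW₁ hf hi' hn' a
    have hcomp : liftOpen (ptLift φ y x L.maps_pt) W₁.1 W'.1 (fun w hw => (hW₁ w).mp hw) ≫
        W'.1.ι ≫ X.ptSubι x = W₁.1.ι ≫ Y.ptSubι y ≫ φ := by
      rw [liftOpen_ι_assoc, ptLift_ι]
    exact congrArg (fun ψ => ψ.hom a) (L.cpt_spec M i n W₁ W'
      (liftOpen (ptLift φ y x L.maps_pt) W₁.1 W'.1 (fun w hw => (hW₁ w).mp hw)) hcomp hi' hn')
  have hrc : ∀ (W' : ptIdx X x) (W₁ : ptIdx Y y),
      relCodim ((Y.ptSub y).res W₁.1).scheme ((X.ptSub x).res W'.1).scheme = 0 := by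
    intro W' W₁
    have h2 : WeilCoh.dim ((Y.ptSub y).res W₁.1).scheme = WeilCoh.dim (Y.ptSub y).scheme := W₁.2.2
    have h3 : WeilCoh.dim ((X.ptSub x).res W'.1).scheme = WeilCoh.dim (X.ptSub x).scheme := W'.2.2
    have h1 := L.codim_eq
    unfold relCodim at h1 ⊢
    rw [h2, h3]
    exact h1
  constructor
  · -- injectivity
    rw [injective_iff_map_eq_zero]
    intro α hα
    obtain ⟨W, a, rfl⟩ := ocolim_exists_rep T (Y.ptSub y) _ i n M α
    obtain ⟨W'o, hW'oξ, hW'ole⟩ := exists_open_preimage_le φ y x L.maps_pt hd W.1 W.2.1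
    have hne' : ((W'o ⊓ W'₀ : (X.ptSub x).scheme.Opens) : Set (X.ptSub x).scheme).Nonempty :=
      ⟨ξ', hgξ ▸ hW'oξ ξ hξ, hξ'W W'₀ hne₀⟩
    obtain ⟨W', hW'eq⟩ : ∃ W' : ptIdx X x, W'.1 = W'o ⊓ W'₀ :=
      ⟨⟨_, hne', IsConstructible.dim_open (X.ptSub x).mem (irreducibleSpace_ptSub X x) _ hne'⟩,
        rfl⟩
    have hW'le₀ : W'.1 ≤ W'₀ := by rw [hW'eq]; exact inf_le_right
    have hW'leo : W'.1 ≤ W'o := by rw [hW'eq]; exact inf_le_left
    obtain ⟨W₁, hW₁⟩ := hpre W'.1 W'.2.1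
    have hW₁W : W₁ ≤ W := fun z hz => hW'ole (hW'leo ((hW₁ z).mp hz))
    have hf := isIso_liftOpen_of_iff (ptLift φ y x L.maps_pt) hiso W₁.1 W'.1 hW'le₀ hW₁
    have hi' : i = i + 2 * relCodim ((Y.ptSub y).res W₁.1).scheme
        ((X.ptSub x).res W'.1).scheme := by rw [hrc W' W₁]; ring
    have hn' : n = n + relCodim ((Y.ptSub y).res W₁.1).scheme
        ((X.ptSub x).res W'.1).scheme := by rw [hrc W' W₁]; ring
    have h7 := congrArg (fun ψ => ψ.hom a)
      (ocolimι_rs T (Y.ptSub y) (fun U => (U : Set (Y.ptSub y).scheme).Nonempty) i n M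
        (U' := W₁) (U := W) hW₁W)
    have hz1 : ((T.ptι X x i n W').app M).hom
        ((T.push (liftOpen (ptLift φ y x L.maps_pt) W₁.1 W'.1 (fun w hw => (hW₁ w).mp hw))
          M i n i n hi' hn').hom
          ((rs T (Y.ptSub y) hW₁W (W₁.2.2.trans W.2.2.symm) M i n).hom a)) = 0 := by
      rw [← formula W' hW'le₀ W₁ hW₁ hf hi' hn']
      refine Eq.trans (congrArg (fun t => (L.cpt M i n).hom t) ?_) hα
      exact h7
    obtain ⟨W'₂, hW'₂le, hz2⟩ := ocolim_eq_zero T (X.ptSub x)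
      (fun U => (U : Set (X.ptSub x).scheme).Nonempty) i n M W' _ hz1
    obtain ⟨W₂, hW₂⟩ := hpre W'₂.1 W'₂.2.1
    have hW₂W₁ : W₂ ≤ W₁ := fun z hz => (hW₁ z).mpr (hW'₂le ((hW₂ z).mp hz))
    have hW'₂le₀ : W'₂.1 ≤ W'₀ := fun z hz => hW'le₀ (hW'₂le hz)
    have hf₂ := isIso_liftOpen_of_iff (ptLift φ y x L.maps_pt) hiso W₂.1 W'₂.1 hW'₂le₀ hW₂
    have hi₂ : i = i + 2 * relCodim ((Y.ptSub y).res W₂.1).scheme
        ((X.ptSub x).res W'₂.1).scheme := by rw [hrc W'₂ W₂]; ring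
    have hn₂ : n = n + relCodim ((Y.ptSub y).res W₂.1).scheme
        ((X.ptSub x).res W'₂.1).scheme := by rw [hrc W'₂ W₂]; ring
    have hpb : IsPullback ((Y.ptSub y).scheme.homOfLE hW₂W₁)
        (liftOpen (ptLift φ y x L.maps_pt) W₂.1 W'₂.1 (fun w hw => (hW₂ w).mp hw))
        (liftOpen (ptLift φ y x L.maps_pt) W₁.1 W'.1 (fun w hw => (hW₁ w).mp hw))
        ((X.ptSub x).scheme.homOfLE hW'₂le) :=
      isPullback_liftOpen (ptLift φ y x L.maps_pt) hW₂W₁ hW'₂le (fun w hw => (hW₁ w).mp hw)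
        (fun w hw => (hW₂ w).mp hw) (fun z _ hz => (hW₂ z).mpr hz)
    have hbc := T.push_pull (X := (Y.ptSub y).res W₁.1) (Y := (X.ptSub x).res W'.1)
      (X' := (Y.ptSub y).res W₂.1) (Y' := (X.ptSub x).res W'₂.1)
      (liftOpen (ptLift φ y x L.maps_pt) W₁.1 W'.1 (fun w hw => (hW₁ w).mp hw))
      (liftOpen (ptLift φ y x L.maps_pt) W₂.1 W'₂.1 (fun w hw => (hW₂ w).mp hw))
      ((X.ptSub x).resLE hW'₂le (W'₂.2.2.trans W'.2.2.symm))
      ((Y.ptSub y).resLE hW₂W₁ (W₂.2.2.trans W₁.2.2.symm)) hpb M i n i n hi' hn' hi₂ hn₂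
    have hz3 : (T.push (liftOpen (ptLift φ y x L.maps_pt) W₂.1 W'₂.1
        (fun w hw => (hW₂ w).mp hw)) M i n i n hi₂ hn₂).hom
        ((rs T (Y.ptSub y) hW₂W₁ (W₂.2.2.trans W₁.2.2.symm) M i n).hom
          ((rs T (Y.ptSub y) hW₁W (W₁.2.2.trans W.2.2.symm) M i n).hom a)) = 0 := by
      have h := congrArg (fun ψ => ψ.hom
        ((rs T (Y.ptSub y) hW₁W (W₁.2.2.trans W.2.2.symm) M i n).hom a)) hbc
      exact h.symm.trans hz2
    have hz4 := (push_bijective_of_isIso T _ M i n hi₂ hn₂).1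
      (hz3.trans (map_zero _).symm)
    have h8 := congrArg (fun ψ => ψ.hom ((rs T (Y.ptSub y) hW₁W (W₁.2.2.trans W.2.2.symm)
      M i n).hom a))
      (ocolimι_rs T (Y.ptSub y) (fun U => (U : Set (Y.ptSub y).scheme).Nonempty) i n M
        (U' := W₂) (U := W₁) hW₂W₁)
    refine h7.symm.trans (h8.symm.trans ?_)
    exact (congrArg (fun t => ((T.ptι Y y i n W₂).app M).hom t) hz4).trans (map_zero _)
  · -- surjectivity
    intro β
    obtain ⟨W'', b, rfl⟩ := ocolim_exists_rep T (X.ptSub x) _ i n M β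
    have hne' : ((W''.1 ⊓ W'₀ : (X.ptSub x).scheme.Opens) : Set (X.ptSub x).scheme).Nonempty :=
      ⟨ξ', hξ'W W''.1 W''.2.1, hξ'W W'₀ hne₀⟩
    obtain ⟨W', hW'eq⟩ : ∃ W' : ptIdx X x, W'.1 = W''.1 ⊓ W'₀ :=
      ⟨⟨_, hne', IsConstructible.dim_open (X.ptSub x).mem (irreducibleSpace_ptSub X x) _ hne'⟩,
        rfl⟩
    have hW'le₀ : W'.1 ≤ W'₀ := by rw [hW'eq]; exact inf_le_right
    have hW'le : W' ≤ W'' := by
      change W'.1 ≤ W''.1
      rw [hW'eq]; exact inf_le_left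
    obtain ⟨W₁, hW₁⟩ := hpre W'.1 W'.2.1
    have hf := isIso_liftOpen_of_iff (ptLift φ y x L.maps_pt) hiso W₁.1 W'.1 hW'le₀ hW₁
    have hi' : i = i + 2 * relCodim ((Y.ptSub y).res W₁.1).scheme
        ((X.ptSub x).res W'.1).scheme := by rw [hrc W' W₁]; ring
    have hn' : n = n + relCodim ((Y.ptSub y).res W₁.1).scheme
        ((X.ptSub x).res W'.1).scheme := by rw [hrc W' W₁]; ring
    obtain ⟨a, ha⟩ := (push_bijective_of_isIso T
      (liftOpen (ptLift φ y x L.maps_pt) W₁.1 W'.1 (fun w hw => (hW₁ w).mp hw)) M i n hi' hn').2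
      ((rs T (X.ptSub x) hW'le (W'.2.2.trans W''.2.2.symm) M i n).hom b)
    refine ⟨((T.ptι Y y i n W₁).app M).hom a, ?_⟩
    rw [formula W' hW'le₀ W₁ hW₁ hf hi' hn' a, ha]
    exact congrArg (fun ψ => ψ.hom b)
      (ocolimι_rs T (X.ptSub x) (fun U => (U : Set (X.ptSub x).scheme).Nonempty) i n M
        (U' := W') (U := W'') hW'le)


/-- the closure of the generic point of an integral object is the object -/
lemma isIso_ptSubι_genericPoint (Y : Obj V) [IsIntegral Y.scheme] :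
    IsIso (Y.ptSubι (genericPoint Y.scheme)) := by
  have h2 : Surjective (Y.ptSubι (genericPoint Y.scheme)) := by
    refine ⟨fun u => ?_⟩
    have hu : u ∈ closure ({genericPoint Y.scheme} : Set Y.scheme) := by
      rw [(genericPoint_spec Y.scheme).def]
      trivial
    rw [← range_ptSubι] at hu
    exact hu
  exact isIso_of_isClosedImmersion_of_surjective _

theorem normalization_cpt_bijective (X : Obj V) (w : X.scheme)
    [IsIntegral (X.ptSub w).scheme]
    [QuasiCompact ((X.ptSub w).scheme.fromSpecStalk (genericPoint (X.ptSub w).scheme))]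
    [QuasiSeparated ((X.ptSub w).scheme.fromSpecStalk (genericPoint (X.ptSub w).scheme))]
    (Y : Obj V) [IsIntegral Y.scheme]
    (e : Y.scheme ≅ ((X.ptSub w).scheme.fromSpecStalk
      (genericPoint (X.ptSub w).scheme)).normalization)
    (φ : Y.scheme ⟶ X.scheme) [IsProper φ]
    (hφ : φ = e.hom ≫ ((X.ptSub w).scheme.fromSpecStalk
      (genericPoint (X.ptSub w).scheme)).fromNormalization ≫ X.ptSubι w)
    (L : T.PtPush φ (genericPoint Y.scheme) w) (M : A.Cat) (i n : ℤ) :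
    Function.Bijective (L.cpt M i n).hom := by
  -- the normalization map is finite
  have hprop1 : IsProper ((e.hom ≫ ((X.ptSub w).scheme.fromSpecStalk
      (genericPoint (X.ptSub w).scheme)).fromNormalization) ≫ X.ptSubι w) := by
    rw [Category.assoc, ← hφ]
    infer_instance
  have hprop2 : IsProper (e.hom ≫ ((X.ptSub w).scheme.fromSpecStalk
      (genericPoint (X.ptSub w).scheme)).fromNormalization) :=
    IsProper.of_comp _ (X.ptSubι w)
  have hprop3 : IsProper ((X.ptSub w).scheme.fromSpecStalk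
      (genericPoint (X.ptSub w).scheme)).fromNormalization := by
    have h : ((X.ptSub w).scheme.fromSpecStalk
        (genericPoint (X.ptSub w).scheme)).fromNormalization =
        e.inv ≫ (e.hom ≫ ((X.ptSub w).scheme.fromSpecStalk
          (genericPoint (X.ptSub w).scheme)).fromNormalization) := by
      rw [Iso.inv_hom_id_assoc]
    rw [h]
    infer_instance
  have hfin : IsFinite ((X.ptSub w).scheme.fromSpecStalk
      (genericPoint (X.ptSub w).scheme)).fromNormalization :=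
    (IsFinite.iff_isIntegralHom_and_locallyOfFiniteType _).mpr ⟨inferInstance, inferInstance⟩
  obtain ⟨W'₀, hne₀, hiso₀⟩ := exists_isIso_fromNormalization (X.ptSub w).scheme
  -- the lift is the normalization map up to an isomorphism
  have hj := isIso_ptSubι_genericPoint Y
  have hg : ptLift φ (genericPoint Y.scheme) w L.maps_pt =
      (Y.ptSubι (genericPoint Y.scheme) ≫ e.hom) ≫
        ((X.ptSub w).scheme.fromSpecStalk (genericPoint (X.ptSub w).scheme)).fromNormalization := by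
    rw [← cancel_mono (X.ptSubι w), ptLift_ι, hφ]
    simp only [Category.assoc]
  have hiso : IsIso (ptLift φ (genericPoint Y.scheme) w L.maps_pt ∣_ W'₀) := by
    rw [hg, morphismRestrict_comp]
    have hje : IsIso (Y.ptSubι (genericPoint Y.scheme) ≫ e.hom) := inferInstance
    have h1 : IsIso ((Y.ptSubι (genericPoint Y.scheme) ≫ e.hom) ∣_
        ((X.ptSub w).scheme.fromSpecStalk
          (genericPoint (X.ptSub w).scheme)).fromNormalization ⁻¹ᵁ W'₀) := inferInstance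
    exact IsIso.comp_isIso' h1 hiso₀
  exact ptPush_bijective_of_isIso T φ (genericPoint Y.scheme) w L W'₀ hiso hne₀ M i n

end NormPush

end Groth.Agent.Lib.Helper47.BMUniq
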