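import Groth.Agent.Lib.Helper47.BMDec
import Groth.Prelude.Def_BMCoh4
import Mathlib.AlgebraicGeometry.Morphisms.Proper
import Mathlib.AlgebraicGeometry.IdealSheaf.Functorial

set_option autoImplicit false
universe u

namespace Groth.Agent.Lib.Helper47.BMUniq

open TopologicalSpace Topology Order AlgebraicGeometry CategoryTheory BMCoh Opposite
open CategoryTheory.Limits

section DimClosed

attribute [local instance] specializationOrder in
theorem topKrullDim_eq_krullDim (X : Scheme.{u}) :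
    topologicalKrullDim ↥X = Order.krullDim ↥X := by
  unfold topologicalKrullDim
  exact Order.krullDim_eq_of_orderIso (irreducibleSetEquivPoints (α := ↥X))

theorem exists_ltSeries_of_lift' {α β : Type*} [Preorder α] [Preorder β] (f : α → β)
    (hm : Monotone f) (hl : ∀ (a : α) (b : β), b ≤ f a → ∃ a', a' ≤ a ∧ f a' = b) :
    ∀ (n : ℕ) (p : LTSeries β), p.length = n → ∀ a : α, f a = p.last →
      ∃ q : LTSeries α, q.length = n ∧ q.last = a := by
  intro n
  induction n with
  | zero =>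
    intro p _ a _
    exact ⟨RelSeries.singleton _ a, rfl, rfl⟩
  | succ n ih =>
    intro p hp a ha
    have hne : p.length ≠ 0 := by omega
    have hlt : p.eraseLast.last < p.last := RelSeries.eraseLast_last_rel_last p hne
    obtain ⟨a', ha'1, ha'2⟩ := hl a p.eraseLast.last (by rw [ha]; exact hlt.le)
    obtain ⟨q', hq'1, hq'2⟩ := ih p.eraseLast (by simp [hp]) a' ha'2
    have hlt' : q'.last < a := by
      rw [hq'2]
      refine lt_of_le_not_ge ha'1 fun h => ?_
      have := hm h
      rw [ha, ha'2] at this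
      exact absurd hlt (not_lt_of_ge this)
    exact ⟨q'.snoc a hlt', by simp [hq'1], by simp⟩

theorem krullDim_le_of_lift' {α β : Type*} [Preorder α] [Preorder β] (f : α → β)
    (hm : Monotone f) (hs : Function.Surjective f)
    (hl : ∀ (a : α) (b : β), b ≤ f a → ∃ a', a' ≤ a ∧ f a' = b) :
    Order.krullDim β ≤ Order.krullDim α := by
  unfold Order.krullDim
  refine iSup_le fun p => ?_
  obtain ⟨a, ha⟩ := hs p.last
  obtain ⟨q, hq, -⟩ := exists_ltSeries_of_lift' f hm hl p.length p rfl a ha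
  rw [← hq]
  exact le_iSup (fun q : LTSeries α => (q.length : WithBot ℕ∞)) q

theorem topKrullDim_le_of_isClosedMap_of_surjective {W V : Scheme.{u}} (i : W ⟶ V)
    (hc : IsClosedMap i) (hs : Function.Surjective i) :
    topologicalKrullDim ↥V ≤ topologicalKrullDim ↥W := by
  rw [topKrullDim_eq_krullDim, topKrullDim_eq_krullDim]
  refine krullDim_le_of_lift' i (fun a a' h => ?_) hs fun a b h => ?_
  · exact Specializes.map h i.continuous
  · obtain ⟨a', h1, h2⟩ := hc.specializingMap h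
    exact ⟨a', h1, h2⟩

end DimClosed

section PtLift

variable {V : ObjectProperty Scheme.{u}} [IsConstructible V]

/-- the induced map between the reduced closures of a point and of its image -/
noncomputable def ptLift {Y X : Obj V} (φ : Y.scheme ⟶ X.scheme) (y : Y.scheme) (x : X.scheme)
    (h : φ y = x) : (Y.ptSub y).scheme ⟶ (X.ptSub x).scheme :=
  IsClosedImmersion.lift (X.ptSubι x) (Y.ptSubι y ≫ φ) (by
    rw [Scheme.Hom.ker_comp, Scheme.IdealSheafData.ker_subschemeι,
      Scheme.IdealSheafData.ker_subschemeι, Scheme.IdealSheafData.map_vanishingIdeal]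
    apply Scheme.IdealSheafData.vanishingIdeal_antimono
    rw [TopologicalSpace.Closeds.closure_le]
    rintro _ ⟨z, hz, rfl⟩
    have h1 : z ∈ closure ({y} : Set Y.scheme) := hz
    have h2 := image_closure_subset_closure_image φ.continuous (Set.mem_image_of_mem _ h1)
    rw [Set.image_singleton] at h2
    change φ z ∈ closure ({x} : Set X.scheme)
    rw [← h]
    exact h2)

@[reassoc]
lemma ptLift_ι {Y X : Obj V} (φ : Y.scheme ⟶ X.scheme) (y : Y.scheme) (x : X.scheme)
    (h : φ y = x) : ptLift φ y x h ≫ X.ptSubι x = Y.ptSubι y ≫ φ :=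
  IsClosedImmersion.lift_fac _ _ _

instance isProper_ptLift {Y X : Obj V} (φ : Y.scheme ⟶ X.scheme) [IsProper φ] (y : Y.scheme)
    (x : X.scheme) (h : φ y = x) : IsProper (ptLift φ y x h) := by
  have : IsProper (ptLift φ y x h ≫ X.ptSubι x) := by
    rw [ptLift_ι]
    infer_instance
  exact IsProper.of_comp (ptLift φ y x h) (X.ptSubι x)

lemma ptLift_apply {Y X : Obj V} (φ : Y.scheme ⟶ X.scheme) (y : Y.scheme) (x : X.scheme)
    (h : φ y = x) (z : (Y.ptSub y).scheme) :
    (X.ptSubι x) ((ptLift φ y x h) z) = φ ((Y.ptSubι y) z) := by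
  rw [← Scheme.Hom.comp_apply, ptLift_ι, Scheme.Hom.comp_apply]


/-- the generic point of the reduced closure of `y` maps to that of `x` -/
lemma ptLift_gen {Y X : Obj V} (φ : Y.scheme ⟶ X.scheme) (y : Y.scheme) (x : X.scheme)
    (h : φ y = x) (ξ : (Y.ptSub y).scheme) (hξ : (Y.ptSubι y) ξ = y) :
    (X.ptSubι x) ((ptLift φ y x h) ξ) = x := by
  rw [ptLift_apply, hξ, h]

lemma ptLift_surjective {Y X : Obj V} (φ : Y.scheme ⟶ X.scheme) [IsProper φ] (y : Y.scheme)
    (x : X.scheme) (h : φ y = x) : Function.Surjective (ptLift φ y x h) := by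
  intro w
  obtain ⟨ξ, hξ, -⟩ := exists_gen Y y
  have hcl : IsClosed (Set.range (ptLift φ y x h)) :=
    (ptLift φ y x h).isClosedMap.isClosed_range
  have h1 : (X.ptSubι x) w ∈ closure ({x} : Set X.scheme) := by
    rw [← range_ptSubι]; exact ⟨w, rfl⟩
  have h2 : (X.ptSubι x) ((ptLift φ y x h) ξ) ⤳ (X.ptSubι x) w := by
    rw [ptLift_gen φ y x h ξ hξ]
    exact specializes_iff_mem_closure.mpr h1
  have h3 : (ptLift φ y x h) ξ ⤳ w :=
    (X.ptSubι x).isClosedEmbedding.isInducing.specializes_iff.mp h2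
  exact h3.mem_closed hcl ⟨ξ, rfl⟩

/-- a proper map does not raise the dimension of the closure of a point -/
lemma pdim_map_le {Y X : Obj V} (φ : Y.scheme ⟶ X.scheme) [IsProper φ] (y : Y.scheme) :
    WeilCoh.pdim X.scheme (φ y) ≤ WeilCoh.pdim Y.scheme y := by
  rw [← dim_ptSub, ← dim_ptSub]
  exact natDim_le_of_le
    (topKrullDim_le_of_isClosedMap_of_surjective (ptLift φ y (φ y) rfl)
      (ptLift φ y (φ y) rfl).isClosedMap (ptLift_surjective φ y (φ y) rfl))
    (finDim (Y.ptSub y))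

/-- shrinking a nonempty open of the closure of `y` so that it becomes proper over a nonempty
open of the closure of `x` -/
theorem exists_shrink {Y X : Obj V} (φ : Y.scheme ⟶ X.scheme) [IsProper φ] (y : Y.scheme)
    (x : X.scheme) (h : φ y = x) (hd : WeilCoh.pdim Y.scheme y = WeilCoh.pdim X.scheme x)
    (W : ptIdx Y y) :
    ∃ (W₁ : ptIdx Y y) (_ : W₁ ≤ W) (W' : ptIdx X x)
      (f : ((Y.ptSub y).res W₁.1).scheme ⟶ ((X.ptSub x).res W'.1).scheme) (_ : IsProper f),
      f ≫ W'.1.ι ≫ X.ptSubι x = W₁.1.ι ≫ Y.ptSubι y ≫ φ := by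
  obtain ⟨ξ, hξ, hξW⟩ := exists_gen Y y
  have hcl : IsClosed ((ptLift φ y x h) '' ((W.1 : Set (Y.ptSub y).scheme)ᶜ)) :=
    (ptLift φ y x h).isClosedMap _ W.1.2.isClosed_compl
  -- the generic point of the closure of x is not in the image of the complement of W
  have hgen : (ptLift φ y x h) ξ ∉ (ptLift φ y x h) '' ((W.1 : Set (Y.ptSub y).scheme)ᶜ) := by
    rintro ⟨z, hzW, hz⟩
    have hzy : (Y.ptSubι y) z ∈ closure ({y} : Set Y.scheme) := by
      rw [← range_ptSubι]; exact ⟨z, rfl⟩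
    have hne : y ∉ closure ({(Y.ptSubι y) z} : Set Y.scheme) := by
      intro hy
      have h2 : (Y.ptSubι y) z ⤳ (Y.ptSubι y) ξ := by
        rw [hξ]; exact specializes_iff_mem_closure.mpr hy
      have h3 : z ⤳ ξ := (Y.ptSubι y).isClosedEmbedding.isInducing.specializes_iff.mp h2
      exact hzW (h3.mem_open W.1.2 (hξW W.1 W.2.1))
    have hlt := pdim_lt_pdim Y hzy hne
    have hle := pdim_map_le φ ((Y.ptSubι y) z)
    have himg : φ ((Y.ptSubι y) z) = x := by
      rw [← ptLift_apply φ y x h z, hz, ptLift_gen φ y x h ξ hξ]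
    rw [himg] at hle
    omega
  let W'o : (X.ptSub x).scheme.Opens := ⟨_, hcl.isOpen_compl⟩
  have hW'ne : (W'o : Set (X.ptSub x).scheme).Nonempty := ⟨_, hgen⟩
  have hW'd : WeilCoh.dim (W'o : Scheme.{u}) = WeilCoh.dim (X.ptSub x).scheme :=
    IsConstructible.dim_open (X.ptSub x).mem (irreducibleSpace_ptSub X x) _ hW'ne
  have hW₁ne : (((ptLift φ y x h) ⁻¹ᵁ W'o : (Y.ptSub y).scheme.Opens) :
      Set (Y.ptSub y).scheme).Nonempty := ⟨ξ, hgen⟩
  have hW₁d : WeilCoh.dim (((ptLift φ y x h) ⁻¹ᵁ W'o : (Y.ptSub y).scheme.Opens) : Scheme.{u}) =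
      WeilCoh.dim (Y.ptSub y).scheme :=
    IsConstructible.dim_open (Y.ptSub y).mem (irreducibleSpace_ptSub Y y) _ hW₁ne
  have hle : (ptLift φ y x h) ⁻¹ᵁ W'o ≤ W.1 := by
    intro z hz
    by_contra hzW
    exact hz ⟨z, hzW, rfl⟩
  refine ⟨⟨(ptLift φ y x h) ⁻¹ᵁ W'o, hW₁ne, hW₁d⟩, hle, ⟨W'o, hW'ne, hW'd⟩,
    (ptLift φ y x h) ∣_ W'o, ?_, ?_⟩
  · exact MorphismProperty.of_isPullback (isPullback_morphismRestrict _ _).flip inferInstance
  · rw [← Category.assoc, morphismRestrict_ι, Category.assoc, ptLift_ι]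


variable {R : Type u} [CommRing R] {A : Coefs R} (T : PreTheory V R A)

theorem subsingleton_ptPush' {Y X : Obj V} (φ : Y.scheme ⟶ X.scheme) [IsProper φ]
    (y : Y.scheme) (x : X.scheme) : Subsingleton (T.PtPush φ y x) := by
  refine ⟨fun P P' => ?_⟩
  have hd : WeilCoh.pdim Y.scheme y = WeilCoh.pdim X.scheme x := by
    have h1 := P.codim_eq
    unfold relCodim at h1
    rw [dim_ptSub, dim_ptSub] at h1
    omega
  have hcpt : P.cpt = P'.cpt := by
    funext M i n
    refine ModuleCat.hom_ext (LinearMap.ext fun α => ?_)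
    obtain ⟨W, a, rfl⟩ := ocolim_exists_rep T (Y.ptSub y) _ i n M α
    obtain ⟨W₁, hle, W', f, hf, hcomp⟩ := exists_shrink φ y x P.maps_pt hd W
    have hrc : relCodim ((Y.ptSub y).res W₁.1).scheme ((X.ptSub x).res W'.1).scheme = 0 := by
      have h1 := P.codim_eq
      have h2 : WeilCoh.dim ((Y.ptSub y).res W₁.1).scheme = WeilCoh.dim (Y.ptSub y).scheme :=
        W₁.2.2
      have h3 : WeilCoh.dim ((X.ptSub x).res W'.1).scheme = WeilCoh.dim (X.ptSub x).scheme :=
        W'.2.2
      unfold relCodim at h1 ⊢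
      rw [h2, h3]
      exact h1
    have hi' : i = i + 2 * relCodim ((Y.ptSub y).res W₁.1).scheme
        ((X.ptSub x).res W'.1).scheme := by rw [hrc]; ring
    have hn' : n = n + relCodim ((Y.ptSub y).res W₁.1).scheme
        ((X.ptSub x).res W'.1).scheme := by rw [hrc]; ring
    have h7 := congrArg (fun ψ => ψ.hom a)
      (ocolimι_rs T (Y.ptSub y) (fun U => (U : Set (Y.ptSub y).scheme).Nonempty) i n M
        (U' := W₁) (U := W) hle)
    have e1 := congrArg (fun ψ => ψ.hom ((rs T (Y.ptSub y) hle (W₁.2.2.trans W.2.2.symm)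
      M i n).hom a)) (P.cpt_spec M i n W₁ W' f hcomp hi' hn')
    have e2 := congrArg (fun ψ => ψ.hom ((rs T (Y.ptSub y) hle (W₁.2.2.trans W.2.2.symm)
      M i n).hom a)) (P'.cpt_spec M i n W₁ W' f hcomp hi' hn')
    have key : ∀ Q : T.PtPush φ y x,
        (Q.cpt M i n).hom (((T.ptι Y y i n W).app M).hom a) =
        (Q.cpt M i n).hom (((T.ptι Y y i n W₁).app M).hom
          ((rs T (Y.ptSub y) hle (W₁.2.2.trans W.2.2.symm) M i n).hom a)) := fun Q =>
      congrArg (fun t => (Q.cpt M i n).hom t) h7.symm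
    exact (key P).trans ((e1.trans e2.symm).trans (key P').symm)
  cases P
  cases P'
  simp only at hcpt
  subst hcpt
  rfl

end PtLift

end Groth.Agent.Lib.Helper47.BMUniq
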