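import Groth.Agent.Lib.Helper47.BMPushStep

set_option autoImplicit false
universe u

namespace Groth.Agent.Lib.Helper47.BMUniq

open TopologicalSpace Topology Order AlgebraicGeometry CategoryTheory BMCoh Opposite
open CategoryTheory.Limits

section PushExact2

variable {V : ObjectProperty Scheme.{u}} [IsConstructible V] {R : Type u} [CommRing R]
  {A : Coefs R} (T : PreTheory V R A)

theorem mem_range_of_vanish (X : Obj V) (j : ℕ) (P : T.PushData X (j + 1)) (M : A.Cat)
    (i n i₀ n' : ℤ) (hi : i₀ + 1 = i + 2 * ((j + 1 : ℕ) : ℤ)) (hn : n' = n + ((j + 1 : ℕ) : ℤ))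
    (S : Finset X.scheme) :
    (∀ s ∈ S, j + 1 ≤ WeilCoh.codim X.scheme s) →
    ∀ (U : Idx X (ContainsFj X (j + 1))) (U₁ : Idx X (ContainsFj X j)) (hle : U₁.1 ≤ U.1)
      (a : T.gp (X.res U.1) M (i₀ + 1) n'),
      (∀ y ∈ U.1, y ∉ U₁.1 → ∃ s ∈ S, y ∈ closure ({s} : Set X.scheme)) →
      (rs T X hle (U₁.2.2.trans U.2.2.symm) M (i₀ + 1) n').hom a = 0 →
      ((T.fjι X (j + 1) (i₀ + 1) n' U).app M).hom a ∈
        LinearMap.range (P.tot M i n (i₀ + 1) n' hi hn).hom := by
  classical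
  induction S using Finset.induction_on with
  | empty =>
    intro _ U U₁ hle a hcov hzero
    have hUU : U.1 ≤ U₁.1 := fun y hy => by
      by_contra h
      obtain ⟨s, hs, _⟩ := hcov y hy h
      exact absurd hs (Finset.notMem_empty s)
    obtain ⟨U₁o, hU₁c, hU₁d⟩ := U₁
    obtain rfl : U₁o = U.1 := le_antisymm hle hUU
    have h0 : a = 0 :=
      (congrArg (fun φ => φ.hom a) (rs_refl T X U.1 M (i₀ + 1) n')).symm.trans hzero
    rw [h0, map_zero]
    exact Submodule.zero_mem _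
  | insert s S' hsS' IH =>
    intro hS U U₁ hle a hcov hzero
    have IH' := IH (fun s' hs' => hS s' (Finset.mem_insert_of_mem hs'))
    by_cases h1 : ∃ s' ∈ S', s ∈ closure ({s'} : Set X.scheme)
    · obtain ⟨s₁, hs₁, hss₁⟩ := h1
      refine IH' U U₁ hle a (fun y hy hy1 => ?_) hzero
      obtain ⟨t, ht, hyt⟩ := hcov y hy hy1
      rcases Finset.mem_insert.mp ht with rfl | ht'
      · exact ⟨s₁, hs₁,
          closure_minimal (Set.singleton_subset_iff.mpr hss₁) isClosed_closure hyt⟩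
      · exact ⟨t, ht', hyt⟩
    by_cases h2 : s ∈ U.1
    swap
    · refine IH' U U₁ hle a (fun y hy hy1 => ?_) hzero
      obtain ⟨t, ht, hyt⟩ := hcov y hy hy1
      rcases Finset.mem_insert.mp ht with rfl | ht'
      · exact absurd ((specializes_iff_mem_closure.mpr hyt).mem_open U.1.2 hy) h2
      · exact ⟨t, ht', hyt⟩
    by_cases h3 : WeilCoh.codim X.scheme s = j + 1
    · exact step_case4 T X j P M i n i₀ n' hi hn S' s h3
        (fun s' hs' => hS s' (Finset.mem_insert_of_mem hs')) h1 IH' U U₁ hle a h2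
        (fun y hy hy1 => by
          obtain ⟨t, ht, hyt⟩ := hcov y hy hy1
          rcases Finset.mem_insert.mp ht with rfl | ht'
          · exact Or.inl hyt
          · exact Or.inr ⟨t, ht', hyt⟩) hzero
    · have hlt : j + 1 < WeilCoh.codim X.scheme s :=
        lt_of_le_of_ne (hS s (Finset.mem_insert_self s S')) (Ne.symm h3)
      have hc0 := containsFj_smallOpen' X (j + 1) s hlt U.1 U.2.1
      have hd0 := dim_eq_of_containsFj' X (j + 1) _ hc0
      have hc1 : ContainsFj X j (U₁.1 ⊓ smallOpen X s U.1) :=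
        containsFj_inf X j U₁.2.1 (containsFj_mono X (Nat.le_succ j) _ hc0)
      have hd1 := dim_eq_of_containsFj' X j _ hc1
      have hle0 : smallOpen X s U.1 ≤ U.1 := Set.sdiff_subset
      have hleft : U₁.1 ⊓ smallOpen X s U.1 ≤ U₁.1 := inf_le_left
      have h4 := IH' ⟨smallOpen X s U.1, hc0, hd0⟩ ⟨U₁.1 ⊓ smallOpen X s U.1, hc1, hd1⟩
        inf_le_right ((rs T X hle0 (hd0.trans U.2.2.symm) M (i₀ + 1) n').hom a)
        (fun y hy hy1 => by
          obtain ⟨t, ht, hyt⟩ := hcov y hy.1 (fun h => hy1 ⟨h, hy⟩)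
          rcases Finset.mem_insert.mp ht with rfl | ht'
          · exact absurd hyt hy.2
          · exact ⟨t, ht', hyt⟩)
        (by
          rw [rs_rs_apply, ← rs_rs_apply T X hleft hle (hd1.trans U₁.2.2.symm)
            (U₁.2.2.trans U.2.2.symm), hzero, map_zero])
      have h7 := congrArg (fun φ => φ.hom a)
        (ocolimι_rs T X (ContainsFj X (j + 1)) (i₀ + 1) n' M
          (U' := ⟨smallOpen X s U.1, hc0, hd0⟩) (U := U) hle0)
      exact h7 ▸ h4

theorem exact_tot_fjRes (X : Obj V) (j : ℕ) (P : T.PushData X (j + 1)) (M : A.Cat)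
    (i n i' n' : ℤ) (hi : i' = i + 2 * ((j + 1 : ℕ) : ℤ)) (hn : n' = n + ((j + 1 : ℕ) : ℤ)) :
    Function.Exact (P.tot M i n i' n' hi hn).hom ((T.fjRes X (Nat.le_succ j) i' n').app M).hom := by
  obtain ⟨i₀, rfl⟩ : ∃ i₀, i' = i₀ + 1 := ⟨i' - 1, by ring⟩
  intro α
  constructor
  · intro hα
    obtain ⟨U, a, rfl⟩ := ocolim_exists_rep T X _ (i₀ + 1) n' M α
    have h1 := congrArg (fun φ => φ.hom a) (fjι_fjRes T X (Nat.le_succ j) (i₀ + 1) n' M U)
    have h2 : ((T.fjι X j (i₀ + 1) n' (idxDown X (Nat.le_succ j) U)).app M).hom a = 0 :=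
      h1.symm.trans hα
    obtain ⟨U₁, hle, hz⟩ := ocolim_eq_zero T X (ContainsFj X j) (i₀ + 1) n' M
      (idxDown X (Nat.le_succ j) U) a h2
    by_cases hne : Nonempty X.scheme
    swap
    · exact mem_range_of_vanish T X j P M i n i₀ n' hi hn ∅ (by simp) U U₁ hle a
        (fun y _ _ => absurd ⟨y⟩ hne) hz
    have := noetherianSpace X
    obtain ⟨F, hFfin, hFcl, hFirr, hFU⟩ :=
      NoetherianSpace.exists_finite_set_isClosed_irreducible U₁.1.2.isClosed_compl
    choose! η hη using fun t (ht : t ∈ F) => QuasiSober.sober (hFirr t ht) (hFcl t ht)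
    classical
    refine mem_range_of_vanish T X j P M i n i₀ n' hi hn (hFfin.toFinset.image η) ?_ U U₁ hle a
      ?_ hz
    · intro s hs
      obtain ⟨t, ht, rfl⟩ := Finset.mem_image.mp hs
      have ht' : t ∈ F := hFfin.mem_toFinset.mp ht
      have hηt : η t ∈ t := by
        have h : η t ∈ closure ({η t} : Set X.scheme) := subset_closure rfl
        rwa [(hη t ht').def] at h
      have hηU₁ : η t ∉ U₁.1 := (Set.ext_iff.mp hFU (η t)).mpr (Set.mem_sUnion.mpr ⟨t, ht', hηt⟩)
      by_contra hlt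
      exact hηU₁ (U₁.2.1 _ (by omega))
    · intro y hy hy1
      obtain ⟨t, ht, hyt⟩ := Set.mem_sUnion.mp ((Set.ext_iff.mp hFU y).mp hy1)
      exact ⟨η t, Finset.mem_image.mpr ⟨t, hFfin.mem_toFinset.mpr ht, rfl⟩,
        by rw [(hη t ht).def]; exact hyt⟩
  · rintro ⟨ξ, rfl⟩
    classical
    have hcomp : ((T.fjRes X (Nat.le_succ j) (i₀ + 1) n').app M).hom ∘ₗ
        (P.tot M i n (i₀ + 1) n' hi hn).hom = 0 := by
      apply DirectSum.linearMap_ext
      intro x
      apply LinearMap.ext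
      intro b
      simp only [LinearMap.comp_apply, LinearMap.zero_apply]
      rw [PreTheory.PushData.tot_lof]
      exact fjRes_cpt_eq_zero T X j P M i n (i₀ + 1) n' hi hn x b
    exact LinearMap.congr_fun hcomp ξ

end PushExact2

end Groth.Agent.Lib.Helper47.BMUniq
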