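import Groth.Agent.Lib.Helper47.BMAux

set_option autoImplicit false
universe u

namespace Groth.Agent.Lib.Helper47.BMUniq

open TopologicalSpace Topology Order AlgebraicGeometry CategoryTheory BMCoh Opposite
open CategoryTheory.Limits

section PushExact

variable {V : ObjectProperty Scheme.{u}} [IsConstructible V] {R : Type u} [CommRing R]
  {A : Coefs R} (T : PreTheory V R A)

open Classical in
/-- the value of a push-forward datum on a point class lies in the range of the total map -/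
lemma cpt_mem_range (X : Obj V) (m : ℕ) (P : T.PushData X m) (M : A.Cat)
    (i n i' n' : ℤ) (hi : i' = i + 2 * (m : ℤ)) (hn : n' = n + (m : ℤ)) (x : X.cdPt m)
    (b : T.ptGp X x.1 M i n) :
    (P.cpt x M i n i' n' hi hn).hom b ∈ LinearMap.range (P.tot M i n i' n' hi hn).hom :=
  ⟨DirectSum.lof R (X.cdPt m) (fun y : X.cdPt m => T.ptGp X y.1 M i n) x b,
    PreTheory.PushData.tot_lof P M i n i' n' hi hn x b⟩

/-- The key step: one more component of codimension exactly `j + 1`. -/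
theorem step_case4 (X : Obj V) (j : ℕ) (P : T.PushData X (j + 1)) (M : A.Cat)
    (i n i₀ n' : ℤ) (hi : i₀ + 1 = i + 2 * ((j + 1 : ℕ) : ℤ)) (hn : n' = n + ((j + 1 : ℕ) : ℤ))
    (S' : Finset X.scheme) (s : X.scheme) (hs : WeilCoh.codim X.scheme s = j + 1)
    (hS' : ∀ s' ∈ S', j + 1 ≤ WeilCoh.codim X.scheme s')
    (h1 : ¬ ∃ s' ∈ S', s ∈ closure ({s'} : Set X.scheme))
    (IH : ∀ (U : Idx X (ContainsFj X (j + 1))) (U₁ : Idx X (ContainsFj X j)) (hle : U₁.1 ≤ U.1)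
      (a : T.gp (X.res U.1) M (i₀ + 1) n'),
      (∀ y ∈ U.1, y ∉ U₁.1 → ∃ s' ∈ S', y ∈ closure ({s'} : Set X.scheme)) →
      (rs T X hle (U₁.2.2.trans U.2.2.symm) M (i₀ + 1) n').hom a = 0 →
      ((T.fjι X (j + 1) (i₀ + 1) n' U).app M).hom a ∈
        LinearMap.range (P.tot M i n (i₀ + 1) n' hi hn).hom)
    (U : Idx X (ContainsFj X (j + 1))) (U₁ : Idx X (ContainsFj X j)) (hle : U₁.1 ≤ U.1)
    (a : T.gp (X.res U.1) M (i₀ + 1) n') (h2 : s ∈ U.1)
    (hcov : ∀ y ∈ U.1, y ∉ U₁.1 → y ∈ closure ({s} : Set X.scheme) ∨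
      ∃ s' ∈ S', y ∈ closure ({s'} : Set X.scheme))
    (hzero : (rs T X hle (U₁.2.2.trans U.2.2.symm) M (i₀ + 1) n').hom a = 0) :
    ((T.fjι X (j + 1) (i₀ + 1) n' U).app M).hom a ∈
      LinearMap.range (P.tot M i n (i₀ + 1) n' hi hn).hom := by
  have hne : Nonempty X.scheme := ⟨s⟩
  have hCcl := isClosed_clUnion X S'
  have hsC : s ∉ clUnion X S' := fun h => h1 ((mem_clUnion X S' s).mp h)
  -- codimension of points of C'
  have hcodC : ∀ y ∈ clUnion X S', j + 1 ≤ WeilCoh.codim X.scheme y := by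
    intro y hy
    obtain ⟨s', hs', hys'⟩ := (mem_clUnion X S' y).mp hy
    exact (hS' s' hs').trans (codim_le_of_mem_closure X hys')
  -- the opens
  let Y₁o := diffOpen X U.1 (clUnion X S') hCcl
  let U''o := diffOpen X U.1 (closure ({s} : Set X.scheme) ∩ clUnion X S')
    (isClosed_closure.inter hCcl)
  let O₁o := smallOpen X s Y₁o
  have hO₁c : ContainsFj X j O₁o := by
    intro y hy
    refine ⟨⟨U.2.1 y (hy.trans (Nat.le_succ j)), fun hyC => ?_⟩, fun hys => ?_⟩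
    · have := hcodC y hyC
      omega
    · have := codim_le_of_mem_closure X hys
      omega
  have hO₁Y : O₁o ≤ Y₁o := Set.sdiff_subset
  have hY₁U'' : Y₁o ≤ U''o := fun y hy => ⟨hy.1, fun h => hy.2 h.2⟩
  have hU''U : U''o ≤ U.1 := Set.sdiff_subset
  have hY₁c : ContainsFj X j Y₁o := fun y hy => hO₁Y (hO₁c y hy)
  have hU''c : ContainsFj X (j + 1) U''o := by
    intro y hy
    refine ⟨U.2.1 y hy, fun hyC => ?_⟩
    obtain ⟨s', hs', hys'⟩ := (mem_clUnion X S' y).mp hyC.2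
    have hsy : s ∉ closure ({y} : Set X.scheme) := fun hsy =>
      h1 ⟨s', hs', closure_minimal (Set.singleton_subset_iff.mpr hys') isClosed_closure hsy⟩
    have := codim_lt_of_mem_closure X hyC.1 hsy
    omega
  have hO₁d := dim_eq_of_containsFj X j _ hO₁c
  have hY₁d := dim_eq_of_containsFj X j _ hY₁c
  have hU''d := dim_eq_of_containsFj X (j + 1) _ hU''c
  have hO₁U₁ : O₁o ≤ U₁.1 := by
    intro y hy
    by_contra hyU₁
    rcases hcov y hy.1.1 hyU₁ with h | h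
    · exact hy.2 h
    · exact hy.1.2 ((mem_clUnion X S' y).mpr h)
  have hsY₁ : s ∈ Y₁o := ⟨h2, hsC⟩
  -- the open of the closure of s
  let W : ptIdx X s := traceIdx X s Y₁o hsY₁
  have hW₁ : ∀ z, (X.ptSubι s) z ∈ Y₁o ↔ z ∈ W.1 := fun z => Iff.rfl
  have hW'' : ∀ z, (X.ptSubι s) z ∈ U''o ↔ z ∈ W.1 := by
    intro z
    have hz : (X.ptSubι s) z ∈ closure ({s} : Set X.scheme) := by
      rw [← range_ptSubι]; exact ⟨z, rfl⟩
    constructor
    · intro h
      exact ⟨h.1, fun hC => h.2 ⟨hz, hC⟩⟩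
    · intro h
      exact hY₁U'' h
  let D₁ := mkDecomp X s Y₁o W.1 hW₁ O₁o hO₁Y
    (fun y hy => ⟨fun h => h.2, fun h => ⟨hy, h⟩⟩) (hO₁d.trans hY₁d.symm)
  have instD : IsClosedImmersion (X := ((X.ptSub s).res W.1).scheme) (Y := (X.res Y₁o).scheme)
      D₁.i := D₁.closedImm
  let f'' : ((X.ptSub s).res W.1).scheme ⟶ (X.res U''o).scheme :=
    liftOpen (X.ptSubι s) W.1 U''o (fun w hw => (hW'' w).mpr hw)
  have instf : IsClosedImmersion f'' := isClosedImmersion_liftOpen' (X.ptSubι s) W.1 U''o hW''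
  -- index equations
  have hrc₁ : relCodim ((X.ptSub s).res W.1).scheme (X.res Y₁o).scheme = ((j + 1 : ℕ) : ℤ) := by
    rw [relCodim_trace X s Y₁o W hY₁d, hs]
  have hrc'' : relCodim ((X.ptSub s).res W.1).scheme (X.res U''o).scheme = ((j + 1 : ℕ) : ℤ) := by
    rw [relCodim_trace X s U''o W hU''d, hs]
  have hi₁ : i₀ + 1 = i + 2 * relCodim ((X.ptSub s).res W.1).scheme (X.res Y₁o).scheme := by
    rw [hrc₁]; exact hi
  have hn₁ : n' = n + relCodim ((X.ptSub s).res W.1).scheme (X.res Y₁o).scheme := by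
    rw [hrc₁]; exact hn
  have hi'' : i₀ + 1 = i + 2 * relCodim ((X.ptSub s).res W.1).scheme (X.res U''o).scheme := by
    rw [hrc'']; exact hi
  have hn'' : n' = n + relCodim ((X.ptSub s).res W.1).scheme (X.res U''o).scheme := by
    rw [hrc'']; exact hn
  -- restrictions of a
  have hdYU : WeilCoh.dim (Y₁o : Scheme.{u}) = WeilCoh.dim (U.1 : Scheme.{u}) :=
    hY₁d.trans U.2.2.symm
  have hdU''U : WeilCoh.dim (U''o : Scheme.{u}) = WeilCoh.dim (U.1 : Scheme.{u}) :=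
    hU''d.trans U.2.2.symm
  have hdYU'' : WeilCoh.dim (Y₁o : Scheme.{u}) = WeilCoh.dim (U''o : Scheme.{u}) :=
    hY₁d.trans hU''d.symm
  have hdOY : WeilCoh.dim (O₁o : Scheme.{u}) = WeilCoh.dim (Y₁o : Scheme.{u}) :=
    hO₁d.trans hY₁d.symm
  have hdOU₁ : WeilCoh.dim (O₁o : Scheme.{u}) = WeilCoh.dim (U₁.1 : Scheme.{u}) :=
    hO₁d.trans U₁.2.2.symm
  -- a restricted to O₁ vanishes
  have hzO : (rs T X hO₁Y hdOY M (i₀ + 1) n').hom
      ((rs T X (hY₁U''.trans hU''U) hdYU M (i₀ + 1) n').hom a) = 0 := by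
    rw [rs_rs_apply, ← rs_rs_apply T X hO₁U₁ hle hdOU₁ (U₁.2.2.trans U.2.2.symm), hzero, map_zero]
  -- Gysin: a restricted to Y₁ is a push-forward
  obtain ⟨b, hb⟩ := ((T.exact_push_pull D₁ M i₀ n' i n hi₁ hn₁) _).mp hzO
  -- the new class
  let a₂ : T.gp (X.res U''o) M (i₀ + 1) n' :=
    (rs T X hU''U hdU''U M (i₀ + 1) n').hom a - (T.push f'' M i n (i₀ + 1) n' hi'' hn'').hom b
  -- base change
  have hpb : IsPullback (𝟙 ((X.ptSub s).res W.1).scheme) D₁.i f'' (X.scheme.homOfLE hY₁U'') :=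
    isPullback_id_of_mono D₁.i (X.scheme.homOfLE hY₁U'') f''
      (liftOpen_homOfLE (X.ptSubι s) W.1 hY₁U'' (fun w hw => (hW₁ w).mpr hw))
  have hbc := T.push_pull f'' D₁.i (X.resLE hY₁U'' hdYU'') (𝟙 ((X.ptSub s).res W.1)) hpb M i n
    (i₀ + 1) n' hi'' hn'' hi₁ hn₁
  have hbc' : (rs T X hY₁U'' hdYU'' M (i₀ + 1) n').hom
      ((T.push f'' M i n (i₀ + 1) n' hi'' hn'').hom b) =
      (T.push D₁.i M i n (i₀ + 1) n' hi₁ hn₁).hom b := by
    have hid : ((T.H i n).map (𝟙 ((X.ptSub s).res W.1)).op).app M = 𝟙 _ := pull_id T _ M i n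
    rw [hid, Category.id_comp] at hbc
    exact congrArg (fun φ => φ.hom b) hbc
  have hz₂ : (rs T X hY₁U'' hdYU'' M (i₀ + 1) n').hom a₂ = 0 := by
    change (rs T X hY₁U'' hdYU'' M (i₀ + 1) n').hom (_ - _) = 0
    rw [map_sub, rs_rs_apply, hbc', hb, sub_self]
  -- apply the induction hypothesis
  have hIH := IH ⟨U''o, hU''c, hU''d⟩ ⟨Y₁o, hY₁c, hY₁d⟩ hY₁U'' a₂ (by
    intro y hy hyY
    by_contra hnot
    exact hyY ⟨hy.1, fun hC => hnot ((mem_clUnion X S' y).mp hC)⟩) hz₂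
  -- conclude
  have hspec := P.cpt_spec ⟨s, hs⟩ M i n (i₀ + 1) n' hi hn ⟨U''o, hU''c, hU''d⟩ W f''
    (liftOpen_ι (X.ptSubι s) W.1 U''o (fun w hw => (hW'' w).mpr hw)) hi'' hn''
  have h5 : ((T.fjι X (j + 1) (i₀ + 1) n' ⟨U''o, hU''c, hU''d⟩).app M).hom
      ((T.push f'' M i n (i₀ + 1) n' hi'' hn'').hom b) ∈
      LinearMap.range (P.tot M i n (i₀ + 1) n' hi hn).hom := by
    have h6 := congrArg (fun φ => φ.hom b) hspec
    change _ = ((T.fjι X (j + 1) (i₀ + 1) n' ⟨U''o, hU''c, hU''d⟩).app M).hom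
      ((T.push f'' M i n (i₀ + 1) n' hi'' hn'').hom b) at h6
    rw [← h6]
    exact cpt_mem_range T X (j + 1) P M i n (i₀ + 1) n' hi hn ⟨s, hs⟩ _
  have h7 := congrArg (fun φ => φ.hom a)
    (ocolimι_rs T X (ContainsFj X (j + 1)) (i₀ + 1) n' M (U' := ⟨U''o, hU''c, hU''d⟩) (U := U)
      hU''U)
  change ((T.fjι X (j + 1) (i₀ + 1) n' ⟨U''o, hU''c, hU''d⟩).app M).hom
    ((rs T X hU''U hdU''U M (i₀ + 1) n').hom a) = _ at h7
  rw [← h7]
  have h8 : (rs T X hU''U hdU''U M (i₀ + 1) n').hom a =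
      a₂ + (T.push f'' M i n (i₀ + 1) n' hi'' hn'').hom b := (sub_add_cancel _ _).symm
  rw [h8, map_add]
  exact Submodule.add_mem _ hIH h5

end PushExact

end Groth.Agent.Lib.Helper47.BMUniq
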