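import Groth.Agent.Lib.Helper47.BMDec

set_option autoImplicit false
universe u

namespace Groth.Agent.Lib.Helper47.BMUniq

open TopologicalSpace Topology Order AlgebraicGeometry CategoryTheory BMCoh Opposite
open CategoryTheory.Limits

section PushZero

variable {V : ObjectProperty Scheme.{u}} [IsConstructible V] {R : Type u} [CommRing R]
  {A : Coefs R} (T : PreTheory V R A)

/-- The composite `H(x) → H(F_{j+1}X) → H(F_jX)` vanishes. -/
theorem fjRes_cpt_eq_zero (X : Obj V) (j : ℕ) (P : T.PushData X (j + 1)) (M : A.Cat)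
    (i n i' n' : ℤ) (hi : i' = i + 2 * ((j + 1 : ℕ) : ℤ)) (hn : n' = n + ((j + 1 : ℕ) : ℤ))
    (x : X.cdPt (j + 1)) (b : T.ptGp X x.1 M i n) :
    ((T.fjRes X (Nat.le_succ j) i' n').app M).hom ((P.cpt x M i n i' n' hi hn).hom b) = 0 := by
  obtain ⟨i₀, rfl⟩ : ∃ i₀, i' = i₀ + 1 := ⟨i' - 1, by ring⟩
  obtain ⟨W, b₀, rfl⟩ := ocolim_exists_rep T (X.ptSub x.1) _ i n M b
  have : Nonempty X.scheme := ⟨x.1⟩
  -- the open in which W is closed
  have hc := containsFj_bigOpen X (j + 1) x W.1 W.2.1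
  have hd := dim_eq_of_containsFj X (j + 1) _ hc
  let U : Idx X (ContainsFj X (j + 1)) := ⟨bigOpen X x.1 W.1, hc, hd⟩
  have hW : ∀ z, (X.ptSubι x.1) z ∈ U.1 ↔ z ∈ W.1 := fun z =>
    ⟨fun h => (mem_complOpen _ W.1 _).mp h z rfl, fun h => map_mem_complOpen _ W.1 z h⟩
  -- the smaller open
  have hc₁ : ContainsFj X j (smallOpen X x.1 U.1) :=
    containsFj_smallOpen X j x U.1 (containsFj_mono X (Nat.le_succ j) U.1 hc)
  have hd₁ := dim_eq_of_containsFj X j _ hc₁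
  let U₁ : Idx X (ContainsFj X j) := ⟨smallOpen X x.1 U.1, hc₁, hd₁⟩
  have hle : U₁.1 ≤ U.1 := Set.sdiff_subset
  let D := mkDecomp X x.1 U.1 W.1 hW U₁.1 hle
    (fun y _ => ⟨fun h => h.2, fun h => ⟨‹y ∈ U.1›, h⟩⟩) (hd₁.trans hd.symm)
  haveI : IsClosedImmersion (X := ((X.ptSub x.1).res W.1).scheme) (Y := (X.res U.1).scheme) D.i :=
    D.closedImm
  have hrc : relCodim ((X.ptSub x.1).res W.1).scheme (X.res U.1).scheme = ((j + 1 : ℕ) : ℤ) := by
    rw [relCodim_trace X x.1 U.1 W hd, x.2]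
  have hi' : i₀ + 1 = i + 2 * relCodim ((X.ptSub x.1).res W.1).scheme (X.res U.1).scheme := by
    rw [hrc]; exact hi
  have hn' : n' = n + relCodim ((X.ptSub x.1).res W.1).scheme (X.res U.1).scheme := by
    rw [hrc]; exact hn
  have hspec := P.cpt_spec x M i n (i₀ + 1) n' hi hn U W D.i (liftOpen_ι (X.ptSubι x.1) W.1 U.1 (fun w hw => (hW w).mpr hw)) hi' hn'
  have h1 : (P.cpt x M i n (i₀ + 1) n' hi hn).hom (((T.ptι X x.1 i n W).app M).hom b₀) =
      ((T.fjι X (j + 1) (i₀ + 1) n' U).app M).hom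
        ((T.push D.i M i n (i₀ + 1) n' hi' hn').hom b₀) :=
    congrArg (fun φ => φ.hom b₀) hspec
  rw [h1]
  have h2 := congrArg (fun φ => φ.hom ((T.push D.i M i n (i₀ + 1) n' hi' hn').hom b₀))
    (fjι_fjRes T X (Nat.le_succ j) (i₀ + 1) n' M U)
  have h3 := congrArg (fun φ => φ.hom ((T.push D.i M i n (i₀ + 1) n' hi' hn').hom b₀))
    (ocolimι_rs T X (ContainsFj X j) (i₀ + 1) n' M (U' := U₁) (U := idxDown X (Nat.le_succ j) U) hle)
  have h4 := (T.exact_push_pull D M i₀ n' i n hi' hn').apply_apply_eq_zero b₀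
  refine h2.trans (h3.symm.trans ?_)
  change ((T.fjι X j (i₀ + 1) n' U₁).app M).hom _ = 0
  rw [show (0 : T.fjGp X j M (i₀ + 1) n') = ((T.fjι X j (i₀ + 1) n' U₁).app M).hom 0 from
    (map_zero _).symm]
  exact congrArg _ h4

end PushZero

end Groth.Agent.Lib.Helper47.BMUniq
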