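import Groth.Agent.Lib.Helper47.BMEpi

set_option autoImplicit false
universe u

namespace Groth.Agent.Lib.Helper47.BMUniq

open TopologicalSpace Topology Order AlgebraicGeometry CategoryTheory BMCoh Opposite
open CategoryTheory.Limits

section Top2

variable {S : Type u} [TopologicalSpace S]

/-- In a Noetherian quasi-sober space, a point of the closure of a locally closed set is a
specialization of a point of that set. -/
lemma exists_specializes_of_mem_closure [NoetherianSpace S] [QuasiSober S]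
    {C O : Set S} (hC : IsClosed C) (hO : IsOpen O) {x : S} (hx : x ∈ closure (C ∩ O)) :
    ∃ s ∈ C ∩ O, s ⤳ x := by
  obtain ⟨F, hFfin, hFcl, hFirr, hFU⟩ := NoetherianSpace.exists_finite_set_isClosed_irreducible hC
  have h1 : C ∩ O = ⋃ t ∈ F, (t ∩ O) := by
    rw [hFU, Set.sUnion_eq_biUnion, Set.iUnion₂_inter]
  rw [h1, hFfin.closure_biUnion] at hx
  simp only [Set.mem_iUnion] at hx
  obtain ⟨t, ht, hxt⟩ := hx
  obtain ⟨η, hη⟩ := QuasiSober.sober (hFirr t ht) (hFcl t ht)
  have hηt : η ∈ t := by rw [← hη.def]; exact subset_closure rfl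
  have hne : (t ∩ O).Nonempty := by
    by_contra hemp
    rw [Set.not_nonempty_iff_eq_empty] at hemp
    rw [hemp, closure_empty] at hxt
    exact hxt
  have hηO : η ∈ O := by
    by_contra hηO
    have hsub : t ⊆ Oᶜ := by
      rw [← hη.def]
      exact closure_minimal (Set.singleton_subset_iff.mpr hηO) hO.isClosed_compl
    obtain ⟨y, hyt, hyO⟩ := hne
    exact hsub hyt hyO
  refine ⟨η, ⟨?_, hηO⟩, ?_⟩
  · rw [hFU]; exact ⟨t, ht, hηt⟩
  · rw [specializes_iff_mem_closure, hη.def]
    exact (closure_minimal Set.inter_subset_left (hFcl t ht)) hxt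

end Top2

section Lift2

variable {X Z : Scheme.{u}} (g : Z ⟶ X)

lemma range_liftOpen_of_preimage (W : Z.Opens) (U : X.Opens) (h : ∀ z, g z ∈ U ↔ z ∈ W) :
    Set.range (liftOpen g W U (fun w hw => (h w).mpr hw)) = U.ι ⁻¹' (Set.range g) := by
  ext u
  constructor
  · rintro ⟨w, rfl⟩
    exact ⟨W.ι w, (liftOpen_apply g W _ _ w).symm⟩
  · rintro ⟨z, hz⟩
    have hzW : z ∈ W := (h z).mp (hz ▸ ι_mem _ u)
    obtain ⟨w, hw⟩ := exists_ι_eq W z hzW
    refine ⟨w, ?_⟩
    apply U.ι.isOpenEmbedding.injective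
    rw [liftOpen_apply, hw, hz]

lemma isClosedImmersion_liftOpen' [IsClosedImmersion g] (W : Z.Opens) (U : X.Opens)
    (h : ∀ z, g z ∈ U ↔ z ∈ W) :
    IsClosedImmersion (liftOpen g W U (fun w hw => (h w).mpr hw)) := by
  set f := liftOpen g W U (fun w hw => (h w).mpr hw) with hf
  have : IsPreimmersion (f ≫ U.ι) := by
    rw [hf, liftOpen_ι]
    infer_instance
  have : IsPreimmersion f := IsPreimmersion.of_comp f U.ι
  apply IsClosedImmersion.of_isPreimmersion
  rw [hf, range_liftOpen_of_preimage g W U h]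
  exact g.isClosedEmbedding.isClosed_range.preimage U.ι.continuous

lemma range_homOfLE {X : Scheme.{u}} {U U' : X.Opens} (e : U ≤ U') :
    Set.range (X.homOfLE e) = U'.ι ⁻¹' (U : Set X) := by
  ext v
  have key : ∀ u0 : (U : Scheme.{u}), U'.ι (X.homOfLE e u0) = U.ι u0 := fun u0 => by
    rw [← Scheme.Hom.comp_apply, X.homOfLE_ι]
  constructor
  · rintro ⟨u0, rfl⟩
    change U'.ι (X.homOfLE e u0) ∈ U
    rw [key]
    exact ι_mem U u0
  · intro hv
    obtain ⟨u0, hu0⟩ := exists_ι_eq U _ hv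
    refine ⟨u0, ?_⟩
    apply U'.ι.isOpenEmbedding.injective
    rw [key, hu0]

end Lift2

end Groth.Agent.Lib.Helper47.BMUniq
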