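import Groth.Agent.Lib.Helper47.BMRes

set_option autoImplicit false
universe u

namespace Groth.Agent.Lib.Helper47.BMUniq

open TopologicalSpace Topology Order AlgebraicGeometry CategoryTheory BMCoh Opposite
open CategoryTheory.Limits

section Res

variable {V : ObjectProperty Scheme.{u}} [IsConstructible V]

lemma noetherianSpace (X : Obj V) : NoetherianSpace X.scheme := by
  have := IsConstructible.isNoetherian X.mem
  infer_instance

lemma pdim_le_pdim (X : Obj V) {x y : X.scheme} (hy : y ∈ closure ({x} : Set X.scheme)) :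
    WeilCoh.pdim X.scheme y ≤ WeilCoh.pdim X.scheme x := by
  have hsub : closure ({y} : Set X.scheme) ⊆ closure ({x} : Set X.scheme) :=
    closure_minimal (Set.singleton_subset_iff.mpr hy) isClosed_closure
  exact natDim_le_of_le (Topology.IsEmbedding.inclusion hsub).isInducing.topologicalKrullDim_le
    (lt_of_le_of_lt (topologicalKrullDim_subspace_le _ _) (finDim X))

/-- `U ∖ closure {x}` -/
def smallOpen (X : Obj V) (x : X.scheme) (U : X.scheme.Opens) : X.scheme.Opens :=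
  ⟨(U : Set X.scheme) \ closure ({x} : Set X.scheme), U.2.sdiff isClosed_closure⟩

lemma containsFj_smallOpen (X : Obj V) (j : ℕ) (x : X.cdPt (j + 1)) (U : X.scheme.Opens)
    (hU : ContainsFj X j U) : ContainsFj X j (smallOpen X x.1 U) := by
  intro y hy
  refine ⟨hU y hy, fun hycl => ?_⟩
  have h1 := pdim_le_pdim X hycl
  have hxj : WeilCoh.codim X.scheme x.1 = j + 1 := x.2
  unfold WeilCoh.codim at hy hxj
  omega

/-- the complement of the closure of `Uᶜ ∖ closure {x}` -/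
def midOpen (X : Obj V) (x : X.scheme) (U : X.scheme.Opens) : X.scheme.Opens :=
  ⟨(closure ((U : Set X.scheme)ᶜ ∩ (closure ({x} : Set X.scheme))ᶜ))ᶜ, isClosed_closure.isOpen_compl⟩

lemma le_midOpen (X : Obj V) (x : X.scheme) (U : X.scheme.Opens) : U ≤ midOpen X x U := by
  intro y hy hcl
  have : closure ((U : Set X.scheme)ᶜ ∩ (closure ({x} : Set X.scheme))ᶜ) ⊆ (U : Set X.scheme)ᶜ :=
    closure_minimal Set.inter_subset_left U.2.isClosed_compl
  exact this hcl hy

lemma mem_midOpen (X : Obj V) (j : ℕ) (x : X.cdPt (j + 1)) (U : X.scheme.Opens)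
    (hU : ContainsFj X j U) : x.1 ∈ midOpen X x.1 U := by
  intro hcl
  have := noetherianSpace X
  obtain ⟨s, ⟨hsU, hsx⟩, hs⟩ :=
    exists_specializes_of_mem_closure U.2.isClosed_compl isClosed_closure.isOpen_compl hcl
  have h1 : WeilCoh.pdim X.scheme x.1 < WeilCoh.pdim X.scheme s :=
    pdim_lt_pdim X (specializes_iff_mem_closure.mp hs) hsx
  have h2 := pdim_le_dim X s
  have hxj : WeilCoh.codim X.scheme x.1 = j + 1 := x.2
  apply hsU
  apply hU
  unfold WeilCoh.codim at hxj ⊢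
  omega

lemma mem_iff_of_mem_midOpen (X : Obj V) (x : X.scheme) (U : X.scheme.Opens) (hx : x ∉ U)
    (y : X.scheme) (hy : y ∈ midOpen X x U) : y ∈ U ↔ y ∉ closure ({x} : Set X.scheme) := by
  constructor
  · intro hyU hycl
    exact hx ((specializes_iff_mem_closure.mpr hycl).mem_open U.2 hyU)
  · intro hycl
    by_contra hyU
    exact hy (subset_closure ⟨hyU, hycl⟩)

/-- The data needed to evaluate a residue datum on the image of `H(U)`, after shrinking `U`. -/
theorem exists_res_data (X : Obj V) (j : ℕ) (x : X.cdPt (j + 1)) (U : Idx X (ContainsFj X j)) :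
    ∃ (U' : Idx X (ContainsFj X j)) (_ : U' ≤ U) (Y : Obj V) (e : Y ⟶ X) (D : Decomp Y)
      (W : ptIdx X x.1) (g : (X.ptSub x.1).res W.1 ⟶ D.Z) (h : X.res U'.1 ⟶ D.U) (_ : IsIso h),
      g.hom ≫ D.i ≫ e.hom = W.1.ι ≫ X.ptSubι x.1 ∧ h.hom ≫ D.j.hom ≫ e.hom = U'.1.ι ∧
      D.codim = (j : ℤ) + 1 := by
  have : Nonempty X.scheme := ⟨x.1⟩
  -- the shrunken open
  have hU'c := containsFj_smallOpen X j x U.1 U.2.1
  have hU'd := dim_eq_of_containsFj X j _ hU'c
  have hxU' : x.1 ∉ smallOpen X x.1 U.1 := fun h => h.2 (subset_closure rfl)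
  -- the middle open
  have hle := le_midOpen X x.1 (smallOpen X x.1 U.1)
  have hYc : ContainsFj X j (midOpen X x.1 (smallOpen X x.1 U.1)) := fun y hy => hle (hU'c y hy)
  have hYd := dim_eq_of_containsFj X j _ hYc
  have hxY := mem_midOpen X j x _ hU'c
  -- the open of the closure of x
  obtain ⟨ξ, hξ, -⟩ := exists_gen X x.1
  have hξW : ξ ∈ (X.ptSubι x.1) ⁻¹ᵁ (midOpen X x.1 (smallOpen X x.1 U.1)) := by
    change (X.ptSubι x.1) ξ ∈ midOpen X x.1 (smallOpen X x.1 U.1)
    rwa [hξ]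
  have hWd : WeilCoh.dim (((X.ptSubι x.1) ⁻¹ᵁ (midOpen X x.1 (smallOpen X x.1 U.1)) :
      (X.ptSub x.1).scheme.Opens) : Scheme.{u}) = WeilCoh.dim (X.ptSub x.1).scheme :=
    IsConstructible.dim_open (X.ptSub x.1).mem (irreducibleSpace_ptSub X x.1) _ ⟨ξ, hξW⟩
  let Y₀ := midOpen X x.1 (smallOpen X x.1 U.1)
  let W₀ : (X.ptSub x.1).scheme.Opens := (X.ptSubι x.1) ⁻¹ᵁ Y₀
  let D : Decomp (X.res Y₀) :=
    { Z := (X.ptSub x.1).res W₀
      U := X.res (smallOpen X x.1 U.1)
      i := liftOpen (X.ptSubι x.1) W₀ Y₀ (fun w hw => (Iff.rfl : (X.ptSubι x.1) w ∈ Y₀ ↔ w ∈ W₀).mpr hw)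
      closedImm := isClosedImmersion_liftOpen' (X.ptSubι x.1) W₀ Y₀ (fun z => Iff.rfl)
      j := X.resLE hle (hU'd.trans hYd.symm)
      range_eq := by
        change Set.range (X.scheme.homOfLE hle) = _
        rw [range_homOfLE, range_liftOpen_of_preimage (X.ptSubι x.1) W₀ Y₀ (fun z => Iff.rfl),
          range_ptSubι]
        ext u
        exact mem_iff_of_mem_midOpen X x.1 _ hxU' _ (ι_mem Y₀ u) }
  refine ⟨⟨smallOpen X x.1 U.1, hU'c, hU'd⟩, Set.sdiff_subset, X.res Y₀, X.resι Y₀ hYd, D,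
    ⟨W₀, ⟨ξ, hξW⟩, hWd⟩, 𝟙 _, 𝟙 _, inferInstance, ?_, ?_, ?_⟩
  · exact (Category.id_comp _).trans (liftOpen_ι (X.ptSubι x.1) W₀ Y₀ (fun _ hw => hw))
  · exact (Category.id_comp _).trans (Scheme.homOfLE_ι X.scheme hle)
  · have h1 : WeilCoh.dim ((X.ptSub x.1).res W₀).scheme = WeilCoh.pdim X.scheme x.1 :=
      hWd.trans (dim_ptSub X x.1)
    have h2 : WeilCoh.dim (X.res Y₀).scheme = WeilCoh.dim X.scheme := hYd
    have hxj : WeilCoh.codim X.scheme x.1 = j + 1 := x.2
    have hle' := pdim_le_dim X x.1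
    change relCodim ((X.ptSub x.1).res W₀).scheme (X.res Y₀).scheme = _
    unfold relCodim
    rw [h1, h2]
    unfold WeilCoh.codim at hxj
    omega

end Res

end Groth.Agent.Lib.Helper47.BMUniq
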