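import Groth.Agent.Lib.Helper47.BMResStep

set_option autoImplicit false
universe u

namespace Groth.Agent.Lib.Helper47.BMUniq

open TopologicalSpace Topology Order AlgebraicGeometry CategoryTheory BMCoh Opposite
open CategoryTheory.Limits

section ResExact

variable {V : ObjectProperty Scheme.{u}} [IsConstructible V] {R : Type u} [CommRing R]
  {A : Coefs R} (T : PreTheory V R A)

theorem mem_range_fjRes_of_vanish (X : Obj V) (j : ℕ) (Q : T.ResData X j) (M : A.Cat)
    (i n i' n' : ℤ) (hi : i' = i + 1 - 2 * ((j : ℤ) + 1)) (hn : n' = n - ((j : ℤ) + 1))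
    (α : T.fjGp X j M i n)
    (hα : ∀ x : X.cdPt (j + 1), (Q.cpt x M i n i' n' hi hn).hom α = 0)
    (S : Finset X.scheme) :
    ∀ (U : Idx X (ContainsFj X j)) (Up : X.scheme.Opens), ContainsFj X (j + 1) Up →
      U.1 ≤ Up → (∀ s ∈ S, s ∉ U.1) →
      (∀ y ∈ Up, y ∉ U.1 → ∃ s ∈ S, y ∈ closure ({s} : Set X.scheme)) →
      ∀ a : T.gp (X.res U.1) M i n, ((T.fjι X j i n U).app M).hom a = α →
      α ∈ Set.range ((T.fjRes X (Nat.le_succ j) i n).app M).hom := by
  classical
  induction S using Finset.induction_on with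
  | empty =>
    intro U Up hUpc hUUp _ hcov a ha
    have hUpU : Up ≤ U.1 := fun y hy => by
      by_contra h
      obtain ⟨s, hs, _⟩ := hcov y hy h
      exact absurd hs (Finset.notMem_empty s)
    obtain rfl : Up = U.1 := le_antisymm hUpU hUUp
    refine ⟨((T.fjι X (j + 1) i n ⟨U.1, hUpc, U.2.2⟩).app M).hom a, ?_⟩
    have h2 := congrArg (fun φ => φ.hom a)
      (fjι_fjRes T X (Nat.le_succ j) i n M ⟨U.1, hUpc, U.2.2⟩)
    exact h2.trans ha
  | insert s S' hsS' IH =>
    intro U Up hUpc hUUp hSU hcov a ha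
    have hsU : s ∉ U.1 := hSU s (Finset.mem_insert_self s S')
    have hS'U : ∀ s' ∈ S', s' ∉ U.1 := fun s' hs' => hSU s' (Finset.mem_insert_of_mem hs')
    by_cases h1 : ∃ s' ∈ S', s ∈ closure ({s'} : Set X.scheme)
    · obtain ⟨s₁, hs₁, hss₁⟩ := h1
      refine IH U Up hUpc hUUp hS'U (fun y hy hy1 => ?_) a ha
      obtain ⟨t, ht, hyt⟩ := hcov y hy hy1
      rcases Finset.mem_insert.mp ht with rfl | ht'
      · exact ⟨s₁, hs₁,
          closure_minimal (Set.singleton_subset_iff.mpr hss₁) isClosed_closure hyt⟩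
      · exact ⟨t, ht', hyt⟩
    by_cases h2 : s ∈ Up
    swap
    · refine IH U Up hUpc hUUp hS'U (fun y hy hy1 => ?_) a ha
      obtain ⟨t, ht, hyt⟩ := hcov y hy hy1
      rcases Finset.mem_insert.mp ht with rfl | ht'
      · exact absurd ((specializes_iff_mem_closure.mpr hyt).mem_open Up.2 hy) h2
      · exact ⟨t, ht', hyt⟩
    by_cases h3 : WeilCoh.codim X.scheme s = j + 1
    · exact step_caseE T X j Q M i n i' n' hi hn α hα S' s h3 h1 IH U Up hUpc hUUp hsU hS'U h2
        (fun y hy hy1 => by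
          obtain ⟨t, ht, hyt⟩ := hcov y hy hy1
          rcases Finset.mem_insert.mp ht with rfl | ht'
          · exact Or.inl hyt
          · exact Or.inr ⟨t, ht', hyt⟩) a ha
    · have hge : j + 1 ≤ WeilCoh.codim X.scheme s := by
        by_contra hlt
        exact hsU (U.2.1 s (by omega))
      have hlt : j + 1 < WeilCoh.codim X.scheme s := lt_of_le_of_ne hge (Ne.symm h3)
      have hclU : ∀ y ∈ U.1, y ∉ closure ({s} : Set X.scheme) := fun y hy hys =>
        hsU ((specializes_iff_mem_closure.mpr hys).mem_open U.1.2 hy)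
      refine IH U (smallOpen X s Up) (containsFj_smallOpen' X (j + 1) s hlt Up hUpc)
        (fun y hy => ⟨hUUp hy, hclU y hy⟩) hS'U (fun y hy hy1 => ?_) a ha
      obtain ⟨t, ht, hyt⟩ := hcov y hy.1 hy1
      rcases Finset.mem_insert.mp ht with rfl | ht'
      · exact absurd hyt hy.2
      · exact ⟨t, ht', hyt⟩

theorem exact_fjRes_tot (X : Obj V) (j : ℕ) (Q : T.ResData X j) (M : A.Cat)
    (i n i' n' : ℤ) (hi : i' = i + 1 - 2 * ((j : ℤ) + 1)) (hn : n' = n - ((j : ℤ) + 1)) :
    Function.Exact ((T.fjRes X (Nat.le_succ j) i n).app M).hom (Q.tot M i n i' n' hi hn).hom := by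
  intro α
  constructor
  · intro hα
    have hα' : ∀ x : X.cdPt (j + 1), (Q.cpt x M i n i' n' hi hn).hom α = 0 := fun x => by
      have := DFunLike.congr_fun hα x
      exact this
    obtain ⟨U, a, ha⟩ := ocolim_exists_rep T X _ i n M α
    by_cases hne : Nonempty X.scheme
    swap
    · exact mem_range_fjRes_of_vanish T X j Q M i n i' n' hi hn α hα' ∅ U ⊤
        (fun _ _ => trivial) (fun _ _ => trivial) (by simp) (fun y _ _ => absurd ⟨y⟩ hne) a ha
    have := noetherianSpace X
    obtain ⟨F, hFfin, hFcl, hFirr, hFU⟩ :=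
      NoetherianSpace.exists_finite_set_isClosed_irreducible U.1.2.isClosed_compl
    choose! η hη using fun t (ht : t ∈ F) => QuasiSober.sober (hFirr t ht) (hFcl t ht)
    classical
    refine mem_range_fjRes_of_vanish T X j Q M i n i' n' hi hn α hα' (hFfin.toFinset.image η) U ⊤
      (fun _ _ => trivial) (fun _ _ => trivial) ?_ ?_ a ha
    · intro s hs
      obtain ⟨t, ht, rfl⟩ := Finset.mem_image.mp hs
      have ht' : t ∈ F := hFfin.mem_toFinset.mp ht
      have hηt : η t ∈ t := by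
        have h : η t ∈ closure ({η t} : Set X.scheme) := subset_closure rfl
        rwa [(hη t ht').def] at h
      exact (Set.ext_iff.mp hFU (η t)).mpr (Set.mem_sUnion.mpr ⟨t, ht', hηt⟩)
    · intro y _ hy1
      obtain ⟨t, ht, hyt⟩ := Set.mem_sUnion.mp ((Set.ext_iff.mp hFU y).mp hy1)
      exact ⟨η t, Finset.mem_image.mpr ⟨t, hFfin.mem_toFinset.mpr ht, rfl⟩,
        by rw [(hη t ht).def]; exact hyt⟩
  · rintro ⟨β, rfl⟩
    apply DFinsupp.ext
    intro x
    exact cpt_fjRes_eq_zero T X j Q M i n i' n' hi hn x β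

end ResExact

end Groth.Agent.Lib.Helper47.BMUniq
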