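import Groth.Agent.Lib.Helper47.BMResStepGen

set_option autoImplicit false
universe u

namespace Groth.Agent.Lib.Helper47.BMUniq

open TopologicalSpace Topology Order AlgebraicGeometry CategoryTheory BMCoh Opposite
open CategoryTheory.Limits

section ResGen

variable {V : ObjectProperty Scheme.{u}} [IsConstructible V] {R : Type u} [CommRing R]
  {A : Coefs R} (T : PreTheory V R A)

theorem mem_range_fjRes_of_key (X : Obj V) (j : ℕ) (M : A.Cat)
    (i n i' n' : ℤ) (hi : i' = i + 1 - 2 * ((j : ℤ) + 1)) (hn : n' = n - ((j : ℤ) + 1))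
    (α : T.fjGp X j M i n)
    (hkey : ∀ (s : X.scheme) (_ : WeilCoh.codim X.scheme s = j + 1) (Y₀ : X.scheme.Opens)
      (hYd : WeilCoh.dim (Y₀ : Scheme.{u}) = WeilCoh.dim X.scheme) (W₀ : ptIdx X s)
      (hW : ∀ z, (X.ptSubι s) z ∈ Y₀ ↔ z ∈ W₀.1) (U : Idx X (ContainsFj X j)) (hle : U.1 ≤ Y₀)
      (hU₁ : ∀ y ∈ Y₀, y ∈ U.1 ↔ y ∉ closure ({s} : Set X.scheme))
      (hiD : i' = i + 1 - 2 * relCodim ((X.ptSub s).res W₀.1).scheme (X.res Y₀).scheme)
      (hnD : n' = n - relCodim ((X.ptSub s).res W₀.1).scheme (X.res Y₀).scheme)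
      (a : T.gp (X.res U.1) M i n), ((T.fjι X j i n U).app M).hom a = α →
      ((T.ptι X s i' n' W₀).app M).hom
        ((T.res (mkDecomp X s Y₀ W₀.1 hW U.1 hle hU₁ (U.2.2.trans hYd.symm)) M i n i' n'
          hiD hnD).hom a) = 0)
    (S : Finset X.scheme) :
    ∀ (U : Idx X (ContainsFj X j)) (Up : X.scheme.Opens), ContainsFj X (j + 1) Up →
      U.1 ≤ Up → (∀ s ∈ S, s ∉ U.1) →
      (∀ y ∈ Up, y ∉ U.1 → ∃ s ∈ S, y ∈ closure ({s} : Set X.scheme)) →
      ∀ a : T.gp (X.res U.1) M i n, ((T.fjι X j i n U).app M).hom a = α →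
      α ∈ Set.range ((T.fjRes X (Nat.le_succ j) i n).app M).hom := by
  classical
  induction S using Finset.induction_on with
  | empty =>
    intro U Up hUpc hUUp _ hcov a ha
    have hUpU : Up ≤ U.1 := fun y hy => by
      by_contra h
      obtain ⟨s, hs, _⟩ := hcov y hy h
      exact absurd hs (Finset.notMem_empty s)
    obtain rfl : Up = U.1 := le_antisymm hUpU hUUp
    refine ⟨((T.fjι X (j + 1) i n ⟨U.1, hUpc, U.2.2⟩).app M).hom a, ?_⟩
    have h2 := congrArg (fun φ => φ.hom a)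
      (fjι_fjRes T X (Nat.le_succ j) i n M ⟨U.1, hUpc, U.2.2⟩)
    exact h2.trans ha
  | insert s S' hsS' IH =>
    intro U Up hUpc hUUp hSU hcov a ha
    have hsU : s ∉ U.1 := hSU s (Finset.mem_insert_self s S')
    have hS'U : ∀ s' ∈ S', s' ∉ U.1 := fun s' hs' => hSU s' (Finset.mem_insert_of_mem hs')
    by_cases h1 : ∃ s' ∈ S', s ∈ closure ({s'} : Set X.scheme)
    · obtain ⟨s₁, hs₁, hss₁⟩ := h1
      refine IH U Up hUpc hUUp hS'U (fun y hy hy1 => ?_) a ha
      obtain ⟨t, ht, hyt⟩ := hcov y hy hy1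
      rcases Finset.mem_insert.mp ht with rfl | ht'
      · exact ⟨s₁, hs₁,
          closure_minimal (Set.singleton_subset_iff.mpr hss₁) isClosed_closure hyt⟩
      · exact ⟨t, ht', hyt⟩
    by_cases h2 : s ∈ Up
    swap
    · refine IH U Up hUpc hUUp hS'U (fun y hy hy1 => ?_) a ha
      obtain ⟨t, ht, hyt⟩ := hcov y hy hy1
      rcases Finset.mem_insert.mp ht with rfl | ht'
      · exact absurd ((specializes_iff_mem_closure.mpr hyt).mem_open Up.2 hy) h2
      · exact ⟨t, ht', hyt⟩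
    by_cases h3 : WeilCoh.codim X.scheme s = j + 1
    · exact step_caseE' T X j M i n i' n' hi hn α hkey S' s h3 h1 IH U Up hUpc hUUp hsU hS'U h2
        (fun y hy hy1 => by
          obtain ⟨t, ht, hyt⟩ := hcov y hy hy1
          rcases Finset.mem_insert.mp ht with rfl | ht'
          · exact Or.inl hyt
          · exact Or.inr ⟨t, ht', hyt⟩) a ha
    · have hge : j + 1 ≤ WeilCoh.codim X.scheme s := by
        by_contra hlt
        exact hsU (U.2.1 s (by omega))
      have hlt : j + 1 < WeilCoh.codim X.scheme s := lt_of_le_of_ne hge (Ne.symm h3)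
      have hclU : ∀ y ∈ U.1, y ∉ closure ({s} : Set X.scheme) := fun y hy hys =>
        hsU ((specializes_iff_mem_closure.mpr hys).mem_open U.1.2 hy)
      refine IH U (smallOpen X s Up) (containsFj_smallOpen' X (j + 1) s hlt Up hUpc)
        (fun y hy => ⟨hUUp hy, hclU y hy⟩) hS'U (fun y hy hy1 => ?_) a ha
      obtain ⟨t, ht, hyt⟩ := hcov y hy.1 hy1
      rcases Finset.mem_insert.mp ht with rfl | ht'
      · exact absurd hyt hy.2
      · exact ⟨t, ht', hyt⟩


theorem fjRes_surjective (X : Obj V) (j : ℕ) (M : A.Cat) (i n : ℤ)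
    (h1 : ∀ x : X.scheme, WeilCoh.codim X.scheme x = j + 1 →
      IsZero (T.ptGp X x M (i + 1 - 2 * ((j : ℤ) + 1)) (n - ((j : ℤ) + 1)))) :
    Function.Surjective ((T.fjRes X (Nat.le_succ j) i n).app M).hom := by
  intro α
  obtain ⟨U, a, ha⟩ := ocolim_exists_rep T X _ i n M α
  obtain ⟨S, hSU, hScov⟩ := exists_generic_finset X U.1
  refine mem_range_fjRes_of_key T X j M i n (i + 1 - 2 * ((j : ℤ) + 1)) (n - ((j : ℤ) + 1)) rfl rfl
    α ?_ S U ⊤ (fun _ _ => trivial) (fun _ _ => trivial) hSU (fun y _ hy1 => hScov y hy1) a ha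
  intro s hs Y₀ hYd W₀ hW U hle hU₁ hiD hnD a _
  have hsub : Subsingleton (T.ptGp X s M (i + 1 - 2 * ((j : ℤ) + 1)) (n - ((j : ℤ) + 1))) :=
    ModuleCat.subsingleton_of_isZero (h1 s hs)
  exact Subsingleton.elim _ _

theorem fjRes_bijective (X : Obj V) (j : ℕ) (M : A.Cat) (i n : ℤ)
    (h0 : ∀ x : X.scheme, WeilCoh.codim X.scheme x = j + 1 →
      IsZero (T.ptGp X x M (i - 2 * ((j : ℤ) + 1)) (n - ((j : ℤ) + 1))))
    (h1 : ∀ x : X.scheme, WeilCoh.codim X.scheme x = j + 1 →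
      IsZero (T.ptGp X x M (i + 1 - 2 * ((j : ℤ) + 1)) (n - ((j : ℤ) + 1)))) :
    Function.Bijective ((T.fjRes X (Nat.le_succ j) i n).app M).hom :=
  ⟨fjRes_injective T X j M i n h0, fjRes_surjective T X j M i n h1⟩

end ResGen

end Groth.Agent.Lib.Helper47.BMUniq
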