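import Groth.Agent.Lib.Helper47.BMInj

set_option autoImplicit false
universe u

namespace Groth.Agent.Lib.Helper47.BMUniq

open TopologicalSpace Topology Order AlgebraicGeometry CategoryTheory BMCoh Opposite
open CategoryTheory.Limits

section ResStepGen

variable {V : ObjectProperty Scheme.{u}} [IsConstructible V] {R : Type u} [CommRing R]
  {A : Coefs R} (T : PreTheory V R A)

/-- The key step: extending a class across one more component of codimension exactly `j + 1`. -/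
theorem step_caseE' (X : Obj V) (j : ℕ) (M : A.Cat)
    (i n i' n' : ℤ) (hi : i' = i + 1 - 2 * ((j : ℤ) + 1)) (hn : n' = n - ((j : ℤ) + 1))
    (α : T.fjGp X j M i n)
    (hkey : ∀ (s : X.scheme) (_ : WeilCoh.codim X.scheme s = j + 1) (Y₀ : X.scheme.Opens)
      (hYd : WeilCoh.dim (Y₀ : Scheme.{u}) = WeilCoh.dim X.scheme) (W₀ : ptIdx X s)
      (hW : ∀ z, (X.ptSubι s) z ∈ Y₀ ↔ z ∈ W₀.1) (U : Idx X (ContainsFj X j)) (hle : U.1 ≤ Y₀)
      (hU₁ : ∀ y ∈ Y₀, y ∈ U.1 ↔ y ∉ closure ({s} : Set X.scheme))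
      (hiD : i' = i + 1 - 2 * relCodim ((X.ptSub s).res W₀.1).scheme (X.res Y₀).scheme)
      (hnD : n' = n - relCodim ((X.ptSub s).res W₀.1).scheme (X.res Y₀).scheme)
      (a : T.gp (X.res U.1) M i n), ((T.fjι X j i n U).app M).hom a = α →
      ((T.ptι X s i' n' W₀).app M).hom
        ((T.res (mkDecomp X s Y₀ W₀.1 hW U.1 hle hU₁ (U.2.2.trans hYd.symm)) M i n i' n'
          hiD hnD).hom a) = 0)
    (S' : Finset X.scheme) (s : X.scheme) (hs : WeilCoh.codim X.scheme s = j + 1)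
    (h1 : ¬ ∃ s' ∈ S', s ∈ closure ({s'} : Set X.scheme))
    (IH : ∀ (U : Idx X (ContainsFj X j)) (Up : X.scheme.Opens), ContainsFj X (j + 1) Up →
      U.1 ≤ Up → (∀ s' ∈ S', s' ∉ U.1) →
      (∀ y ∈ Up, y ∉ U.1 → ∃ s' ∈ S', y ∈ closure ({s'} : Set X.scheme)) →
      ∀ a : T.gp (X.res U.1) M i n, ((T.fjι X j i n U).app M).hom a = α →
      α ∈ Set.range ((T.fjRes X (Nat.le_succ j) i n).app M).hom)
    (U : Idx X (ContainsFj X j)) (Up : X.scheme.Opens) (hUpc : ContainsFj X (j + 1) Up)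
    (hUUp : U.1 ≤ Up) (hsU : s ∉ U.1) (hS'U : ∀ s' ∈ S', s' ∉ U.1) (hsUp : s ∈ Up)
    (hcov : ∀ y ∈ Up, y ∉ U.1 → y ∈ closure ({s} : Set X.scheme) ∨
      ∃ s' ∈ S', y ∈ closure ({s'} : Set X.scheme))
    (a : T.gp (X.res U.1) M i n) (ha : ((T.fjι X j i n U).app M).hom a = α) :
    α ∈ Set.range ((T.fjRes X (Nat.le_succ j) i n).app M).hom := by
  have hne : Nonempty X.scheme := ⟨s⟩
  have hCcl := isClosed_clUnion X S'
  have hsC : s ∉ clUnion X S' := fun h => h1 ((mem_clUnion X S' s).mp h)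
  let Y₀ : X.scheme.Opens := U.1 ⊔ diffOpen X Up (clUnion X S') hCcl
  have hmemY₀ : ∀ y, y ∈ Y₀ ↔ y ∈ U.1 ∨ (y ∈ Up ∧ y ∉ clUnion X S') := fun y => Iff.rfl
  have hsY₀ : s ∈ Y₀ := Or.inr ⟨hsUp, hsC⟩
  have hUY₀ : U.1 ≤ Y₀ := le_sup_left
  have hY₀c : ContainsFj X j Y₀ := fun y hy => hUY₀ (U.2.1 y hy)
  have hY₀d := dim_eq_of_containsFj X j _ hY₀c
  have hclU : ∀ y ∈ U.1, y ∉ closure ({s} : Set X.scheme) := fun y hy hys =>
    hsU ((specializes_iff_mem_closure.mpr hys).mem_open U.1.2 hy)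
  have hU₁Y₀ : ∀ y ∈ Y₀, y ∈ U.1 ↔ y ∉ closure ({s} : Set X.scheme) := by
    intro y hy
    refine ⟨hclU y, fun hys => ?_⟩
    rcases (hmemY₀ y).mp hy with h | h
    · exact h
    · by_contra hyU
      rcases hcov y h.1 hyU with h' | h'
      · exact hys h'
      · exact h.2 ((mem_clUnion X S' y).mpr h')
  let W₀ : ptIdx X s := traceIdx X s Y₀ hsY₀
  have hrc₀ : relCodim ((X.ptSub s).res W₀.1).scheme (X.res Y₀).scheme = (j : ℤ) + 1 := by
    rw [relCodim_trace X s Y₀ W₀ hY₀d, hs, codim_cast]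
  have hiD₀ : i' = i + 1 - 2 * relCodim ((X.ptSub s).res W₀.1).scheme (X.res Y₀).scheme := by
    rw [hrc₀]; exact hi
  have hnD₀ : n' = n - relCodim ((X.ptSub s).res W₀.1).scheme (X.res Y₀).scheme := by
    rw [hrc₀]; exact hn
  let D := mkDecomp X s Y₀ W₀.1 (fun z => Iff.rfl) U.1 hUY₀ hU₁Y₀ (U.2.2.trans hY₀d.symm)
  have hzero : ((T.ptι X s i' n' W₀).app M).hom ((T.res D M i n i' n' hiD₀ hnD₀).hom a) = 0 :=
    hkey s hs Y₀ hY₀d W₀ (fun z => Iff.rfl) U hUY₀ hU₁Y₀ hiD₀ hnD₀ a ha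
  obtain ⟨W', hW'le, hW'z⟩ := ocolim_eq_zero T (X.ptSub s)
    (fun U => (U : Set (X.ptSub s).scheme).Nonempty) i' n' M W₀ _ hzero
  -- shrink
  let Y₁ : X.scheme.Opens := Y₀ ⊓ complOpen (X.ptSubι s) W'.1
  have hW₁ : ∀ z, (X.ptSubι s) z ∈ Y₁ ↔ z ∈ W'.1 := by
    intro z
    constructor
    · intro h
      exact (mem_complOpen _ W'.1 _).mp h.2 z rfl
    · intro hz
      exact ⟨hW'le hz, map_mem_complOpen _ W'.1 z hz⟩
  have hrange : ∀ z, (X.ptSubι s) z ∈ closure ({s} : Set X.scheme) := fun z => by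
    rw [← range_ptSubι]; exact ⟨z, rfl⟩
  have hUcompl : U.1 ≤ complOpen (X.ptSubι s) W'.1 := fun y hy =>
    (mem_complOpen _ W'.1 y).mpr fun z hz => absurd (hz ▸ hrange z) (hclU y hy)
  have hUY₁ : U.1 ≤ Y₁ := fun y hy => ⟨hUY₀ hy, hUcompl hy⟩
  have hY₁Y₀ : Y₁ ≤ Y₀ := inf_le_left
  have hY₁c : ContainsFj X j Y₁ := fun y hy => hUY₁ (U.2.1 y hy)
  have hY₁d := dim_eq_of_containsFj X j _ hY₁c
  have hU₁Y₁ : ∀ y ∈ Y₁, y ∈ U.1 ↔ y ∉ closure ({s} : Set X.scheme) := fun y hy =>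
    hU₁Y₀ y (hY₁Y₀ hy)
  have hrc₁ : relCodim ((X.ptSub s).res W'.1).scheme (X.res Y₁).scheme = (j : ℤ) + 1 := by
    rw [relCodim_trace X s Y₁ W' hY₁d, hs, codim_cast]
  have hiD₁ : i' = i + 1 - 2 * relCodim ((X.ptSub s).res W'.1).scheme (X.res Y₁).scheme := by
    rw [hrc₁]; exact hi
  have hnD₁ : n' = n - relCodim ((X.ptSub s).res W'.1).scheme (X.res Y₁).scheme := by
    rw [hrc₁]; exact hn
  let D' := mkDecomp X s Y₁ W'.1 hW₁ U.1 hUY₁ hU₁Y₁ (U.2.2.trans hY₁d.symm)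
  have hrp := T.res_pull D D' (X.resLE hY₁Y₀ (hY₁d.trans hY₀d.symm))
    ((X.ptSub s).resLE hW'le (W'.2.2.trans W₀.2.2.symm)) (𝟙 (X.res U.1))
    ((homOfLE_liftOpen (X.ptSubι s) hW'le Y₀ (fun w hw => hw)).trans
      (liftOpen_homOfLE (X.ptSubι s) W'.1 hY₁Y₀ (fun w hw => (hW₁ w).mpr hw)).symm)
    ((Category.id_comp _).trans (resLE_comp X hUY₁ hY₁Y₀ (U.2.2.trans hY₁d.symm)
      (hY₁d.trans hY₀d.symm)).symm) M i n i' n' hiD₀ hnD₀ hiD₁ hnD₁
  have hres' : (T.res D' M i n i' n' hiD₁ hnD₁).hom a = 0 := by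
    have hid : ((T.H i n).map (𝟙 (X.res U.1)).op).app M = 𝟙 _ := pull_id T _ M i n
    rw [hid, Category.id_comp] at hrp
    have h := congrArg (fun φ => φ.hom a) hrp
    exact h.symm.trans hW'z
  obtain ⟨a₁, ha₁⟩ := ((T.exact_pull_res D' M i n i' n' hiD₁ hnD₁) a).mp hres'
  -- the new ambient open
  obtain ⟨ξ, hξ, hξW⟩ := exists_gen X s
  have hUp'c : ContainsFj X (j + 1) (Up ⊓ complOpen (X.ptSubι s) W'.1) := by
    intro y hy
    refine ⟨hUpc y hy, (mem_complOpen _ W'.1 y).mpr fun z hz => ?_⟩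
    by_contra hzW
    have hys : y ∈ closure ({s} : Set X.scheme) := hz ▸ hrange z
    by_cases hsy : s ∈ closure ({y} : Set X.scheme)
    · have h2 : (X.ptSubι s) z ⤳ (X.ptSubι s) ξ := by
        rw [hz, hξ]; exact specializes_iff_mem_closure.mpr hsy
      have h3 : z ⤳ ξ := (X.ptSubι s).isClosedEmbedding.isInducing.specializes_iff.mp h2
      exact hzW (h3.mem_open W'.1.2 (hξW W'.1 W'.2.1))
    · have := codim_lt_of_mem_closure X hys hsy
      omega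
  refine IH ⟨Y₁, hY₁c, hY₁d⟩ (Up ⊓ complOpen (X.ptSubι s) W'.1) hUp'c ?_ ?_ ?_ a₁ ?_
  · intro y hy
    refine ⟨?_, hy.2⟩
    rcases (hmemY₀ y).mp hy.1 with h | h
    · exact hUUp h
    · exact h.1
  · intro s' hs' hs'Y
    rcases (hmemY₀ s').mp hs'Y.1 with h | h
    · exact hS'U s' hs' h
    · exact h.2 ((mem_clUnion X S' s').mpr ⟨s', hs', subset_closure rfl⟩)
  · intro y hy hyY
    have hyY₀ : y ∉ Y₀ := fun h => hyY ⟨h, hy.2⟩
    by_contra hnot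
    exact hyY₀ ((hmemY₀ y).mpr (Or.inr ⟨hy.1, fun hC => hnot ((mem_clUnion X S' y).mp hC)⟩))
  · have h7 := congrArg (fun φ => φ.hom a₁)
      (ocolimι_rs T X (ContainsFj X j) i n M (U' := U) (U := ⟨Y₁, hY₁c, hY₁d⟩) hUY₁)
    rw [← ha, ← ha₁]
    exact h7.symm


end ResStepGen

end Groth.Agent.Lib.Helper47.BMUniq
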