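import Groth.Agent.Lib.Helper47.BMPushExact

set_option autoImplicit false
universe u

namespace Groth.Agent.Lib.Helper47.BMUniq

open TopologicalSpace Topology Order AlgebraicGeometry CategoryTheory BMCoh Opposite
open CategoryTheory.Limits

section ResZero

variable {V : ObjectProperty Scheme.{u}} [IsConstructible V] {R : Type u} [CommRing R]
  {A : Coefs R} (T : PreTheory V R A)

lemma codim_cast (j : ℕ) : (((j + 1 : ℕ) : ℤ)) = (j : ℤ) + 1 := by push_cast; rfl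

/-- evaluation of a residue datum on a class coming from the open part of the standard
decomposition `Y = W ⊔ U₁` (`W` the trace of the closure of `x` on the open `Y`) -/
theorem cpt_fjι_eq (X : Obj V) (j : ℕ) (Q : T.ResData X j) (M : A.Cat)
    (i n i' n' : ℤ) (hi : i' = i + 1 - 2 * ((j : ℤ) + 1)) (hn : n' = n - ((j : ℤ) + 1))
    (x : X.cdPt (j + 1)) (Y : X.scheme.Opens)
    (hYd : WeilCoh.dim (Y : Scheme.{u}) = WeilCoh.dim X.scheme)
    (W : ptIdx X x.1) (hW : ∀ z, (X.ptSubι x.1) z ∈ Y ↔ z ∈ W.1)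
    (U₁ : Idx X (ContainsFj X j)) (hle : U₁.1 ≤ Y)
    (hU₁ : ∀ y ∈ Y, y ∈ U₁.1 ↔ y ∉ closure ({x.1} : Set X.scheme))
    (hiD : i' = i + 1 - 2 * relCodim ((X.ptSub x.1).res W.1).scheme (X.res Y).scheme)
    (hnD : n' = n - relCodim ((X.ptSub x.1).res W.1).scheme (X.res Y).scheme)
    (a : T.gp (X.res U₁.1) M i n) :
    (Q.cpt x M i n i' n' hi hn).hom (((T.fjι X j i n U₁).app M).hom a) =
      ((T.ptι X x.1 i' n' W).app M).hom
        ((T.res (mkDecomp X x.1 Y W.1 hW U₁.1 hle hU₁ (U₁.2.2.trans hYd.symm)) M i n i' n'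
          hiD hnD).hom a) := by
  have hspec := Q.cpt_spec x M i n i' n' hi hn (X.resι Y hYd)
    (mkDecomp X x.1 Y W.1 hW U₁.1 hle hU₁ (U₁.2.2.trans hYd.symm)) W
    (𝟙 ((X.ptSub x.1).res W.1))
    ((Category.id_comp _).trans (liftOpen_ι (X.ptSubι x.1) W.1 Y (fun w hw => (hW w).mpr hw)))
    U₁ (𝟙 (X.res U₁.1)) ((Category.id_comp _).trans (Scheme.homOfLE_ι X.scheme hle)) hiD hnD
  have h1 := congrArg (fun φ => φ.hom a) hspec
  rw [pull_id, pull_id, Category.id_comp, Category.id_comp] at h1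
  exact h1

/-- The composite `H(F_{j+1}X) → H(F_jX) → H(x)` vanishes. -/
theorem cpt_fjRes_eq_zero (X : Obj V) (j : ℕ) (Q : T.ResData X j) (M : A.Cat)
    (i n i' n' : ℤ) (hi : i' = i + 1 - 2 * ((j : ℤ) + 1)) (hn : n' = n - ((j : ℤ) + 1))
    (x : X.cdPt (j + 1)) (β : T.fjGp X (j + 1) M i n) :
    (Q.cpt x M i n i' n' hi hn).hom (((T.fjRes X (Nat.le_succ j) i n).app M).hom β) = 0 := by
  obtain ⟨U, a, rfl⟩ := ocolim_exists_rep T X _ i n M β
  have hne : Nonempty X.scheme := ⟨x.1⟩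
  have hxU : x.1 ∈ U.1 := U.2.1 x.1 (le_of_eq x.2)
  have hc₁ : ContainsFj X j (smallOpen X x.1 U.1) :=
    containsFj_smallOpen X j x U.1 (containsFj_mono X (Nat.le_succ j) U.1 U.2.1)
  have hd₁ := dim_eq_of_containsFj X j _ hc₁
  let U₁ : Idx X (ContainsFj X j) := ⟨smallOpen X x.1 U.1, hc₁, hd₁⟩
  have hle : U₁.1 ≤ U.1 := Set.sdiff_subset
  let W : ptIdx X x.1 := traceIdx X x.1 U.1 hxU
  have hrc : relCodim ((X.ptSub x.1).res W.1).scheme (X.res U.1).scheme = (j : ℤ) + 1 := by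
    rw [relCodim_trace X x.1 U.1 W U.2.2, x.2, codim_cast]
  have hiD : i' = i + 1 - 2 * relCodim ((X.ptSub x.1).res W.1).scheme (X.res U.1).scheme := by
    rw [hrc]; exact hi
  have hnD : n' = n - relCodim ((X.ptSub x.1).res W.1).scheme (X.res U.1).scheme := by
    rw [hrc]; exact hn
  have h2 := congrArg (fun φ => φ.hom a) (fjι_fjRes T X (Nat.le_succ j) i n M U)
  have h3 := congrArg (fun φ => φ.hom a)
    (ocolimι_rs T X (ContainsFj X j) i n M (U' := U₁) (U := idxDown X (Nat.le_succ j) U) hle)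
  have h4 : ((T.fjRes X (Nat.le_succ j) i n).app M).hom (((T.fjι X (j + 1) i n U).app M).hom a) =
      ((T.fjι X j i n U₁).app M).hom
        ((rs T X hle (hd₁.trans U.2.2.symm) M i n).hom a) := h2.trans h3.symm
  rw [h4, cpt_fjι_eq T X j Q M i n i' n' hi hn x U.1 U.2.2 W (fun z => Iff.rfl) U₁ hle
    (fun y hy => ⟨fun h => h.2, fun h => ⟨hy, h⟩⟩) hiD hnD]
  have h5 := (T.exact_pull_res (mkDecomp X x.1 U.1 W.1 (fun z => Iff.rfl) U₁.1 hle
    (fun y hy => ⟨fun h => h.2, fun h => ⟨hy, h⟩⟩) (U₁.2.2.trans U.2.2.symm)) M i n i' n'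
    hiD hnD).apply_apply_eq_zero a
  have h6 : ((T.res (mkDecomp X x.1 U.1 W.1 (fun z => Iff.rfl) U₁.1 hle
      (fun y hy => ⟨fun h => h.2, fun h => ⟨hy, h⟩⟩) (U₁.2.2.trans U.2.2.symm)) M i n i' n'
      hiD hnD).hom ((rs T X hle (hd₁.trans U.2.2.symm) M i n).hom a)) = 0 := h5
  rw [h6, map_zero]

end ResZero

end Groth.Agent.Lib.Helper47.BMUniq
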