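import Groth.Agent.Lib.Helper47.BML0Inj

set_option autoImplicit false
universe u

namespace Groth.Agent.Lib.Helper47.BMUniq

open TopologicalSpace Topology Order AlgebraicGeometry CategoryTheory BMCoh Opposite
open CategoryTheory.Limits

section TopAux2

variable {S S' : Type u} [TopologicalSpace S] [TopologicalSpace S']

/-- a closed embedding preserves the dimension of the closure of a point -/
lemma natDim_closure_of_isClosedEmbedding {f : S' → S} (hf : IsClosedEmbedding f) (z : S') :
    WeilCoh.natDim ↥(closure ({f z} : Set S)) = WeilCoh.natDim ↥(closure ({z} : Set S')) := by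
  have h1 : closure ({f z} : Set S) = f '' closure ({z} : Set S') := by
    rw [← hf.closure_image_eq, Set.image_singleton]
  have h2 : Set.range (f ∘ (Subtype.val : ↥(closure ({z} : Set S')) → S')) =
      closure ({f z} : Set S) := by
    rw [Set.range_comp, Subtype.range_coe, h1]
  exact (natDim_eq_of_homeomorph
    (((hf.isEmbedding.comp IsEmbedding.subtypeVal).toHomeomorph).trans
      (Homeomorph.setCongr h2))).symm

/-- a point whose closure has dimension `p + 1` has a specialisation of dimension `p` -/
lemma exists_natDim_closure_pred [QuasiSober S] (hfin : topologicalKrullDim S < ⊤) (x : S)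
    (p : ℕ) (hx : WeilCoh.natDim ↥(closure ({x} : Set S)) = p + 1) :
    ∃ y ∈ closure ({x} : Set S), WeilCoh.natDim ↥(closure ({y} : Set S)) = p := by
  have hce : IsClosedEmbedding (Subtype.val : ↥(closure ({x} : Set S)) → S) :=
    isClosed_closure.isClosedEmbedding_subtypeVal
  have : QuasiSober ↥(closure ({x} : Set S)) := hce.quasiSober
  have : Nonempty ↥(closure ({x} : Set S)) := ⟨⟨x, subset_closure rfl⟩⟩
  have hfin' : topologicalKrullDim ↥(closure ({x} : Set S)) < ⊤ :=
    lt_of_le_of_lt (topologicalKrullDim_subspace_le S _) hfin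
  have h1 : ((p + 1 : ℕ) : WithBot ℕ∞) ≤ topologicalKrullDim ↥(closure ({x} : Set S)) := by
    rw [← hx]
    exact (coe_natDim hfin').le
  unfold topologicalKrullDim at h1
  rw [Order.le_krullDim_iff] at h1
  obtain ⟨l, hl⟩ := h1
  have hp : p < l.length + 1 := by omega
  let q : LTSeries (IrreducibleCloseds ↥(closure ({x} : Set S))) :=
    LTSeries.mk p (fun k => l ⟨k.1, by omega⟩) (by
      intro a b hab
      exact l.strictMono (by exact hab))
  let Z' := l ⟨p, hp⟩
  have hZlast : Z' < l.last := l.strictMono (by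
    change (⟨p, hp⟩ : Fin (l.length + 1)) < Fin.last l.length
    rw [Fin.lt_def]
    simp only [Fin.val_last]
    omega)
  have hfinZ : topologicalKrullDim ↥(Z' : Set ↥(closure ({x} : Set S))) < ⊤ :=
    lt_of_le_of_lt (topologicalKrullDim_subspace_le _ _) hfin'
  have hfinL : topologicalKrullDim ↥(l.last : Set ↥(closure ({x} : Set S))) < ⊤ :=
    lt_of_le_of_lt (topologicalKrullDim_subspace_le _ _) hfin'
  have : Nonempty ↥(Z' : Set ↥(closure ({x} : Set S))) := Z'.isIrreducible.nonempty.to_subtype
  have h2 : (p : WithBot ℕ∞) ≤ topologicalKrullDim ↥(Z' : Set ↥(closure ({x} : Set S))) :=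
    Groth.Agent.Lib.Helper84.length_le_dim_of_subset (Z' : Set ↥(closure ({x} : Set S))) q
      (le_refl _)
  rw [← coe_natDim hfinZ] at h2
  have h2' : p ≤ WeilCoh.natDim ↥(Z' : Set ↥(closure ({x} : Set S))) := by exact_mod_cast h2
  have h3 : WeilCoh.natDim ↥(Z' : Set ↥(closure ({x} : Set S))) <
      WeilCoh.natDim ↥(l.last : Set ↥(closure ({x} : Set S))) :=
    natDim_lt_of_ssubset hZlast.le Z'.isClosed l.last.isIrreducible
      (fun e => hZlast.ne (IrreducibleCloseds.ext e)) Z'.isIrreducible.nonempty hfinL
  have h4 : WeilCoh.natDim ↥(l.last : Set ↥(closure ({x} : Set S))) ≤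
      WeilCoh.natDim ↥(closure ({x} : Set S)) :=
    natDim_le_of_le (topologicalKrullDim_subspace_le _ _) hfin'
  have h5 : WeilCoh.natDim ↥(Z' : Set ↥(closure ({x} : Set S))) = p := by omega
  obtain ⟨y', hy'⟩ := QuasiSober.sober Z'.isIrreducible Z'.isClosed
  refine ⟨y'.1, y'.2, ?_⟩
  rw [natDim_closure_of_isClosedEmbedding hce y', hy'.def]
  exact h5

end TopAux2

section SubC

variable {V : ObjectProperty Scheme.{u}} [IsConstructible V]

lemma exists_pdim_eq (X : Obj V) (p : ℕ) (hp : p ≤ WeilCoh.dim X.scheme)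
    (hne : Nonempty X.scheme) : ∃ x : X.scheme, WeilCoh.pdim X.scheme x = p := by
  have key : ∀ k, k ≤ WeilCoh.dim X.scheme →
      ∃ x : X.scheme, WeilCoh.pdim X.scheme x = WeilCoh.dim X.scheme - k := by
    intro k
    induction k with
    | zero => intro _; exact exists_pdim_eq_dim X
    | succ k IH =>
      intro hk
      obtain ⟨x, hx⟩ := IH (by omega)
      obtain ⟨y, -, hy⟩ := exists_natDim_closure_pred (finDim X) x
        (WeilCoh.dim X.scheme - (k + 1)) (by
          change WeilCoh.pdim X.scheme x = _
          omega)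
      exact ⟨y, hy⟩
  obtain ⟨x, hx⟩ := key (WeilCoh.dim X.scheme - p) (by omega)
  exact ⟨x, by omega⟩

lemma exists_codim_eq (X : Obj V) (c : ℕ) (hc : c ≤ WeilCoh.dim X.scheme)
    (hne : Nonempty X.scheme) : ∃ x : X.scheme, WeilCoh.codim X.scheme x = c := by
  obtain ⟨x, hx⟩ := exists_pdim_eq X (WeilCoh.dim X.scheme - c) (by omega) hne
  refine ⟨x, ?_⟩
  unfold WeilCoh.codim
  omega

variable (X : Obj V) (C : Set X.scheme) (hC : IsClosed C)

noncomputable abbrev subCIdeal : X.scheme.IdealSheafData :=
  Scheme.IdealSheafData.vanishingIdeal (X := X.scheme) ⟨C, hC⟩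

/-- the reduced closed subscheme on a closed subset, as an object -/
noncomputable abbrev subC : Obj V :=
  ⟨(subCIdeal X C hC).subscheme,
    IsConstructible.of_isClosedImmersion (subCIdeal X C hC).subschemeι
      (h := (inferInstance : IsClosedImmersion (subCIdeal X C hC).subschemeι)) X.mem⟩

noncomputable abbrev subCι : (subC X C hC).scheme ⟶ X.scheme := (subCIdeal X C hC).subschemeι

lemma range_subCι : Set.range (subCι X C hC) = C := by
  rw [Scheme.IdealSheafData.range_subschemeι, Scheme.IdealSheafData.coe_support_vanishingIdeal]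
  rfl

instance isReduced_subC : IsReduced (subC X C hC).scheme :=
  isReduced_subscheme_vanishingIdeal _

lemma subCι_mem (z : (subC X C hC).scheme) : (subCι X C hC) z ∈ C := by
  have h : (subCι X C hC) z ∈ Set.range (subCι X C hC) := ⟨z, rfl⟩
  rw [range_subCι X C hC] at h
  exact h

lemma pdim_subC (z : (subC X C hC).scheme) :
    WeilCoh.pdim (subC X C hC).scheme z = WeilCoh.pdim X.scheme ((subCι X C hC) z) :=
  (natDim_closure_of_isClosedEmbedding (subCι X C hC).isClosedEmbedding z).symm

/-- the dimension of the reduced subscheme on `C` is at most a bound for the dimensions of the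
closures of the points of `C` -/
lemma dim_subC_le (d : ℕ) (hd : ∀ y ∈ C, WeilCoh.pdim X.scheme y ≤ d) :
    WeilCoh.dim (subC X C hC).scheme ≤ d := by
  apply natDim_le_of_krullDim_le
  unfold topologicalKrullDim Order.krullDim
  refine iSup_le fun p => ?_
  obtain ⟨η, hη⟩ := QuasiSober.sober p.last.isIrreducible p.last.isClosed
  have h1 := Groth.Agent.Lib.Helper84.length_le_dim_of_subset
    (closure ({η} : Set (subC X C hC).scheme)) p (by rw [hη.def])
  refine h1.trans ?_
  have hfin : topologicalKrullDim ↥(closure ({η} : Set (subC X C hC).scheme)) < ⊤ :=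
    lt_of_le_of_lt (topologicalKrullDim_subspace_le _ _) (finDim (subC X C hC))
  refine (krullDim_le_coe_natDim hfin).trans ?_
  have h2 : WeilCoh.natDim ↥(closure ({η} : Set (subC X C hC).scheme)) ≤ d := by
    have := pdim_subC X C hC η
    unfold WeilCoh.pdim at this
    rw [this]
    exact hd _ (subCι_mem X C hC η)
  exact_mod_cast h2

lemma le_dim_subC (y : X.scheme) (hy : y ∈ C) :
    WeilCoh.pdim X.scheme y ≤ WeilCoh.dim (subC X C hC).scheme := by
  have hy' : y ∈ Set.range (subCι X C hC) := by rw [range_subCι]; exact hy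
  obtain ⟨z, rfl⟩ := hy'
  rw [← pdim_subC]
  exact pdim_le_dim (subC X C hC) z

end SubC

end Groth.Agent.Lib.Helper47.BMUniq
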