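import Groth.Agent.Lib.Helper47.BMResGen

set_option autoImplicit false
universe u

namespace Groth.Agent.Lib.Helper47.BMUniq

open TopologicalSpace Topology Order AlgebraicGeometry CategoryTheory BMCoh Opposite
open CategoryTheory.Limits

section ToFj

variable {V : ObjectProperty Scheme.{u}} [IsConstructible V] {R : Type u} [CommRing R]
  {A : Coefs R}

lemma isIso_resTop (X : Obj V) : IsIso X.resTop :=
  ⟨⟨⟨X.scheme.topIso.inv, inferInstance, (dim_top X.scheme).symm⟩,
    Hom.ext (by simp [Obj.resTop, Obj.resι]), Hom.ext (by simp [Obj.resTop, Obj.resι])⟩⟩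

lemma pull_bijective_of_isIso (T : PreTheory V R A) {X Y : Obj V} (f : X ⟶ Y) [IsIso f]
    (M : A.Cat) (i n : ℤ) : Function.Bijective (T.pull f M i n).hom := by
  have : IsIso (T.pull f M i n) := by
    unfold PreTheory.pull
    infer_instance
  exact ConcreteCategory.bijective_of_isIso (T.pull f M i n)

/-- the top index -/
abbrev idxTop (X : Obj V) (j : ℕ) : Idx X (ContainsFj X j) :=
  ⟨⊤, fun _ _ => trivial, dim_top X.scheme⟩

lemma codim_le_dim (X : Scheme.{u}) (y : X) : WeilCoh.codim X y ≤ WeilCoh.dim X := by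
  unfold WeilCoh.codim
  omega

lemma eq_top_of_dim_le (X : Obj V) (j : ℕ) (hj : WeilCoh.dim X.scheme ≤ j)
    (U : Idx X (ContainsFj X j)) : U.1 = ⊤ :=
  eq_top_iff.mpr fun y _ => U.2.1 y ((codim_le_dim X.scheme y).trans hj)

lemma fjι_top_bijective (T : PreTheory V R A) (X : Obj V) (j : ℕ)
    (hj : WeilCoh.dim X.scheme ≤ j) (M : A.Cat) (i n : ℤ) :
    Function.Bijective ((T.fjι X j i n (idxTop X j)).app M).hom := by
  constructor
  · rw [injective_iff_map_eq_zero]
    intro a ha
    obtain ⟨U', hle, hz⟩ := ocolim_eq_zero T X (ContainsFj X j) i n M (idxTop X j) a ha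
    have hU' := eq_top_of_dim_le X j hj U'
    obtain ⟨U'o, h1, h2⟩ := U'
    obtain rfl : U'o = ⊤ := hU'
    exact (congrArg (fun φ => φ.hom a) (rs_refl T X ⊤ M i n)).symm.trans hz
  · intro z
    obtain ⟨U, a, rfl⟩ := ocolim_exists_rep T X (ContainsFj X j) i n M z
    have hU := eq_top_of_dim_le X j hj U
    obtain ⟨Uo, h1, h2⟩ := U
    obtain rfl : Uo = ⊤ := hU
    exact ⟨a, rfl⟩

lemma toFj_top_bijective (T : PreTheory V R A) (X : Obj V) (j : ℕ)
    (hj : WeilCoh.dim X.scheme ≤ j) (M : A.Cat) (i n : ℤ) :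
    Function.Bijective ((T.toFj X j i n).app M).hom := by
  have := isIso_resTop X
  have h1 := pull_bijective_of_isIso T X.resTop M i n
  have h2 := fjι_top_bijective T X j hj M i n
  have h3 : ((T.toFj X j i n).app M).hom =
      ((T.fjι X j i n (idxTop X j)).app M).hom ∘ₗ (T.pull X.resTop M i n).hom := rfl
  rw [h3]
  exact h2.comp h1

lemma toFj_fjRes (T : PreTheory V R A) (X : Obj V) (j : ℕ) (M : A.Cat) (i n : ℤ) :
    (T.toFj X (j + 1) i n).app M ≫ (T.fjRes X (Nat.le_succ j) i n).app M =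
      (T.toFj X j i n).app M := by
  have h := fjι_fjRes T X (Nat.le_succ j) i n M (idxTop X (j + 1))
  exact (Category.assoc (T.pull X.resTop M i n) _ _).trans
    (congrArg (fun t => T.pull X.resTop M i n ≫ t) h)

theorem toFj_bijective (T : TheoryOn V R A) (X : Obj V) (M : A.Cat) (i n : ℤ) (k : ℕ) :
    ∀ j : ℕ, i ≤ 2 * (j : ℤ) → WeilCoh.dim X.scheme ≤ j + k →
      Function.Bijective ((T.toFj X j i n).app M).hom := by
  induction k with
  | zero =>
    intro j _ hjk
    exact toFj_top_bijective T.toPreTheory X j hjk M i n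
  | succ k IH =>
    intro j hj hjk
    have h1 := IH (j + 1) (by push_cast; omega) (by omega)
    have h2 := fjRes_bijective T.toPreTheory X j M i n
      (fun x _ => T.pt_vanish X x M _ _ (by omega)) (fun x _ => T.pt_vanish X x M _ _ (by omega))
    have h3 := congrArg (fun φ => φ.hom) (toFj_fjRes T.toPreTheory X j M i n)
    change ((T.fjRes X (Nat.le_succ j) i n).app M).hom ∘ₗ ((T.toFj X (j + 1) i n).app M).hom =
      ((T.toFj X j i n).app M).hom at h3
    rw [← h3]
    exact h2.comp h1

end ToFj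

end Groth.Agent.Lib.Helper47.BMUniq
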