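import Groth.Prelude.Def_BMCoh3
import Groth.Agent.Lib.Helper21.TopDimStrict
import Groth.Agent.Lib.Helper84.TopDim

set_option autoImplicit false
universe u

namespace Groth.Agent.Lib.Helper47.BMUniq

open TopologicalSpace Topology Order AlgebraicGeometry CategoryTheory

section Top

variable {S S' : Type u} [TopologicalSpace S] [TopologicalSpace S']

lemma coe_natDim [Nonempty S] (h : topologicalKrullDim S < ⊤) :
    ((WeilCoh.natDim S : ℕ) : WithBot ℕ∞) = topologicalKrullDim S := by
  have h0 := Groth.Agent.Lib.Helper84.dim_nonneg_of_nonempty (X := S)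
  unfold WeilCoh.natDim
  generalize topologicalKrullDim S = a at *
  induction a using WithBot.recBotCoe with
  | bot => simp at h0
  | coe a =>
    induction a using ENat.recTopCoe with
    | top => exact absurd h (lt_irrefl _)
    | coe n => simp

lemma natDim_le_of_le (hle : topologicalKrullDim S ≤ topologicalKrullDim S')
    (hfin : topologicalKrullDim S' < ⊤) : WeilCoh.natDim S ≤ WeilCoh.natDim S' := by
  unfold WeilCoh.natDim
  generalize topologicalKrullDim S = a at *
  generalize topologicalKrullDim S' = b at *
  induction b using WithBot.recBotCoe with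
  | bot =>
    have : a = ⊥ := le_bot_iff.mp hle
    subst this
    simp
  | coe b =>
    induction b using ENat.recTopCoe with
    | top => exact absurd hfin (lt_irrefl _)
    | coe n =>
      induction a using WithBot.recBotCoe with
      | bot => simp
      | coe a =>
        have hab : a ≤ (n : ℕ∞) := by exact_mod_cast hle
        simpa using ENat.toNat_le_toNat hab (ENat.coe_ne_top n)

lemma natDim_eq_of_homeomorph (e : S ≃ₜ S') : WeilCoh.natDim S = WeilCoh.natDim S' := by
  unfold WeilCoh.natDim
  rw [IsHomeomorph.topologicalKrullDim_eq _ e.isHomeomorph]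

lemma natDim_le_of_isInducing {f : S → S'} (hf : IsInducing f)
    (hfin : topologicalKrullDim S' < ⊤) : WeilCoh.natDim S ≤ WeilCoh.natDim S' :=
  natDim_le_of_le hf.topologicalKrullDim_le hfin

/-- strict drop of dimension for a proper closed subset of an irreducible set -/
lemma natDim_lt_of_ssubset {T : Type u} [TopologicalSpace T] {A B : Set T} (hAB : A ⊆ B)
    (hA : IsClosed A) (hB : IsIrreducible B) (hne : A ≠ B) (hAne : A.Nonempty)
    (hfin : topologicalKrullDim ↥B < ⊤) :
    WeilCoh.natDim ↥A < WeilCoh.natDim ↥B := by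
  have h1 := Groth.Agent.Lib.Helper21.TopDimStrict.dim_add_one_le_of_ssubset hAB hA hB hne
  haveI : Nonempty ↥A := hAne.to_subtype
  haveI : Nonempty ↥B := (hAne.mono hAB).to_subtype
  have hfinA : topologicalKrullDim ↥A < ⊤ :=
    lt_of_le_of_lt ((Topology.IsEmbedding.inclusion hAB).isInducing.topologicalKrullDim_le) hfin
  rw [← coe_natDim hfinA, ← coe_natDim hfin] at h1
  have h2 : ((WeilCoh.natDim ↥A + 1 : ℕ) : WithBot ℕ∞) ≤ (WeilCoh.natDim ↥B : ℕ) := by
    push_cast
    exact h1
  have h3 : WeilCoh.natDim ↥A + 1 ≤ WeilCoh.natDim ↥B := by exact_mod_cast h2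
  omega

/-- in a nonempty finite-dimensional quasi-sober space some point has closure of full dimension -/
lemma exists_natDim_closure_eq [QuasiSober S] [Nonempty S] (hfin : topologicalKrullDim S < ⊤) :
    ∃ η : S, WeilCoh.natDim ↥(closure ({η} : Set S)) = WeilCoh.natDim S := by
  have h1 : ((WeilCoh.natDim S : ℕ) : WithBot ℕ∞) ≤ topologicalKrullDim S := (coe_natDim hfin).le
  unfold topologicalKrullDim at h1
  rw [Order.le_krullDim_iff] at h1
  obtain ⟨l, hl⟩ := h1
  obtain ⟨η, hη⟩ := QuasiSober.sober l.last.isIrreducible l.last.isClosed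
  refine ⟨η, le_antisymm ?_ ?_⟩
  · exact natDim_le_of_le (topologicalKrullDim_subspace_le S _) hfin
  · have h2 := Groth.Agent.Lib.Helper84.length_le_dim_of_subset (closure ({η} : Set S)) l
      (by rw [hη.def])
    rw [hl] at h2
    haveI : Nonempty ↥(closure ({η} : Set S)) := ⟨⟨η, subset_closure rfl⟩⟩
    have hfin' : topologicalKrullDim ↥(closure ({η} : Set S)) < ⊤ :=
      lt_of_le_of_lt (topologicalKrullDim_subspace_le S _) hfin
    rw [← coe_natDim hfin'] at h2
    exact_mod_cast h2

end Top

end Groth.Agent.Lib.Helper47.BMUniq
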