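import Groth.Agent.Lib.Helper47.BMBig

set_option autoImplicit false
universe u

namespace Groth.Agent.Lib.Helper47.BMUniq

open TopologicalSpace Topology Order AlgebraicGeometry CategoryTheory BMCoh Opposite
open CategoryTheory.Limits

section Zero

variable {V : ObjectProperty Scheme.{u}} [IsConstructible V] {R : Type u} [CommRing R]
  {A : Coefs R}

lemma relCodim_self' (Y : Scheme.{u}) : relCodim Y Y = 0 := by
  unfold relCodim
  rw [sub_self]

/-- the groups of the empty scheme vanish -/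
lemma gp_eq_zero_of_isEmpty (T : PreTheory V R A) (Y : Obj V) [IsEmpty Y.scheme] (M : A.Cat)
    (i n : ℤ) (a : T.gp Y M i n) : a = 0 := by
  obtain ⟨i₀, rfl⟩ : ∃ i₀, i = i₀ + 1 := ⟨i - 1, by ring⟩
  let D : Decomp Y := ⟨Y, Y, 𝟙 Y.scheme, inferInstance, 𝟙 Y, Set.ext fun y => isEmptyElim y⟩
  have hi : i₀ + 1 = (i₀ + 1) + 2 * relCodim Y.scheme Y.scheme := by rw [relCodim_self']; ring
  have hn : n = n + relCodim Y.scheme Y.scheme := by rw [relCodim_self']; ring
  have hex := T.exact_push_pull D M i₀ n (i₀ + 1) n hi hn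
  have h1 : T.push (𝟙 Y.scheme) M (i₀ + 1) n (i₀ + 1) n hi hn = 𝟙 _ := T.push_id Y M _ _ hi hn
  have h2 : ((T.H (i₀ + 1) n).map (𝟙 Y : Y ⟶ Y).op).app M = 𝟙 _ := pull_id T Y M (i₀ + 1) n
  have h3 : (((T.H (i₀ + 1) n).map D.j.op).app M).hom a = 0 := by
    apply (hex a).mpr
    refine ⟨a, ?_⟩
    change (T.push (𝟙 Y.scheme) M (i₀ + 1) n (i₀ + 1) n hi hn).hom a = a
    rw [h1]
    rfl
  have h4 : (((T.H (i₀ + 1) n).map D.j.op).app M).hom a = a := by
    change (((T.H (i₀ + 1) n).map (𝟙 Y : Y ⟶ Y).op).app M).hom a = a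
    rw [h2]
    rfl
  exact h4.symm.trans h3

/-- a scheme isomorphism, as an isomorphism of objects -/
noncomputable def homOfIso {Y Y' : Obj V} (f : Y.scheme ⟶ Y'.scheme) [IsIso f] : Y ⟶ Y' :=
  ⟨f, inferInstance, dim_eq_of_iso (asIso f)⟩

lemma isIso_homOfIso {Y Y' : Obj V} (f : Y.scheme ⟶ Y'.scheme) [IsIso f] :
    IsIso (homOfIso f : Y ⟶ Y') :=
  ⟨⟨⟨inv f, inferInstance, (dim_eq_of_iso (asIso f)).symm⟩,
    Hom.ext (by simp [homOfIso]), Hom.ext (by simp [homOfIso])⟩⟩

/-- for reduced `X`, the trace of the closure of `s` on an open contained in that closure is the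
whole open -/
lemma isIso_liftOpen_of_subset (X : Obj V) [IsReduced X.scheme] (s : X.scheme)
    (W : (X.ptSub s).scheme.Opens) (U : X.scheme.Opens)
    (hW : ∀ z, (X.ptSubι s) z ∈ U ↔ z ∈ W)
    (hU : (U : Set X.scheme) ⊆ closure ({s} : Set X.scheme)) :
    IsIso (liftOpen (X.ptSubι s) W U (fun w hw => (hW w).mpr hw)) := by
  have h1 : IsClosedImmersion (liftOpen (X.ptSubι s) W U (fun w hw => (hW w).mpr hw)) :=
    isClosedImmersion_liftOpen' (X.ptSubι s) W U hW
  have h2 : Surjective (liftOpen (X.ptSubι s) W U (fun w hw => (hW w).mpr hw)) := by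
    refine ⟨fun u => ?_⟩
    have hu : U.ι u ∈ closure ({s} : Set X.scheme) := hU (ι_mem U u)
    rw [← range_ptSubι] at hu
    obtain ⟨z, hz⟩ := hu
    have hzW : z ∈ W := (hW z).mp (hz ▸ ι_mem U u)
    obtain ⟨w, hw⟩ := exists_ι_eq W z hzW
    refine ⟨w, ?_⟩
    apply U.ι.isOpenEmbedding.injective
    rw [liftOpen_apply, hw, hz]
  exact isIso_of_isClosedImmersion_of_surjective _

lemma dim_eq_of_mem_codim_zero (X : Obj V) (U : X.scheme.Opens) (s : X.scheme) (hs : s ∈ U)
    (hs0 : WeilCoh.codim X.scheme s = 0) :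
    WeilCoh.dim (U : Scheme.{u}) = WeilCoh.dim X.scheme := by
  apply le_antisymm
  · exact natDim_le_of_isInducing U.ι.isOpenEmbedding.isInducing (finDim X)
  · have hη : WeilCoh.pdim X.scheme s = WeilCoh.dim X.scheme := by
      have := pdim_le_dim X s
      unfold WeilCoh.codim at hs0
      omega
    obtain ⟨ξ, hξ, -⟩ := exists_gen X s
    let U' : (X.ptSub s).scheme.Opens := (X.ptSubι s) ⁻¹ᵁ U
    have hξU' : ξ ∈ U' := by
      change (X.ptSubι s) ξ ∈ U
      rwa [hξ]
    have h1 : WeilCoh.dim (U' : Scheme.{u}) = WeilCoh.dim (X.ptSub s).scheme :=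
      IsConstructible.dim_open (X.ptSub s).mem (irreducibleSpace_ptSub X s) U' ⟨ξ, hξU'⟩
    have h2 : WeilCoh.dim (U' : Scheme.{u}) ≤ WeilCoh.dim (U : Scheme.{u}) :=
      natDim_le_of_isInducing
        (isInducing_liftOpen (X.ptSubι s) U' U (fun w hw => hw)) (finDim_opens X U)
    rw [h1, dim_ptSub, hη] at h2
    exact h2

/-- Base case: on an irreducible reduced open, a class dies on a smaller open when the group of
the generic point vanishes. -/
theorem base_case (T : PreTheory V R A) (X : Obj V) [IsReduced X.scheme] (s : X.scheme)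
    (M : A.Cat) (i n : ℤ) (hvan : IsZero (T.ptGp X s M i n)) (U : X.scheme.Opens)
    (hd : WeilCoh.dim (U : Scheme.{u}) = WeilCoh.dim X.scheme) (hs : s ∈ U)
    (hU : (U : Set X.scheme) ⊆ closure ({s} : Set X.scheme)) (a : T.gp (X.res U) M i n) :
    ∃ (U' : X.scheme.Opens) (hle : U' ≤ U)
      (hd' : WeilCoh.dim (U' : Scheme.{u}) = WeilCoh.dim X.scheme),
      s ∈ U' ∧ (rs T X hle (hd'.trans hd.symm) M i n).hom a = 0 := by
  let W : ptIdx X s := traceIdx X s U hs
  have hW : ∀ z, (X.ptSubι s) z ∈ U ↔ z ∈ W.1 := fun z => Iff.rfl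
  have hiso := isIso_liftOpen_of_subset X s W.1 U hW hU
  let e : (X.ptSub s).res W.1 ⟶ X.res U :=
    homOfIso (liftOpen (X.ptSubι s) W.1 U (fun w hw => (hW w).mpr hw))
  have hsub : Subsingleton (T.ptGp X s M i n) := ModuleCat.subsingleton_of_isZero hvan
  have hptb : ((T.ptι X s i n W).app M).hom ((T.pull e M i n).hom a) = 0 := Subsingleton.elim _ _
  obtain ⟨W', hW'le, hW'z⟩ := ocolim_eq_zero T (X.ptSub s)
    (fun U => (U : Set (X.ptSub s).scheme).Nonempty) i n M W _ hptb
  let U' : X.scheme.Opens := U ⊓ complOpen (X.ptSubι s) W'.1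
  have hU'U : U' ≤ U := inf_le_left
  have hW₃ : ∀ z, (X.ptSubι s) z ∈ U' ↔ z ∈ W'.1 := by
    intro z
    constructor
    · intro h
      exact (mem_complOpen _ W'.1 _).mp h.2 z rfl
    · intro hz
      exact ⟨hW'le hz, map_mem_complOpen _ W'.1 z hz⟩
  have hiso' := isIso_liftOpen_of_subset X s W'.1 U' hW₃ (fun y hy => hU (hU'U hy))
  let e' : (X.ptSub s).res W'.1 ⟶ X.res U' :=
    homOfIso (liftOpen (X.ptSubι s) W'.1 U' (fun w hw => (hW₃ w).mpr hw))
  have hisoe' := isIso_homOfIso (Y := (X.ptSub s).res W'.1) (Y' := X.res U')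
    (liftOpen (X.ptSubι s) W'.1 U' (fun w hw => (hW₃ w).mpr hw))
  have hdU' : WeilCoh.dim (U' : Scheme.{u}) = WeilCoh.dim X.scheme :=
    e'.dim_eq.symm.trans (W'.2.2.trans (W.2.2.symm.trans (e.dim_eq.trans hd)))
  obtain ⟨ξ, hξ, hξW⟩ := exists_gen X s
  have hsU' : s ∈ U' := by
    rw [← hξ]
    exact (hW₃ ξ).mpr (hξW W'.1 W'.2.1)
  refine ⟨U', hU'U, hdU', hsU', ?_⟩
  have hsq : (X.ptSub s).resLE hW'le (W'.2.2.trans W.2.2.symm) ≫ e =
      e' ≫ X.resLE hU'U (hdU'.trans hd.symm) :=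
    Hom.ext ((homOfLE_liftOpen (X.ptSubι s) hW'le U (fun w hw => (hW w).mpr hw)).trans
      (liftOpen_homOfLE (X.ptSubι s) W'.1 hU'U (fun w hw => (hW₃ w).mpr hw)).symm)
  have h1 : T.pull e M i n ≫ rs T (X.ptSub s) hW'le (W'.2.2.trans W.2.2.symm) M i n =
      rs T X hU'U (hdU'.trans hd.symm) M i n ≫ T.pull e' M i n := by
    unfold rs
    rw [← pull_comp, ← pull_comp, hsq]
  have h2 : (T.pull e' M i n).hom ((rs T X hU'U (hdU'.trans hd.symm) M i n).hom a) = 0 :=
    (congrArg (fun φ => φ.hom a) h1).symm.trans hW'z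
  have h3 := (pull_bijective_of_isIso T e' M i n).1
  exact h3 (h2.trans (map_zero _).symm)

theorem level0_aux (T : PreTheory V R A) (X : Obj V) [IsReduced X.scheme] (M : A.Cat)
    (i₀ n : ℤ)
    (hvan : ∀ x : X.scheme, WeilCoh.codim X.scheme x = 0 → IsZero (T.ptGp X x M (i₀ + 1) n))
    (S' : Finset X.scheme) :
    ∀ (s : X.scheme) (_ : WeilCoh.codim X.scheme s = 0) (U : X.scheme.Opens)
      (hd : WeilCoh.dim (U : Scheme.{u}) = WeilCoh.dim X.scheme) (_ : s ∈ U)
      (a : T.gp (X.res U) M (i₀ + 1) n),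
      (∀ y ∈ U, y ∈ closure ({s} : Set X.scheme) ∨
        ∃ s' ∈ S', y ∈ closure ({s'} : Set X.scheme)) →
      ∃ (U' : X.scheme.Opens) (hle : U' ≤ U)
        (hd' : WeilCoh.dim (U' : Scheme.{u}) = WeilCoh.dim X.scheme),
        (∀ y ∈ U, WeilCoh.codim X.scheme y = 0 → y ∈ U') ∧
        (rs T X hle (hd'.trans hd.symm) M (i₀ + 1) n).hom a = 0 := by
  classical
  induction S' using Finset.induction_on with
  | empty =>
    intro s hs0 U hd hsU a cover
    have hU : (U : Set X.scheme) ⊆ closure ({s} : Set X.scheme) := by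
      intro y hy
      rcases cover y hy with h | ⟨s', hs', -⟩
      · exact h
      · exact absurd hs' (Finset.notMem_empty s')
    obtain ⟨U', hle, hd', hsU', hz⟩ := base_case T X s M (i₀ + 1) n (hvan s hs0) U hd hsU hU a
    refine ⟨U', hle, hd', ?_, hz⟩
    intro y hy hy0
    by_cases hsy : s ∈ closure ({y} : Set X.scheme)
    · exact (specializes_iff_mem_closure.mpr hsy).mem_open U'.2 hsU'
    · have := codim_lt_of_mem_closure X (hU hy) hsy
      omega
  | insert t S'' ht IH =>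
    intro s hs0 U hd hsU a cover
    by_cases h1 : t ∈ closure ({s} : Set X.scheme) ∨
        ∃ s'' ∈ S'', t ∈ closure ({s''} : Set X.scheme)
    · apply IH s hs0 U hd hsU a
      intro y hy
      rcases cover y hy with h | ⟨s', hs', hys'⟩
      · exact Or.inl h
      · rcases Finset.mem_insert.mp hs' with rfl | hs'
        · rcases h1 with h1 | ⟨s'', hs'', h1⟩
          · exact Or.inl (closure_minimal (Set.singleton_subset_iff.mpr h1) isClosed_closure hys')
          · exact Or.inr ⟨s'', hs'',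
              closure_minimal (Set.singleton_subset_iff.mpr h1) isClosed_closure hys'⟩
        · exact Or.inr ⟨s', hs', hys'⟩
    by_cases h2 : t ∈ U
    swap
    · apply IH s hs0 U hd hsU a
      intro y hy
      rcases cover y hy with h | ⟨s', hs', hys'⟩
      · exact Or.inl h
      · rcases Finset.mem_insert.mp hs' with rfl | hs'
        · exact absurd ((specializes_iff_mem_closure.mpr hys').mem_open U.2 hy) h2
        · exact Or.inr ⟨s', hs', hys'⟩
    -- common data: remove the closure of `t`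
    have hst : s ∉ closure ({t} : Set X.scheme) := by
      intro h
      by_cases hts : t ∈ closure ({s} : Set X.scheme)
      · exact h1 (Or.inl hts)
      · have h5 := codim_lt_of_mem_closure X h hts
        have h6 := codim_le_of_mem_closure X h
        omega
    let Ut := smallOpen X t U
    have hsUt : s ∈ Ut := ⟨hsU, hst⟩
    have hdt := dim_eq_of_mem_codim_zero X Ut s hsUt hs0
    have hle_t : Ut ≤ U := Set.sdiff_subset
    have cover' : ∀ y ∈ Ut, y ∈ closure ({s} : Set X.scheme) ∨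
        ∃ s' ∈ S'', y ∈ closure ({s'} : Set X.scheme) := by
      intro y hy
      rcases cover y hy.1 with h | ⟨s', hs', hys'⟩
      · exact Or.inl h
      · rcases Finset.mem_insert.mp hs' with rfl | hs'
        · exact absurd hys' hy.2
        · exact Or.inr ⟨s', hs', hys'⟩
    obtain ⟨Ut', hle', hd', hcod, hz⟩ := IH s hs0 Ut hdt hsUt
      ((rs T X hle_t (hdt.trans hd.symm) M (i₀ + 1) n).hom a) cover'
    rw [rs_rs_apply] at hz
    by_cases h3 : WeilCoh.codim X.scheme t = 0
    swap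
    · refine ⟨Ut', hle'.trans hle_t, hd', ?_, hz⟩
      intro y hy hy0
      apply hcod y ⟨hy, fun hyt => ?_⟩ hy0
      have := codim_le_of_mem_closure X hyt
      omega
    -- the Gysin step
    have hC : IsClosed (closure ({s} : Set X.scheme) ∪ clUnion X S'') :=
      isClosed_closure.union (isClosed_clUnion X S'')
    let Y : X.scheme.Opens :=
      ⟨(Ut' : Set X.scheme) ∪ ((U : Set X.scheme) \ (closure ({s} : Set X.scheme) ∪ clUnion X S'')),
        Ut'.2.union (U.2.sdiff hC)⟩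
    have hYU : Y ≤ U := by
      rintro y (hy | hy)
      · exact hle_t (hle' hy)
      · exact hy.1
    have htY : t ∈ Y := by
      refine Or.inr ⟨h2, ?_⟩
      rintro (h | h)
      · exact h1 (Or.inl h)
      · exact h1 (Or.inr ((mem_clUnion X S'' t).mp h))
    have hdY := dim_eq_of_mem_codim_zero X Y t htY h3
    have hUt'Y : Ut' ≤ Y := fun y hy => Or.inl hy
    have hYt : ∀ y ∈ Y, y ∈ Ut' ↔ y ∉ closure ({t} : Set X.scheme) := by
      intro y hy
      constructor
      · intro hy' ; exact (hle' hy').2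
      · intro hyt
        rcases hy with hy | hy
        · exact hy
        · exfalso
          rcases cover y hy.1 with h | ⟨s', hs', hys'⟩
          · exact hy.2 (Or.inl h)
          · rcases Finset.mem_insert.mp hs' with rfl | hs'
            · exact hyt hys'
            · exact hy.2 (Or.inr ((mem_clUnion X S'' y).mpr ⟨s', hs', hys'⟩))
    let W : ptIdx X t := traceIdx X t Y htY
    have hW₁ : ∀ z, (X.ptSubι t) z ∈ Y ↔ z ∈ W.1 := fun z => Iff.rfl
    let D₁ := mkDecomp X t Y W.1 hW₁ Ut' hUt'Y hYt (hd'.trans hdY.symm)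
    have instD : IsClosedImmersion (X := ((X.ptSub t).res W.1).scheme) (Y := (X.res Y).scheme)
        D₁.i := D₁.closedImm
    have hrc₁ : relCodim ((X.ptSub t).res W.1).scheme (X.res Y).scheme = 0 := by
      rw [relCodim_trace X t Y W hdY, h3]
      rfl
    have hi₁ : i₀ + 1 = (i₀ + 1) + 2 * relCodim ((X.ptSub t).res W.1).scheme (X.res Y).scheme := by
      rw [hrc₁]; ring
    have hn₁ : n = n + relCodim ((X.ptSub t).res W.1).scheme (X.res Y).scheme := by
      rw [hrc₁]; ring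
    have hzY : (rs T X hUt'Y (hd'.trans hdY.symm) M (i₀ + 1) n).hom
        ((rs T X hYU (hdY.trans hd.symm) M (i₀ + 1) n).hom a) = 0 := by
      rw [rs_rs_apply]
      exact hz
    obtain ⟨b, hb⟩ := ((T.exact_push_pull D₁ M i₀ n (i₀ + 1) n hi₁ hn₁) _).mp hzY
    have hsub : Subsingleton (T.ptGp X t M (i₀ + 1) n) :=
      ModuleCat.subsingleton_of_isZero (hvan t h3)
    have hptb : ((T.ptι X t (i₀ + 1) n W).app M).hom b = 0 := Subsingleton.elim _ _
    obtain ⟨W', hW'le, hW'z⟩ := ocolim_eq_zero T (X.ptSub t)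
      (fun U => (U : Set (X.ptSub t).scheme).Nonempty) (i₀ + 1) n M W b hptb
    let Y₃ : X.scheme.Opens := Y ⊓ complOpen (X.ptSubι t) W'.1
    have hY₃Y : Y₃ ≤ Y := inf_le_left
    have hW₃ : ∀ z, (X.ptSubι t) z ∈ Y₃ ↔ z ∈ W'.1 := by
      intro z
      constructor
      · intro h
        exact (mem_complOpen _ W'.1 _).mp h.2 z rfl
      · intro hz
        exact ⟨hW'le hz, map_mem_complOpen _ W'.1 z hz⟩
    obtain ⟨ξ, hξ, hξW⟩ := exists_gen X t
    have htY₃ : t ∈ Y₃ := by
      rw [← hξ]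
      exact (hW₃ ξ).mpr (hξW W'.1 W'.2.1)
    have hdY₃ := dim_eq_of_mem_codim_zero X Y₃ t htY₃ h3
    let f₃ : ((X.ptSub t).res W'.1).scheme ⟶ (X.res Y₃).scheme :=
      liftOpen (X.ptSubι t) W'.1 Y₃ (fun w hw => (hW₃ w).mpr hw)
    have instf : IsClosedImmersion f₃ := isClosedImmersion_liftOpen' (X.ptSubι t) W'.1 Y₃ hW₃
    have hrc₃ : relCodim ((X.ptSub t).res W'.1).scheme (X.res Y₃).scheme = 0 := by
      rw [relCodim_trace X t Y₃ W' hdY₃, h3]
      rfl
    have hi₃ : i₀ + 1 = (i₀ + 1) + 2 * relCodim ((X.ptSub t).res W'.1).scheme (X.res Y₃).scheme := by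
      rw [hrc₃]; ring
    have hn₃ : n = n + relCodim ((X.ptSub t).res W'.1).scheme (X.res Y₃).scheme := by
      rw [hrc₃]; ring
    have hpb : IsPullback ((X.ptSub t).scheme.homOfLE hW'le) f₃ D₁.i (X.scheme.homOfLE hY₃Y) :=
      isPullback_liftOpen (X.ptSubι t) hW'le hY₃Y (fun w hw => (hW₁ w).mpr hw)
        (fun w hw => (hW₃ w).mpr hw) (fun z _ hz => (hW₃ z).mp hz)
    have hbc := T.push_pull D₁.i f₃ (X.resLE hY₃Y (hdY₃.trans hdY.symm))
      ((X.ptSub t).resLE hW'le (W'.2.2.trans W.2.2.symm)) hpb M (i₀ + 1) n (i₀ + 1) n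
      hi₁ hn₁ hi₃ hn₃
    have hbc' : (rs T X hY₃Y (hdY₃.trans hdY.symm) M (i₀ + 1) n).hom
        ((T.push D₁.i M (i₀ + 1) n (i₀ + 1) n hi₁ hn₁).hom b) = 0 := by
      have h := congrArg (fun φ => φ.hom b) hbc
      refine h.trans ?_
      change (T.push f₃ M (i₀ + 1) n (i₀ + 1) n hi₃ hn₃).hom
        ((rs T (X.ptSub t) hW'le (W'.2.2.trans W.2.2.symm) M (i₀ + 1) n).hom b) = 0
      rw [hW'z, map_zero]
    refine ⟨Y₃, hY₃Y.trans hYU, hdY₃, ?_, ?_⟩
    · intro y hy hy0
      by_cases hyt : y ∈ closure ({t} : Set X.scheme)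
      · by_cases hty : t ∈ closure ({y} : Set X.scheme)
        · exact (specializes_iff_mem_closure.mpr hty).mem_open Y₃.2 htY₃
        · have := codim_lt_of_mem_closure X hyt hty
          omega
      · exact ⟨Or.inl (hcod y ⟨hy, hyt⟩ hy0),
          not_mem_closure_of_mem_complOpen_compl X t W'.1 y hyt⟩
    · rw [← rs_rs_apply T X hY₃Y hYU (hdY₃.trans hdY.symm) (hdY.trans hd.symm), ← hb]
      exact hbc'

theorem fjι_zero_eq_zero (T : PreTheory V R A) (X : Obj V) [IsReduced X.scheme] (M : A.Cat)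
    (i n : ℤ)
    (hvan : ∀ x : X.scheme, WeilCoh.codim X.scheme x = 0 → IsZero (T.ptGp X x M i n))
    (U : Idx X (ContainsFj X 0)) (a : T.gp (X.res U.1) M i n) :
    ((T.fjι X 0 i n U).app M).hom a = 0 := by
  obtain ⟨i₀, rfl⟩ : ∃ i₀, i = i₀ + 1 := ⟨i - 1, by ring⟩
  by_cases hne : Nonempty X.scheme
  · obtain ⟨η, hη⟩ := exists_pdim_eq_dim X
    have hη0 : WeilCoh.codim X.scheme η = 0 := by
      unfold WeilCoh.codim
      omega
    have hηU : η ∈ U.1 := U.2.1 η (by omega)
    obtain ⟨S, -, hScov⟩ := exists_generic_finset X ⊥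
    obtain ⟨U', hle, hd', hcod, hz⟩ := level0_aux T X M i₀ n hvan S η hη0 U.1 U.2.2 hηU a
      (fun y _ => Or.inr (hScov y (fun h => h)))
    have hU'c : ContainsFj X 0 U' := fun y hy => hcod y (U.2.1 y hy) (by omega)
    have h7 := congrArg (fun φ => φ.hom a)
      (ocolimι_rs T X (ContainsFj X 0) (i₀ + 1) n M
        (U' := ⟨U', hU'c, hd'⟩) (U := U) hle)
    refine h7.symm.trans ?_
    change ((T.fjι X 0 (i₀ + 1) n ⟨U', hU'c, hd'⟩).app M).hom
      ((rs T X hle (hd'.trans U.2.2.symm) M (i₀ + 1) n).hom a) = 0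
    rw [hz, map_zero]
  · have : IsEmpty (X.res U.1).scheme := ⟨fun u => hne ⟨U.1.ι u⟩⟩
    rw [gp_eq_zero_of_isEmpty T (X.res U.1) M (i₀ + 1) n a, map_zero]

theorem fjGp_zero_isZero (T : PreTheory V R A) (X : Obj V) [IsReduced X.scheme] (M : A.Cat)
    (i n : ℤ)
    (hvan : ∀ x : X.scheme, WeilCoh.codim X.scheme x = 0 → IsZero (T.ptGp X x M i n)) :
    IsZero (T.fjGp X 0 M i n) := by
  have : Subsingleton (T.fjGp X 0 M i n) := by
    refine ⟨fun z z' => ?_⟩
    obtain ⟨U, a, rfl⟩ := ocolim_exists_rep T X _ i n M z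
    obtain ⟨U', a', rfl⟩ := ocolim_exists_rep T X _ i n M z'
    rw [fjι_zero_eq_zero T X M i n hvan U a, fjι_zero_eq_zero T X M i n hvan U' a']
  exact ModuleCat.isZero_of_subsingleton _

/-- vanishing of `H^i(F_jX)` in high degrees, for reduced `X` -/
theorem fjGp_isZero_of_bound (T : PreTheory V R A) (M : A.Cat) (c : ℕ) (X : Obj V)
    [IsReduced X.scheme]
    (hc : ∀ (y : X.scheme) (i n : ℤ), (WeilCoh.pdim X.scheme y : ℤ) + c < i →
      IsZero (T.ptGp X y M i n)) :
    ∀ (j : ℕ) (i n : ℤ), (WeilCoh.dim X.scheme : ℤ) + j + c < i → IsZero (T.fjGp X j M i n) := by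
  intro j
  induction j with
  | zero =>
    intro i n hi
    apply fjGp_zero_isZero T X M i n
    intro x hx
    apply hc
    have := pdim_le_dim X x
    unfold WeilCoh.codim at hx
    have : WeilCoh.pdim X.scheme x = WeilCoh.dim X.scheme := by omega
    rw [this]
    push_cast at hi
    omega
  | succ j IH =>
    intro i n hi
    have hinj := fjRes_injective T X j M i n (fun x hx => hc x _ _ (by
      have := pdim_le_dim X x
      unfold WeilCoh.codim at hx
      have h2 : (WeilCoh.pdim X.scheme x : ℤ) = (WeilCoh.dim X.scheme : ℤ) - ((j : ℤ) + 1) := by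
        omega
      rw [h2]
      push_cast at hi
      omega))
    have hz := IH i n (by push_cast at hi ⊢; omega)
    have hsub : Subsingleton (T.fjGp X j M i n) := ModuleCat.subsingleton_of_isZero hz
    have : Subsingleton (T.fjGp X (j + 1) M i n) :=
      ⟨fun z z' => hinj (Subsingleton.elim _ _)⟩
    exact ModuleCat.isZero_of_subsingleton _

end Zero

end Groth.Agent.Lib.Helper47.BMUniq
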