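import Mathlib
import Groth.Prelude.Def_Cyc

set_option autoImplicit false
universe u
open AlgebraicGeometry CategoryTheory CategoryTheory.Limits IsLocalRing Algebra

namespace Groth.Agent.Lib.Helper47.Cyc1941FIN

/-- the residue field extension of a morphism locally of finite type is essentially of finite type -/
theorem essFiniteType_residueFieldMap {X Y : Scheme.{u}} (f : Y ⟶ X) [LocallyOfFiniteType f] (y : Y) :
    (f.residueFieldMap y).hom.EssFiniteType := by
  have h := RingHom.EssFiniteType.residueFieldMap (LocallyOfFiniteType.stalkMap f y)
  exact h

theorem finite_residueField_of_trdeg_eq_zero {X Y : Scheme.{u}} (f : Y ⟶ X) [LocallyOfFiniteType f]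
    (y : Y)
    (h : @Algebra.trdeg (X.residueField (f y)) (Y.residueField y) _ _
      (f.residueFieldMap y).hom.toAlgebra = 0) :
    @Module.Finite (X.residueField (f y)) (Y.residueField y) _ _
      (f.residueFieldMap y).hom.toAlgebra.toModule := by
  let _ : Algebra (X.residueField (f y)) (Y.residueField y) := (f.residueFieldMap y).hom.toAlgebra
  have : Algebra.EssFiniteType (X.residueField (f y)) (Y.residueField y) :=
    essFiniteType_residueFieldMap f y
  have : Algebra.IsAlgebraic (X.residueField (f y)) (Y.residueField y) :=
    trdeg_eq_zero_iff.1 h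
  exact Algebra.finite_of_essFiniteType_of_isAlgebraic

end Groth.Agent.Lib.Helper47.Cyc1941FIN
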