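import Mathlib

/-!
# Algebraic core of rigidity of homomorphisms from diagonalisable groups

`P` is free over `A` on `b g` (`g : G`), `P₂` is free over `A` on `b₂ (g, h)`.  A ring endomorphism `θ` of `P`
fixing the basis, together with "base changes" `θ₁ θ₂ θ₁₂` of it along three maps `τ₁ τ₂ τ₁₂ : P → P₂`
(`b g ↦ b₂ (g, o)`, `b₂ (o, g)`, `b₂ (g, g)`) with `θ₁₂ = θ₂ ∘ θ₁` — a coaction of the group algebra in disguise —
which is congruent to the identity modulo a nilpotent ideal, fixes `A`.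
-/

set_option autoImplicit false

namespace Groth.Agent.Lib.Helper47.DiagRigidCore

open Module

section Nil

variable {R A : Type*} [CommRing R] [CommRing A] (ψ : R →+* A) (I : Ideal R)

/-- an `R`-linear additive endomorphism of `A` with values in `I A` maps `I^k A` into `I^(k+1) A` -/
theorem map_pow_le (L : A →+ A) (hlin : ∀ r a, L (ψ r * a) = ψ r * L a)
    (hL : ∀ a, L a ∈ I.map ψ) (k : ℕ) (x : A) (hx : x ∈ (I ^ k).map ψ) :
    L x ∈ (I ^ (k + 1)).map ψ := by
  have key : ∀ c : A, L (c * x) ∈ (I ^ (k + 1)).map ψ := by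
    induction hx using Submodule.span_induction with
    | mem x hx =>
      intro c
      obtain ⟨i, hi, rfl⟩ := hx
      have h1 : L (c * ψ i) = ψ i * L c := by
        rw [mul_comm]; exact hlin i c
      rw [h1, pow_succ, Ideal.map_mul]
      exact Ideal.mul_mem_mul (Ideal.mem_map_of_mem ψ hi) (hL c)
    | zero => intro c; rw [mul_zero, map_zero]; exact zero_mem _
    | add x y _ _ hx hy => intro c; rw [mul_add, map_add]; exact add_mem (hx c) (hy c)
    | smul d x _ hxx =>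
      intro c
      rw [smul_eq_mul, ← mul_assoc]
      exact hxx (c * d)
  simpa using key 1

/-- an `R`-linear additive endomorphism `L` of `A` with values in `I A`, `I` nilpotent, with `L ∘ L = ± L`,
is zero -/
theorem eq_zero_of_idem (hI : IsNilpotent I) (L : A →+ A) (hlin : ∀ r a, L (ψ r * a) = ψ r * L a)
    (hL : ∀ a, L a ∈ I.map ψ) (hLL : ∀ a, L (L a) = L a ∨ L (L a) = - L a) (a : A) : L a = 0 := by
  have key : ∀ k : ℕ, ∀ a, L a ∈ (I ^ (k + 1)).map ψ := by
    intro k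
    induction k with
    | zero => intro a; simpa using hL a
    | succ k ih =>
      intro a
      have h1 := map_pow_le ψ I L hlin hL (k + 1) (L a) (ih a)
      rcases hLL a with h | h
      · rwa [h] at h1
      · rw [h] at h1
        simpa using neg_mem h1
  obtain ⟨n, hn⟩ := hI
  have h2 := key n a
  have h3 : I ^ (n + 1) = ⊥ := by rw [pow_succ, hn]; simp
  rw [h3, Ideal.map_bot] at h2
  exact h2

end Nil

section Core

variable {A P P₂ : Type*} [CommRing A] [CommRing P] [CommRing P₂]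
  [Algebra A P] [Algebra A P₂] {G : Type*}

/-- a linear map sending basis vectors to basis vectors acts on coordinates by `mapDomain` -/
theorem repr_map_eq_mapDomain (b : Basis G A P) {K : Type*} (b₂ : Basis K A P₂) (e : G → K)
    (σ : P →ₗ[A] P₂) (hσ : ∀ g, σ (b g) = b₂ (e g)) (p : P) :
    b₂.repr (σ p) = Finsupp.mapDomain e (b.repr p) := by
  have h : b₂.repr.toLinearMap ∘ₗ σ = Finsupp.lmapDomain A A e ∘ₗ b.repr.toLinearMap := by
    apply b.ext
    intro g
    simp [hσ]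
  exact LinearMap.congr_fun h p

/-- coordinates of an element of `J P` lie in `J` -/
theorem repr_mem_of_mem_map (b : Basis G A P) (J : Ideal A) (p : P)
    (hp : p ∈ J.map (algebraMap A P)) (g : G) : b.repr p g ∈ J := by
  have hp' : p ∈ (J • ⊤ : Submodule A P) := by
    rw [Ideal.smul_top_eq_map]; exact hp
  refine Submodule.smul_induction_on hp' ?_ ?_
  · intro j hj x _
    rw [map_smul, Finsupp.smul_apply, smul_eq_mul]
    exact J.mul_mem_right _ hj
  · intro x y hx hy
    rw [map_add, Finsupp.add_apply]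
    exact add_mem hx hy

variable {R : Type*} [CommRing R]

theorem core (o : G) (b : Basis G A P) (b₂ : Basis (G × G) A P₂)
    (ψ : R →+* A) (I : Ideal R) (hI : IsNilpotent I)
    (hbo : b o = 1)
    (hb₂ : ∀ g h, b₂ (g, o) * b₂ (o, h) = b₂ (g, h))
    (τ₁ τ₂ τ₁₂ : P →+* P₂)
    (hτ₁ : ∀ a, τ₁ (algebraMap A P a) = algebraMap A P₂ a) (hτ₁b : ∀ g, τ₁ (b g) = b₂ (g, o))
    (hτ₂ : ∀ a, τ₂ (algebraMap A P a) = algebraMap A P₂ a) (hτ₂b : ∀ g, τ₂ (b g) = b₂ (o, g))
    (hτ₁₂ : ∀ a, τ₁₂ (algebraMap A P a) = algebraMap A P₂ a) (hτ₁₂b : ∀ g, τ₁₂ (b g) = b₂ (g, g))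
    (θ : P →+* P) (θ₁ θ₂ θ₁₂ : P₂ →+* P₂)
    (hθ₂b : ∀ g, θ₂ (b₂ (g, o)) = b₂ (g, o))
    (h₁ : ∀ p, θ₁ (τ₁ p) = τ₁ (θ p)) (h₂ : ∀ p, θ₂ (τ₂ p) = τ₂ (θ p))
    (h₁₂ : ∀ p, θ₁₂ (τ₁₂ p) = τ₁₂ (θ p))
    (hmul : ∀ x, θ₁₂ x = θ₂ (θ₁ x))
    (hθψ : ∀ r, θ (algebraMap A P (ψ r)) = algebraMap A P (ψ r))
    (hcong : ∀ a, θ (algebraMap A P a) - algebraMap A P a ∈ (I.map ψ).map (algebraMap A P))
    (a : A) : θ (algebraMap A P a) = algebraMap A P a := by
  classical
  -- the coefficient maps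
  let ρ : A →+ (G →₀ A) :=
    { toFun := fun a => b.repr (θ (algebraMap A P a))
      map_zero' := by simp
      map_add' := fun x y => by simp }
  have hρ : ∀ a, ρ a = b.repr (θ (algebraMap A P a)) := fun a => rfl
  -- linear versions of τ
  have lin : ∀ (τ : P →+* P₂), (∀ a, τ (algebraMap A P a) = algebraMap A P₂ a) →
      ∃ σ : P →ₗ[A] P₂, ∀ p, σ p = τ p := by
    intro τ hτ
    refine ⟨{ toFun := τ, map_add' := map_add τ, map_smul' := ?_ }, fun p => rfl⟩
    intro c p
    simp only [RingHom.id_apply]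
    rw [Algebra.smul_def, map_mul, hτ, Algebra.smul_def]
  obtain ⟨σ₁, hσ₁⟩ := lin τ₁ hτ₁
  obtain ⟨σ₂, hσ₂⟩ := lin τ₂ hτ₂
  obtain ⟨σ₁₂, hσ₁₂⟩ := lin τ₁₂ hτ₁₂
  -- (1) coordinates of θ₁₂ (alg a)
  have c12 : ∀ a, b₂.repr (θ₁₂ (algebraMap A P₂ a)) = Finsupp.mapDomain (fun k => (k, k)) (ρ a) := by
    intro a
    rw [← hτ₁₂, h₁₂, ← hσ₁₂, repr_map_eq_mapDomain b b₂ (fun k => (k, k)) σ₁₂
      (fun g => by rw [hσ₁₂, hτ₁₂b])]
    rfl
  -- (2) coordinates of θ₂ (τ₁ p)
  have c21 : ∀ (g₀ h₀ : G) (p : P), b₂.repr (θ₂ (τ₁ p)) (g₀, h₀) = ρ (b.repr p g₀) h₀ := by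
    intro g₀ h₀ p
    suffices hv : ∀ v : G →₀ A, b₂.repr (θ₂ (τ₁ (b.repr.symm v))) (g₀, h₀) = ρ (v g₀) h₀ by
      have := hv (b.repr p)
      rwa [b.repr.symm_apply_apply] at this
    intro v
    induction v using Finsupp.induction_linear with
    | zero => simp
    | add v w hv hw =>
      rw [map_add, map_add, map_add, map_add, Finsupp.add_apply, hv, hw, Finsupp.add_apply, map_add,
        Finsupp.add_apply]
    | single g x =>
      rw [Basis.repr_symm_single]
      -- θ₂ (τ₁ (x • b g)) = τ₂ (θ (alg x)) * b₂ (g, o)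
      have e1 : θ₂ (τ₁ (x • b g)) = τ₂ (θ (algebraMap A P x)) * b₂ (g, o) := by
        rw [Algebra.smul_def, map_mul, map_mul, hτ₁, hτ₁b, hθ₂b, ← hτ₂ x, h₂]
      -- the linear map `p' ↦ τ₂ p' * b₂ (g, o)`
      let σ : P →ₗ[A] P₂ := (LinearMap.mulRight A (b₂ (g, o))) ∘ₗ σ₂
      have hσ : ∀ p', σ p' = τ₂ p' * b₂ (g, o) := fun p' => by
        simp [σ, hσ₂]
      have hσb : ∀ h, σ (b h) = b₂ ((fun h => (g, h)) h) := fun h => by
        rw [hσ, hτ₂b, mul_comm, hb₂]
      rw [e1, ← hσ, repr_map_eq_mapDomain b b₂ (fun h => (g, h)) σ hσb, ← hρ]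
      by_cases hg : g = g₀
      · subst hg
        rw [Finsupp.mapDomain_apply (fun h h' hh => (Prod.ext_iff.1 hh).2), Finsupp.single_eq_same]
      · rw [Finsupp.mapDomain_of_notMem_range, Finsupp.single_eq_of_ne (Ne.symm hg), map_zero]
        · rfl
        · rintro ⟨h, hh⟩
          exact hg (Prod.ext_iff.1 hh).1
  -- (★)
  have star : ∀ a (g₀ h₀ : G), ρ (ρ a g₀) h₀ = if g₀ = h₀ then ρ a g₀ else 0 := by
    intro a g₀ h₀
    have e1 := c21 g₀ h₀ (θ (algebraMap A P a))
    rw [← h₁, hτ₁, ← hmul, c12] at e1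
    rw [← hρ] at e1
    rw [← e1]
    by_cases hgh : g₀ = h₀
    · subst hgh
      rw [if_pos rfl, Finsupp.mapDomain_apply (fun h h' hh => (Prod.ext_iff.1 hh).1)]
    · rw [if_neg hgh, Finsupp.mapDomain_of_notMem_range]
      rintro ⟨k, hk⟩
      exact hgh ((Prod.ext_iff.1 hk).1.symm.trans (Prod.ext_iff.1 hk).2)
  -- R-linearity
  have hlin : ∀ r a, ρ (ψ r * a) = ψ r • ρ a := by
    intro r a
    rw [hρ, hρ, map_mul, map_mul, hθψ, ← Algebra.smul_def, map_smul]
  -- congruence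
  have hval : ∀ a g, ρ a g - (Finsupp.single o a : G →₀ A) g ∈ I.map ψ := by
    intro a g
    have h := repr_mem_of_mem_map b (I.map ψ) _ (hcong a) g
    rw [map_sub, Finsupp.sub_apply] at h
    have e : b.repr (algebraMap A P a) = Finsupp.single o a := by
      rw [Algebra.algebraMap_eq_smul_one, ← hbo, map_smul, Basis.repr_self, Finsupp.smul_single,
        smul_eq_mul, mul_one]
    rwa [e] at h
  -- vanishing of the coefficients
  have hzero : ∀ g, g ≠ o → ∀ a, ρ a g = 0 := by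
    intro g hg a
    let L : A →+ A := (Finsupp.applyAddHom g).comp ρ
    have hL : ∀ a, L a = ρ a g := fun a => rfl
    have := eq_zero_of_idem ψ I hI L (fun r a => by rw [hL, hL, hlin]; rfl)
      (fun a => by
        have := hval a g
        rwa [Finsupp.single_eq_of_ne hg, sub_zero] at this)
      (fun a => Or.inl (by rw [hL, hL, star, if_pos rfl])) a
    exact this
  have hone : ∀ a, ρ a o = a := by
    intro a
    let L : A →+ A := (Finsupp.applyAddHom o).comp ρ - AddMonoidHom.id A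
    have hL : ∀ a, L a = ρ a o - a := fun a => rfl
    have := eq_zero_of_idem ψ I hI L
      (fun r a => by rw [hL, hL, hlin, Finsupp.smul_apply, smul_eq_mul, mul_sub])
      (fun a => by
        have := hval a o
        rwa [Finsupp.single_eq_same] at this)
      (fun a => Or.inr (by
        rw [hL, hL, map_sub, Finsupp.sub_apply, star, if_pos rfl]; ring)) a
    rw [hL, sub_eq_zero] at this
    exact this
  -- conclusion
  apply b.repr.injective
  have e : b.repr (algebraMap A P a) = Finsupp.single o a := by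
    rw [Algebra.algebraMap_eq_smul_one, ← hbo, map_smul, Basis.repr_self, Finsupp.smul_single,
      smul_eq_mul, mul_one]
  rw [e, ← hρ]
  ext g
  by_cases hg : g = o
  · subst hg; rw [hone, Finsupp.single_eq_same]
  · rw [hzero g hg, Finsupp.single_eq_of_ne hg]

end Core

end Groth.Agent.Lib.Helper47.DiagRigidCore
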