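import Groth.Agent.Lib.Helper47.DiagRigidTheta


set_option autoImplicit false
universe u
open CategoryTheory AlgebraicGeometry Limits MonoidalCategory CartesianMonoidalCategory MonObj

namespace Groth.Agent.Lib.Helper47.DiagRigidMain

open Groth.Agent.Lib.Helper47 Groth.Agent.Lib.Helper47.LeftTr Groth.Agent.Lib.Helper47.DiagRigidSch

section Points

theorem convMul_single {R : Type u} [CommRing R] {X : Type} [Group X] {A : Type u} [CommRing A] [Algebra R A]
    (f g : WithConv (MonoidAlgebra R X →ₐ[R] A)) (x : X) :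
    (f * g).ofConv (MonoidAlgebra.single x 1) =
      f.ofConv (MonoidAlgebra.single x 1) * g.ofConv (MonoidAlgebra.single x 1) := by
  have := AlgHom.convMul_apply f g (MonoidAlgebra.single x 1)
  rw [MonoidAlgebra.comul_single] at this
  simpa using this

theorem mapMulEquiv_left {R S T : Type u} [CommRing R] [CommRing S] [CommRing T] [Bialgebra R S]
    [Algebra R T] (x : WithConv (S →ₐ[R] T)) :
    (Spec.mapMulEquiv x).left = Spec.map (CommRingCat.ofHom x.ofConv.toRingHom) := rfl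

variable (R : Type u) [CommRing R] (G : Type) [CommGroup G]

/-- the algebra map `R[G] → R[G × G]` induced by a monoid hom `G → G × G` -/
noncomputable def phi (e : G →* G × G) : MonoidAlgebra R G →ₐ[R] MonoidAlgebra R (G × G) :=
  MonoidAlgebra.mapDomainAlgHom R R e

theorem phi_single (e : G →* G × G) (g : G) :
    phi R G e (MonoidAlgebra.single g 1) = MonoidAlgebra.single (e g) 1 := by
  unfold phi
  simp

theorem phi_mul :
    WithConv.toConv (phi R G (MonoidHom.inl G G)) * WithConv.toConv (phi R G (MonoidHom.inr G G)) =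
      WithConv.toConv (phi R G ((MonoidHom.id G).prod (MonoidHom.id G))) := by
  apply WithConv.ofConv_injective
  refine MonoidAlgebra.algHom_ext ?_ (Subsingleton.elim _ _)
  intro g
  rw [convMul_single]
  simp only [WithConv.ofConv_toConv, phi_single, MonoidAlgebra.single_mul_single]
  simp

/-- the point of `D(G)` with values in `R[G × G]` attached to `e : G →* G × G` -/
noncomputable def pt (e : G →* G × G) :
    Sp (R := R) (MonoidAlgebra R (G × G)) ⟶ Sp (R := R) (MonoidAlgebra R G) :=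
  Spec.mapMulEquiv (WithConv.toConv (phi R G e))

theorem pt_left (e : G →* G × G) :
    (pt R G e).left = Spec.map (CommRingCat.ofHom (phi R G e).toRingHom) :=
  mapMulEquiv_left (WithConv.toConv (phi R G e))

theorem pt_mul :
    pt R G (MonoidHom.inl G G) * pt R G (MonoidHom.inr G G) =
      pt R G ((MonoidHom.id G).prod (MonoidHom.id G)) := by
  unfold pt
  rw [← map_mul, phi_mul]

end Points

section Main

variable (R : Type u) [CommRing R] (I : Ideal R)
  (G : Type) [CommGroup G] (X : Over (Spec (CommRingCat.of R))) [GrpObj X]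

open scoped Obj

theorem theta_eq_id (hI : IsNilpotent I) (f : Sp (R := R) (MonoidAlgebra R G) ⟶ X) [IsMonHom f]
    (h : (Over.pullback (Spec.map (CommRingCat.ofHom (Ideal.Quotient.mk I)))).map f = 1)
    (U : X.left.Opens) (hU : IsAffineOpen U) :
    ∃ hle : VV X (Sp (MonoidAlgebra R G)) U ≤ (Ltr f).left ⁻¹ᵁ VV X (Sp (MonoidAlgebra R G)) U,
      (Ltr f).left.appLE _ _ hle = 𝟙 _ := by
  classical
  set F := Over.pullback (Spec.map (CommRingCat.ofHom (Ideal.Quotient.mk I))) with hF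
  set p₁ := pt R G (MonoidHom.inl G G) with hp₁
  set p₂ := pt R G (MonoidHom.inr G G) with hp₂
  set p₁₂ := pt R G ((MonoidHom.id G).prod (MonoidHom.id G)) with hp₁₂
  have hF1 : ∀ p : Sp (R := R) (MonoidAlgebra R (G × G)) ⟶ Sp (R := R) (MonoidAlgebra R G),
      F.map (p ≫ f) = 1 := by
    intro p
    rw [Functor.map_comp, h, MonObj.comp_one]
  have he : p₁₂ ≫ f = (p₁ ≫ f) * (p₂ ≫ f) := by
    rw [← MonObj.mul_comp, pt_mul]
  obtain ⟨hle, -, hψ, hmem⟩ := SqZeroEndo.endo_data_nil R I hI (X ⊗ Sp (MonoidAlgebra R G)) (Ltr f)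
    (map_Ltr F f h) (VV X _ U) (isAffineOpen_VV X _ U hU)
  obtain ⟨hle₁, -, -, -⟩ := SqZeroEndo.endo_data_nil R I hI (X ⊗ Sp (MonoidAlgebra R (G × G)))
    (Ltr (p₁ ≫ f)) (map_Ltr F _ (hF1 p₁)) (VV X _ U) (isAffineOpen_VV X _ U hU)
  obtain ⟨hle₂, -, -, -⟩ := SqZeroEndo.endo_data_nil R I hI (X ⊗ Sp (MonoidAlgebra R (G × G)))
    (Ltr (p₂ ≫ f)) (map_Ltr F _ (hF1 p₂)) (VV X _ U) (isAffineOpen_VV X _ U hU)
  obtain ⟨hle₁₂, -, -, -⟩ := SqZeroEndo.endo_data_nil R I hI (X ⊗ Sp (MonoidAlgebra R (G × G)))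
    (Ltr (p₁₂ ≫ f)) (map_Ltr F _ (hF1 p₁₂)) (VV X _ U) (isAffineOpen_VV X _ U hU)
  refine ⟨hle, ?_⟩
  letI alg1 := algInst X (Sp (MonoidAlgebra R G)) U
  letI alg2 := algInst X (Sp (MonoidAlgebra R (G × G))) U
  obtain ⟨b, hb⟩ := exists_basis X (MonoidAlgebra R G) (MonoidAlgebra.basis G R) U hU
  obtain ⟨b₂, hb₂⟩ := exists_basis X (MonoidAlgebra R (G × G)) (MonoidAlgebra.basis (G × G) R) U hU
  simp only [MonoidAlgebra.basis_apply] at hb hb₂
  -- the translation ring maps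
  set θ := ((Ltr f).left.appLE _ _ hle) with hθ
  set θ₁ := ((Ltr (p₁ ≫ f)).left.appLE _ _ hle₁) with hθ₁
  set θ₂ := ((Ltr (p₂ ≫ f)).left.appLE _ _ hle₂) with hθ₂
  set θ₁₂ := ((Ltr (p₁₂ ≫ f)).left.appLE _ _ hle₁₂) with hθ₁₂
  have hτa : ∀ (p : Sp (R := R) (MonoidAlgebra R (G × G)) ⟶ Sp (R := R) (MonoidAlgebra R G)) (a : Γ(X.left, U)),
      (tauC (X := X) p U).hom (algebraMap _ _ a) = algebraMap _ _ a := by
    intro p a
    exact congrArg (fun k => k.hom a) (iota1_tauC (X := X) p U)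
  have hτb : ∀ (e : G →* G × G) (g : G),
      (tauC (X := X) (pt R G e) U).hom (b g) = b₂ (e g) := by
    intro e g
    rw [hb, hb₂]
    have := congrArg (fun k => k.hom (MonoidAlgebra.single g (1 : R)))
      (iota2_tauC (X := X) (pt R G e) _ (pt_left R G e) U)
    refine this.trans ?_
    change (iota2 X _ U).hom ((phi R G e) (MonoidAlgebra.single g 1)) = _
    rw [phi_single]
  -- compatibility of θ with the τ's
  have hc₁ : ∀ x, θ₁.hom ((tauC (X := X) p₁ U).hom x) = (tauC (X := X) p₁ U).hom (θ.hom x) := by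
    intro x
    exact (congrArg (fun k => k.hom x) (theta_tauC (X := X) p₁ f U hle hle₁)).symm
  have hc₂ : ∀ x, θ₂.hom ((tauC (X := X) p₂ U).hom x) = (tauC (X := X) p₂ U).hom (θ.hom x) := by
    intro x
    exact (congrArg (fun k => k.hom x) (theta_tauC (X := X) p₂ f U hle hle₂)).symm
  have hc₁₂ : ∀ x, θ₁₂.hom ((tauC (X := X) p₁₂ U).hom x) = (tauC (X := X) p₁₂ U).hom (θ.hom x) := by
    intro x
    exact (congrArg (fun k => k.hom x) (theta_tauC (X := X) p₁₂ f U hle hle₁₂)).symm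
  have hmul : ∀ x, θ₁₂.hom x = θ₂.hom (θ₁.hom x) := by
    have key : ∀ (k : Sp (R := R) (MonoidAlgebra R (G × G)) ⟶ X) (hk : k = (p₁ ≫ f) * (p₂ ≫ f))
        (hlek : VV X (Sp (MonoidAlgebra R (G × G))) U ≤ (Ltr k).left ⁻¹ᵁ VV X (Sp (MonoidAlgebra R (G × G))) U),
        (Ltr k).left.appLE _ _ hlek = θ₁ ≫ θ₂ := by
      intro k hk
      subst hk
      intro hlek
      exact theta_mul (X := X) (p₂ ≫ f) (p₁ ≫ f) U hle₂ hle₁ hlek
    intro x
    have := key (p₁₂ ≫ f) he hle₁₂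
    exact congrArg (fun k => k.hom x) this
  have hθ₂b : ∀ g, θ₂.hom (b₂ (g, 1)) = b₂ (g, 1) := by
    intro g
    rw [hb₂]
    exact congrArg (fun k => k.hom (MonoidAlgebra.single ((g, 1) : G × G) (1 : R)))
      (iota2_comp_appLE X (MonoidAlgebra R (G × G)) U (Ltr (p₂ ≫ f)) (Ltr_snd _) hle₂)
  have hstr : SqZeroEndo.strMap R (X ⊗ Sp (MonoidAlgebra R G)) (VV X (Sp (MonoidAlgebra R G)) U) =
      (iota1 X (Sp (MonoidAlgebra R G)) U).hom.comp (strMapC X U).hom := by
    rw [← strMapC_hom, strMapC_tensor]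
    rfl
  have hθψ : ∀ r, θ.hom (algebraMap Γ(X.left, U) _ ((strMapC X U).hom r)) =
      algebraMap Γ(X.left, U) _ ((strMapC X U).hom r) := by
    intro r
    have := congrArg (fun k => k r) hψ
    rw [hstr] at this
    exact this
  have hcong : ∀ a, θ.hom (algebraMap Γ(X.left, U) _ a) - algebraMap Γ(X.left, U) _ a ∈
      (I.map (strMapC X U).hom).map (algebraMap Γ(X.left, U)
        Γ((X ⊗ Sp (MonoidAlgebra R G)).left, VV X (Sp (MonoidAlgebra R G)) U)) := by
    intro a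
    have := hmem (algebraMap Γ(X.left, U) _ a)
    rw [hstr, ← Ideal.map_map] at this
    exact this
  have hcore := DiagRigidCore.core (1 : G) b b₂ (strMapC X U).hom I hI
    (by rw [hb, ← MonoidAlgebra.one_def, map_one])
    (by
      intro g h
      rw [hb₂, hb₂, hb₂, ← map_mul, MonoidAlgebra.single_mul_single]
      simp)
    (tauC (X := X) p₁ U).hom (tauC (X := X) p₂ U).hom (tauC (X := X) p₁₂ U).hom
    (hτa p₁) (fun g => by rw [hp₁, hτb]; rfl)
    (hτa p₂) (fun g => by rw [hp₂, hτb]; rfl)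
    (hτa p₁₂) (fun g => by rw [hp₁₂, hτb]; rfl)
    θ.hom θ₁.hom θ₂.hom θ₁₂.hom hθ₂b hc₁ hc₂ hc₁₂ hmul hθψ hcong
  have hsq := isPushout_sections X (MonoidAlgebra R G) U hU
  apply hsq.hom_ext
  · rw [Category.comp_id]
    exact iota2_comp_appLE X (MonoidAlgebra R G) U (Ltr f) (Ltr_snd _) hle
  · rw [Category.comp_id]
    ext a
    exact hcore a

/-- the left translation by `f` is the identity -/
theorem Ltr_eq_id (hI : IsNilpotent I) (f : Sp (R := R) (MonoidAlgebra R G) ⟶ X) [IsMonHom f]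
    (h : (Over.pullback (Spec.map (CommRingCat.ofHom (Ideal.Quotient.mk I)))).map f = 1) :
    Ltr f = 𝟙 _ := by
  apply Over.OverMorphism.ext
  rw [Over.id_left]
  apply Scheme.hom_ext_of_forall
  intro x
  obtain ⟨_, ⟨U, hU, rfl⟩, hxU, -⟩ :=
    X.left.isBasis_affineOpens.exists_subset_of_mem_open
      (Set.mem_univ ((fst X (Sp (MonoidAlgebra R G))).left x)) isOpen_univ
  obtain ⟨hle, hid⟩ := theta_eq_id R I G X hI f h U hU
  refine ⟨VV X (Sp (MonoidAlgebra R G)) U, hxU, ?_⟩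
  have e1 : (VV X (Sp (MonoidAlgebra R G)) U).ι ≫ (Ltr f).left =
      (Ltr f).left.resLE _ _ hle ≫ (VV X (Sp (MonoidAlgebra R G)) U).ι :=
    (Scheme.Hom.resLE_comp_ι _ _).symm
  rw [e1, Category.comp_id]
  have e2 : (Ltr f).left.resLE _ _ hle = 𝟙 _ := by
    haveI : IsAffine (VV X (Sp (MonoidAlgebra R G)) U).toScheme := isAffineOpen_VV X _ U hU
    apply ext_of_isAffine
    have a1 : ((Ltr f).left.resLE _ _ hle).appTop =
        (VV X (Sp (MonoidAlgebra R G)) U).topIso.hom ≫ (Ltr f).left.appLE _ _ hle ≫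
          (VV X (Sp (MonoidAlgebra R G)) U).topIso.inv := Scheme.Hom.resLE_app_top _ _
    rw [a1, hid, Category.id_comp, Iso.hom_inv_id]
    rfl
  rw [e2, Category.id_comp]

theorem rigid (hI : IsNilpotent I) (f : Sp (R := R) (MonoidAlgebra R G) ⟶ X) [IsMonHom f]
    (h : (Over.pullback (Spec.map (CommRingCat.ofHom (Ideal.Quotient.mk I)))).map f = 1) :
    f = 1 :=
  eq_one_of_Ltr_eq_id f (Ltr_eq_id R I G X hI f h)

end Main

end Groth.Agent.Lib.Helper47.DiagRigidMain
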