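import Mathlib.Tactic
import Mathlib.CategoryTheory.Monoidal.Cartesian.Grp
import Mathlib.CategoryTheory.Monoidal.Cartesian.Mon

set_option autoImplicit false
open CategoryTheory MonObj CartesianMonoidalCategory MonoidalCategory

namespace Groth.Agent.Lib.Helper47.LeftTr

universe v₁ v₂ u₁ u₂
variable {C : Type u₁} [Category.{v₁} C] [CartesianMonoidalCategory C]
  {D : Type u₂} [Category.{v₂} D] [CartesianMonoidalCategory D]
  {X Y : C} [GrpObj X]

/-- left translation by a point `g : Y ⟶ X` on `X ⊗ Y` -/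
noncomputable def Ltr (g : Y ⟶ X) : X ⊗ Y ⟶ X ⊗ Y :=
  lift ((snd X Y ≫ g) * fst X Y) (snd X Y)

@[reassoc (attr := simp)]
theorem Ltr_fst (g : Y ⟶ X) : Ltr g ≫ fst X Y = (snd X Y ≫ g) * fst X Y := lift_fst _ _

@[reassoc (attr := simp)]
theorem Ltr_snd (g : Y ⟶ X) : Ltr g ≫ snd X Y = snd X Y := lift_snd _ _

theorem Ltr_comp (g g' : Y ⟶ X) : Ltr g ≫ Ltr g' = Ltr (g' * g) := by
  apply CartesianMonoidalCategory.hom_ext
  · rw [Category.assoc, Ltr_fst, MonObj.comp_mul, Ltr_snd_assoc, Ltr_fst, Ltr_fst, MonObj.comp_mul,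
      _root_.mul_assoc]
  · rw [Category.assoc, Ltr_snd, Ltr_snd, Ltr_snd]

theorem eq_of_Ltr_eq (g g' : Y ⟶ X) (h : Ltr g = Ltr g') : g = g' := by
  have h1 := congrArg (fun k => k ≫ fst X Y) h
  simp only [Ltr_fst] at h1
  have h2 : snd X Y ≫ g = snd X Y ≫ g' := mul_right_cancel h1
  have h3 := congrArg (fun k => lift (toUnit Y ≫ η[X]) (𝟙 Y) ≫ k) h2
  simpa using h3

open scoped Obj in
theorem map_Ltr (F : C ⥤ D) [F.Monoidal] (g : Y ⟶ X)
    (hg : F.map g = 1) : F.map (Ltr g) = 𝟙 _ := by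
  unfold Ltr
  rw [← Functor.Monoidal.lift_μ, Functor.map_mul, Functor.map_comp, hg, MonObj.comp_one, _root_.one_mul,
    Functor.Monoidal.lift_μ, lift_fst_snd, CategoryTheory.Functor.map_id]

theorem Ltr_one : Ltr (1 : Y ⟶ X) = 𝟙 (X ⊗ Y) := by
  apply CartesianMonoidalCategory.hom_ext
  · rw [Ltr_fst, MonObj.comp_one, _root_.one_mul, Category.id_comp]
  · rw [Ltr_snd, Category.id_comp]

theorem eq_one_of_Ltr_eq_id (g : Y ⟶ X) (h : Ltr g = 𝟙 (X ⊗ Y)) : g = 1 :=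
  eq_of_Ltr_eq g 1 (h.trans Ltr_one.symm)

/-- naturality of the left translation in the test object -/
theorem Ltr_naturality {Y' : C} (t : Y' ⟶ Y) (g : Y ⟶ X) :
    (X ◁ t) ≫ Ltr g = Ltr (t ≫ g) ≫ (X ◁ t) := by
  apply CartesianMonoidalCategory.hom_ext
  · rw [Category.assoc, Ltr_fst, Category.assoc, whiskerLeft_fst, Ltr_fst, MonObj.comp_mul,
      whiskerLeft_snd_assoc, whiskerLeft_fst]
  · rw [Category.assoc, Ltr_snd, Category.assoc, whiskerLeft_snd, Ltr_snd_assoc]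

theorem comm_of_Ltr_comm (g g' : Y ⟶ X) (h : Ltr g ≫ Ltr g' = Ltr g' ≫ Ltr g) : g * g' = g' * g := by
  rw [Ltr_comp, Ltr_comp] at h
  exact (eq_of_Ltr_eq _ _ h).symm

end Groth.Agent.Lib.Helper47.LeftTr
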