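import Groth.Agent.Lib.Helper47.SqZeroEndo
import Groth.Agent.Lib.Helper47.LeftTr
import Groth.Agent.Lib.Helper47.DiagRigidCore
import Mathlib

/-!
# Translations by points congruent to the unit modulo a nilpotent ideal, affine-locally

`S = Spec R`, `I` a nilpotent ideal, `X` an `S`-group, `T` an `S`-scheme, `g : T ⟶ X` a point whose base change to
`Spec (R/I)` is the unit.  The left translation `Ltr g` of `X ⊗ T` is the identity on points; for an affine open `U`
of `X` it induces a ring endomorphism `θ` of `Γ(X ⊗ T, pr₁⁻¹ U)`.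
-/

set_option autoImplicit false
universe u
open CategoryTheory AlgebraicGeometry Limits MonoidalCategory CartesianMonoidalCategory MonObj

namespace Groth.Agent.Lib.Helper47.DiagRigidSch

open Groth.Agent.Lib.Helper47 Groth.Agent.Lib.Helper47.LeftTr

variable {R : Type u} [CommRing R]

theorem le_pre_top {Y Z : Scheme.{u}} (f : Y ⟶ Z) (V : Y.Opens) : V ≤ f ⁻¹ᵁ ⊤ := le_top

/-- the open `pr₁⁻¹ U` of `X ⊗ T` -/
noncomputable abbrev VV (X T : Over (Spec (CommRingCat.of R))) (U : X.left.Opens) : (X ⊗ T).left.Opens :=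
  (fst X T).left ⁻¹ᵁ U

theorem isAffineOpen_VV (X T : Over (Spec (CommRingCat.of R))) [IsAffineHom T.hom]
    (U : X.left.Opens) (hU : IsAffineOpen U) : IsAffineOpen (VV X T U) := by
  have : IsAffineHom (fst X T).left := by
    rw [Over.fst_left]
    exact MorphismProperty.pullback_fst (P := @IsAffineHom) _ _ inferInstance
  exact hU.preimage (fst X T).left

/-- the affine `S`-scheme attached to an `R`-algebra -/
noncomputable abbrev Sp (C : Type u) [CommRing C] [Algebra R C] : Over (Spec (CommRingCat.of R)) :=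
  (Spec (CommRingCat.of C)).asOver (Spec (CommRingCat.of R))

instance (C : Type u) [CommRing C] [Algebra R C] : IsAffineHom (Sp (R := R) C).hom :=
  inferInstanceAs (IsAffineHom (Spec.map (CommRingCat.ofHom (algebraMap R C))))

/-- `ι₁ : Γ(X, U) → Γ(X ⊗ T, pr₁⁻¹ U)` -/
noncomputable def iota1 (X T : Over (Spec (CommRingCat.of R))) (U : X.left.Opens) :
    Γ(X.left, U) ⟶ Γ((X ⊗ T).left, VV X T U) :=
  (fst X T).left.app U

/-- `ι₂ : C → Γ(X ⊗ Sp C, pr₁⁻¹ U)` -/
noncomputable def iota2 (X : Over (Spec (CommRingCat.of R))) (C : Type u) [CommRing C] [Algebra R C]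
    (U : X.left.Opens) : CommRingCat.of C ⟶ Γ((X ⊗ Sp C).left, VV X (Sp C) U) :=
  (Scheme.ΓSpecIso (CommRingCat.of C)).inv ≫
    (snd X (Sp C)).left.appLE ⊤ (VV X (Sp C) U) (le_pre_top _ _)

/-- the structure map `R → Γ(X, U)` as a morphism of `CommRingCat` -/
noncomputable def strMapC (X : Over (Spec (CommRingCat.of R))) (U : X.left.Opens) :
    CommRingCat.of R ⟶ Γ(X.left, U) :=
  (Scheme.ΓSpecIso (CommRingCat.of R)).inv ≫ X.hom.appLE ⊤ U (le_pre_top _ _)

theorem strMapC_hom (X : Over (Spec (CommRingCat.of R))) (U : X.left.Opens) :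
    (strMapC X U).hom = SqZeroEndo.strMap R X U := rfl

theorem isPushout_sections (X : Over (Spec (CommRingCat.of R))) (C : Type u) [CommRing C] [Algebra R C]
    (U : X.left.Opens) (hU : IsAffineOpen U) :
    IsPushout (CommRingCat.ofHom (algebraMap R C)) (strMapC X U)
      (iota2 X C U) (iota1 X (Sp C) U) := by
  have hc : IsPullback (fst X (Sp C)).left (snd X (Sp C)).left X.hom (Sp (R := R) C).hom := by
    rw [Over.fst_left, Over.snd_left]
    exact IsPullback.of_hasPullback _ _
  have e : U ≤ X.hom ⁻¹ᵁ ⊤ := le_top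
  have h1 := Groth.Agent.Lib.Helper6.ThickAffine.isPushout_appLE hc (isAffineOpen_top _) hU e
    (Groth.Agent.Lib.Helper6.ThickAffine.preimage_le hc.w e)
  refine h1.flip.of_iso (Scheme.ΓSpecIso (CommRingCat.of R)) (Scheme.ΓSpecIso (CommRingCat.of C))
    (Iso.refl _) (Iso.refl _) ?_ ?_ ?_ ?_
  · exact Scheme.ΓSpecIso_naturality (CommRingCat.ofHom (algebraMap R C))
  · unfold strMapC
    rw [Iso.hom_inv_id_assoc]
    exact Category.comp_id _
  · unfold iota2
    exact (Category.comp_id _).trans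
      (Iso.hom_inv_id_assoc (Scheme.ΓSpecIso (CommRingCat.of C)) _).symm
  · unfold iota1
    exact (Category.comp_id _).trans (Category.id_comp _).symm

/-- algebra structure of `Γ(X ⊗ T, pr₁⁻¹ U)` over `Γ(X, U)` -/
@[reducible] noncomputable def algInst (X T : Over (Spec (CommRingCat.of R))) (U : X.left.Opens) :
    Algebra Γ(X.left, U) Γ((X ⊗ T).left, VV X T U) := (iota1 X T U).hom.toAlgebra

theorem exists_basis (X : Over (Spec (CommRingCat.of R))) (C : Type u) [CommRing C] [Algebra R C]
    {G : Type*} (bas : Module.Basis G R C) (U : X.left.Opens) (hU : IsAffineOpen U) :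
    letI := algInst X (Sp C) U
    ∃ b : Module.Basis G Γ(X.left, U) Γ((X ⊗ Sp C).left, VV X (Sp C) U),
      ∀ g, b g = (iota2 X C U).hom (bas g) := by
  letI a2 := algInst X (Sp C) U
  letI a1 : Algebra R Γ(X.left, U) := (strMapC X U).hom.toAlgebra
  letI a3 : Algebra C Γ((X ⊗ Sp C).left, VV X (Sp C) U) := (iota2 X C U).hom.toAlgebra
  letI a4 : Algebra R Γ((X ⊗ Sp C).left, VV X (Sp C) U) :=
    ((iota1 X (Sp C) U).hom.comp (strMapC X U).hom).toAlgebra
  have hsq := isPushout_sections X C U hU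
  haveI t1 : IsScalarTower R Γ(X.left, U) Γ((X ⊗ Sp C).left, VV X (Sp C) U) :=
    IsScalarTower.of_algebraMap_eq' rfl
  haveI t2 : IsScalarTower R C Γ((X ⊗ Sp C).left, VV X (Sp C) U) :=
    IsScalarTower.of_algebraMap_eq' (by
      have := congrArg CommRingCat.Hom.hom hsq.w
      exact this.symm)
  have hP : Algebra.IsPushout R C Γ(X.left, U) Γ((X ⊗ Sp C).left, VV X (Sp C) U) :=
    CommRingCat.isPushout_iff_isPushout.mp hsq
  have hbc := hP.symm.out
  refine ⟨(bas.baseChange Γ(X.left, U)).map hbc.equiv, fun g => ?_⟩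
  rw [Module.Basis.map_apply, Module.Basis.baseChange_apply, IsBaseChange.equiv_tmul, one_smul]
  rfl


end Groth.Agent.Lib.Helper47.DiagRigidSch
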