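import Groth.Agent.Lib.Helper47.DiagRigidSch

set_option autoImplicit false
universe u
open CategoryTheory AlgebraicGeometry Limits MonoidalCategory CartesianMonoidalCategory MonObj

namespace Groth.Agent.Lib.Helper47.DiagRigidSch

open Groth.Agent.Lib.Helper47 Groth.Agent.Lib.Helper47.LeftTr

variable {R : Type u} [CommRing R]

section Gen

theorem appLE_comp_of_comp_eq {Y Z : Scheme.{u}} (s : Y ⟶ Z) (u : Y ⟶ Y) (hu : u ≫ s = s)
    (W : Z.Opens) (V : Y.Opens) (hW : V ≤ s ⁻¹ᵁ W) (hle : V ≤ u ⁻¹ᵁ V) :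
    s.appLE W V hW ≫ u.appLE V V hle = s.appLE W V hW := by
  rw [Scheme.Hom.appLE_comp_appLE]
  simp only [hu]

theorem appLE_comp_of_sq {Y Y' Z Z' : Scheme.{u}} (s : Y ⟶ Z) (s' : Y' ⟶ Z') (w : Y' ⟶ Y) (t : Z' ⟶ Z)
    (h : w ≫ s = s' ≫ t) (V : Y.Opens) (V' : Y'.Opens) (hle : V' ≤ w ⁻¹ᵁ V) :
    s.appLE ⊤ V (le_pre_top _ _) ≫ w.appLE V V' hle =
      t.appLE ⊤ ⊤ (le_pre_top _ _) ≫ s'.appLE ⊤ V' (le_pre_top _ _) := by
  rw [Scheme.Hom.appLE_comp_appLE, Scheme.Hom.appLE_comp_appLE]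
  simp only [h]

end Gen

theorem appLE_comm_of_comm {Y Y' : Scheme.{u}} (a : Y ⟶ Y) (a' : Y' ⟶ Y') (w : Y' ⟶ Y)
    (h : w ≫ a = a' ≫ w) (V : Y.Opens) (V' : Y'.Opens) (hw : V' ≤ w ⁻¹ᵁ V)
    (hle : V ≤ a ⁻¹ᵁ V) (hle' : V' ≤ a' ⁻¹ᵁ V') :
    a.appLE V V hle ≫ w.appLE V V' hw = w.appLE V V' hw ≫ a'.appLE V' V' hle' := by
  rw [Scheme.Hom.appLE_comp_appLE, Scheme.Hom.appLE_comp_appLE]
  simp only [h]

theorem appLE_of_eq_comp {Y : Scheme.{u}} (a b c : Y ⟶ Y) (h : c = a ≫ b) (V : Y.Opens)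
    (ha : V ≤ a ⁻¹ᵁ V) (hb : V ≤ b ⁻¹ᵁ V) (hc : V ≤ c ⁻¹ᵁ V) :
    c.appLE V V hc = b.appLE V V hb ≫ a.appLE V V ha := by
  subst h
  rw [Scheme.Hom.appLE_comp_appLE]

section Theta

variable (X : Over (Spec (CommRingCat.of R)))

theorem strMapC_tensor (T : Over (Spec (CommRingCat.of R))) (U : X.left.Opens) :
    strMapC (X ⊗ T) (VV X T U) = strMapC X U ≫ iota1 X T U := by
  unfold strMapC iota1
  rw [Category.assoc, Scheme.Hom.app_eq_appLE, Scheme.Hom.appLE_comp_appLE]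
  simp only [Over.w]

/-- an endomorphism of `X ⊗ T` over `T` fixes `ι₂` -/
theorem iota2_comp_appLE (C : Type u) [CommRing C] [Algebra R C] (U : X.left.Opens)
    (u : X ⊗ Sp C ⟶ X ⊗ Sp C) (hu : u ≫ snd X (Sp C) = snd X (Sp C))
    (hle : VV X (Sp C) U ≤ u.left ⁻¹ᵁ VV X (Sp C) U) :
    iota2 X C U ≫ u.left.appLE _ _ hle = iota2 X C U := by
  have h : u.left ≫ (snd X (Sp C)).left = (snd X (Sp C)).left := by
    rw [← Over.comp_left, hu]
  unfold iota2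
  exact (Category.assoc _ _ _).trans (congrArg (_ ≫ ·) (appLE_comp_of_comp_eq _ _ h _ _ _ hle))

variable {X}

theorem le_whisker {T T' : Over (Spec (CommRingCat.of R))} (t : T' ⟶ T) (U : X.left.Opens) :
    VV X T' U ≤ (X ◁ t).left ⁻¹ᵁ VV X T U := by
  have h : (X ◁ t).left ≫ (fst X T).left = (fst X T').left := by
    rw [← Over.comp_left, whiskerLeft_fst]
  change VV X T' U ≤ (X ◁ t).left ⁻¹ᵁ ((fst X T).left ⁻¹ᵁ U)
  rw [← Scheme.Hom.comp_preimage, h]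

/-- the comparison map `Γ(X ⊗ T, pr₁⁻¹U) → Γ(X ⊗ T', pr₁⁻¹U)` of a morphism `t : T' ⟶ T` -/
noncomputable def tauC {T T' : Over (Spec (CommRingCat.of R))} (t : T' ⟶ T) (U : X.left.Opens) :
    Γ((X ⊗ T).left, VV X T U) ⟶ Γ((X ⊗ T').left, VV X T' U) :=
  (X ◁ t).left.appLE _ _ (le_whisker t U)

theorem iota1_tauC {T T' : Over (Spec (CommRingCat.of R))} (t : T' ⟶ T) (U : X.left.Opens) :
    iota1 X T U ≫ tauC t U = iota1 X T' U := by
  have h : (X ◁ t).left ≫ (fst X T).left = (fst X T').left := by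
    rw [← Over.comp_left, whiskerLeft_fst]
  unfold iota1 tauC
  rw [Scheme.Hom.app_eq_appLE, Scheme.Hom.appLE_comp_appLE]
  simp only [h]
  rw [Scheme.Hom.app_eq_appLE]

theorem iota2_tauC {C C' : Type u} [CommRing C] [Algebra R C] [CommRing C'] [Algebra R C']
    (t : Sp (R := R) C' ⟶ Sp C) (φ : C →+* C') (ht : t.left = Spec.map (CommRingCat.ofHom φ))
    (U : X.left.Opens) :
    iota2 X C U ≫ tauC t U = CommRingCat.ofHom φ ≫ iota2 X C' U := by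
  have h : (X ◁ t).left ≫ (snd X (Sp C)).left = (snd X (Sp C')).left ≫ t.left := by
    rw [← Over.comp_left, whiskerLeft_snd, Over.comp_left]
  have h3 : ∀ (t' : Spec (CommRingCat.of C') ⟶ Spec (CommRingCat.of C)),
      t' = Spec.map (CommRingCat.ofHom φ) →
      (Scheme.ΓSpecIso (CommRingCat.of C)).inv ≫ t'.appLE ⊤ ⊤ (le_pre_top _ _) =
        CommRingCat.ofHom φ ≫ (Scheme.ΓSpecIso (CommRingCat.of C')).inv := by
    intro t' ht'
    subst ht'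
    rw [Iso.inv_comp_eq, ← Category.assoc, Iso.eq_comp_inv]
    exact Scheme.ΓSpecIso_naturality (CommRingCat.ofHom φ)
  unfold iota2 tauC
  refine (Category.assoc _ _ _).trans ?_
  refine (congrArg (_ ≫ ·) (appLE_comp_of_sq _ _ _ _ h _ _ _)).trans ?_
  refine (Category.assoc _ _ _).symm.trans ?_
  refine (congrArg (· ≫ _) (h3 t.left ht)).trans ?_
  exact Category.assoc _ _ _

variable [GrpObj X]

theorem theta_tauC {T T' : Over (Spec (CommRingCat.of R))} (t : T' ⟶ T) (g : T ⟶ X)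
    (U : X.left.Opens)
    (hle : VV X T U ≤ (Ltr g).left ⁻¹ᵁ VV X T U)
    (hle' : VV X T' U ≤ (Ltr (t ≫ g)).left ⁻¹ᵁ VV X T' U) :
    (Ltr g).left.appLE _ _ hle ≫ tauC t U = tauC t U ≫ (Ltr (t ≫ g)).left.appLE _ _ hle' := by
  have h : (X ◁ t).left ≫ (Ltr g).left = (Ltr (t ≫ g)).left ≫ (X ◁ t).left := by
    rw [← Over.comp_left, ← Over.comp_left, Ltr_naturality]
  exact appLE_comm_of_comm _ _ _ h _ _ _ hle hle'

theorem theta_mul {T : Over (Spec (CommRingCat.of R))} (g g' : T ⟶ X) (U : X.left.Opens)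
    (hle : VV X T U ≤ (Ltr g).left ⁻¹ᵁ VV X T U)
    (hle' : VV X T U ≤ (Ltr g').left ⁻¹ᵁ VV X T U)
    (hle'' : VV X T U ≤ (Ltr (g' * g)).left ⁻¹ᵁ VV X T U) :
    (Ltr (g' * g)).left.appLE _ _ hle'' =
      (Ltr g').left.appLE _ _ hle' ≫ (Ltr g).left.appLE _ _ hle := by
  have h : (Ltr (g' * g)).left = (Ltr g).left ≫ (Ltr g').left := by
    rw [← Over.comp_left, Ltr_comp]
  exact appLE_of_eq_comp _ _ _ h _ hle hle' hle''

end Theta
end Groth.Agent.Lib.Helper47.DiagRigidSch
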