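import Mathlib

/-!
# Witt vectors of a perfect ring: ideals of coefficientwise membership (helper47)
-/

namespace Groth.Agent.Lib.Helper47.WittPerf

set_option linter.unusedSectionVars false

open WittVector

variable {p : ℕ} [hp : Fact p.Prime] {k : Type*} [CommRing k] [CharP k p] [PerfectRing k p]

/-- Over a perfect ring, Witt vectors with vanishing zeroth coefficient are multiples of `p`. -/
lemma exists_eq_mul_p_of_coeff_zero (w : WittVector p k) (h : w.coeff 0 = 0) :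
    ∃ w' : WittVector p k, w = w' * p := by
  have h1 : verschiebung (w.shift 1) = w := by
    have := verschiebung_shift w 0 (fun i hi => by
      have : i = 0 := by omega
      rw [this]; exact h)
    rw [this]
    ext n
    rw [shift_coeff, zero_add]
  refine ⟨(frobeniusEquiv p k).symm (w.shift 1), ?_⟩
  rw [← verschiebung_frobenius]
  have : frobenius ((frobeniusEquiv p k).symm (w.shift 1)) = w.shift 1 :=
    (frobeniusEquiv p k).apply_symm_apply _
  rw [this, h1]

lemma sub_teichmuller_mem_span (w : WittVector p k) :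
    w - teichmuller p (w.coeff 0) ∈ Ideal.span {(p : WittVector p k)} := by
  have h0 : (w - teichmuller p (w.coeff 0)).coeff 0 = 0 := by
    have := map_sub (constantCoeff : WittVector p k →+* k) w (teichmuller p (w.coeff 0))
    simp only [constantCoeff_apply, teichmuller_coeff_zero, sub_self] at this
    exact this
  obtain ⟨w', hw'⟩ := exists_eq_mul_p_of_coeff_zero _ h0
  rw [hw']
  exact Ideal.mul_mem_left _ _ (Ideal.subset_span rfl)

/-- The ideal of Witt vectors all of whose coefficients lie in `𝔞`. -/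
noncomputable def JJ (𝔞 : Ideal k) : Ideal (WittVector p k) :=
  RingHom.ker (WittVector.map (Ideal.Quotient.mk 𝔞) : WittVector p k →+* WittVector p (k ⧸ 𝔞))

lemma mem_JJ {𝔞 : Ideal k} {w : WittVector p k} : w ∈ JJ 𝔞 ↔ ∀ i, w.coeff i ∈ 𝔞 := by
  unfold JJ
  rw [RingHom.mem_ker, WittVector.ext_iff]
  simp only [map_coeff, zero_coeff, Ideal.Quotient.eq_zero_iff_mem]

lemma teichmuller_mem_JJ {𝔞 : Ideal k} {a : k} (ha : a ∈ 𝔞) : teichmuller p a ∈ JJ 𝔞 := by
  rw [mem_JJ]
  intro i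
  rcases Nat.eq_zero_or_pos i with h | h
  · rw [h, teichmuller_coeff_zero]; exact ha
  · rw [teichmuller_coeff_pos p a i h]; exact 𝔞.zero_mem

lemma frobenius_mem_JJ {𝔞 : Ideal k} {w : WittVector p k} (hw : w ∈ JJ 𝔞) :
    frobenius w ∈ JJ 𝔞 := by
  rw [mem_JJ] at hw ⊢
  intro i
  rw [coeff_frobenius_charP]
  exact Ideal.pow_mem_of_mem _ (hw i) _ hp.out.pos

lemma frobeniusEquiv_symm_mem_JJ {𝔞 : Ideal k} (hrad : ∀ a : k, a ^ p ∈ 𝔞 → a ∈ 𝔞)
    {w : WittVector p k} (hw : w ∈ JJ 𝔞) : (frobeniusEquiv p k).symm w ∈ JJ 𝔞 := by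
  rw [mem_JJ] at hw ⊢
  intro i
  apply hrad
  rw [← coeff_frobenius_charP]
  have : frobenius ((frobeniusEquiv p k).symm w) = w := (frobeniusEquiv p k).apply_symm_apply _
  rw [this]
  exact hw i

lemma mem_JJ_of_mul_p_mem {𝔞 : Ideal k} (hrad : ∀ a : k, a ^ p ∈ 𝔞 → a ∈ 𝔞)
    {w : WittVector p k} (hw : w * p ∈ JJ 𝔞) : w ∈ JJ 𝔞 := by
  rw [mem_JJ] at hw ⊢
  intro i
  apply hrad
  rw [← mul_charP_coeff_succ]
  exact hw (i + 1)

section Prime

variable (𝔮 : Ideal (WittVector p k)) [𝔮.IsPrime] (hp𝔮 : (p : WittVector p k) ∈ 𝔮)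

/-- The ideal of `k` attached to a prime of `W(k)` containing `p`. -/
noncomputable def idealOf : Ideal k := Ideal.map (constantCoeff : WittVector p k →+* k) 𝔮

include hp𝔮 in
lemma mem_idealOf_iff (a : k) : a ∈ idealOf 𝔮 ↔ teichmuller p a ∈ 𝔮 := by
  unfold idealOf
  constructor
  · intro ha
    obtain ⟨w, hw, hwa⟩ := (Ideal.mem_map_iff_of_surjective _ (constantCoeff_surjective p)).mp ha
    have h1 := sub_teichmuller_mem_span w
    have h2 : w - teichmuller p (w.coeff 0) ∈ 𝔮 :=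
      (Ideal.span_le.mpr (Set.singleton_subset_iff.mpr hp𝔮)) h1
    have h3 : teichmuller p (w.coeff 0) ∈ 𝔮 := by
      have := 𝔮.sub_mem hw h2
      rwa [sub_sub_cancel] at this
    rw [← hwa]
    exact h3
  · intro ha
    have := Ideal.mem_map_of_mem (constantCoeff : WittVector p k →+* k) ha
    rwa [constantCoeff_apply, teichmuller_coeff_zero] at this

include hp𝔮 in
lemma idealOf_rad (a : k) (ha : a ^ p ∈ idealOf 𝔮) : a ∈ idealOf 𝔮 := by
  rw [mem_idealOf_iff 𝔮 hp𝔮] at ha ⊢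
  rw [map_pow] at ha
  exact Ideal.IsPrime.mem_of_pow_mem inferInstance _ ha

include hp𝔮 in
lemma JJ_le : JJ (idealOf 𝔮) ≤ 𝔮 := by
  intro w hw
  have h0 : teichmuller p (w.coeff 0) ∈ 𝔮 :=
    (mem_idealOf_iff 𝔮 hp𝔮 _).mp (mem_JJ.mp hw 0)
  have h2 : w - teichmuller p (w.coeff 0) ∈ 𝔮 :=
    (Ideal.span_le.mpr (Set.singleton_subset_iff.mpr hp𝔮)) (sub_teichmuller_mem_span w)
  have := 𝔮.add_mem h2 h0
  rwa [sub_add_cancel] at this

lemma le_span_sup_JJ : 𝔮 ≤ Ideal.span {(p : WittVector p k)} ⊔ JJ (idealOf 𝔮) := by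
  intro w hw
  have h1 := sub_teichmuller_mem_span w
  have h2 : teichmuller p (w.coeff 0) ∈ JJ (idealOf 𝔮) := by
    apply teichmuller_mem_JJ
    exact Ideal.mem_map_of_mem (constantCoeff : WittVector p k →+* k) hw
  have : w = (w - teichmuller p (w.coeff 0)) + teichmuller p (w.coeff 0) := by ring
  rw [this]
  exact Submodule.add_mem_sup h1 h2

include hp𝔮 in
/-- Primes of `W(k)` containing `p` are stable under the inverse Frobenius. -/
lemma frobeniusEquiv_symm_mem_of_mem {a : WittVector p k} (ha : a ∈ 𝔮) :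
    (frobeniusEquiv p k).symm a ∈ 𝔮 := by
  obtain ⟨b, hb, j, hj, rfl⟩ := Submodule.mem_sup.mp (le_span_sup_JJ 𝔮 ha)
  obtain ⟨c, rfl⟩ := Ideal.mem_span_singleton'.mp hb
  rw [map_add, map_mul, map_natCast]
  refine 𝔮.add_mem (𝔮.mul_mem_left _ hp𝔮) ?_
  exact JJ_le 𝔮 hp𝔮 (frobeniusEquiv_symm_mem_JJ (idealOf_rad 𝔮 hp𝔮) hj)

end Prime

end Groth.Agent.Lib.Helper47.WittPerf
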