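import Mathlib
import Groth.Agent.Lib.Helper47.WittPerf

/-!
# Fibrewise exactness for Dieudonné modules over a perfect ring (helper47)
-/

namespace Groth.Agent.Lib.Helper47.DieuFibre

set_option linter.unusedSectionVars false

section Proj

variable {R : Type*} [CommRing R] {M : Type*} [AddCommGroup M] [Module R M]

/-- Coefficients (w.r.t. a linear map into finitely supported functions) of elements of `J • ⊤`
lie in `J`. -/
lemma coeff_mem_of_mem_smul_top {X : Type*} (J : Ideal R) (s : M →ₗ[R] (X →₀ R)) {z : M}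
    (hz : z ∈ (J • ⊤ : Submodule R M)) (i : X) : s z i ∈ J := by
  refine Submodule.smul_induction_on hz ?_ ?_
  · intro j hj m _
    rw [map_smul, Finsupp.smul_apply, smul_eq_mul]
    exact Ideal.mul_mem_right _ _ hj
  · intro x y hx hy
    rw [map_add, Finsupp.add_apply]
    exact J.add_mem hx hy

/-- For a projective module, `c • y ∈ J M → y ∈ J M` as soon as `c` is regular modulo `J`. -/
lemma mem_smul_top_of_smul_mem [Module.Projective R M] (J : Ideal R) (c : R)
    (hc : ∀ r : R, c * r ∈ J → r ∈ J) {y : M} (hy : c • y ∈ (J • ⊤ : Submodule R M)) :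
    y ∈ (J • ⊤ : Submodule R M) := by
  obtain ⟨s, hs⟩ := Module.projective_def'.mp (inferInstance : Module.Projective R M)
  have h1 : ∀ i, s y i ∈ J := by
    intro i
    apply hc
    have := coeff_mem_of_mem_smul_top J s hy i
    rwa [map_smul, Finsupp.smul_apply, smul_eq_mul] at this
  have h2 : y = Finsupp.linearCombination R id (s y) := (LinearMap.congr_fun hs y).symm
  rw [h2, Finsupp.linearCombination_apply]
  refine Submodule.sum_mem _ (fun i _ => ?_)
  exact Submodule.smul_mem_smul (h1 i) Submodule.mem_top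

end Proj

section ProjQuot

variable {R : Type*} [CommRing R] (c : R) (n : ℕ) {M : Type*} [AddCommGroup M] [Module R M]
  [Module (R ⧸ Ideal.span {c ^ n}) M] [IsScalarTower R (R ⧸ Ideal.span {c ^ n}) M]

/-- Level-`n` version: `M` projective over `R ⧸ (c ^ n)`. -/
lemma exists_sub_mem_of_smul_mem [Module.Projective (R ⧸ Ideal.span {c ^ n}) M] (hn : 1 ≤ n)
    (J : Ideal R) (hc : ∀ r : R, c * r ∈ J → r ∈ J) {y : M}
    (hy : c • y ∈ (J • ⊤ : Submodule R M)) :
    ∃ m : M, y - c ^ (n - 1) • m ∈ (J • ⊤ : Submodule R M) := by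
  obtain ⟨s, hs⟩ := Module.projective_def'.mp
    (inferInstance : Module.Projective (R ⧸ Ideal.span {c ^ n}) M)
  set π := Ideal.Quotient.mk (Ideal.span {c ^ n}) with hπ
  -- coefficients of elements of `J • ⊤` lie in the image of `J`
  have hcoef : ∀ z : M, z ∈ (J • ⊤ : Submodule R M) → ∀ i, s z i ∈ J.map π := by
    intro z hz i
    refine Submodule.smul_induction_on hz ?_ ?_
    · intro j hj m _
      have : j • m = (π j) • m := by
        rw [← algebraMap_smul (R ⧸ Ideal.span {c ^ n}) j m]; rfl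
      rw [this, map_smul, Finsupp.smul_apply, smul_eq_mul]
      exact Ideal.mul_mem_right _ _ (Ideal.mem_map_of_mem _ hj)
    · intro x y hx hy
      rw [map_add, Finsupp.add_apply]
      exact Ideal.add_mem _ hx hy
  -- decompose the coefficients
  have hdec : ∀ i, ∃ a : R, ∃ j ∈ J, s y i = π (c ^ (n - 1) * a + j) := by
    intro i
    obtain ⟨w, hw⟩ := Ideal.Quotient.mk_surjective (s y i)
    have h1 : π (c * w) ∈ J.map π := by
      have := hcoef _ hy i
      have h2 : c • y = (π c) • y := by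
        rw [← algebraMap_smul (R ⧸ Ideal.span {c ^ n}) c y]; rfl
      rw [h2, map_smul, Finsupp.smul_apply, smul_eq_mul, ← hw, ← map_mul] at this
      exact this
    obtain ⟨j, hj, hjw⟩ := (Ideal.mem_map_iff_of_surjective π Ideal.Quotient.mk_surjective).mp h1
    have h3 : c * w - j ∈ Ideal.span {c ^ n} := by
      rw [← Ideal.Quotient.eq_zero_iff_mem, map_sub, hjw, sub_self]
    obtain ⟨a, ha⟩ := Ideal.mem_span_singleton'.mp h3
    have h4 : c * (w - c ^ (n - 1) * a) ∈ J := by
      have : c * (w - c ^ (n - 1) * a) = j := by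
        have hpow : c * c ^ (n - 1) = c ^ n := by
          rw [← pow_succ', Nat.sub_add_cancel hn]
        calc c * (w - c ^ (n - 1) * a) = c * w - (c * c ^ (n - 1)) * a := by ring
          _ = c * w - a * c ^ n := by rw [hpow]; ring
          _ = j := by rw [ha]; ring
      rw [this]; exact hj
    refine ⟨a, w - c ^ (n - 1) * a, hc _ h4, ?_⟩
    rw [← hw]
    congr 1
    ring
  choose a j hj hsy using hdec
  have h2 : y = Finsupp.linearCombination (R ⧸ Ideal.span {c ^ n}) id (s y) :=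
    (LinearMap.congr_fun hs y).symm
  generalize s y = t at hsy h2
  refine ⟨t.sum (fun i _ => a i • i), ?_⟩
  have h3 : y - c ^ (n - 1) • t.sum (fun i _ => a i • i) = t.sum (fun i _ => j i • i) := by
    rw [h2, Finsupp.linearCombination_apply, Finsupp.sum, Finsupp.sum, Finsupp.sum,
      Finset.smul_sum, ← Finset.sum_sub_distrib]
    refine Finset.sum_congr rfl (fun i _ => ?_)
    rw [hsy i, id]
    have : (π (c ^ (n - 1) * a i + j i)) • i = (c ^ (n - 1) * a i + j i) • i := by
      rw [← algebraMap_smul (R ⧸ Ideal.span {c ^ n}) (c ^ (n - 1) * a i + j i) i]; rfl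
    rw [this, add_smul, mul_smul, add_sub_cancel_left]
  rw [h3, Finsupp.sum]
  refine Submodule.sum_mem _ (fun i _ => ?_)
  exact Submodule.smul_mem_smul (hj i) Submodule.mem_top

end ProjQuot

open WittVector

section Fibre

variable {p : ℕ} [hp : Fact p.Prime] {k : Type*} [CommRing k] [CharP k p] [PerfectRing k p]
  {M : Type*} [AddCommGroup M] [Module (WittVector p k) M]
  (F : M →ₛₗ[(WittVector.frobenius : WittVector p k →+* WittVector p k)] M)
  (V : M →ₛₗ[((WittVector.frobeniusEquiv p k).symm : WittVector p k →+* WittVector p k)] M)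

lemma F_mem_smul_top (J : Ideal (WittVector p k)) (hJF : ∀ w ∈ J, frobenius w ∈ J) {z : M}
    (hz : z ∈ (J • ⊤ : Submodule (WittVector p k) M)) :
    F z ∈ (J • ⊤ : Submodule (WittVector p k) M) := by
  refine Submodule.smul_induction_on hz ?_ ?_
  · intro j hj m _
    rw [map_smulₛₗ]
    exact Submodule.smul_mem_smul (hJF j hj) Submodule.mem_top
  · intro x y hx hy
    rw [map_add]
    exact Submodule.add_mem _ hx hy

include V in
lemma fibre_exact_V (hFV : ∀ m, F (V m) = (p : WittVector p k) • m)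
    (hVF : ∀ m, V (F m) = (p : WittVector p k) • m)
    (J : Ideal (WittVector p k)) (hJF : ∀ w ∈ J, frobenius w ∈ J)
    (hJp : ∀ y : M, (p : WittVector p k) • y ∈ (J • ⊤ : Submodule (WittVector p k) M) →
      ∃ m, y - F m ∈ (J • ⊤ : Submodule (WittVector p k) M))
    (𝔮 : Ideal (WittVector p k)) (h𝔮 : 𝔮 ≤ Ideal.span {(p : WittVector p k)} ⊔ J) (hJ𝔮 : J ≤ 𝔮)
    (x : M) (hx : V x ∈ (𝔮 • ⊤ : Submodule (WittVector p k) M)) :
    ∃ m, x - F m ∈ (𝔮 • ⊤ : Submodule (WittVector p k) M) := by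
  have h1 : V x ∈ ((Ideal.span {(p : WittVector p k)} ⊔ J) • ⊤ :
      Submodule (WittVector p k) M) := Submodule.smul_mono h𝔮 le_rfl hx
  rw [Submodule.sup_smul] at h1
  obtain ⟨a, ha, b, hb, hab⟩ := Submodule.mem_sup.mp h1
  rw [Submodule.ideal_span_singleton_smul] at ha
  obtain ⟨m₁, -, hm₁⟩ := (Submodule.mem_smul_pointwise_iff_exists _ _ _).mp ha
  have h2 : V (x - F m₁) = b := by
    rw [map_sub, hVF, hm₁, ← hab, add_sub_cancel_left]
  have h3 : (p : WittVector p k) • (x - F m₁) ∈ (J • ⊤ : Submodule (WittVector p k) M) := by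
    rw [← hFV, h2]
    exact F_mem_smul_top F J hJF hb
  obtain ⟨m₂, hm₂⟩ := hJp _ h3
  refine ⟨m₁ + m₂, ?_⟩
  have : x - F (m₁ + m₂) = x - F m₁ - F m₂ := by rw [map_add]; abel
  rw [this]
  exact Submodule.smul_mono hJ𝔮 le_rfl hm₂

end Fibre


section Special

open Groth.Agent.Lib.Helper47.WittPerf

variable {p : ℕ} [hp : Fact p.Prime] {k : Type*} [CommRing k] [CharP k p] [PerfectRing k p]
  {M : Type*} [AddCommGroup M] [Module (WittVector p k) M]
  (F : M →ₛₗ[(WittVector.frobenius : WittVector p k →+* WittVector p k)] M)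
  (V : M →ₛₗ[((WittVector.frobeniusEquiv p k).symm : WittVector p k →+* WittVector p k)] M)

include V in
/-- Fibrewise exactness for a projective Dieudonné module. -/
lemma fibre_exact_V_of_projective [Module.Projective (WittVector p k) M]
    (hFV : ∀ m, F (V m) = (p : WittVector p k) • m)
    (hVF : ∀ m, V (F m) = (p : WittVector p k) • m)
    (𝔮 : Ideal (WittVector p k)) [𝔮.IsPrime] (hp𝔮 : (p : WittVector p k) ∈ 𝔮)
    (x : M) (hx : V x ∈ (𝔮 • ⊤ : Submodule (WittVector p k) M)) :
    ∃ m, x - F m ∈ (𝔮 • ⊤ : Submodule (WittVector p k) M) := by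
  refine fibre_exact_V F V hFV hVF (JJ (idealOf 𝔮)) (fun w hw => frobenius_mem_JJ hw) ?_ 𝔮
    (le_span_sup_JJ 𝔮) (JJ_le 𝔮 hp𝔮) x hx
  intro y hy
  refine ⟨0, ?_⟩
  rw [map_zero, sub_zero]
  refine mem_smul_top_of_smul_mem (JJ (idealOf 𝔮)) (p : WittVector p k) ?_ hy
  intro r hr
  rw [mul_comm] at hr
  exact mem_JJ_of_mul_p_mem (idealOf_rad 𝔮 hp𝔮) hr

include V in
/-- Fibrewise exactness for a truncated Dieudonné module of level `n ≥ 2`. -/
lemma fibre_exact_V_of_projective_quot (n : ℕ) (hn : 2 ≤ n)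
    [Module (WittVector p k ⧸ Ideal.span {(p : WittVector p k) ^ n}) M]
    [IsScalarTower (WittVector p k) (WittVector p k ⧸ Ideal.span {(p : WittVector p k) ^ n}) M]
    [Module.Projective (WittVector p k ⧸ Ideal.span {(p : WittVector p k) ^ n}) M]
    (hFV : ∀ m, F (V m) = (p : WittVector p k) • m)
    (hVF : ∀ m, V (F m) = (p : WittVector p k) • m)
    (𝔮 : Ideal (WittVector p k)) [𝔮.IsPrime] (hp𝔮 : (p : WittVector p k) ∈ 𝔮)
    (x : M) (hx : V x ∈ (𝔮 • ⊤ : Submodule (WittVector p k) M)) :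
    ∃ m, x - F m ∈ (𝔮 • ⊤ : Submodule (WittVector p k) M) := by
  refine fibre_exact_V F V hFV hVF (JJ (idealOf 𝔮)) (fun w hw => frobenius_mem_JJ hw) ?_ 𝔮
    (le_span_sup_JJ 𝔮) (JJ_le 𝔮 hp𝔮) x hx
  intro y hy
  have hc : ∀ r : WittVector p k, (p : WittVector p k) * r ∈ JJ (idealOf 𝔮) →
      r ∈ JJ (idealOf 𝔮) := by
    intro r hr
    rw [mul_comm] at hr
    exact mem_JJ_of_mul_p_mem (idealOf_rad 𝔮 hp𝔮) hr
  obtain ⟨m, hm⟩ := exists_sub_mem_of_smul_mem (p : WittVector p k) n (by omega)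
    (JJ (idealOf 𝔮)) hc hy
  refine ⟨V ((p : WittVector p k) ^ (n - 2) • m), ?_⟩
  rw [hFV, smul_smul, ← pow_succ']
  have : n - 2 + 1 = n - 1 := by omega
  rw [this]
  exact hm

end Special

end Groth.Agent.Lib.Helper47.DieuFibre
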