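import Mathlib

/-!
# A fibrewise criterion for projectivity of a cokernel (helper47)

`projective_quotient_range`: for `u : N' → N`, `w : N → N'` with `u ∘ w = 0`, `N` finite projective,
`N'` finite, if for every maximal ideal `I`, `u x ∈ I N → x ∈ range w + I N'`, then `N ⧸ range u`
is projective.
-/

namespace Groth.Agent.Lib.Helper47.LocProj

set_option linter.unusedSimpArgs false

open scoped TensorProduct

section Local

variable {A : Type*} [CommRing A] [IsLocalRing A] {X : Type*} [AddCommGroup X] [Module A X]

/-- `1 ⊗ x = 0` in `κ ⊗ X` iff `x ∈ 𝔪 X`. -/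
lemma one_tmul_eq_zero_iff (x : X) :
    (1 : IsLocalRing.ResidueField A) ⊗ₜ[A] x = 0 ↔
      x ∈ (IsLocalRing.maximalIdeal A) • (⊤ : Submodule A X) := by
  have h := TensorProduct.quotTensorEquivQuotSMul_mk_one_tmul (M := X)
    (IsLocalRing.maximalIdeal A) x
  constructor
  · intro h0
    have h1 : (1 : A ⧸ IsLocalRing.maximalIdeal A) ⊗ₜ[A] x = 0 := h0
    rw [h1, map_zero] at h
    exact (Submodule.Quotient.mk_eq_zero _).mp h.symm
  · intro hx
    have h1 : (Submodule.Quotient.mk x : X ⧸ (IsLocalRing.maximalIdeal A) • (⊤ : Submodule A X))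
        = 0 := (Submodule.Quotient.mk_eq_zero _).mpr hx
    rw [h1] at h
    exact (TensorProduct.quotTensorEquivQuotSMul X (IsLocalRing.maximalIdeal A)).injective
      (h.trans (map_zero _).symm)

end Local

section Loc

variable {R : Type*} [CommRing R] (I : Ideal R) [I.IsPrime]
  {X : Type*} [AddCommGroup X] [Module R X]

lemma mk_mem_maximalIdeal_iff (r : R) (s : I.primeCompl) :
    (Localization.mk r s : Localization.AtPrime I) ∈
      IsLocalRing.maximalIdeal (Localization.AtPrime I) ↔ r ∈ I := by
  rw [Localization.mk_eq_mk']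
  exact IsLocalization.AtPrime.mk'_mem_maximal_iff (Localization.AtPrime I) I r s

/-- Elements of `𝔪 • ⊤` in a localized module have numerators in `I • ⊤`. -/
lemma exists_mk_of_mem_maximalIdeal_smul_top (y : LocalizedModule I.primeCompl X)
    (hy : y ∈ (IsLocalRing.maximalIdeal (Localization.AtPrime I)) •
      (⊤ : Submodule (Localization.AtPrime I) (LocalizedModule I.primeCompl X))) :
    ∃ n ∈ (I • ⊤ : Submodule R X), ∃ s : I.primeCompl, y = LocalizedModule.mk n s := by
  refine Submodule.smul_induction_on hy ?_ ?_
  · intro a ha x _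
    induction a using Localization.induction_on with
    | H rs =>
      obtain ⟨r, s⟩ := rs
      induction x using LocalizedModule.induction_on with
      | h m t =>
        have hr : r ∈ I := (mk_mem_maximalIdeal_iff I r s).mp ha
        refine ⟨r • m, Submodule.smul_mem_smul hr Submodule.mem_top, s * t, ?_⟩
        rw [LocalizedModule.mk_smul_mk]
  · rintro x y ⟨n, hn, s, rfl⟩ ⟨n', hn', s', rfl⟩
    refine ⟨s' • n + s • n', ?_, s * s', ?_⟩
    · exact Submodule.add_mem _ (Submodule.smul_mem _ _ hn) (Submodule.smul_mem _ _ hn')
    · rw [LocalizedModule.mk_add_mk]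

lemma mk_mem_maximalIdeal_smul_top {n : X} (hn : n ∈ (I • ⊤ : Submodule R X))
    (s : I.primeCompl) :
    LocalizedModule.mk n s ∈ (IsLocalRing.maximalIdeal (Localization.AtPrime I)) •
      (⊤ : Submodule (Localization.AtPrime I) (LocalizedModule I.primeCompl X)) := by
  refine Submodule.smul_induction_on hn ?_ ?_
  · intro a ha x _
    have : LocalizedModule.mk (a • x) s =
        (Localization.mk a s : Localization.AtPrime I) •
          (LocalizedModule.mk x (1 : I.primeCompl)) := by
      rw [LocalizedModule.mk_smul_mk, mul_one]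
    rw [this]
    refine Submodule.smul_mem_smul ?_ Submodule.mem_top
    exact (mk_mem_maximalIdeal_iff I a s).mpr ha
  · intro x y hx hy
    have : LocalizedModule.mk (x + y) s = LocalizedModule.mk x s + LocalizedModule.mk y s := by
      rw [LocalizedModule.mk_add_mk, LocalizedModule.mk_eq]
      refine ⟨1, ?_⟩
      simp only [one_smul, smul_add, Submonoid.smul_def, Submonoid.coe_mul, mul_smul]
    rw [this]
    exact Submodule.add_mem _ hx hy

end Loc

section Main

variable {R : Type*} [CommRing R] {N' N : Type*} [AddCommGroup N'] [Module R N']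
  [AddCommGroup N] [Module R N]

/-- The local injectivity statement. -/
lemma lTensor_injective (I : Ideal R) [I.IsPrime] {Q' : Type*} [AddCommGroup Q'] [Module R Q']
    (f : Q' →ₗ[R] N)
    (hyp : ∀ q : Q', f q ∈ (I • ⊤ : Submodule R N) → q ∈ (I • ⊤ : Submodule R Q')) :
    Function.Injective ((LocalizedModule.map I.primeCompl f).lTensor
      (IsLocalRing.ResidueField (Localization.AtPrime I))) := by
  rw [injective_iff_map_eq_zero]
  intro z hz
  obtain ⟨y, rfl⟩ := TensorProduct.mk_surjective (Localization.AtPrime I)
    (LocalizedModule I.primeCompl Q') (IsLocalRing.ResidueField (Localization.AtPrime I))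
    Ideal.Quotient.mk_surjective z
  rw [TensorProduct.mk_apply, LinearMap.lTensor_tmul, one_tmul_eq_zero_iff] at hz
  rw [TensorProduct.mk_apply, one_tmul_eq_zero_iff]
  induction y using LocalizedModule.induction_on with
  | h q s =>
    rw [LocalizedModule.map_mk] at hz
    obtain ⟨n, hn, s', hs'⟩ := exists_mk_of_mem_maximalIdeal_smul_top I _ hz
    obtain ⟨u, hu⟩ := LocalizedModule.mk_eq.mp hs'
    simp only [Submonoid.smul_def] at hu
    have h1 : f (((u : R) * (s' : R)) • q) ∈ (I • ⊤ : Submodule R N) := by
      rw [map_smul, mul_smul, hu]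
      exact Submodule.smul_mem _ _ (Submodule.smul_mem _ _ hn)
    have h2 := hyp _ h1
    have h3 : LocalizedModule.mk q s =
        LocalizedModule.mk (((u : R) * (s' : R)) • q) (u * s' * s) := by
      have := LocalizedModule.mk_cancel_common_left (u * s') s q
      rw [← this]
      rfl
    rw [h3]
    exact mk_mem_maximalIdeal_smul_top I h2 _

/-- Fibrewise criterion for projectivity of a cokernel: general form. -/
theorem projective_quotient_range' [Module.Finite R N] [Module.Projective R N]
    {Q' : Type*} [AddCommGroup Q'] [Module R Q'] [Module.Finite R Q'] (f : Q' →ₗ[R] N)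
    (hyp : ∀ (I : Ideal R), I.IsMaximal → ∀ q : Q',
      f q ∈ (I • ⊤ : Submodule R N) → q ∈ (I • ⊤ : Submodule R Q')) :
    Module.Projective R (N ⧸ LinearMap.range f) := by
  let g : N →ₗ[R] (N ⧸ LinearMap.range f) := (LinearMap.range f).mkQ
  have hex : Function.Exact f g := by
    intro n
    rw [Submodule.mkQ_apply, Submodule.Quotient.mk_eq_zero]
    rfl
  have hsurj : Function.Surjective g := Submodule.mkQ_surjective _
  have hfpN : Module.FinitePresentation R N := Module.finitePresentation_of_projective R N
  have : Module.FinitePresentation R (N ⧸ LinearMap.range f) :=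
    Module.finitePresentation_of_surjective g hsurj (by
      rw [Submodule.ker_mkQ, LinearMap.range_eq_map]
      exact (Module.Finite.fg_top).map f)
  apply Module.projective_of_localization_maximal
  intro I hI
  have : Module.Free (Localization.AtPrime I) (LocalizedModule I.primeCompl N) :=
    Module.free_of_flat_of_isLocalRing
  have : Module.Free (Localization.AtPrime I)
      (LocalizedModule I.primeCompl (N ⧸ LinearMap.range f)) :=
    Module.free_of_lTensor_residueField_injective
      (LocalizedModule.map I.primeCompl f) (LocalizedModule.map I.primeCompl g)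
      (LocalizedModule.map_surjective _ _ hsurj)
      (LocalizedModule.map_exact _ _ _ hex)
      (lTensor_injective I f (hyp I hI))
  infer_instance

/-- Fibrewise criterion for projectivity of a quotient by a finitely generated submodule. -/
theorem projective_quotient_of_fibre [Module.Finite R N] [Module.Projective R N]
    (U : Submodule R N) (hU : U.FG)
    (hyp : ∀ (I : Ideal R), I.IsMaximal → ∀ u : U,
      (u : N) ∈ (I • ⊤ : Submodule R N) → u ∈ (I • ⊤ : Submodule R U)) :
    Module.Projective R (N ⧸ U) := by
  have : Module.Finite R U := Module.Finite.iff_fg.mpr hU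
  have h1 := projective_quotient_range' U.subtype hyp
  exact Module.Projective.of_equiv (Submodule.quotEquivOfEq _ _ (Submodule.range_subtype U))

/-- Fibrewise criterion for projectivity of a cokernel. -/
theorem projective_quotient_range [Module.Finite R N] [Module.Projective R N] [Module.Finite R N']
    (u : N' →ₗ[R] N) (w : N →ₗ[R] N') (h0 : u ∘ₗ w = 0)
    (hyp : ∀ (I : Ideal R), I.IsMaximal → ∀ x : N', u x ∈ (I • ⊤ : Submodule R N) →
      x ∈ LinearMap.range w ⊔ (I • ⊤ : Submodule R N')) :
    Module.Projective R (N ⧸ LinearMap.range u) := by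
  have hle : LinearMap.range w ≤ LinearMap.ker u := by
    rintro _ ⟨n, rfl⟩
    exact LinearMap.congr_fun h0 n
  let f : (N' ⧸ LinearMap.range w) →ₗ[R] N := (LinearMap.range w).liftQ u hle
  have hrange : LinearMap.range f = LinearMap.range u := Submodule.range_liftQ _ _ _
  have hyp' : ∀ (I : Ideal R), I.IsMaximal → ∀ q : N' ⧸ LinearMap.range w,
      f q ∈ (I • ⊤ : Submodule R N) → q ∈ (I • ⊤ : Submodule R (N' ⧸ LinearMap.range w)) := by
    intro I hI q hq
    obtain ⟨x, rfl⟩ := Submodule.Quotient.mk_surjective _ q
    have hx : u x ∈ (I • ⊤ : Submodule R N) := hq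
    have h1 := hyp I hI x hx
    obtain ⟨a, ha, b, hb, rfl⟩ := Submodule.mem_sup.mp h1
    rw [Submodule.Quotient.mk_add, (Submodule.Quotient.mk_eq_zero _).mpr ha, zero_add]
    have : (I • ⊤ : Submodule R N').map (LinearMap.range w).mkQ ≤
        (I • ⊤ : Submodule R (N' ⧸ LinearMap.range w)) := by
      rw [Submodule.map_smul'']
      exact Submodule.smul_mono le_rfl le_top
    exact this ⟨b, hb, rfl⟩
  have h1 := projective_quotient_range' f hyp'
  exact Module.Projective.of_equiv (Submodule.quotEquivOfEq _ _ hrange)

end Main

end Groth.Agent.Lib.Helper47.LocProj
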