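import Mathlib
import Groth.Agent.Lib.Helper47.LocProj
import Groth.Agent.Lib.Helper47.DieuFibre

/-!
# `M / VM` is projective for Dieudonné modules over a perfect ring (helper47)
-/

namespace Groth.Agent.Lib.Helper47.DieuProj

set_option linter.unusedSectionVars false

open WittVector Groth.Agent.Lib.Helper47.WittPerf

variable {p : ℕ} [hp : Fact p.Prime] {k : Type*} [CommRing k] [CharP k p] [PerfectRing k p]
  {M : Type*} [AddCommGroup M] [Module (WittVector p k) M]
  (F : M →ₛₗ[(WittVector.frobenius : WittVector p k →+* WittVector p k)] M)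
  (V : M →ₛₗ[((WittVector.frobeniusEquiv p k).symm : WittVector p k →+* WittVector p k)] M)

/-- The submodule `pM`. -/
noncomputable abbrev pM (p : ℕ) [Fact p.Prime] (k : Type*) [CommRing k] (M : Type*) [AddCommGroup M]
    [Module (WittVector p k) M] : Submodule (WittVector p k) M :=
  Ideal.span {(p : WittVector p k)} • (⊤ : Submodule (WittVector p k) M)

/-- The image of `V` in `M / pM`, as a submodule over `W / p`. -/
noncomputable abbrev UU : Submodule (WittVector p k ⧸ Ideal.span {(p : WittVector p k)}) (M ⧸ pM p k M) :=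
  Submodule.span (WittVector p k ⧸ Ideal.span {(p : WittVector p k)})
    (Set.range fun m : M => (pM p k M).mkQ (V m))

lemma V_mem_pM {z : M} (hz : z ∈ pM p k M) : V z ∈ pM p k M := by
  refine Submodule.smul_induction_on hz ?_ ?_
  · intro a ha m _
    rw [map_smulₛₗ]
    refine Submodule.smul_mem_smul ?_ Submodule.mem_top
    obtain ⟨c, rfl⟩ := Ideal.mem_span_singleton'.mp ha
    rw [RingHom.coe_coe, map_mul, map_natCast]
    exact Ideal.mul_mem_left _ _ (Ideal.subset_span rfl)
  · intro x y hx hy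
    rw [map_add]
    exact Submodule.add_mem _ hx hy

lemma mkQ_V_congr {m m' : M} (h : (pM p k M).mkQ m = (pM p k M).mkQ m') :
    (pM p k M).mkQ (V m) = (pM p k M).mkQ (V m') := by
  rw [Submodule.mkQ_apply, Submodule.mkQ_apply, Submodule.Quotient.eq] at h ⊢
  rw [← map_sub]
  exact V_mem_pM V h

lemma mk_smul_mkQ_V (w : WittVector p k) (m : M) :
    (Ideal.Quotient.mk (Ideal.span {(p : WittVector p k)}) w) • (pM p k M).mkQ (V m) =
      (pM p k M).mkQ (V (frobenius w • m)) := by
  rw [map_smulₛₗ]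
  have : ((frobeniusEquiv p k).symm : WittVector p k →+* WittVector p k) (frobenius w) = w :=
    (frobeniusEquiv p k).symm_apply_apply w
  rw [this]
  rfl

lemma mk_symm_smul_mkQ_V (w : WittVector p k) (m : M) :
    (Ideal.Quotient.mk (Ideal.span {(p : WittVector p k)}) ((frobeniusEquiv p k).symm w)) •
      (pM p k M).mkQ (V m) = (pM p k M).mkQ (V (w • m)) := by
  rw [map_smulₛₗ]
  rfl

lemma mem_UU {u : M ⧸ pM p k M} : u ∈ UU V ↔ ∃ m, (pM p k M).mkQ (V m) = u := by
  constructor
  · intro hu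
    refine Submodule.span_induction ?_ ?_ ?_ ?_ hu
    · rintro _ ⟨m, rfl⟩
      exact ⟨m, rfl⟩
    · exact ⟨0, by simp⟩
    · rintro x y _ _ ⟨m, rfl⟩ ⟨m', rfl⟩
      exact ⟨m + m', by simp⟩
    · rintro c x _ ⟨m, rfl⟩
      obtain ⟨w, rfl⟩ := Ideal.Quotient.mk_surjective c
      exact ⟨frobenius w • m, (mk_smul_mkQ_V V w m).symm⟩
  · rintro ⟨m, rfl⟩
    exact Submodule.subset_span ⟨m, rfl⟩

/-- The map `M → UU V`. -/
noncomputable def toU (m : M) : UU V := ⟨(pM p k M).mkQ (V m), Submodule.subset_span ⟨m, rfl⟩⟩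

lemma toU_add (m m' : M) : toU V (m + m') = toU V m + toU V m' := by
  apply Subtype.ext
  simp [toU]

lemma toU_smul (w : WittVector p k) (m : M) :
    toU V (w • m) =
      (Ideal.Quotient.mk (Ideal.span {(p : WittVector p k)}) ((frobeniusEquiv p k).symm w)) •
        toU V m := by
  apply Subtype.ext
  exact (mk_symm_smul_mkQ_V V w m).symm

lemma UU_fg [Module.Finite (WittVector p k ⧸ Ideal.span {(p : WittVector p k)}) (M ⧸ pM p k M)] :
    (UU V).FG := by
  classical
  obtain ⟨S, hS⟩ := (Module.finite_def.mp (inferInstance :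
    Module.Finite (WittVector p k ⧸ Ideal.span {(p : WittVector p k)}) (M ⧸ pM p k M)))
  choose lift hlift using (Submodule.mkQ_surjective (pM p k M))
  refine ⟨S.image (fun n => (pM p k M).mkQ (V (lift n))), ?_⟩
  apply le_antisymm
  · rw [Submodule.span_le]
    intro x hx
    rw [Finset.coe_image] at hx
    obtain ⟨n, -, rfl⟩ := hx
    exact Submodule.subset_span ⟨lift n, rfl⟩
  · rw [Submodule.span_le]
    rintro _ ⟨m, rfl⟩
    have key : ∀ y ∈ Submodule.span (WittVector p k ⧸ Ideal.span {(p : WittVector p k)})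
        (S : Set (M ⧸ pM p k M)), ∀ m : M, (pM p k M).mkQ m = y →
        (pM p k M).mkQ (V m) ∈ Submodule.span
          (WittVector p k ⧸ Ideal.span {(p : WittVector p k)})
          ((S.image (fun n => (pM p k M).mkQ (V (lift n))) : Finset _) : Set (M ⧸ pM p k M)) := by
      intro y hy
      refine Submodule.span_induction ?_ ?_ ?_ ?_ hy
      · intro n hn m hm
        rw [mkQ_V_congr V (hm.trans (hlift n).symm)]
        apply Submodule.subset_span
        rw [Finset.coe_image]
        exact ⟨n, hn, rfl⟩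
      · intro m hm
        rw [mkQ_V_congr V (hm.trans (map_zero _).symm), map_zero, map_zero]
        exact Submodule.zero_mem _
      · intro y₁ y₂ _ _ h₁ h₂ m hm
        have e : (pM p k M).mkQ m = (pM p k M).mkQ (lift y₁ + lift y₂) := by
          rw [map_add, hlift, hlift, hm]
        rw [mkQ_V_congr V e, map_add, map_add]
        exact Submodule.add_mem _ (h₁ _ (hlift y₁)) (h₂ _ (hlift y₂))
      · intro c y₁ _ h₁ m hm
        obtain ⟨w, rfl⟩ := Ideal.Quotient.mk_surjective c
        have e : (pM p k M).mkQ m = (pM p k M).mkQ (w • lift y₁) := by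
          rw [hm, map_smul, hlift]
          rfl
        rw [mkQ_V_congr V e, ← mk_symm_smul_mkQ_V]
        exact Submodule.smul_mem _ _ (h₁ _ (hlift y₁))
    exact key _ (hS ▸ Submodule.mem_top) m rfl

/-- Elements of `I N` lift to elements of `𝔮 M`. -/
lemma exists_of_mem_smul_top (I : Ideal (WittVector p k ⧸ Ideal.span {(p : WittVector p k)}))
    {y : M ⧸ pM p k M}
    (hy : y ∈ (I • ⊤ : Submodule (WittVector p k ⧸ Ideal.span {(p : WittVector p k)})
      (M ⧸ pM p k M))) :
    ∃ z ∈ ((I.comap (Ideal.Quotient.mk (Ideal.span {(p : WittVector p k)}))) • ⊤ :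
      Submodule (WittVector p k) M), (pM p k M).mkQ z = y := by
  refine Submodule.smul_induction_on hy ?_ ?_
  · intro c hc n _
    obtain ⟨a, rfl⟩ := Ideal.Quotient.mk_surjective c
    obtain ⟨m, rfl⟩ := Submodule.mkQ_surjective _ n
    exact ⟨a • m, Submodule.smul_mem_smul (Ideal.mem_comap.mpr hc) Submodule.mem_top, rfl⟩
  · rintro x y ⟨z, hz, rfl⟩ ⟨z', hz', rfl⟩
    exact ⟨z + z', Submodule.add_mem _ hz hz', map_add _ _ _⟩

lemma mem_of_mkQ_mem_smul_top (I : Ideal (WittVector p k ⧸ Ideal.span {(p : WittVector p k)}))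
    {m : M}
    (hm : (pM p k M).mkQ m ∈ (I • ⊤ : Submodule
      (WittVector p k ⧸ Ideal.span {(p : WittVector p k)}) (M ⧸ pM p k M))) :
    m ∈ ((I.comap (Ideal.Quotient.mk (Ideal.span {(p : WittVector p k)}))) • ⊤ :
      Submodule (WittVector p k) M) := by
  obtain ⟨z, hz, hzm⟩ := exists_of_mem_smul_top I hm
  rw [Submodule.mkQ_apply, Submodule.mkQ_apply, Submodule.Quotient.eq] at hzm
  have hle : pM p k M ≤ ((I.comap (Ideal.Quotient.mk (Ideal.span {(p : WittVector p k)}))) • ⊤ :
      Submodule (WittVector p k) M) := by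
    refine Submodule.smul_mono ?_ le_rfl
    rw [Ideal.span_le, Set.singleton_subset_iff]
    show _ ∈ I
    rw [Ideal.Quotient.eq_zero_iff_mem.mpr (Ideal.subset_span (Set.mem_singleton _))]
    exact I.zero_mem
  have := Submodule.sub_mem _ hz (hle hzm)
  rwa [sub_sub_cancel] at this

include F in
/-- **Main theorem**: `M/VM` is projective over `W/p` as soon as `M/pM` is finite projective and
fibrewise exactness holds. -/
theorem projective_quot
    [Module.Finite (WittVector p k ⧸ Ideal.span {(p : WittVector p k)}) (M ⧸ pM p k M)]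
    [Module.Projective (WittVector p k ⧸ Ideal.span {(p : WittVector p k)}) (M ⧸ pM p k M)]
    (hVF : ∀ m, V (F m) = (p : WittVector p k) • m)
    (hfib : ∀ (𝔮 : Ideal (WittVector p k)), 𝔮.IsPrime → (p : WittVector p k) ∈ 𝔮 → ∀ x : M,
      V x ∈ (𝔮 • ⊤ : Submodule (WittVector p k) M) →
      ∃ m, x - F m ∈ (𝔮 • ⊤ : Submodule (WittVector p k) M)) :
    Module.Projective (WittVector p k ⧸ Ideal.span {(p : WittVector p k)})
      ((M ⧸ pM p k M) ⧸ UU V) := by
  refine LocProj.projective_quotient_of_fibre (UU V) (UU_fg V) ?_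
  intro I hI u hu
  set 𝔮 := I.comap (Ideal.Quotient.mk (Ideal.span {(p : WittVector p k)})) with h𝔮
  have h𝔮prime : 𝔮.IsPrime := Ideal.comap_isPrime _ I
  have hp𝔮 : (p : WittVector p k) ∈ 𝔮 := by
    show _ ∈ I
    rw [Ideal.Quotient.eq_zero_iff_mem.mpr (Ideal.subset_span (Set.mem_singleton _))]
    exact I.zero_mem
  obtain ⟨x, hx⟩ := (mem_UU V).mp u.2
  have h1 : V x ∈ (𝔮 • ⊤ : Submodule (WittVector p k) M) :=
    mem_of_mkQ_mem_smul_top I (hx ▸ hu)
  obtain ⟨m, hm⟩ := hfib 𝔮 h𝔮prime hp𝔮 x h1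
  -- `u = toU (x - F m)`
  have h2 : u = toU V (x - F m) := by
    apply Subtype.ext
    rw [← hx]
    show (pM p k M).mkQ (V x) = (pM p k M).mkQ (V (x - F m))
    rw [map_sub, hVF, map_sub]
    have : (pM p k M).mkQ ((p : WittVector p k) • m) = 0 := by
      rw [Submodule.mkQ_apply, Submodule.Quotient.mk_eq_zero]
      exact Submodule.smul_mem_smul (Ideal.subset_span (Set.mem_singleton _)) Submodule.mem_top
    rw [this, sub_zero]
  rw [h2]
  -- `toU` maps `𝔮 M` into `I • ⊤`
  refine Submodule.smul_induction_on hm ?_ ?_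
  · intro a ha m' _
    rw [toU_smul]
    refine Submodule.smul_mem_smul ?_ Submodule.mem_top
    have := frobeniusEquiv_symm_mem_of_mem 𝔮 hp𝔮 ha
    exact this
  · intro z z' hz hz'
    rw [toU_add]
    exact Submodule.add_mem _ hz hz'

end Groth.Agent.Lib.Helper47.DieuProj
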