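import Mathlib

namespace Groth.Agent.Lib.Helper47.QuotProj

section

variable {R : Type*} [CommRing R] (I : Ideal R) {A : Type*} [CommRing A] [Algebra R A]
  {M : Type*} [AddCommGroup M] [Module R M] [Module A M] [IsScalarTower R A M]
  (φ : A →ₐ[R] R ⧸ I) (hsurj : Function.Surjective (algebraMap R A))

include hsurj in
lemma phi_smul_mkQ (a : A) (x : M) :
    φ a • (I • (⊤ : Submodule R M)).mkQ x = (I • (⊤ : Submodule R M)).mkQ (a • x) := by
  obtain ⟨r, rfl⟩ := hsurj a
  rw [AlgHom.commutes, algebraMap_smul A r x]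
  rfl

include φ hsurj in
lemma finite_quot [Module.Finite A M] : Module.Finite (R ⧸ I) (M ⧸ I • (⊤ : Submodule R M)) := by
  obtain ⟨S, hS⟩ := (Module.finite_def.mp (inferInstance : Module.Finite A M))
  classical
  refine Module.finite_def.mpr ⟨S.image (I • (⊤ : Submodule R M)).mkQ, ?_⟩
  rw [eq_top_iff]
  rintro y -
  obtain ⟨m, rfl⟩ := Submodule.mkQ_surjective _ y
  have hm : m ∈ Submodule.span A (S : Set M) := hS ▸ Submodule.mem_top
  refine Submodule.span_induction ?_ ?_ ?_ ?_ hm
  · intro x hx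
    apply Submodule.subset_span
    rw [Finset.coe_image]
    exact ⟨x, hx, rfl⟩
  · rw [map_zero]; exact Submodule.zero_mem _
  · intro x y _ _ hx hy
    rw [map_add]; exact Submodule.add_mem _ hx hy
  · intro a x _ hx
    rw [← phi_smul_mkQ I φ hsurj]
    exact Submodule.smul_mem _ _ hx

include φ hsurj in
lemma projective_quot [Module.Projective A M] :
    Module.Projective (R ⧸ I) (M ⧸ I • (⊤ : Submodule R M)) := by
  obtain ⟨s, hs⟩ := Module.projective_def'.mp (inferInstance : Module.Projective A M)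
  -- the map `M → (M →₀ R ⧸ I)`
  let i₀ : M →ₗ[R] (M →₀ R ⧸ I) :=
    (Finsupp.mapRange.linearMap φ.toLinearMap) ∘ₗ (s.restrictScalars R)
  have hi₀ : I • (⊤ : Submodule R M) ≤ LinearMap.ker i₀ := by
    rw [Submodule.smul_le]
    intro a ha m _
    rw [LinearMap.mem_ker, map_smul]
    ext x
    rw [Finsupp.smul_apply, Finsupp.zero_apply]
    have : a • (i₀ m) x = (Ideal.Quotient.mk I a) * (i₀ m) x := by
      rw [Algebra.smul_def]; rfl
    rw [this, Ideal.Quotient.eq_zero_iff_mem.mpr ha, zero_mul]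
  let i₁ : (M ⧸ I • (⊤ : Submodule R M)) →ₗ[R] (M →₀ R ⧸ I) :=
    (I • (⊤ : Submodule R M)).liftQ i₀ hi₀
  let i : (M ⧸ I • (⊤ : Submodule R M)) →ₗ[R ⧸ I] (M →₀ R ⧸ I) :=
    { i₁ with
      map_smul' := by
        intro c y
        obtain ⟨r, rfl⟩ := Ideal.Quotient.mk_surjective c
        have h1 : (Ideal.Quotient.mk I r) • y = r • y := rfl
        have h2 : ∀ z : M →₀ R ⧸ I, (Ideal.Quotient.mk I r) • z = r • z := by
          intro z
          ext x
          rw [Finsupp.smul_apply, Finsupp.smul_apply, Algebra.smul_def]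
          rfl
        simp only [AddHom.toFun_eq_coe, LinearMap.coe_toAddHom, RingHom.id_apply]
        rw [h1, map_smul, h2] }
  let r : (M →₀ R ⧸ I) →ₗ[R ⧸ I] (M ⧸ I • (⊤ : Submodule R M)) :=
    Finsupp.linearCombination (R ⧸ I) (fun m => (I • (⊤ : Submodule R M)).mkQ m)
  refine Module.Projective.of_split i r ?_
  apply LinearMap.ext
  intro y
  obtain ⟨m, rfl⟩ := Submodule.mkQ_surjective _ y
  have h1 : i ((I • (⊤ : Submodule R M)).mkQ m) = Finsupp.mapRange φ (map_zero φ) (s m) := rfl
  rw [LinearMap.comp_apply, h1, LinearMap.id_apply]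
  have h2 : m = Finsupp.linearCombination A id (s m) := (LinearMap.congr_fun hs m).symm
  conv_rhs => rw [h2]
  rw [Finsupp.linearCombination_apply, Finsupp.linearCombination_apply,
    Finsupp.sum_mapRange_index (by intro x; rw [zero_smul]), Finsupp.sum, Finsupp.sum, map_sum]
  refine Finset.sum_congr rfl (fun x _ => ?_)
  rw [phi_smul_mkQ I φ hsurj, id]

end

end Groth.Agent.Lib.Helper47.QuotProj
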