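import Mathlib
import Groth.Agent.Lib.Helper47.DieuProj
import Groth.Agent.Lib.Helper47.QuotProj

/-!
# Dieudonné modules over a perfect ring: level-one conditions and projectivity of `M/VM` (helper47)
-/

namespace Groth.Agent.Lib.Helper47.DieuMain

set_option linter.unusedSectionVars false

open WittVector Groth.Agent.Lib.Helper47.WittPerf Groth.Agent.Lib.Helper47.DieuFibre
  Groth.Agent.Lib.Helper47.DieuProj

variable {p : ℕ} [hp : Fact p.Prime] {k : Type*} [CommRing k] [CharP k p] [PerfectRing k p]
  {M : Type*} [AddCommGroup M] [Module (WittVector p k) M]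
  (F : M →ₛₗ[(WittVector.frobenius : WittVector p k →+* WittVector p k)] M)
  (V : M →ₛₗ[((WittVector.frobeniusEquiv p k).symm : WittVector p k →+* WittVector p k)] M)

/-- `W(k)` has no `p`-torsion for perfect `k`. -/
lemma p_mul_cancel (r : WittVector p k) (h : (p : WittVector p k) * r = 0) : r = 0 := by
  have hrad : ∀ a : k, a ^ p ∈ (⊥ : Ideal k) → a ∈ (⊥ : Ideal k) := by
    intro a ha
    rw [Ideal.mem_bot] at ha ⊢
    have h1 : frobenius k p a = frobenius k p 0 := by
      rw [frobenius_def, frobenius_def, ha, zero_pow hp.out.ne_zero]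
    exact (injective_frobenius k p) h1
  have h1 : r * p ∈ JJ (⊥ : Ideal k) := by
    rw [mul_comm, h]; exact Ideal.zero_mem _
  have h2 := mem_JJ_of_mul_p_mem hrad h1
  rw [mem_JJ] at h2
  ext i
  rw [zero_coeff]
  exact (Ideal.mem_bot).mp (h2 i)

/-- Projective `W(k)`-modules have no `p`-torsion. -/
lemma p_smul_cancel [Module.Projective (WittVector p k) M] (m : M)
    (h : (p : WittVector p k) • m = 0) : m = 0 := by
  have h1 : (p : WittVector p k) • m ∈ ((⊥ : Ideal (WittVector p k)) • ⊤ :
      Submodule (WittVector p k) M) := by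
    rw [h]; exact Submodule.zero_mem _
  have h2 := mem_smul_top_of_smul_mem (⊥ : Ideal (WittVector p k)) (p : WittVector p k)
    (fun r hr => by
      rw [Ideal.mem_bot] at hr ⊢
      exact p_mul_cancel r hr) h1
  rw [Submodule.bot_smul] at h2
  exact (Submodule.mem_bot _).mp h2

lemma F_mem_pM {z : M} (hz : z ∈ pM p k M) : F z ∈ pM p k M := by
  refine Submodule.smul_induction_on hz ?_ ?_
  · intro a ha m _
    rw [map_smulₛₗ]
    refine Submodule.smul_mem_smul ?_ Submodule.mem_top
    obtain ⟨c, rfl⟩ := Ideal.mem_span_singleton'.mp ha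
    rw [map_mul, map_natCast]
    exact Ideal.mul_mem_left _ _ (Ideal.subset_span rfl)
  · intro x y hx hy
    rw [map_add]
    exact Submodule.add_mem _ hx hy

lemma mem_pM_iff {x : M} : x ∈ pM p k M ↔ ∃ m, x = (p : WittVector p k) • m := by
  unfold pM
  rw [Submodule.ideal_span_singleton_smul, Submodule.mem_smul_pointwise_iff_exists]
  constructor
  · rintro ⟨b, -, rfl⟩; exact ⟨b, rfl⟩
  · rintro ⟨m, rfl⟩; exact ⟨m, Submodule.mem_top, rfl⟩

include V in
/-- Level-one condition: `F⁻¹(pM) = VM + pM`. -/
lemma comap_F_eq [Module.Projective (WittVector p k) M]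
    (hFV : ∀ m, F (V m) = (p : WittVector p k) • m)
    (hVF : ∀ m, V (F m) = (p : WittVector p k) • m) :
    (pM p k M).comap F = Submodule.span (WittVector p k) (Set.range V) ⊔ pM p k M := by
  apply le_antisymm
  · intro x hx
    rw [Submodule.mem_comap, mem_pM_iff] at hx
    obtain ⟨m, hm⟩ := hx
    have h1 : F (x - V m) = 0 := by rw [map_sub, hm, hFV, sub_self]
    have h2 : x - V m = 0 := by
      apply p_smul_cancel (p := p) (k := k)
      rw [← hVF, h1, map_zero]
    rw [sub_eq_zero] at h2
    rw [h2]
    exact Submodule.mem_sup_left (Submodule.subset_span ⟨m, rfl⟩)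
  · rw [sup_le_iff]
    constructor
    · rw [Submodule.span_le]
      rintro _ ⟨m, rfl⟩
      rw [SetLike.mem_coe, Submodule.mem_comap, hFV]
      exact Submodule.smul_mem_smul (Ideal.subset_span rfl) Submodule.mem_top
    · intro x hx
      exact F_mem_pM F hx

include F in
/-- Level-one condition: `V⁻¹(pM) = FM + pM`. -/
lemma comap_V_eq [Module.Projective (WittVector p k) M]
    (hFV : ∀ m, F (V m) = (p : WittVector p k) • m)
    (hVF : ∀ m, V (F m) = (p : WittVector p k) • m) :
    (pM p k M).comap V = Submodule.span (WittVector p k) (Set.range F) ⊔ pM p k M := by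
  apply le_antisymm
  · intro x hx
    rw [Submodule.mem_comap, mem_pM_iff] at hx
    obtain ⟨m, hm⟩ := hx
    have h1 : V (x - F m) = 0 := by rw [map_sub, hm, hVF, sub_self]
    have h2 : x - F m = 0 := by
      apply p_smul_cancel (p := p) (k := k)
      rw [← hFV, h1, map_zero]
    rw [sub_eq_zero] at h2
    rw [h2]
    exact Submodule.mem_sup_left (Submodule.subset_span ⟨m, rfl⟩)
  · rw [sup_le_iff]
    constructor
    · rw [Submodule.span_le]
      rintro _ ⟨m, rfl⟩
      rw [SetLike.mem_coe, Submodule.mem_comap, hVF]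
      exact Submodule.smul_mem_smul (Ideal.subset_span rfl) Submodule.mem_top
    · intro x hx
      exact V_mem_pM V hx

include F in
/-- `M/VM` is projective over `W/p` for a projective Dieudonné module. -/
theorem projective_of_projective [Module.Finite (WittVector p k) M]
    [Module.Projective (WittVector p k) M]
    (hFV : ∀ m, F (V m) = (p : WittVector p k) • m)
    (hVF : ∀ m, V (F m) = (p : WittVector p k) • m) :
    Module.Projective (WittVector p k ⧸ Ideal.span {(p : WittVector p k)})
      ((M ⧸ pM p k M) ⧸ UU V) := by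
  have hs : Function.Surjective (algebraMap (WittVector p k) (WittVector p k)) :=
    fun x => ⟨x, rfl⟩
  have := QuotProj.finite_quot (M := M) (Ideal.span {(p : WittVector p k)})
    (Ideal.Quotient.mkₐ (WittVector p k) (Ideal.span {(p : WittVector p k)})) hs
  have := QuotProj.projective_quot (M := M) (Ideal.span {(p : WittVector p k)})
    (Ideal.Quotient.mkₐ (WittVector p k) (Ideal.span {(p : WittVector p k)})) hs
  refine projective_quot F V hVF ?_
  intro 𝔮 h𝔮 hp𝔮 x hx
  exact fibre_exact_V_of_projective F V hFV hVF 𝔮 hp𝔮 x hx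

include F in
/-- `M/VM` is projective over `W/p` for a truncated Dieudonné module of level `n ≥ 2`. -/
theorem projective_of_truncated (n : ℕ) (hn : 2 ≤ n)
    [Module (WittVector p k ⧸ Ideal.span {(p : WittVector p k) ^ n}) M]
    [IsScalarTower (WittVector p k) (WittVector p k ⧸ Ideal.span {(p : WittVector p k) ^ n}) M]
    [Module.Finite (WittVector p k ⧸ Ideal.span {(p : WittVector p k) ^ n}) M]
    [Module.Projective (WittVector p k ⧸ Ideal.span {(p : WittVector p k) ^ n}) M]
    (hFV : ∀ m, F (V m) = (p : WittVector p k) • m)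
    (hVF : ∀ m, V (F m) = (p : WittVector p k) • m) :
    Module.Projective (WittVector p k ⧸ Ideal.span {(p : WittVector p k)})
      ((M ⧸ pM p k M) ⧸ UU V) := by
  have hs : Function.Surjective (algebraMap (WittVector p k)
      (WittVector p k ⧸ Ideal.span {(p : WittVector p k) ^ n})) := Ideal.Quotient.mk_surjective
  have hle : Ideal.span {(p : WittVector p k) ^ n} ≤ Ideal.span {(p : WittVector p k)} := by
    rw [Ideal.span_le, Set.singleton_subset_iff]
    exact Ideal.pow_mem_of_mem _ (Ideal.subset_span (Set.mem_singleton _)) n (by omega)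
  have := QuotProj.finite_quot (M := M) (Ideal.span {(p : WittVector p k)})
    (Ideal.Quotient.factorₐ (WittVector p k) hle) hs
  have := QuotProj.projective_quot (M := M) (Ideal.span {(p : WittVector p k)})
    (Ideal.Quotient.factorₐ (WittVector p k) hle) hs
  refine projective_quot F V hVF ?_
  intro 𝔮 h𝔮 hp𝔮 x hx
  exact fibre_exact_V_of_projective_quot F V n hn hFV hVF 𝔮 hp𝔮 x hx

end Groth.Agent.Lib.Helper47.DieuMain
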