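import Mathlib
import Groth.Prelude.Def_W4c1extbt610Disp
import Groth.Agent.Lib.Helper47.DieuMain
import Groth.Agent.S14858

/-!
# From a Dieudonné module over a perfect ring to a 3n-display (helper47)
-/

namespace Groth.Agent.Lib.Helper47.DieuDisp

set_option linter.unusedSectionVars false

open WittVector Groth.Agent.Lib.Helper47.WittPerf Groth.Agent.Lib.Helper47.DieuFibre
  Groth.Agent.Lib.Helper47.DieuProj Groth.Agent.Lib.Helper47.DieuMain

universe u v

variable {p : ℕ} [hp : Fact p.Prime] {k : Type u} [CommRing k] [CharP k p] [PerfectRing k p]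
  {M : Type v} [AddCommGroup M] [Module (WittVector p k) M]
  (F : M →ₛₗ[(WittVector.frobenius : WittVector p k →+* WittVector p k)] M)
  (V : M →ₛₗ[((WittVector.frobeniusEquiv p k).symm : WittVector p k →+* WittVector p k)] M)

/-- The image of `V` as a submodule. -/
def VM : Submodule (WittVector p k) M where
  carrier := Set.range V
  add_mem' := by
    rintro _ _ ⟨a, rfl⟩ ⟨b, rfl⟩
    exact ⟨a + b, map_add V a b⟩
  zero_mem' := ⟨0, map_zero V⟩
  smul_mem' := by
    rintro w _ ⟨a, rfl⟩
    refine ⟨frobenius w • a, ?_⟩
    rw [map_smulₛₗ]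
    have : ((frobeniusEquiv p k).symm : WittVector p k →+* WittVector p k) (frobenius w) = w :=
      (frobeniusEquiv p k).symm_apply_apply w
    rw [this]

lemma mem_VM {x : M} : x ∈ VM V ↔ x ∈ Set.range V := Iff.rfl

lemma verschiebung_eq (w : WittVector p k) :
    verschiebung w = (frobeniusEquiv p k).symm w * p := by
  rw [← verschiebung_frobenius]
  congr 1
  exact ((frobeniusEquiv p k).apply_symm_apply w).symm

lemma IV_eq : W4c1extbt610.IV p k = Ideal.span {(p : WittVector p k)} := by
  unfold W4c1extbt610.IV
  apply le_antisymm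
  · rw [Ideal.span_le]
    rintro _ ⟨w, rfl⟩
    rw [verschiebung_eq]
    exact Ideal.mul_mem_left _ _ (Ideal.subset_span (Set.mem_singleton _))
  · rw [Ideal.span_le, Set.singleton_subset_iff]
    apply Ideal.subset_span
    refine ⟨frobenius 1, ?_⟩
    rw [verschiebung_frobenius, one_mul]

include F in
lemma verschiebung_smul_eq (hVF : ∀ m, V (F m) = (p : WittVector p k) • m)
    (w : WittVector p k) (x : M) : verschiebung w • x = V (w • F x) := by
  rw [map_smulₛₗ, hVF, verschiebung_eq, mul_smul]
  rfl

include F in
lemma V_injective [Module.Projective (WittVector p k) M]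
    (hFV : ∀ m, F (V m) = (p : WittVector p k) • m) : Function.Injective V := by
  rw [injective_iff_map_eq_zero]
  intro x hx
  apply p_smul_cancel (p := p) (k := k)
  rw [← hFV, hx, map_zero]

include F in
/-- A complement of `VM` modulo `pM`. -/
lemma exists_compl [Module.Finite (WittVector p k) M] [Module.Projective (WittVector p k) M]
    (hFV : ∀ m, F (V m) = (p : WittVector p k) • m)
    (hVF : ∀ m, V (F m) = (p : WittVector p k) • m) :
    ∃ C : Submodule (WittVector p k) M, VM V ⊔ C = ⊤ ∧ VM V ⊓ C = pM p k M := by
  have hproj := projective_of_projective F V hFV hVF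
  obtain ⟨s, hs⟩ := Module.projective_lifting_property (UU V).mkQ LinearMap.id
    (Submodule.mkQ_surjective _)
  -- `C` = preimage of the range of `s`
  let C : Submodule (WittVector p k) M :=
    { carrier := {m | (pM p k M).mkQ m ∈ LinearMap.range s}
      add_mem' := by
        intro a b ha hb
        simp only [Set.mem_setOf_eq, map_add] at ha hb ⊢
        exact Submodule.add_mem _ ha hb
      zero_mem' := by
        simp only [Set.mem_setOf_eq, map_zero]
        exact Submodule.zero_mem _
      smul_mem' := by
        intro w a ha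
        simp only [Set.mem_setOf_eq] at ha ⊢
        have : (pM p k M).mkQ (w • a) =
            (Ideal.Quotient.mk (Ideal.span {(p : WittVector p k)}) w) • (pM p k M).mkQ a := rfl
        rw [this]
        exact Submodule.smul_mem _ _ ha }
  have hC : ∀ m, m ∈ C ↔ (pM p k M).mkQ m ∈ LinearMap.range s := fun m => Iff.rfl
  have hpM_V : pM p k M ≤ VM V := by
    intro x hx
    obtain ⟨m, rfl⟩ := mem_pM_iff.mp hx
    exact ⟨F m, hVF m⟩
  have hpM_C : pM p k M ≤ C := by
    intro x hx
    rw [hC, Submodule.mkQ_apply, (Submodule.Quotient.mk_eq_zero _).mpr hx]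
    exact Submodule.zero_mem _
  refine ⟨C, ?_, ?_⟩
  · rw [eq_top_iff]
    rintro m -
    -- decompose mkQ m = u + s q
    set n := (pM p k M).mkQ m with hn
    have h1 : n - s ((UU V).mkQ n) ∈ UU V := by
      rw [← Submodule.Quotient.mk_eq_zero, Submodule.Quotient.mk_sub]
      have := LinearMap.congr_fun hs ((UU V).mkQ n)
      simp only [LinearMap.comp_apply, LinearMap.id_apply] at this
      rw [← Submodule.mkQ_apply, ← Submodule.mkQ_apply, this, sub_self]
    obtain ⟨x, hx⟩ := (mem_UU V).mp h1
    have h2 : m - V x ∈ C := by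
      rw [hC, map_sub, hx, ← hn, sub_sub_cancel]
      exact ⟨_, rfl⟩
    have : m = V x + (m - V x) := by abel
    rw [this]
    exact Submodule.add_mem_sup ⟨x, rfl⟩ h2
  · apply le_antisymm
    · rintro x ⟨⟨m, rfl⟩, hxC⟩
      rw [SetLike.mem_coe, hC] at hxC
      obtain ⟨q, hq⟩ := hxC
      have h1 : (pM p k M).mkQ (V m) ∈ UU V := Submodule.subset_span ⟨m, rfl⟩
      have h2 : q = 0 := by
        have := LinearMap.congr_fun hs q
        simp only [LinearMap.comp_apply, LinearMap.id_apply] at this
        rw [← this, hq, Submodule.mkQ_apply, Submodule.Quotient.mk_eq_zero]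
        exact h1
      rw [h2, map_zero] at hq
      exact (Submodule.Quotient.mk_eq_zero _).mp hq.symm
    · exact le_inf hpM_V hpM_C

lemma isAdicComplete_span_p : IsAdicComplete (Ideal.span {(p : k)}) k := by
  have : Ideal.span {(p : k)} = ⊥ := by
    rw [CharP.cast_eq_zero k p, Ideal.span_singleton_eq_bot]
  rw [this]
  infer_instance

include F in
/-- The inverse of `V` on its image. -/
noncomputable def Vinv [Module.Projective (WittVector p k) M]
    (hFV : ∀ m, F (V m) = (p : WittVector p k) • m) :
    VM V →ₛₗ[(WittVector.frobenius : WittVector p k →+* WittVector p k)] M where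
  toFun q := Classical.choose q.2
  map_add' q q' := by
    apply V_injective F V hFV
    rw [map_add, Classical.choose_spec q.2, Classical.choose_spec q'.2,
      Classical.choose_spec (q + q').2]
    rfl
  map_smul' w q := by
    apply V_injective F V hFV
    rw [map_smulₛₗ, Classical.choose_spec q.2, Classical.choose_spec (w • q).2]
    have : ((frobeniusEquiv p k).symm : WittVector p k →+* WittVector p k) (frobenius w) = w :=
      (frobeniusEquiv p k).symm_apply_apply w
    rw [this]
    rfl

lemma V_Vinv [Module.Projective (WittVector p k) M]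
    (hFV : ∀ m, F (V m) = (p : WittVector p k) • m) (q : VM V) :
    V (Vinv F V hFV q) = q := Classical.choose_spec q.2

lemma Vinv_V [Module.Projective (WittVector p k) M]
    (hFV : ∀ m, F (V m) = (p : WittVector p k) • m) (m : M) (h : V m ∈ VM V) :
    Vinv F V hFV ⟨V m, h⟩ = m :=
  V_injective F V hFV (V_Vinv F V hFV ⟨V m, h⟩)

include F in
/-- A Dieudonné module over a perfect ring gives a 3n-display. -/
theorem exists_display [Module.Finite (WittVector p k) M] [Module.Projective (WittVector p k) M]
    (hFV : ∀ m, F (V m) = (p : WittVector p k) • m)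
    (hVF : ∀ m, V (F m) = (p : WittVector p k) • m) :
    ∃ D : W4c1extbt610.Display3n p k M,
      D.F = F ∧ (∀ x : M, x ∈ D.Q ↔ x ∈ Set.range V) ∧
        ∀ (m : M) (h : V m ∈ D.Q), D.Vinv ⟨V m, h⟩ = m := by
  haveI := isAdicComplete_span_p (p := p) (k := k)
  have hIV : W4c1extbt610.IV p k • (⊤ : Submodule (WittVector p k) M) ≤ VM V := by
    rw [IV_eq]
    intro x hx
    obtain ⟨m, rfl⟩ := mem_pM_iff.mp hx
    exact ⟨F m, hVF m⟩
  obtain ⟨C, hC1, hC2⟩ := exists_compl F V hFV hVF
  have hnormal := Groth.Agent.S14858.result p k M (VM V) ⟨C, hC1, by rw [IV_eq]; exact hC2⟩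
  refine ⟨{ Q := VM V
            F := F
            Vinv := Vinv F V hFV
            finite := inferInstance
            projective := inferInstance
            IV_smul_le := hIV
            exists_normal := hnormal
            span_range_Vinv := ?_
            Vinv_verschiebung_smul := ?_ }, rfl, fun x => Iff.rfl, ?_⟩
  · rw [eq_top_iff]
    rintro m -
    apply Submodule.subset_span
    exact ⟨⟨V m, ⟨m, rfl⟩⟩, Vinv_V F V hFV m _⟩
  · intro w x
    have h := verschiebung_smul_eq F V hVF w x
    have key : ∀ (y : M) (hy : y ∈ VM V), y = V (w • F x) → Vinv F V hFV ⟨y, hy⟩ = w • F x := by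
      intro y hy hyx
      subst hyx
      exact Vinv_V F V hFV _ _
    exact key _ _ h
  · intro m h
    exact Vinv_V F V hFV m h

end Groth.Agent.Lib.Helper47.DieuDisp
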