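import Mathlib.Tactic
import Mathlib.Algebra.Homology.DerivedCategory.Ext.Map
import Mathlib.Algebra.Homology.DerivedCategory.Ext.ExactSequences

/-!
# A diagram chase for Ext groups along an exact functor

`P : C ⥤ D` an exact functor of abelian categories, `c : Ext B (P A) 0`; the "pullback map"
`e ↦ c ∘ P(e) : Ext A M n → Ext B (P M) n`.  Given a short exact sequence `0 → F → G → Q → 0`
such that the pullback map for `Q` is surjective in degree `n` and injective in degree `n + 1`,
a class in `Ext B (P F) (n+1)` whose image in `Ext B (P G) (n+1)` is a pullback is itself a pullback.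
-/

set_option autoImplicit false
universe w w' v v' u u'

open CategoryTheory Abelian Limits

namespace Groth.Agent.Lib.Helper47

variable {C : Type u} [Category.{v} C] [Abelian C] {D : Type u'} [Category.{v'} D] [Abelian D]
  [HasExt.{w} C] [HasExt.{w'} D]
  (P : C ⥤ D) [P.Additive] [PreservesFiniteLimits P] [PreservesFiniteColimits P]

/-- The "pullback" map on Ext groups. -/
noncomputable def extPull {A : C} {B : D} (c : Ext.{w'} B (P.obj A) 0) (M : C) (n : ℕ)
    (e : Ext.{w} A M n) : Ext.{w'} B (P.obj M) n :=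
  c.comp (e.mapExactFunctor P) (zero_add n)

theorem extPull_add {A : C} {B : D} (c : Ext.{w'} B (P.obj A) 0) (M : C) (n : ℕ)
    (e e' : Ext.{w} A M n) : extPull P c M n (e + e') = extPull P c M n e + extPull P c M n e' := by
  simp [extPull]

theorem extPull_comp_mk₀ {A : C} {B : D} (c : Ext.{w'} B (P.obj A) 0) {M N : C} (f : M ⟶ N) (n : ℕ)
    (e : Ext.{w} A M n) :
    extPull P c N n (e.comp (Ext.mk₀ f) (add_zero n)) =
      (extPull P c M n e).comp (Ext.mk₀ (P.map f)) (add_zero n) := by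
  simp only [extPull]
  rw [Ext.mapExactFunctor_comp, Ext.mapExactFunctor_mk₀]
  rw [Ext.comp_assoc_of_third_deg_zero]

theorem extPull_comp_extClass {A : C} {B : D} (c : Ext.{w'} B (P.obj A) 0) {S : ShortComplex C}
    (hS : S.ShortExact) (n : ℕ) (e : Ext.{w} A S.X₃ n) :
    extPull P c S.X₁ (n + 1) (e.comp hS.extClass rfl) =
      (extPull P c S.X₃ n e).comp (hS.map_of_exact P).extClass rfl := by
  simp only [extPull]
  rw [Ext.mapExactFunctor_comp, Ext.mapExactFunctor_extClass]
  exact (Ext.comp_assoc c (e.mapExactFunctor P) (hS.map_of_exact P).extClass (zero_add n) rfl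
    (by omega)).symm

theorem ext_chase {A : C} {B : D} (c : Ext.{w'} B (P.obj A) 0) {S : ShortComplex C}
    (hS : S.ShortExact) (n : ℕ)
    (hinj : Function.Injective (extPull P c S.X₃ (n + 1)))
    (hsurj : Function.Surjective (extPull P c S.X₃ n))
    (ξ : Ext.{w'} B (P.obj S.X₁) (n + 1)) (γ : Ext.{w} A S.X₂ (n + 1))
    (h : extPull P c S.X₂ (n + 1) γ = ξ.comp (Ext.mk₀ (P.map S.f)) (add_zero _)) :
    ∃ φ : Ext.{w} A S.X₁ (n + 1), extPull P c S.X₁ (n + 1) φ = ξ := by
  -- Step 1
  have h1 : γ.comp (Ext.mk₀ S.g) (add_zero _) = 0 := by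
    apply hinj
    rw [extPull_comp_mk₀, h, Ext.comp_assoc_of_third_deg_zero, Ext.mk₀_comp_mk₀, ← P.map_comp,
      S.zero, P.map_zero, Ext.mk₀_zero, Ext.comp_zero]
    simp [extPull]
  obtain ⟨φ₀, hφ₀⟩ := Ext.covariant_sequence_exact₂ A hS γ h1
  have h3 : (ξ - extPull P c S.X₁ (n + 1) φ₀).comp (Ext.mk₀ (S.map P).f) (add_zero _) = 0 := by
    rw [sub_eq_add_neg, Ext.add_comp, Ext.neg_comp]
    change ξ.comp (Ext.mk₀ (P.map S.f)) _ + -(extPull P c S.X₁ (n + 1) φ₀).comp
      (Ext.mk₀ (P.map S.f)) _ = 0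
    rw [← extPull_comp_mk₀, hφ₀, h]
    exact add_neg_cancel _
  obtain ⟨η, hη⟩ := Ext.covariant_sequence_exact₁ B (hS.map_of_exact P) _ h3 rfl
  obtain ⟨η', rfl⟩ := hsurj η
  refine ⟨φ₀ + η'.comp hS.extClass rfl, ?_⟩
  rw [extPull_add, extPull_comp_extClass]
  exact (congrArg (fun z => extPull P c S.X₁ (n + 1) φ₀ + z) hη).trans (add_sub_cancel _ _)

end Groth.Agent.Lib.Helper47
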