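import Mathlib
import Groth.Agent.Lib.Helper47.AdicFinite

/-!
Idempotent decomposition of a finite algebra over a complete Noetherian local ring.
-/

namespace Groth.Agent.Lib.Helper47.FinIdem

open IsLocalRing PrimeSpectrum Groth.Agent.Lib.Helper47.AdicFinite

universe u

variable (A : Type u) [CommRing A] [IsLocalRing A] [IsNoetherianRing A]
  [IsAdicComplete (maximalIdeal A) A]
  (B : Type u) [CommRing B] [Algebra A B] [Module.Finite A B]

/-- The ideal `𝔪ⁿ B`. -/
abbrev J (n : ℕ) : Ideal B := Ideal.map (algebraMap A B) ((maximalIdeal A) ^ n)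

omit [IsNoetherianRing A] [IsAdicComplete (maximalIdeal A) A] [Module.Finite A B] in
theorem J_eq_pow (n : ℕ) : J A B n = (J A B 1) ^ n := by
  simp only [J, pow_one, Ideal.map_pow]

instance isAdicComplete_J_one : IsAdicComplete (J A B 1) B := by
  have : IsAdicComplete ((maximalIdeal A) ^ 1) A := by rw [pow_one]; infer_instance
  exact isAdicComplete_map_of_finite ((maximalIdeal A) ^ 1) B

theorem J_one_le_jacobson : J A B 1 ≤ Ideal.jacobson ⊥ :=
  IsAdicComplete.le_jacobson_bot _

instance isArtinianRing_quot : IsArtinianRing (B ⧸ J A B 1) := by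
  unfold J
  rw [pow_one]
  have : Module.Finite (A ⧸ maximalIdeal A) (B ⧸ Ideal.map (algebraMap A B) (maximalIdeal A)) :=
    Module.Finite.of_restrictScalars_finite A _ _
  have : IsArtinianRing (A ⧸ maximalIdeal A) := by
    let := Ideal.Quotient.field (maximalIdeal A)
    infer_instance
  exact IsArtinianRing.of_finite (A ⧸ maximalIdeal A) _

/-- The index set: points of the closed fibre. -/
abbrev Pt : Type u := PrimeSpectrum (B ⧸ J A B 1)

theorem exists_idem (p : Pt A B) : ∃ e : B, IsIdempotentElem e ∧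
    ((basicOpen (Ideal.Quotient.mk (J A B 1) e) : Set (Pt A B)) = {p}) := by
  have hcl : IsClopen ({p} : Set (Pt A B)) := isClopen_discrete _
  obtain ⟨ē, hē, h⟩ := PrimeSpectrum.isClopen_iff.mp hcl
  obtain ⟨e, he, rfl⟩ := exists_isIdempotentElem_lift (J A B 1) ē hē
  exact ⟨e, he, h.symm⟩

/-- The idempotent of `B` cutting out the point `p` of the closed fibre. -/
noncomputable def idem (p : Pt A B) : B := (exists_idem A B p).choose

theorem idem_isIdempotentElem (p : Pt A B) : IsIdempotentElem (idem A B p) :=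
  (exists_idem A B p).choose_spec.1

theorem basicOpen_mk_idem (p : Pt A B) :
    ((basicOpen (Ideal.Quotient.mk (J A B 1) (idem A B p)) : Set (Pt A B)) = {p}) :=
  (exists_idem A B p).choose_spec.2

theorem mk_idem_notMem (p : Pt A B) :
    Ideal.Quotient.mk (J A B 1) (idem A B p) ∉ p.asIdeal := by
  have : p ∈ (basicOpen (Ideal.Quotient.mk (J A B 1) (idem A B p)) : Set (Pt A B)) := by
    rw [basicOpen_mk_idem]; rfl
  exact this

theorem eq_of_mk_idem_notMem (p p' : Pt A B)
    (h : Ideal.Quotient.mk (J A B 1) (idem A B p) ∉ p'.asIdeal) : p' = p := by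
  have : p' ∈ (basicOpen (Ideal.Quotient.mk (J A B 1) (idem A B p)) : Set (Pt A B)) := h
  rw [basicOpen_mk_idem] at this
  exact this

/-- A prime of `B` containing `𝔪B` and not containing `e_p` is the point `p`. -/
theorem eq_comap_of_idem_notMem (p : Pt A B) (q : PrimeSpectrum B) (hq : J A B 1 ≤ q.asIdeal)
    (he : idem A B p ∉ q.asIdeal) : q = PrimeSpectrum.comap (Ideal.Quotient.mk (J A B 1)) p := by
  have hq' : q ∈ Set.range (PrimeSpectrum.comap (Ideal.Quotient.mk (J A B 1))) := by
    rw [_root_.range_comap_of_surjective _ _ Ideal.Quotient.mk_surjective]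
    simpa [PrimeSpectrum.mem_zeroLocus, Ideal.mk_ker] using hq
  obtain ⟨p', rfl⟩ := hq'
  congr 1
  apply eq_of_mk_idem_notMem
  exact he

theorem span_range_idem : Ideal.span (Set.range (idem A B)) = ⊤ := by
  by_contra hne
  obtain ⟨M, hM, hle⟩ := Ideal.exists_le_maximal _ hne
  have hJM : J A B 1 ≤ M := (J_one_le_jacobson A B).trans (sInf_le ⟨bot_le, hM⟩)
  let q : PrimeSpectrum B := ⟨M, hM.isPrime⟩
  have hq' : q ∈ Set.range (PrimeSpectrum.comap (Ideal.Quotient.mk (J A B 1))) := by
    rw [_root_.range_comap_of_surjective _ _ Ideal.Quotient.mk_surjective]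
    simpa [PrimeSpectrum.mem_zeroLocus, Ideal.mk_ker] using hJM
  obtain ⟨p, hp⟩ := hq'
  apply mk_idem_notMem A B p
  have h1 : idem A B p ∈ q.asIdeal := hle (Ideal.subset_span ⟨p, rfl⟩)
  rw [← hp] at h1
  exact h1

theorem idem_mul_idem (p p' : Pt A B) (h : p ≠ p') : idem A B p * idem A B p' = 0 := by
  apply eq_zero_of_isIdempotentElem_of_mem_jacobson
    ((idem_isIdempotentElem A B p).mul (idem_isIdempotentElem A B p'))
  apply J_one_le_jacobson A B
  rw [← Ideal.Quotient.eq_zero_iff_mem, map_mul]
  apply IsIdempotentElem.eq_zero_of_isNilpotent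
  · exact ((idem_isIdempotentElem A B p).map _).mul ((idem_isIdempotentElem A B p').map _)
  · rw [← PrimeSpectrum.basicOpen_eq_bot_iff, PrimeSpectrum.basicOpen_mul]
    apply TopologicalSpace.Opens.ext
    rw [TopologicalSpace.Opens.coe_inf, basicOpen_mk_idem, basicOpen_mk_idem]
    ext x
    simp only [Set.mem_inter_iff, Set.mem_singleton_iff, TopologicalSpace.Opens.coe_bot,
      Set.mem_empty_iff_false, iff_false, not_and]
    rintro rfl h'
    exact h h'

end Groth.Agent.Lib.Helper47.FinIdem
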