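import Mathlib
import Groth.Agent.Lib.Helper47.FinIdem

namespace Groth.Agent.Lib.Helper47.FinIdem

open IsLocalRing PrimeSpectrum Groth.Agent.Lib.Helper47.AdicFinite

universe u

variable (A : Type u) [CommRing A] [IsLocalRing A] [IsNoetherianRing A]
  [IsAdicComplete (maximalIdeal A) A]
  (B : Type u) [CommRing B] [Algebra A B] [Module.Finite A B] (p : Pt A B)

/-- The local piece of `B` at the point `p` of the closed fibre. -/
abbrev Rp : Type u := Localization.Away (idem A B p)

theorem algebraMap_Rp_surjective : Function.Surjective (algebraMap B (Rp A B p)) :=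
  IsLocalization.Away.algebraMap_surjective_of_isIdempotentElem _ (idem_isIdempotentElem A B p)

instance finite_Rp : Module.Finite A (Rp A B p) :=
  Module.Finite.of_surjective (IsScalarTower.toAlgHom A B (Rp A B p)).toLinearMap
    (algebraMap_Rp_surjective A B p)

/-- The ideal `𝔪 R_p`. -/
noncomputable abbrev Ip : Ideal (Rp A B p) := Ideal.map (algebraMap A (Rp A B p)) (maximalIdeal A)

instance isAdicComplete_Ip : IsAdicComplete (Ip A B p) (Rp A B p) :=
  isAdicComplete_map_of_finite (maximalIdeal A) (Rp A B p)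

theorem Ip_le_jacobson : Ip A B p ≤ Ideal.jacobson ⊥ :=
  IsAdicComplete.le_jacobson_bot _

theorem J_le_comap (n : ℕ) : J A B n ≤ Ideal.comap (algebraMap B (Rp A B p)) (Ip A B p ^ n) := by
  rw [J, Ideal.map_le_iff_le_comap, Ideal.comap_comap, ← IsScalarTower.algebraMap_eq,
    Ip, ← Ideal.map_pow]
  exact Ideal.le_comap_map

/-- The ring map `B/𝔪ⁿB → R_p/(𝔪R_p)ⁿ`. -/
noncomputable def β (n : ℕ) : B ⧸ J A B n →+* Rp A B p ⧸ Ip A B p ^ n :=
  Ideal.quotientMap (Ip A B p ^ n) (algebraMap B (Rp A B p)) (J_le_comap A B p n)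

theorem β_comp_mk (n : ℕ) : (β A B p n).comp (Ideal.Quotient.mk (J A B n)) =
    (Ideal.Quotient.mk (Ip A B p ^ n)).comp (algebraMap B (Rp A B p)) := by
  ext b
  simp [β]

theorem comap_β (n : ℕ) (hn : 1 ≤ n) (z : PrimeSpectrum (Rp A B p ⧸ Ip A B p ^ n)) :
    PrimeSpectrum.comap (β A B p n) z =
      PrimeSpectrum.comap (Ideal.Quotient.factor (Ideal.map_mono (f := algebraMap A B)
        (Ideal.pow_le_pow_right (I := maximalIdeal A) hn))) p := by
  apply PrimeSpectrum.comap_injective_of_surjective (Ideal.Quotient.mk (J A B n))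
    Ideal.Quotient.mk_surjective
  rw [← PrimeSpectrum.comap_comp_apply, ← PrimeSpectrum.comap_comp_apply, β_comp_mk,
    Ideal.Quotient.factor_comp_mk]
  apply eq_comap_of_idem_notMem
  · have h1 : J A B n ≤ (PrimeSpectrum.comap ((Ideal.Quotient.mk (Ip A B p ^ n)).comp
        (algebraMap B (Rp A B p))) z).asIdeal := by
      intro b hb
      rw [PrimeSpectrum.comap_asIdeal, Ideal.mem_comap, ← β_comp_mk, RingHom.comp_apply,
        Ideal.Quotient.eq_zero_iff_mem.mpr hb, map_zero]
      exact Ideal.zero_mem _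
    rw [J_eq_pow] at h1
    exact Ideal.IsPrime.le_of_pow_le h1
  · intro hmem
    rw [PrimeSpectrum.comap_asIdeal, Ideal.mem_comap, RingHom.comp_apply] at hmem
    have hu : IsUnit (Ideal.Quotient.mk (Ip A B p ^ n) (algebraMap B (Rp A B p) (idem A B p))) :=
      (IsLocalization.Away.algebraMap_isUnit (idem A B p)).map _
    exact z.isPrime.ne_top (Ideal.eq_top_of_isUnit_mem _ hmem hu)

end Groth.Agent.Lib.Helper47.FinIdem
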