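import Mathlib

set_option autoImplicit false
universe u

namespace Groth.Agent.Lib.Helper47.FinInjLH

/-- (LH) the maps to the localizations at maximal ideals are local -/
theorem isLocalHom_of_finite {O : Type u} [CommRing O] [IsLocalRing O]
    {A' : Type u} [CommRing A'] (φ : O →+* A') (hfin : φ.Finite) (𝔫 : MaximalSpectrum A') :
    IsLocalHom ((algebraMap A' (Localization.AtPrime 𝔫.asIdeal)).comp φ) := by
  have : 𝔫.asIdeal.IsMaximal := 𝔫.isMaximal
  have hint : φ.IsIntegral := hfin.to_isIntegral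
  have hmax : (𝔫.asIdeal.comap φ).IsMaximal :=
    Ideal.isMaximal_comap_of_isIntegral_of_isMaximal' φ hint 𝔫.asIdeal
  have heq : 𝔫.asIdeal.comap φ = IsLocalRing.maximalIdeal O := IsLocalRing.eq_maximalIdeal hmax
  refine ⟨fun a ha => ?_⟩
  rw [RingHom.comp_apply, IsLocalization.AtPrime.isUnit_to_map_iff _ 𝔫.asIdeal] at ha
  by_contra hna
  have h1 : a ∈ IsLocalRing.maximalIdeal O := (IsLocalRing.mem_maximalIdeal a).2 hna
  rw [← heq] at h1
  exact ha h1

end Groth.Agent.Lib.Helper47.FinInjLH
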