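import Mathlib

namespace Groth.Agent.Lib.Helper47.IdemGlue

open CategoryTheory CategoryTheory.Limits AlgebraicGeometry

universe u

variable {B : Type u} [CommRing B] {ι : Type u} (e : ι → B)

/-- The affine open cover of `Spec B` by the `Spec B[1/eᵢ]`. -/
noncomputable abbrev cover (hs : Ideal.span (Set.range e) = ⊤) : (Spec (CommRingCat.of B)).OpenCover :=
  (Scheme.affineOpenCoverOfSpanRangeEqTop (R := CommRingCat.of B) e hs).openCover

theorem isEmpty_pullback (i j : ι) (h : e i * e j = 0) :
    IsEmpty ↥(pullback (Spec.map (CommRingCat.ofHom (algebraMap B (Localization.Away (e i)))))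
      (Spec.map (CommRingCat.ofHom (algebraMap B (Localization.Away (e j)))))) := by
  constructor
  intro t
  set fi := Spec.map (CommRingCat.ofHom (algebraMap B (Localization.Away (e i))))
  set fj := Spec.map (CommRingCat.ofHom (algebraMap B (Localization.Away (e j))))
  let q : PrimeSpectrum B := (pullback.fst fi fj ≫ fi) t
  have h1 : q ∈ Set.range (PrimeSpectrum.comap (algebraMap B (Localization.Away (e i)))) :=
    ⟨pullback.fst fi fj t, rfl⟩
  have h2 : q ∈ Set.range (PrimeSpectrum.comap (algebraMap B (Localization.Away (e j)))) := by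
    refine ⟨pullback.snd fi fj t, ?_⟩
    change (pullback.snd fi fj ≫ fj) t = (pullback.fst fi fj ≫ fi) t
    rw [pullback.condition]
  rw [PrimeSpectrum.localization_away_comap_range (Localization.Away (e i)) (e i)] at h1
  rw [PrimeSpectrum.localization_away_comap_range (Localization.Away (e j)) (e j)] at h2
  have h3 : e i * e j ∈ q.asIdeal := by rw [h]; exact Ideal.zero_mem _
  rcases q.isPrime.mem_or_mem h3 with h4 | h4
  · exact h1 h4
  · exact h2 h4

theorem exists_glue (hs : Ideal.span (Set.range e) = ⊤) (horth : ∀ i j, i ≠ j → e i * e j = 0) {Y : Scheme.{u}}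
    (f : ∀ i, Spec (CommRingCat.of (Localization.Away (e i))) ⟶ Y) :
    ∃ F : Spec (CommRingCat.of B) ⟶ Y,
      ∀ i, Spec.map (CommRingCat.ofHom (algebraMap B (Localization.Away (e i)))) ≫ F = f i := by
  classical
  have hf : ∀ x y, pullback.fst ((cover e hs).f x) ((cover e hs).f y) ≫ f x =
      pullback.snd _ _ ≫ f y := by
    intro x y
    by_cases hxy : x = y
    · subst hxy
      have : pullback.fst ((cover e hs).f x) ((cover e hs).f x) = pullback.snd _ _ := by
        rw [← cancel_mono ((cover e hs).f x)]
        exact pullback.condition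
      exact congrArg (· ≫ f x) this
    · have : IsEmpty ↥(pullback ((cover e hs).f x) ((cover e hs).f y)) :=
        isEmpty_pullback e x y (horth x y hxy)
      exact (isInitialOfIsEmpty (X := pullback ((cover e hs).f x) ((cover e hs).f y))).hom_ext _ _
  exact ⟨(cover e hs).glueMorphisms f hf, fun i => (cover e hs).ι_glueMorphisms f hf i⟩

theorem hom_ext (hs : Ideal.span (Set.range e) = ⊤) {Y : Scheme.{u}} (F G : Spec (CommRingCat.of B) ⟶ Y)
    (h : ∀ i, Spec.map (CommRingCat.ofHom (algebraMap B (Localization.Away (e i)))) ≫ F =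
      Spec.map (CommRingCat.ofHom (algebraMap B (Localization.Away (e i)))) ≫ G) : F = G :=
  (cover e hs).hom_ext F G h

end Groth.Agent.Lib.Helper47.IdemGlue
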