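import Mathlib
import Groth.Agent.Lib.Helper62.SpecLocalLim

/-!
Morphisms from the spectrum of an adically complete ring into a scheme, when the closed fibre lands
in an affine open.
-/

namespace Groth.Agent.Lib.Helper47.SpecAdicLim

open CategoryTheory AlgebraicGeometry

universe u

variable {R : Type u} [CommRing R] (I : Ideal R)

/-- If `I` lies in the Jacobson radical, a morphism from `Spec R` which maps `V(I)` into an open
`U` has range in `U`. -/
theorem range_subset_of_zeroLocus {Y : Scheme.{u}} (hI : I ≤ Ideal.jacobson ⊥)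
    (f : Spec (CommRingCat.of R) ⟶ Y) (U : Y.Opens)
    (hU : Set.range (Spec.map (CommRingCat.ofHom (Ideal.Quotient.mk (I ^ 1))) ≫ f) ⊆ (U : Set Y)) :
    Set.range f ⊆ (U : Set Y) := by
  rintro _ ⟨x, rfl⟩
  obtain ⟨M, hM, hxM⟩ := Ideal.exists_le_maximal (x : PrimeSpectrum R).asIdeal
    (x : PrimeSpectrum R).isPrime.ne_top
  have hIM : I ^ 1 ≤ M := by
    rw [pow_one]
    exact hI.trans (sInf_le ⟨bot_le, hM⟩)
  let x₀ : PrimeSpectrum R := ⟨M, hM.isPrime⟩
  have hx₀ : x₀ ∈ Set.range (PrimeSpectrum.comap (Ideal.Quotient.mk (I ^ 1))) := by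
    rw [_root_.range_comap_of_surjective _ _ Ideal.Quotient.mk_surjective]
    simpa [PrimeSpectrum.mem_zeroLocus, Ideal.mk_ker] using hIM
  obtain ⟨z, hz⟩ := hx₀
  have hfx₀ : f x₀ ∈ U := by
    apply hU
    let z' : ↥(Spec (CommRingCat.of (R ⧸ I ^ 1))) := z
    refine ⟨z', ?_⟩
    rw [Scheme.Hom.comp_apply]
    exact congrArg f hz
  have hsp : (x : PrimeSpectrum R) ⤳ x₀ := (PrimeSpectrum.le_iff_specializes _ _).mp hxM
  exact (hsp.map f.continuous).mem_open U.2 hfx₀

/-- Ring homs into an `I`-adically separated ring agreeing modulo all powers of `I` are equal. -/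
theorem ringHom_ext_of_isHausdorff [IsHausdorff I R] {C : Type u} [CommRing C] (φ ψ : C →+* R)
    (h : ∀ n : ℕ, (Ideal.Quotient.mk (I ^ n)).comp φ = (Ideal.Quotient.mk (I ^ n)).comp ψ) :
    φ = ψ := by
  ext b
  rw [← sub_eq_zero]
  apply IsHausdorff.haus (I := I) inferInstance
  intro n
  rw [SModEq.zero, smul_eq_mul, Ideal.mul_top, ← Ideal.Quotient.eq_zero_iff_mem, map_sub,
    sub_eq_zero]
  exact congrArg (fun t : C →+* R ⧸ I ^ n => t b) (h n)

/-- Uniqueness: two morphisms from `Spec R` (with `R` `I`-adically separated, `I` in the Jacobson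
radical) agreeing on all `Spec (R/Iⁿ)` and mapping `V(I)` into an affine open are equal. -/
theorem hom_ext_of_adic {Y : Scheme.{u}} [IsHausdorff I R] (hI : I ≤ Ideal.jacobson ⊥)
    (f g : Spec (CommRingCat.of R) ⟶ Y)
    (h : ∀ n : ℕ, Spec.map (CommRingCat.ofHom (Ideal.Quotient.mk (I ^ n))) ≫ f =
      Spec.map (CommRingCat.ofHom (Ideal.Quotient.mk (I ^ n))) ≫ g)
    (U : Y.Opens) (hU : IsAffineOpen U)
    (hfU : Set.range (Spec.map (CommRingCat.ofHom (Ideal.Quotient.mk (I ^ 1))) ≫ f) ⊆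
      (U : Set Y)) : f = g := by
  have hgU : Set.range (Spec.map (CommRingCat.ofHom (Ideal.Quotient.mk (I ^ 1))) ≫ g) ⊆
      (U : Set Y) := by
    rw [← h 1]; exact hfU
  obtain ⟨φf, hφf⟩ := Groth.Agent.Lib.Helper62.exists_SpecMap_fromSpec hU f
    (range_subset_of_zeroLocus I hI f U hfU)
  obtain ⟨φg, hφg⟩ := Groth.Agent.Lib.Helper62.exists_SpecMap_fromSpec hU g
    (range_subset_of_zeroLocus I hI g U hgU)
  have hn : ∀ n : ℕ, φf ≫ CommRingCat.ofHom (Ideal.Quotient.mk (I ^ n)) =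
      φg ≫ CommRingCat.ofHom (Ideal.Quotient.mk (I ^ n)) := by
    intro n
    apply Groth.Agent.Lib.Helper62.SpecMap_fromSpec_injective hU
    rw [Spec.map_comp, Spec.map_comp, Category.assoc, Category.assoc, hφf, hφg]
    exact h n
  have : φf = φg := by
    ext b
    have := ringHom_ext_of_isHausdorff I φf.hom φg.hom (fun n => by
      have := congrArg CommRingCat.Hom.hom (hn n)
      simpa using this)
    rw [this]
  rw [← hφf, ← hφg, this]

/-- Existence: a compatible family of morphisms `Spec (R/Iⁿ) ⟶ Y` with ranges in an affine open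
comes from a morphism `Spec R ⟶ Y` when `R` is `I`-adically complete. -/
theorem exists_hom_of_adic {Y : Scheme.{u}} [IsAdicComplete I R]
    (v : (n : ℕ) → (Spec (CommRingCat.of (R ⧸ I ^ n)) ⟶ Y))
    (hv : ∀ (m n : ℕ) (hle : m ≤ n), Spec.map (CommRingCat.ofHom
        (Ideal.Quotient.factorPow I hle)) ≫ v n = v m)
    (U : Y.Opens) (hU : IsAffineOpen U) (hr : ∀ n, Set.range (v n) ⊆ (U : Set Y)) :
    ∃ f : Spec (CommRingCat.of R) ⟶ Y,
      ∀ n : ℕ, Spec.map (CommRingCat.ofHom (Ideal.Quotient.mk (I ^ n))) ≫ f = v n := by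
  choose ψ hψ using fun n => Groth.Agent.Lib.Helper62.exists_SpecMap_fromSpec hU (v n) (hr n)
  have hψc : ∀ {m n : ℕ} (hle : m ≤ n), (Ideal.Quotient.factorPow I hle).comp (ψ n).hom =
      (ψ m).hom := by
    intro m n hle
    have : ψ n ≫ CommRingCat.ofHom (Ideal.Quotient.factorPow I hle) = ψ m := by
      apply Groth.Agent.Lib.Helper62.SpecMap_fromSpec_injective hU
      rw [Spec.map_comp, Category.assoc, hψ, hψ, hv m n hle]
    exact congrArg CommRingCat.Hom.hom this
  let Ψ : Γ(Y, U) ⟶ CommRingCat.of R :=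
    CommRingCat.ofHom (IsAdicComplete.liftRingHom I (fun n => (ψ n).hom) hψc)
  refine ⟨Spec.map Ψ ≫ hU.fromSpec, fun n => ?_⟩
  rw [← Category.assoc, ← Spec.map_comp, ← hψ n]
  congr 2
  ext b
  exact IsAdicComplete.mk_liftRingHom I (fun n => (ψ n).hom) hψc n b

end Groth.Agent.Lib.Helper47.SpecAdicLim
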