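import Mathlib
import Groth.Agent.Lib.Helper47.FinIdemLoc
import Groth.Agent.Lib.Helper47.SpecAdicLim
import Groth.Agent.Lib.Helper47.IdemGlue

namespace Groth.Agent.Lib.Helper47.FinSpecLim

open CategoryTheory AlgebraicGeometry IsLocalRing Groth.Agent.Lib.Helper47.FinIdem

universe u

variable (A : Type u) [CommRing A] [IsLocalRing A] [IsNoetherianRing A]
  [IsAdicComplete (maximalIdeal A) A]
  (B : Type u) [CommRing B] [Algebra A B] [Module.Finite A B]

/-- Transition map `B/𝔪ⁿB → B/𝔪ᵐB`. -/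
abbrev tr {m n : ℕ} (hle : m ≤ n) : B ⧸ J A B n →+* B ⧸ J A B m :=
  Ideal.Quotient.factor (Ideal.map_mono (f := algebraMap A B)
    (Ideal.pow_le_pow_right (I := maximalIdeal A) hle))

omit [IsNoetherianRing A] [IsAdicComplete (maximalIdeal A) A] [Module.Finite A B] in
theorem compat_of_succ {Y : Scheme.{u}} (u : (n : ℕ) → (Spec (CommRingCat.of (B ⧸ J A B n)) ⟶ Y))
    (hu : ∀ n : ℕ, Spec.map (CommRingCat.ofHom (tr A B (Nat.le_succ n))) ≫ u (n + 1) = u n)
    (m n : ℕ) (hle : m ≤ n) : Spec.map (CommRingCat.ofHom (tr A B hle)) ≫ u n = u m := by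
  induction n, hle using Nat.le_induction with
  | base =>
    have : tr A B (le_refl m) = RingHom.id _ := by
      apply Ideal.Quotient.ringHom_ext
      ext b; simp
    rw [this]
    simp
  | succ n hmn ih =>
    rw [← ih, ← hu n, ← Category.assoc, ← Spec.map_comp, ← CommRingCat.ofHom_comp]
    congr 3
    apply Ideal.Quotient.ringHom_ext
    ext b
    simp

variable (p : Pt A B)

theorem factorPow_comp_β {m n : ℕ} (hle : m ≤ n) :
    (Ideal.Quotient.factorPow (Ip A B p) hle).comp (β A B p n) =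
      (β A B p m).comp (tr A B hle) := by
  apply Ideal.Quotient.ringHom_ext
  ext b
  simp only [β, RingHom.comp_apply, Ideal.quotientMap_mk, Ideal.Quotient.factor_mk]

/-- The point `p` as a point of the scheme `Spec (B/𝔪B)`. -/
def pt : ↥(Spec (CommRingCat.of (B ⧸ J A B 1))) := p

theorem spec_β_apply (n : ℕ) (hn : 1 ≤ n)
    (z : ↥(Spec (CommRingCat.of (Rp A B p ⧸ Ip A B p ^ n)))) :
    (Spec.map (CommRingCat.ofHom (β A B p n))) z =
      (Spec.map (CommRingCat.ofHom (tr A B hn))) (pt A B p) :=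
  comap_β A B p n hn z

theorem spec_β_one_apply (z : ↥(Spec (CommRingCat.of (Rp A B p ⧸ Ip A B p ^ 1)))) :
    (Spec.map (CommRingCat.ofHom (β A B p 1))) z = pt A B p := by
  have h := comap_β A B p 1 le_rfl z
  have h1 : (Ideal.Quotient.factor (Ideal.map_mono (f := algebraMap A B)
      (Ideal.pow_le_pow_right (I := maximalIdeal A) (le_refl 1)))) = RingHom.id _ := by
    apply Ideal.Quotient.ringHom_ext
    ext b; simp
  rw [h1] at h
  exact h

theorem specMap_β_mk (n : ℕ) :
    Spec.map (CommRingCat.ofHom (Ideal.Quotient.mk (Ip A B p ^ n))) ≫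
      Spec.map (CommRingCat.ofHom (algebraMap B (Rp A B p))) =
    Spec.map (CommRingCat.ofHom (β A B p n)) ≫
      Spec.map (CommRingCat.ofHom (Ideal.Quotient.mk (J A B n))) := by
  rw [← Spec.map_comp, ← Spec.map_comp, ← CommRingCat.ofHom_comp, ← CommRingCat.ofHom_comp,
    β_comp_mk]

section Compare

variable (n : ℕ)

/-- The image of the idempotent `e_p` in `B/𝔪ⁿB`. -/
noncomputable def e' : B ⧸ J A B n := Ideal.Quotient.mk (J A B n) (idem A B p)

theorem span_range_e' : Ideal.span (Set.range (fun p => e' A B p n)) = ⊤ := by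
  have h := congrArg (Ideal.map (Ideal.Quotient.mk (J A B n))) (span_range_idem A B)
  rw [Ideal.map_span, Ideal.map_top, ← Set.range_comp] at h
  exact h

/-- The map `B → (B/𝔪ⁿB)[1/e_p]`. -/
noncomputable def g' : B →+* Localization.Away (e' A B p n) :=
  (algebraMap (B ⧸ J A B n) (Localization.Away (e' A B p n))).comp (Ideal.Quotient.mk (J A B n))

theorem isUnit_g' : IsUnit (g' A B p n (idem A B p)) :=
  IsLocalization.Away.algebraMap_isUnit (e' A B p n)

/-- The comparison map `R_p → (B/𝔪ⁿB)[1/e_p]`. -/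
noncomputable def δ : Rp A B p →+* Localization.Away (e' A B p n) :=
  IsLocalization.Away.lift (idem A B p) (isUnit_g' A B p n)

theorem δ_comp : (δ A B p n).comp (algebraMap B (Rp A B p)) = g' A B p n :=
  IsLocalization.Away.lift_comp _ _

theorem δ_eq_zero (a : Rp A B p) (ha : a ∈ Ip A B p ^ n) : δ A B p n a = 0 := by
  have hle : Ip A B p ^ n ≤ RingHom.ker (δ A B p n) := by
    rw [Ip, ← Ideal.map_pow, Ideal.map_le_iff_le_comap]
    intro a ha
    rw [Ideal.mem_comap, RingHom.mem_ker, IsScalarTower.algebraMap_apply A B (Rp A B p),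
      ← RingHom.comp_apply, δ_comp, g', RingHom.comp_apply,
      Ideal.Quotient.eq_zero_iff_mem.mpr (Ideal.mem_map_of_mem _ ha), map_zero]
  exact hle ha

/-- The comparison map `R_p/(𝔪R_p)ⁿ → (B/𝔪ⁿB)[1/e_p]`. -/
noncomputable def γ : Rp A B p ⧸ Ip A B p ^ n →+* Localization.Away (e' A B p n) :=
  Ideal.Quotient.lift (Ip A B p ^ n) (δ A B p n) (δ_eq_zero A B p n)

theorem γ_comp_mk : (γ A B p n).comp (Ideal.Quotient.mk (Ip A B p ^ n)) = δ A B p n := by
  ext a
  simp [γ]

theorem γ_comp_β : (γ A B p n).comp (β A B p n) =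
    algebraMap (B ⧸ J A B n) (Localization.Away (e' A B p n)) := by
  apply Ideal.Quotient.ringHom_ext
  rw [RingHom.comp_assoc, β_comp_mk, ← RingHom.comp_assoc, γ_comp_mk, δ_comp]
  rfl

end Compare

/-- Uniqueness. -/
theorem hom_ext {Y : Scheme.{u}} (f g : Spec (CommRingCat.of B) ⟶ Y)
    (h : ∀ n : ℕ, Spec.map (CommRingCat.ofHom (Ideal.Quotient.mk (J A B n))) ≫ f =
      Spec.map (CommRingCat.ofHom (Ideal.Quotient.mk (J A B n))) ≫ g) : f = g := by
  apply Groth.Agent.Lib.Helper47.IdemGlue.hom_ext (idem A B) (span_range_idem A B)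
  intro p
  obtain ⟨_, ⟨U, hU : IsAffineOpen U, rfl⟩, hxU, -⟩ :=
    Y.isBasis_affineOpens.exists_subset_of_mem_open
      (Set.mem_univ ((Spec.map (CommRingCat.ofHom (Ideal.Quotient.mk (J A B 1))) ≫ f)
        (pt A B p))) isOpen_univ
  apply Groth.Agent.Lib.Helper47.SpecAdicLim.hom_ext_of_adic (Ip A B p) (Ip_le_jacobson A B p)
    _ _ _ U hU
  · rintro _ ⟨z, rfl⟩
    rw [← Category.assoc, specMap_β_mk, Category.assoc, Scheme.Hom.comp_apply,
      spec_β_one_apply A B p z]
    exact hxU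
  · intro n
    rw [← Category.assoc, ← Category.assoc, specMap_β_mk, Category.assoc, Category.assoc, h n]

/-- Existence. -/
theorem exists_hom {Y : Scheme.{u}} (u : (n : ℕ) → (Spec (CommRingCat.of (B ⧸ J A B n)) ⟶ Y))
    (hu : ∀ n : ℕ, Spec.map (CommRingCat.ofHom (tr A B (Nat.le_succ n))) ≫ u (n + 1) = u n) :
    ∃ f : Spec (CommRingCat.of B) ⟶ Y,
      ∀ n : ℕ, Spec.map (CommRingCat.ofHom (Ideal.Quotient.mk (J A B n))) ≫ f = u n := by
  have hu' := compat_of_succ A B u hu
  -- local pieces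
  have hloc : ∀ p : Pt A B, ∃ fp : Spec (CommRingCat.of (Rp A B p)) ⟶ Y,
      ∀ n : ℕ, Spec.map (CommRingCat.ofHom (Ideal.Quotient.mk (Ip A B p ^ n))) ≫ fp =
        Spec.map (CommRingCat.ofHom (β A B p n)) ≫ u n := by
    intro p
    obtain ⟨_, ⟨U, hU : IsAffineOpen U, rfl⟩, hxU, -⟩ :=
      Y.isBasis_affineOpens.exists_subset_of_mem_open
        (Set.mem_univ ((u 1) (pt A B p))) isOpen_univ
    apply Groth.Agent.Lib.Helper47.SpecAdicLim.exists_hom_of_adic (Ip A B p)
      (fun n => Spec.map (CommRingCat.ofHom (β A B p n)) ≫ u n) _ U hU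
    · intro n
      rintro _ ⟨z, rfl⟩
      rcases Nat.eq_zero_or_pos n with rfl | hn
      · exfalso
        have : Subsingleton (Rp A B p ⧸ Ip A B p ^ 0) := by
          rw [pow_zero, Ideal.one_eq_top]
          exact Ideal.Quotient.subsingleton_iff.mpr rfl
        have hE : IsEmpty (PrimeSpectrum (Rp A B p ⧸ Ip A B p ^ 0)) := inferInstance
        exact hE.false z
      · rw [Scheme.Hom.comp_apply, spec_β_apply A B p n hn z, ← Scheme.Hom.comp_apply,
          hu' 1 n hn]
        exact hxU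
    · intro m n hle
      rw [← Category.assoc, ← Spec.map_comp, ← CommRingCat.ofHom_comp, factorPow_comp_β,
        CommRingCat.ofHom_comp, Spec.map_comp, Category.assoc, hu' m n hle]
  choose fp hfp using hloc
  obtain ⟨F, hF⟩ := Groth.Agent.Lib.Helper47.IdemGlue.exists_glue (idem A B)
    (span_range_idem A B) (idem_mul_idem A B) fp
  refine ⟨F, fun n => ?_⟩
  apply Groth.Agent.Lib.Helper47.IdemGlue.hom_ext (fun p => e' A B p n) (span_range_e' A B n)
  intro p
  change Spec.map (CommRingCat.ofHom (algebraMap (B ⧸ J A B n) (Localization.Away (e' A B p n)))) ≫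
      Spec.map (CommRingCat.ofHom (Ideal.Quotient.mk (J A B n))) ≫ F =
    Spec.map (CommRingCat.ofHom (algebraMap (B ⧸ J A B n) (Localization.Away (e' A B p n)))) ≫ u n
  have h1 : Spec.map (CommRingCat.ofHom (algebraMap (B ⧸ J A B n)
        (Localization.Away (e' A B p n)))) ≫
      Spec.map (CommRingCat.ofHom (Ideal.Quotient.mk (J A B n))) =
      Spec.map (CommRingCat.ofHom (δ A B p n)) ≫
        Spec.map (CommRingCat.ofHom (algebraMap B (Rp A B p))) := by
    rw [← Spec.map_comp, ← Spec.map_comp, ← CommRingCat.ofHom_comp, ← CommRingCat.ofHom_comp,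
      δ_comp]
    rfl
  have h2 : Spec.map (CommRingCat.ofHom (δ A B p n)) =
      Spec.map (CommRingCat.ofHom (γ A B p n)) ≫
        Spec.map (CommRingCat.ofHom (Ideal.Quotient.mk (Ip A B p ^ n))) := by
    rw [← Spec.map_comp, ← CommRingCat.ofHom_comp, γ_comp_mk]
  have h3 : Spec.map (CommRingCat.ofHom (γ A B p n)) ≫
      Spec.map (CommRingCat.ofHom (β A B p n)) =
      Spec.map (CommRingCat.ofHom (algebraMap (B ⧸ J A B n)
        (Localization.Away (e' A B p n)))) := by
    rw [← Spec.map_comp, ← CommRingCat.ofHom_comp, γ_comp_β]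
  rw [← Category.assoc, h1, Category.assoc, hF p, h2, Category.assoc, hfp p n, ← Category.assoc,
    h3]

end Groth.Agent.Lib.Helper47.FinSpecLim
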