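import Mathlib

/-!
Finite flat modules: upper semicontinuity of the rank, and projectivity when the rank is locally
constant.
-/

namespace Groth.Agent.Lib.Helper47.FlatRank

open Module LocalizedModule

universe u

variable {R : Type u} [CommRing R]


theorem rankAtStalk_le_of_surjective {N N' : Type u} [AddCommGroup N] [Module R N]
    [AddCommGroup N'] [Module R N'] [Module.Finite R N] (f : N →ₗ[R] N')
    (hf : Function.Surjective f) (p : PrimeSpectrum R) : rankAtStalk N' p ≤ rankAtStalk N p := by
  unfold rankAtStalk
  exact LinearMap.finrank_le_finrank_of_surjective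
    (f := LocalizedModule.map p.asIdeal.primeCompl f)
    (LocalizedModule.map_surjective p.asIdeal.primeCompl f hf)

variable (M : Type u) [AddCommGroup M] [Module R M] [Module.Finite R M] [Module.Flat R M]

theorem rankAtStalk_finsupp (n : ℕ) (p : PrimeSpectrum R) :
    rankAtStalk (R := R) (Fin n →₀ R) p = n := by
  have : Nontrivial R := p.nontrivial
  rw [rankAtStalk_eq_finrank_of_free]
  simp

theorem rankAtStalk_away (N : Type u) [AddCommGroup N] [Module R N] [Module.Finite R N]
    [Module.Flat R N] (a : R) (q' : PrimeSpectrum (Localization.Away a)) :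
    rankAtStalk (LocalizedModule (Submonoid.powers a) N) q' =
      rankAtStalk N (PrimeSpectrum.comap (algebraMap R (Localization.Away a)) q') :=
  rankAtStalk_isBaseChange (LocalizedModule.isBaseChange (Submonoid.powers a) N) q'

theorem rankAtStalk_away_le (a : R) (n₀ : ℕ) (φ : (Fin n₀ →₀ R) →ₗ[R] M)
    (hφ : Function.Surjective (LocalizedModule.map (Submonoid.powers a) φ))
    (q' : PrimeSpectrum (Localization.Away a)) :
    rankAtStalk M (PrimeSpectrum.comap (algebraMap R (Localization.Away a)) q') ≤ n₀ := by
  have h1 := rankAtStalk_away M a q'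
  have h2 := rankAtStalk_away (Fin n₀ →₀ R) a q'
  have h3 := rankAtStalk_le_of_surjective (R := Localization.Away a)
    (N := LocalizedModule (Submonoid.powers a) (Fin n₀ →₀ R))
    (N' := LocalizedModule (Submonoid.powers a) M) (LocalizedModule.map (Submonoid.powers a) φ) hφ q'
  rw [rankAtStalk_finsupp] at h2
  rw [← h1, ← h2]
  exact h3

/-- Upper semicontinuity of the rank of a finite flat module. -/
theorem isOpen_setOf_rankAtStalk_le (n : ℕ) :
    IsOpen {p : PrimeSpectrum R | rankAtStalk M p ≤ n} := by
  rw [isOpen_iff_forall_mem_open]
  intro P hP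
  obtain ⟨p, hp⟩ := P
  have : ∀ (A : Type u) [CommRing A] [IsLocalRing A] (N : Type u) [AddCommGroup N] [Module A N]
      [Module.Finite A N] [Module.Flat A N], Module.Free A N :=
    fun A _ _ N _ _ _ _ => Module.free_of_flat_of_isLocalRing
  let Rₚ := Localization.AtPrime p
  let n₀ := rankAtStalk M ⟨p, hp⟩
  let f : (Fin n₀ →₀ R) →ₗ[R] Fin n₀ →₀ Rₚ := Finsupp.mapRange.linearMap (Algebra.linearMap R Rₚ)
  let g : M →ₗ[R] LocalizedModule.AtPrime p M := LocalizedModule.mkLinearMap p.primeCompl M
  obtain ⟨φ, -, -, hφps⟩ := exists_localizedMap_surjective_of_surjective p.primeCompl f g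
    ((finBasis Rₚ (LocalizedModule.AtPrime p M)).repr.restrictScalars R).symm.surjective
  obtain ⟨a, hap, hφas⟩ := by
    refine exists_localizedMap_away_surjective_of_localizedMap_atPrime_surjective p φ ?_
    simpa [LocalizedModule.coe_map_eq f g]
  refine ⟨PrimeSpectrum.basicOpen a, ?_, (PrimeSpectrum.basicOpen a).2, hap⟩
  intro q hq
  have hq' : q ∈ Set.range (PrimeSpectrum.comap (algebraMap R (Localization.Away a))) := by
    rw [PrimeSpectrum.localization_away_comap_range (Localization.Away a) a]
    exact hq
  obtain ⟨q', rfl⟩ := hq'
  exact (rankAtStalk_away_le M a n₀ φ hφas q').trans hP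

theorem isClosed_setOf_le_rankAtStalk (r : ℕ) :
    IsClosed {p : PrimeSpectrum R | r ≤ rankAtStalk M p} := by
  rcases Nat.eq_zero_or_pos r with rfl | hr
  · simp
  · have : {p : PrimeSpectrum R | r ≤ rankAtStalk M p} =
        {p : PrimeSpectrum R | rankAtStalk M p ≤ r - 1}ᶜ := by
      ext p
      simp only [Set.mem_ofPred_eq, Set.mem_compl_iff, not_le]
      omega
    rw [this]
    exact (isOpen_setOf_rankAtStalk_le M (r - 1)).isClosed_compl

/-- A finite flat module of constant rank is finitely presented. -/
theorem finitePresentation_of_rankAtStalk_const (r : ℕ) (h : ∀ p : PrimeSpectrum R, rankAtStalk M p = r) :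
    Module.FinitePresentation R M := by
  let s : Set R := {a | Module.FinitePresentation (Localization.Away a) (LocalizedModule.Away a M)}
  apply Module.FinitePresentation.of_localizationSpan s ?_ (fun g => g.2)
  by_contra hne
  obtain ⟨m, hm, hle⟩ := Ideal.exists_le_maximal _ hne
  have := hm.isPrime
  obtain ⟨a, ham, hfree⟩ := Module.Free.away_of_finite_of_flat_of_rankAtStalk_constant M m
    (fun m' _ => by rw [h, h])
  apply ham
  apply hle
  apply Ideal.subset_span
  change Module.FinitePresentation (Localization.Away a) (LocalizedModule.Away a M)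
  have := hfree
  exact Module.finitePresentation_of_projective _ _

/-- A finite flat module with locally constant rank is finitely presented. -/
theorem finitePresentation_of_isLocallyConstant_rankAtStalk
    (h : IsLocallyConstant (rankAtStalk (R := R) M)) : Module.FinitePresentation R M := by
  let s : Set R := {a | Module.FinitePresentation (Localization.Away a) (LocalizedModule.Away a M)}
  apply Module.FinitePresentation.of_localizationSpan s ?_ (fun g => g.2)
  by_contra hne
  obtain ⟨m, hm, hle⟩ := Ideal.exists_le_maximal _ hne
  let P : PrimeSpectrum R := ⟨m, hm.isPrime⟩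
  have hopen : IsOpen {q : PrimeSpectrum R | rankAtStalk M q = rankAtStalk M P} :=
    h.isOpen_fiber _
  obtain ⟨_, ⟨b, rfl⟩, hPb, hsub⟩ :=
    PrimeSpectrum.isTopologicalBasis_basic_opens.exists_subset_of_mem_open
      (show P ∈ {q : PrimeSpectrum R | rankAtStalk M q = rankAtStalk M P} from rfl) hopen
  apply hPb
  apply hle
  apply Ideal.subset_span
  change Module.FinitePresentation (Localization.Away b) (LocalizedModule.Away b M)
  apply finitePresentation_of_rankAtStalk_const (R := Localization.Away b)
    (LocalizedModule.Away b M) (rankAtStalk M P)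
  intro q'
  rw [rankAtStalk_away M b q']
  apply hsub
  have : PrimeSpectrum.comap (algebraMap R (Localization.Away b)) q' ∈
      Set.range (PrimeSpectrum.comap (algebraMap R (Localization.Away b))) := ⟨q', rfl⟩
  rw [PrimeSpectrum.localization_away_comap_range (Localization.Away b) b] at this
  exact this

/-- A finite flat module with locally constant rank is projective. -/
theorem projective_of_isLocallyConstant_rankAtStalk
    (h : IsLocallyConstant (rankAtStalk (R := R) M)) : Module.Projective R M := by
  have := finitePresentation_of_isLocallyConstant_rankAtStalk M h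
  exact Module.Flat.projective_of_finitePresentation

end Groth.Agent.Lib.Helper47.FlatRank
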