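import Groth.Agent.Lib.Helper47.PureIdeal
import Mathlib

set_option autoImplicit false
universe u
open CategoryTheory AlgebraicGeometry TopologicalSpace

namespace Groth.Agent.Lib.Helper47.PureSheaf

open Groth.Agent.Lib.Helper47.PureIdeal

variable {X : Scheme.{u}}

/-- on an affine open, the ideal of a flat closed subscheme is pure -/
theorem isPureC_of_flat (I : X.IdealSheafData) (hI : Flat I.subschemeι) (U : X.affineOpens) :
    IsPureC (I.ideal U) := by
  have hV : IsAffineOpen (I.subschemeι ⁻¹ᵁ U.1) := U.2.preimage I.subschemeι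
  have hflat : (I.subschemeι.app U.1).hom.Flat := by
    have := HasRingHomProperty.appLE (P := @Flat) I.subschemeι hI U ⟨_, hV⟩ le_rfl
    rwa [Scheme.Hom.appLE_eq_app] at this
  have hsurj : Function.Surjective (I.subschemeι.app U.1).hom := I.subschemeι_app_surjective U
  have hker : RingHom.ker (I.subschemeι.app U.1).hom = I.ideal U := I.ker_subschemeι_app U
  letI := (I.subschemeι.app U.1).hom.toAlgebra
  haveI : Module.Flat Γ(X, U.1) Γ(I.subscheme, I.subschemeι ⁻¹ᵁ U.1) := hflat
  haveI : (I.ideal U).Pure := by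
    rw [← hker]
    let e : (Γ(X, U.1) ⧸ RingHom.ker (I.subschemeι.app U.1).hom) ≃ₗ[Γ(X, U.1)]
        Γ(I.subscheme, I.subschemeι ⁻¹ᵁ U.1) :=
      { (RingHom.quotientKerEquivOfSurjective hsurj) with
        map_smul' := by
          intro c x
          obtain ⟨x, rfl⟩ := Ideal.Quotient.mk_surjective x
          simp [Algebra.smul_def, RingHom.algebraMap_toAlgebra] }
    exact Module.Flat.of_linearEquiv e
  exact isPureC_of_pure

theorem preimage_support (I : X.IdealSheafData) (U : X.affineOpens) :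
    U.2.fromSpec ⁻¹' (I.support : Set X) = PrimeSpectrum.zeroLocus (I.ideal U : Set Γ(X, U.1)) := by
  rw [← U.2.fromSpec_preimage_zeroLocus]
  ext p
  have hp : U.2.fromSpec p ∈ U.1 := by
    have : U.2.fromSpec p ∈ Set.range U.2.fromSpec := ⟨p, rfl⟩
    rwa [U.2.range_fromSpec] at this
  exact I.mem_support_iff_of_mem hp

theorem eq_of_flat_of_support_eq (I J : X.IdealSheafData) (hI : Flat I.subschemeι)
    (hJ : Flat J.subschemeι) (h : I.support = J.support) : I = J := by
  apply Scheme.IdealSheafData.ext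
  funext U
  apply eq_of_isPureC_of_zeroLocus_eq (isPureC_of_flat I hI U) (isPureC_of_flat J hJ U)
  rw [← preimage_support, ← preimage_support, h]

/-- a closed subscheme whose ideals on affine opens are pure is flat -/
theorem flat_of_isPureC (I : X.IdealSheafData) (h : ∀ U : X.affineOpens, IsPureC (I.ideal U)) :
    Flat I.subschemeι := by
  apply Flat.of_stalkMap
  intro z
  apply RingHom.Flat.of_bijective
  refine ⟨?_, I.subschemeι.stalkMap_surjective z⟩
  obtain ⟨_, ⟨U, hU, rfl⟩, hxU, -⟩ :=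
    X.isBasis_affineOpens.exists_subset_of_mem_open (Set.mem_univ (I.subschemeι z)) isOpen_univ
  refine hU.stalkMap_injective I.subschemeι z hxU ?_
  intro g hg
  have hV : IsAffineOpen (I.subschemeι ⁻¹ᵁ U) := hU.preimage I.subschemeι
  have hsurj : Function.Surjective (I.subschemeι.app U).hom := I.subschemeι_app_surjective ⟨U, hU⟩
  have hker : RingHom.ker (I.subschemeι.app U).hom = I.ideal ⟨U, hU⟩ := I.ker_subschemeι_app ⟨U, hU⟩
  letI algZ := I.subscheme.presheaf.algebra_section_stalk (U := I.subschemeι ⁻¹ᵁ U) ⟨z, hxU⟩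
  haveI locZ := hV.isLocalization_stalk ⟨z, hxU⟩
  have hcomm : ∀ a : Γ(X, U), (I.subschemeι.stalkMap z).hom (X.presheaf.germ U (I.subschemeι z) hxU a) =
      I.subscheme.presheaf.germ (I.subschemeι ⁻¹ᵁ U) z hxU ((I.subschemeι.app U).hom a) :=
    fun a => I.subschemeι.germ_stalkMap_apply U z hxU a
  have h0 : I.subscheme.presheaf.germ (I.subschemeι ⁻¹ᵁ U) z hxU ((I.subschemeι.app U).hom g) = 0 := by
    rw [← hcomm]; exact hg
  obtain ⟨m, hm⟩ := (IsLocalization.map_eq_zero_iff
    (hV.primeIdealOf ⟨z, hxU⟩).asIdeal.primeCompl (I.subscheme.presheaf.stalk z) _).mp h0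
  obtain ⟨m', hm'⟩ := hsurj m.1
  have hm'u : IsUnit (X.presheaf.germ U (I.subschemeι z) hxU m') := by
    apply isUnit_of_map_unit (I.subschemeι.stalkMap z).hom
    rw [hcomm, hm']
    exact IsLocalization.map_units (M := (hV.primeIdealOf ⟨z, hxU⟩).asIdeal.primeCompl)
      (I.subscheme.presheaf.stalk z) m
  have hmem : m' * g ∈ I.ideal ⟨U, hU⟩ := by
    rw [← hker, RingHom.mem_ker, map_mul, hm']
    exact hm
  obtain ⟨y, hy, hxy⟩ := h ⟨U, hU⟩ _ hmem
  have hyu : IsUnit (1 - X.presheaf.germ U (I.subschemeι z) hxU y) := by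
    apply IsLocalRing.isUnit_one_sub_self_of_mem_nonunits
    intro hu
    have h1 : IsUnit ((I.subschemeι.stalkMap z).hom (X.presheaf.germ U (I.subschemeι z) hxU y)) :=
      hu.map _
    rw [hcomm] at h1
    have h2 : (I.subschemeι.app U).hom y = 0 := by
      have : y ∈ RingHom.ker (I.subschemeι.app U).hom := by rw [hker]; exact hy
      exact this
    rw [h2, map_zero] at h1
    exact not_isUnit_zero h1
  have hzero : X.presheaf.germ U (I.subschemeι z) hxU m' *
      (1 - X.presheaf.germ U (I.subschemeι z) hxU y) * X.presheaf.germ U (I.subschemeι z) hxU g = 0 := by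
    have e : m' * (1 - y) * g = 0 := by linear_combination hxy
    have := congrArg (X.presheaf.germ U (I.subschemeι z) hxU) e
    simpa using this
  exact (hm'u.mul hyu).mul_right_eq_zero.mp hzero

/-- a morphism landing in the support of a flat closed subscheme factors through it -/
theorem exists_lift_of_flat (I : X.IdealSheafData) (hI : Flat I.subschemeι) (Y : Scheme.{u}) (g : Y ⟶ X)
    (hg : Set.range g ⊆ (I.support : Set X)) : ∃ g' : Y ⟶ I.subscheme, g' ≫ I.subschemeι = g := by
  have hle : I.subschemeι.ker ≤ g.ker := by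
    rw [Scheme.IdealSheafData.ker_subschemeι]
    unfold Scheme.Hom.ker
    rw [Scheme.IdealSheafData.le_ofIdeals_iff]
    intro U a ha
    rw [RingHom.mem_ker]
    obtain ⟨b, hb, hab⟩ := isPureC_of_flat I hI U a ha
    apply TopCat.Presheaf.section_ext Y.sheaf (g ⁻¹ᵁ U.1)
    intro y hy
    change Y.presheaf.germ (g ⁻¹ᵁ U.1) y hy ((g.app U.1).hom a) =
      Y.presheaf.germ (g ⁻¹ᵁ U.1) y hy 0
    rw [map_zero, ← g.germ_stalkMap_apply U.1 y hy a]
    have hsupp : g y ∈ I.support := hg ⟨y, rfl⟩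
    have hz : g y ∈ X.zeroLocus (U := U.1) (I.ideal U) := (I.mem_support_iff_of_mem hy).mp hsupp
    have hbu : ¬ IsUnit (X.presheaf.germ U.1 (g y) hy b) := by
      rw [← Scheme.mem_basicOpen X b (g y) hy]
      exact (Scheme.mem_zeroLocus_iff _ _ _).mp hz b hb
    have hunit : IsUnit (1 - X.presheaf.germ U.1 (g y) hy b) :=
      IsLocalRing.isUnit_one_sub_self_of_mem_nonunits _ hbu
    have e : X.presheaf.germ U.1 (g y) hy a * (1 - X.presheaf.germ U.1 (g y) hy b) = 0 := by
      have e' : a * (1 - b) = 0 := by linear_combination hab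
      have := congrArg (X.presheaf.germ U.1 (g y) hy) e'
      simpa using this
    have h0 : X.presheaf.germ U.1 (g y) hy a = 0 := hunit.mul_left_eq_zero.mp e
    rw [h0, map_zero]
  exact ⟨IsClosedImmersion.lift I.subschemeι g hle, IsClosedImmersion.lift_fac _ _ _⟩

theorem zeroLocus_map' {A B : Type*} [CommRing A] [CommRing B] (φ : A →+* B) (I : Ideal A) :
    PrimeSpectrum.zeroLocus (I.map φ : Set B) =
      PrimeSpectrum.comap φ ⁻¹' PrimeSpectrum.zeroLocus (I : Set A) := by
  unfold Ideal.map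
  rw [PrimeSpectrum.zeroLocus_span, PrimeSpectrum.preimage_comap_zeroLocus]

section Construction

variable (Z : Closeds X) (hZ : StableUnderGeneralization (Z : Set X))

/-- the trace of `Z` on `Spec Γ(X, U)` -/
def ZU (U : X.affineOpens) : Set (PrimeSpectrum Γ(X, U.1)) := U.2.fromSpec ⁻¹' (Z : Set X)

theorem isClosed_ZU (U : X.affineOpens) : IsClosed (ZU Z U) :=
  Z.isClosed.preimage U.2.fromSpec.continuous

include hZ in
theorem stable_ZU (U : X.affineOpens) : StableUnderGeneralization (ZU Z U) :=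
  hZ.preimage U.2.fromSpec.continuous

theorem ZU_basicOpen (U : X.affineOpens) (f : Γ(X, U.1)) :
    ZU Z (X.affineBasicOpen f) =
      PrimeSpectrum.comap (X.presheaf.map (homOfLE <| X.basicOpen_le f).op).hom ⁻¹' ZU Z U := by
  have h := U.2.map_fromSpec (X.affineBasicOpen f).2 (homOfLE <| X.basicOpen_le f).op
  ext p
  unfold ZU
  simp only [Set.mem_preimage]
  rw [← h]
  rfl

include hZ in
theorem map_pureOf_basicOpen (U : X.affineOpens) (f : Γ(X, U.1)) :
    (pureOf (ZU Z U)).map (X.presheaf.map (homOfLE <| X.basicOpen_le f).op).hom =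
      pureOf (ZU Z (X.affineBasicOpen f)) := by
  have h1 : IsPureC ((pureOf (ZU Z U)).map (X.presheaf.map (homOfLE <| X.basicOpen_le f).op).hom) :=
    (isPureC_pureOf' _ (isClosed_ZU Z U) (stable_ZU Z hZ U)).map _
  have h2 : IsPureC (pureOf (ZU Z (X.affineBasicOpen f))) :=
    isPureC_pureOf' _ (isClosed_ZU Z _) (stable_ZU Z hZ _)
  refine eq_of_isPureC_of_zeroLocus_eq h1 h2 ?_
  have e1 := zeroLocus_pureOf' _ (isClosed_ZU Z (X.affineBasicOpen f)) (stable_ZU Z hZ _)
  have e2 := zeroLocus_pureOf' _ (isClosed_ZU Z U) (stable_ZU Z hZ U)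
  exact (zeroLocus_map' _ _).trans
    ((congrArg (fun S => PrimeSpectrum.comap
      (X.presheaf.map (homOfLE <| X.basicOpen_le f).op).hom ⁻¹' S) e2).trans
      ((ZU_basicOpen Z U f).symm.trans e1.symm))

/-- the pure ideal sheaf with support `Z` -/
noncomputable def ofClosed : X.IdealSheafData :=
  Scheme.IdealSheafData.mkOfMemSupportIff
    (fun U => pureOf (ZU Z U))
    (map_pureOf_basicOpen Z hZ)
    (Z : Set X)
    (by
      intro U x hx
      have h1 : U.2.fromSpec (U.2.primeIdealOf ⟨x, hx⟩) = x := U.2.fromSpec_primeIdealOf ⟨x, hx⟩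
      have h2 := U.2.fromSpec_preimage_zeroLocus (pureOf (ZU Z U) : Set Γ(X, U.1))
      rw [zeroLocus_pureOf' _ (isClosed_ZU Z U) (stable_ZU Z hZ U)] at h2
      constructor
      · intro hxZ
        have hp : U.2.primeIdealOf ⟨x, hx⟩ ∈ ZU Z U := by
          change U.2.fromSpec (U.2.primeIdealOf ⟨x, hx⟩) ∈ (Z : Set X)
          rw [h1]; exact hxZ
        rw [← h2] at hp
        have hp' : U.2.fromSpec (U.2.primeIdealOf ⟨x, hx⟩) ∈
            X.zeroLocus (pureOf (ZU Z U) : Set Γ(X, U.1)) := hp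
        rwa [h1] at hp'
      · intro hxz
        have hp' : U.2.fromSpec (U.2.primeIdealOf ⟨x, hx⟩) ∈
            X.zeroLocus (pureOf (ZU Z U) : Set Γ(X, U.1)) := by rw [h1]; exact hxz
        have hp : U.2.primeIdealOf ⟨x, hx⟩ ∈
            U.2.fromSpec ⁻¹' X.zeroLocus (pureOf (ZU Z U) : Set Γ(X, U.1)) := hp'
        rw [h2] at hp
        have hp2 : U.2.fromSpec (U.2.primeIdealOf ⟨x, hx⟩) ∈ (Z : Set X) := hp
        rwa [h1] at hp2)

theorem ofClosed_ideal (U : X.affineOpens) : (ofClosed Z hZ).ideal U = pureOf (ZU Z U) := rfl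

theorem ofClosed_support : (ofClosed Z hZ).support = Z := by
  ext x
  rfl

end Construction

end Groth.Agent.Lib.Helper47.PureSheaf
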