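import Groth.Agent.Lib.Helper21.QuotIdeal
import Groth.Agent.Lib.Helper29.QCohUnit

/-!
Sections of `O_X / I` over an affine open.
-/

set_option autoImplicit false
set_option linter.style.haveILetI false
universe u

open AlgebraicGeometry CategoryTheory Opposite TopologicalSpace Limits

namespace Groth.Agent.Lib.Helper47.QuotSec

open Groth.Agent.Lib.Helper21.QuotIdeal Groth.Agent.Lib.Helper21.QCohSections
  Groth.Agent.Lib.Helper21.IdealMulSec Groth.Agent.Lib.Helper21.ClImmDev
  Groth.Agent.Lib.Helper29.QCohLoc

variable {X : Scheme.{u}} (I : X.IdealSheafData)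

/-- `O_X / I` -/
noncomputable abbrev quotO : X.Modules := quot I (Coh.structureModule X)

instance : (quotO I).IsQuasicoherent := by
  haveI := isQuasicoherent_structureModule X
  exact Groth.Agent.Lib.Helper21.QCohKernel.isQuasicoherent_cokernel _

theorem isFT_quotO : CohB1.IsFT (quotO I) := by
  haveI := isQuasicoherent_structureModule X
  exact Groth.Agent.Lib.Helper21.CohNoeth.isFiniteType_of_epi
    (cokernel.π (Dual3.idealMulι I (Coh.structureModule X))) (isCoh_structureModule X).2

/-- the quotient map on sections, as a linear map from `Γ(X, U)` -/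
noncomputable def quotMap (U : X.Opens) : Γ(X, U) →ₗ[Γ(X, U)] Γ(quotO I, U) where
  toFun a := (cokernel.π (Dual3.idealMulι I (Coh.structureModule X))).app U (ofSec X a)
  map_add' a b := map_add _ (ofSec X a) (ofSec X b)
  map_smul' r a := by
    have := (appL (cokernel.π (Dual3.idealMulι I (Coh.structureModule X))) U).map_smul r (ofSec X a)
    exact this

theorem quotMap_surjective {U : X.Opens} (hU : IsAffineOpen U) :
    Function.Surjective (quotMap I U) := by
  haveI := isQuasicoherent_structureModule X
  intro m
  obtain ⟨f, hf⟩ := app_surjective_of_epi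
    (cokernel.π (Dual3.idealMulι I (Coh.structureModule X))) hU m
  exact ⟨toSec X f, hf⟩

theorem ker_quotMap {U : X.Opens} (hU : IsAffineOpen U) :
    LinearMap.ker (quotMap I U) = (I.ideal ⟨U, hU⟩).restrictScalars Γ(X, U) := by
  haveI := isQuasicoherent_structureModule X
  have hex := sections_exact _ (shortExact_mono_cokernel
    (Dual3.idealMulι I (Coh.structureModule X))) U
  ext a
  rw [LinearMap.mem_ker]
  change (cokernel.π (Dual3.idealMulι I (Coh.structureModule X))).app U (ofSec X a) = 0 ↔ _
  rw [hex (ofSec X a)]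
  rw [mem_range_idealMulι_app_iff I (Coh.structureModule X) hU]
  simp only [Submodule.restrictScalars_mem]
  constructor
  · intro h
    have key : ∀ m ∈ I.ideal ⟨U, hU⟩ • (⊤ : Submodule Γ(X, U) Γ(Coh.structureModule X, U)),
        toSec X m ∈ I.ideal ⟨U, hU⟩ := by
      intro m hm
      refine Submodule.smul_induction_on hm ?_ ?_
      · intro r hr m _
        exact Ideal.mul_mem_right (toSec X m) _ hr
      · intro x y hx hy
        exact Ideal.add_mem _ hx hy
    exact key _ h
  · intro h
    have h1 : ofSec X a = a • ofSec X (1 : Γ(X, U)) := by rw [smul_ofSec, mul_one]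
    rw [h1]
    exact Submodule.smul_mem_smul h Submodule.mem_top

/-- `Γ(O_X / I, U) ≃ Γ(X, U) / I(U)` on affine opens. -/
noncomputable def quotEquiv {U : X.Opens} (hU : IsAffineOpen U) :
    (Γ(X, U) ⧸ I.ideal ⟨U, hU⟩) ≃ₗ[Γ(X, U)] Γ(quotO I, U) :=
  (Submodule.quotEquivOfEq _ _ (ker_quotMap I hU).symm).trans
    ((quotMap I U).quotKerEquivOfSurjective (quotMap_surjective I hU))

end Groth.Agent.Lib.Helper47.QuotSec
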