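import Groth.Agent.Lib.Helper47.FlatRankSch
import Groth.Agent.Lib.Helper47.QuotSec
import Groth.Agent.Lib.Helper47.PureSheaf

set_option autoImplicit false
set_option linter.style.haveILetI false
universe u

open AlgebraicGeometry CategoryTheory Opposite TopologicalSpace Limits

namespace Groth.Agent.Lib.Helper47.FlatRankSch

open Groth.Agent.Lib.Helper47.QuotSec Groth.Agent.Lib.Helper47.PureSheaf
  Groth.Agent.Lib.Helper47.PureIdeal Groth.Agent.Lib.Helper2.FinLocFreeAff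

variable {X : Scheme.{u}}

theorem isOpen_of_forall_isFinLocFree
    (h : ∀ F : X.Modules, Coh.IsQCoh F → CohB1.IsFT F → FlatMod.IsFlat F → FlatMod.IsFinLocFree F)
    (Z : Set X) (hZc : IsClosed Z) (hZ : StableUnderGeneralization Z) : IsOpen Z := by
  let Zc : Closeds X := ⟨Z, hZc⟩
  let I := PureSheaf.ofClosed Zc hZ
  have hpure : ∀ U : X.affineOpens, IsPureC (I.ideal U) := fun U =>
    isPureC_pureOf' _ (isClosed_ZU Zc U) (stable_ZU Zc hZ U)
  have hflat : FlatMod.IsFlat (quotO I) := by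
    intro x
    obtain ⟨_, ⟨U, hU : IsAffineOpen U, rfl⟩, hxU, -⟩ :=
      (X.isBasis_affineOpens).exists_subset_of_mem_open (Set.mem_univ x) isOpen_univ
    have : Module.Flat Γ(X, U) Γ(quotO I, U) := by
      haveI : (I.ideal ⟨U, hU⟩).Pure := (hpure ⟨U, hU⟩).pure
      exact Module.Flat.of_linearEquiv (quotEquiv I hU).symm
    exact (flat_sections_iff_isFlatAt _ hU).1 this x hxU
  have hlf := h (quotO I) inferInstance (isFT_quotO I) hflat
  rw [isOpen_iff_forall_mem_open]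
  intro x hx
  obtain ⟨_, ⟨U, hU : IsAffineOpen U, rfl⟩, hxU, -⟩ :=
    (X.isBasis_affineOpens).exists_subset_of_mem_open (Set.mem_univ x) isOpen_univ
  obtain ⟨hfin, hproj⟩ := (isFinLocFree_iff_sections (quotO I)).1 hlf U hU
  have hproj' : Module.Projective Γ(X, U) (Γ(X, U) ⧸ I.ideal ⟨U, hU⟩) :=
    Module.Projective.of_equiv (quotEquiv I hU).symm
  have hfg : (I.ideal ⟨U, hU⟩).FG := by
    haveI : Module.FinitePresentation Γ(X, U) (Γ(X, U) ⧸ I.ideal ⟨U, hU⟩) :=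
      Module.finitePresentation_of_projective _ _
    have := Module.FinitePresentation.fg_ker (Submodule.mkQ (I.ideal ⟨U, hU⟩))
      (Submodule.mkQ_surjective _)
    rwa [Submodule.ker_mkQ] at this
  have hidem : IsIdempotentElem (I.ideal ⟨U, hU⟩) := by
    apply le_antisymm
    · exact Ideal.mul_le_right
    · intro a ha
      obtain ⟨y, hy, hay⟩ := hpure ⟨U, hU⟩ a ha
      rw [hay]
      exact Ideal.mul_mem_mul ha hy
  obtain ⟨e, he, hIe⟩ := (Ideal.isIdempotentElem_iff_of_fg _ hfg).1 hidem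
  have hz : PrimeSpectrum.zeroLocus (I.ideal ⟨U, hU⟩ : Set Γ(X, U)) = ZU Zc ⟨U, hU⟩ :=
    zeroLocus_pureOf' _ (isClosed_ZU Zc ⟨U, hU⟩) (stable_ZU Zc hZ ⟨U, hU⟩)
  have hopen : IsOpen (ZU Zc ⟨U, hU⟩) := by
    rw [← hz, hIe]
    change IsOpen (PrimeSpectrum.zeroLocus ((Ideal.span {e} : Ideal Γ(X, U)) : Set Γ(X, U)))
    rw [PrimeSpectrum.zeroLocus_span, PrimeSpectrum.zeroLocus_eq_basicOpen_of_isIdempotentElem e he]
    exact (PrimeSpectrum.basicOpen (1 - e)).2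
  refine ⟨hU.fromSpec '' (ZU Zc ⟨U, hU⟩), ?_, hU.fromSpec.isOpenEmbedding.isOpenMap _ hopen, ?_⟩
  · rintro _ ⟨p, hp, rfl⟩
    exact hp
  · refine ⟨hU.primeIdealOf ⟨x, hxU⟩, ?_, hU.fromSpec_primeIdealOf ⟨x, hxU⟩⟩
    change hU.fromSpec _ ∈ Z
    rw [hU.fromSpec_primeIdealOf ⟨x, hxU⟩]
    exact hx

end Groth.Agent.Lib.Helper47.FlatRankSch
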