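import Groth.Agent.Lib.Helper47.FlatRank
import Groth.Agent.Lib.Helper2.FinLocFreeAff
import Groth.Agent.Lib.Helper21.QCohFinite

/-!
Finite type flat quasi-coherent modules: the rank function on a scheme.
-/

set_option autoImplicit false
set_option linter.style.haveILetI false
universe u

open AlgebraicGeometry CategoryTheory Opposite TopologicalSpace Module

namespace Groth.Agent.Lib.Helper47.FlatRankSch

open Groth.Agent.Lib.Lead.QCohAff Groth.Agent.Lib.Lead.PullbackAff
open Groth.Agent.Lib.Helper2.FinLocFreeAff Groth.Agent.Lib.Helper21.QCohFinite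

variable {X : Scheme.{u}} (F : X.Modules)

/-- The rank of the stalk of `F` at `y` (at the closed point of the local ring). -/
noncomputable def rho (y : X) : ℕ :=
  Module.rankAtStalk (R := X.presheaf.stalk y) (F.presheaf.stalk y)
    (IsLocalRing.closedPoint (X.presheaf.stalk y))

theorem rho_eq [F.IsQuasicoherent] {U : X.Opens} (hU : IsAffineOpen U)
    [Module.Finite Γ(X, U) Γ(F, U)] [Module.Flat Γ(X, U) Γ(F, U)] (y : X) (hy : y ∈ U) :
    rho F y = rankAtStalk Γ(F, U) (hU.primeIdealOf ⟨y, hy⟩) := by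
  letI := X.presheaf.algebra_section_stalk ⟨y, hy⟩
  haveI := hU.isLocalization_stalk ⟨y, hy⟩
  haveI : IsScalarTower Γ(X, U) (X.presheaf.stalk y) (StalkOver F U y hy) :=
    IsScalarTower.of_algebraMap_smul fun r m => rfl
  haveI := isLocalizedModule_germL F hU y hy
  have hbc : IsBaseChange (X.presheaf.stalk y) (germL F U y hy) :=
    (isLocalizedModule_iff_isBaseChange (hU.primeIdealOf ⟨y, hy⟩).asIdeal.primeCompl
      (X.presheaf.stalk y) (germL F U y hy)).mp inferInstance
  have h1 := Module.rankAtStalk_isBaseChange hbc (IsLocalRing.closedPoint (X.presheaf.stalk y))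
  have h2 : PrimeSpectrum.comap (algebraMap Γ(X, U) (X.presheaf.stalk y))
      (IsLocalRing.closedPoint (X.presheaf.stalk y)) = hU.primeIdealOf ⟨y, hy⟩ :=
    PrimeSpectrum.ext (IsLocalization.AtPrime.under_maximalIdeal (X.presheaf.stalk y)
      (hU.primeIdealOf ⟨y, hy⟩).asIdeal)
  rw [← h2, ← h1]
  rfl

variable [F.IsQuasicoherent] (hft : CohB1.IsFT F) (hflat : FlatMod.IsFlat F)
include hft hflat

theorem isOpen_setOf_rho_le (n : ℕ) : IsOpen {y : X | rho F y ≤ n} := by
  rw [isOpen_iff_forall_mem_open]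
  intro y hy
  obtain ⟨_, ⟨U, hU : IsAffineOpen U, rfl⟩, hyU, -⟩ :=
      (X.isBasis_affineOpens).exists_subset_of_mem_open (Set.mem_univ y) isOpen_univ
  haveI := finite_sections_of_isFiniteType F hft hU
  haveI : Module.Flat Γ(X, U) Γ(F, U) := (flat_sections_iff_isFlatAt F hU).2 (fun x _ => hflat x)
  have hop := FlatRank.isOpen_setOf_rankAtStalk_le (R := Γ(X, U)) Γ(F, U) n
  refine ⟨hU.fromSpec '' {p | rankAtStalk Γ(F, U) p ≤ n}, ?_,
    hU.fromSpec.isOpenEmbedding.isOpenMap _ hop, ?_⟩
  · rintro _ ⟨p, hp, rfl⟩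
    have hmem := fromSpec_mem hU p
    change rho F _ ≤ n
    rw [rho_eq F hU _ hmem, primeIdealOf_fromSpec hU p hmem]
    exact hp
  · refine ⟨hU.primeIdealOf ⟨y, hyU⟩, ?_, hU.fromSpec_primeIdealOf ⟨y, hyU⟩⟩
    change rankAtStalk _ _ ≤ n
    rw [← rho_eq F hU y hyU]
    exact hy

theorem rho_eq_of_specializes {y z : X} (h : y ⤳ z) : rho F y = rho F z := by
  obtain ⟨_, ⟨U, hU : IsAffineOpen U, rfl⟩, hzU, -⟩ :=
      (X.isBasis_affineOpens).exists_subset_of_mem_open (Set.mem_univ z) isOpen_univ
  have hyU : y ∈ U := h.mem_open U.2 hzU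
  haveI := finite_sections_of_isFiniteType F hft hU
  haveI : Module.Flat Γ(X, U) Γ(F, U) := (flat_sections_iff_isFlatAt F hU).2 (fun x _ => hflat x)
  rw [rho_eq F hU y hyU, rho_eq F hU z hzU]
  apply Module.rankAtStalk_eq_of_le_of_finite_of_flat
  rw [PrimeSpectrum.le_iff_specializes]
  refine (hU.fromSpec.isOpenEmbedding.isInducing.specializes_iff).1 ?_
  rw [hU.fromSpec_primeIdealOf ⟨y, hyU⟩, hU.fromSpec_primeIdealOf ⟨z, hzU⟩]
  exact h

theorem isLocallyConstant_rho
    (hX : ∀ Z : Set ↑X, IsClosed Z → StableUnderGeneralization Z → IsOpen Z) :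
    IsLocallyConstant (rho F) := by
  have hclosedS : ∀ n, IsClosed {y : X | rho F y ≤ n} := by
    intro n
    have h1 : IsOpen ({y : X | rho F y ≤ n}ᶜ) := by
      apply hX
      · exact (isOpen_setOf_rho_le F hft hflat n).isClosed_compl
      · intro z y hyz hz
        simp only [Set.mem_compl_iff, Set.mem_ofPred_eq] at hz ⊢
        rwa [rho_eq_of_specializes F hft hflat hyz]
    exact isOpen_compl_iff.1 h1
  rw [IsLocallyConstant.iff_isOpen_fiber]
  intro r
  rcases Nat.eq_zero_or_pos r with rfl | hr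
  · have : rho F ⁻¹' {0} = {y : X | rho F y ≤ 0} := by
      ext y; simp
    rw [this]
    exact isOpen_setOf_rho_le F hft hflat 0
  · have : rho F ⁻¹' {r} = {y : X | rho F y ≤ r} ∩ {y : X | rho F y ≤ r - 1}ᶜ := by
      ext y
      simp only [Set.mem_preimage, Set.mem_singleton_iff, Set.mem_inter_iff, Set.mem_ofPred_eq,
        Set.mem_compl_iff]
      omega
    rw [this]
    exact (isOpen_setOf_rho_le F hft hflat r).inter (hclosedS (r - 1)).isOpen_compl

/-- If every closed, generalization-stable subset of `X` is open, then a quasi-coherent finite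
type flat module is finite locally free. -/
theorem isFinLocFree_of_forall_isOpen
    (hX : ∀ Z : Set ↑X, IsClosed Z → StableUnderGeneralization Z → IsOpen Z) :
    FlatMod.IsFinLocFree F := by
  have hlc := isLocallyConstant_rho F hft hflat hX
  rw [isFinLocFree_iff_sections]
  intro U hU
  haveI := finite_sections_of_isFiniteType F hft hU
  haveI : Module.Flat Γ(X, U) Γ(F, U) := (flat_sections_iff_isFlatAt F hU).2 (fun x _ => hflat x)
  refine ⟨inferInstance, ?_⟩
  apply FlatRank.projective_of_isLocallyConstant_rankAtStalk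
  have : rankAtStalk (R := Γ(X, U)) Γ(F, U) =
      fun p : PrimeSpectrum Γ(X, U) => rho F (hU.fromSpec p) := by
    funext p
    have hmem := fromSpec_mem hU p
    change _ = rho F (hU.fromSpec p)
    rw [rho_eq F hU _ hmem, primeIdealOf_fromSpec hU p hmem]
  rw [this]
  exact hlc.comp_continuous hU.fromSpec.continuous

end Groth.Agent.Lib.Helper47.FlatRankSch
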