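import Mathlib

/-!
Auxiliary lemmas for the affine Horrocks theorem (local case).
-/

set_option autoImplicit false

open Polynomial

namespace Groth.Agent.Lib.Helper47.Horrocks

section Fin

variable {B : Type*} [CommRing B]

theorem C_smul' {Y : Type*} [AddCommGroup Y] [Module B[X] Y] [Module B Y]
    [IsScalarTower B B[X] Y] (a : B) (y : Y) : (C a : B[X]) • y = a • y := by
  rw [← Polynomial.algebraMap_eq, algebraMap_smul]

/-- A finitely generated `B[X]`-module killed by a monic polynomial is finite over `B`. -/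
theorem finite_of_monic_smul_eq_zero {Y : Type*} [AddCommGroup Y] [Module B[X] Y] [Module B Y]
    [IsScalarTower B B[X] Y] [Module.Finite B[X] Y] (χ : B[X]) (hχ : χ.Monic)
    (h : ∀ y : Y, χ • y = 0) : Module.Finite B Y := by
  rcases subsingleton_or_nontrivial B with hB | hB
  · have : Subsingleton Y := ⟨fun a b => by
      rw [← one_smul B a, ← one_smul B b, Subsingleton.elim (1 : B) 0, zero_smul, zero_smul]⟩
    infer_instance
  obtain ⟨s, hs⟩ := (inferInstance : Module.Finite B[X] Y).fg_top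
  classical
  let T : Submodule B Y := Submodule.span B
    (↑((Finset.range χ.natDegree ×ˢ s).image (fun p => (X : B[X]) ^ p.1 • p.2)) : Set Y)
  have key : ∀ (r : B[X]) (y : Y), y ∈ s → r • y ∈ T := by
    intro r y hy
    have h1 : r • y = (r %ₘ χ) • y := by
      conv_lhs => rw [← Polynomial.modByMonic_add_div r χ]
      rw [add_smul, mul_comm, mul_smul, h, smul_zero, add_zero]
    rw [h1]
    by_cases hχ1 : χ = 1
    · rw [hχ1, Polynomial.modByMonic_one, zero_smul]
      exact T.zero_mem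
    have hdeg : (r %ₘ χ).natDegree < χ.natDegree := Polynomial.natDegree_modByMonic_lt r hχ hχ1
    rw [Polynomial.as_sum_range' (r %ₘ χ) χ.natDegree hdeg, Finset.sum_smul]
    refine T.sum_mem ?_
    intro j hj
    rw [← Polynomial.C_mul_X_pow_eq_monomial, mul_smul, C_smul']
    refine T.smul_mem _ (Submodule.subset_span ?_)
    simp only [Finset.coe_image, Set.mem_image, Finset.mem_coe, Finset.mem_product]
    exact ⟨(j, y), ⟨hj, hy⟩, rfl⟩
  refine ⟨⟨_, (eq_top_iff.2 ?_ : T = ⊤)⟩⟩
  intro y _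
  have hy : y ∈ Submodule.span B[X] (s : Set Y) := hs ▸ Submodule.mem_top
  obtain ⟨f, hf, rfl⟩ := Submodule.mem_span_finset.1 hy
  refine T.sum_mem ?_
  intro i hi
  exact key _ _ hi

end Fin

section Flag

variable {k : Type*} [Field k] {V : Type*} [AddCommGroup V] [Module k[X] V]

theorem eq_zero_of_degree_lt_zero {R : Type*} [CommRing R] (c : R[X])
    (hc : c.degree < ((0 : ℕ) : WithBot ℕ)) : c = 0 := by
  rw [Polynomial.degree_lt_iff_coeff_zero] at hc
  ext m
  simpa using hc m (Nat.zero_le _)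

theorem degree_X_mul_sub_lt {R : Type*} [CommRing R] (c : R[X]) (κ : ℕ)
    (hc : c.degree < (κ : WithBot ℕ)) :
    (X * c - C (c.coeff (κ - 1)) * X ^ κ).degree < (κ : WithBot ℕ) := by
  rw [Polynomial.degree_lt_iff_coeff_zero] at hc ⊢
  intro m hm
  rw [Polynomial.coeff_sub, Polynomial.coeff_C_mul, Polynomial.coeff_X_pow]
  rcases Nat.eq_zero_or_pos m with rfl | hmpos
  · have : κ = 0 := Nat.le_zero.mp hm
    subst this
    simp [hc 0 le_rfl]
  · obtain ⟨m', rfl⟩ : ∃ m', m = m' + 1 := ⟨m - 1, by omega⟩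
    rw [Polynomial.coeff_X_mul]
    by_cases h : m' + 1 = κ
    · subst h
      simp
    · have : κ ≤ m' := by omega
      rw [hc m' this, if_neg h]
      simp

/-- the cyclic step -/
theorem exists_kappa_one (W : Submodule k[X] V) (v : V)
    (hW : ∃ (d : ℕ) (c : k[X]), c.degree < d ∧ (X : k[X]) ^ d • v - c • v ∈ W) :
    ∃ κ : ℕ, (∀ r : k[X], ∃ c : k[X], c.degree < κ ∧ r • v - c • v ∈ W) ∧
      (∀ c : k[X], c.degree < κ → c • v ∈ W → c = 0) := by
  classical
  refine ⟨Nat.find hW, ?_, ?_⟩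
  · obtain ⟨c₀, hc₀, hw₀⟩ := Nat.find_spec hW
    set κ := Nat.find hW with hκ
    -- closure under multiplication by X
    have hX : ∀ r : k[X], (∃ c : k[X], c.degree < κ ∧ r • v - c • v ∈ W) →
        ∃ c : k[X], c.degree < κ ∧ (X * r) • v - c • v ∈ W := by
      rintro r ⟨c, hc, hw⟩
      refine ⟨C (c.coeff (κ - 1)) * c₀ + (X * c - C (c.coeff (κ - 1)) * X ^ κ), ?_, ?_⟩
      · refine lt_of_le_of_lt (Polynomial.degree_add_le _ _) (max_lt ?_ (degree_X_mul_sub_lt c κ hc))
        rw [← Polynomial.smul_eq_C_mul]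
        exact lt_of_le_of_lt (Polynomial.degree_smul_le _ _) hc₀
      · have : (X * r) • v - (C (c.coeff (κ - 1)) * c₀ + (X * c - C (c.coeff (κ - 1)) * X ^ κ)) • v =
            (X : k[X]) • (r • v - c • v) + C (c.coeff (κ - 1)) • ((X : k[X]) ^ κ • v - c₀ • v) := by
          simp only [add_smul, sub_smul, mul_smul, smul_sub]
          abel
        rw [this]
        exact W.add_mem (W.smul_mem _ hw) (W.smul_mem _ hw₀)
    have hC : ∀ a : k, ∃ c : k[X], c.degree < κ ∧ (C a : k[X]) • v - c • v ∈ W := by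
      intro a
      rcases Nat.eq_zero_or_pos κ with h0 | hpos
      · refine ⟨0, by rw [h0]; simp [Polynomial.degree_zero], ?_⟩
        have hc₀' : c₀ = 0 := by
          rw [h0] at hc₀
          exact eq_zero_of_degree_lt_zero c₀ hc₀
        rw [hc₀', h0] at hw₀
        simp only [pow_zero, one_smul, zero_smul, sub_zero] at hw₀ ⊢
        exact W.smul_mem _ hw₀
      · refine ⟨C a, lt_of_le_of_lt Polynomial.degree_C_le (by exact_mod_cast hpos), ?_⟩
        rw [sub_self]
        exact W.zero_mem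
    intro r
    induction r using Polynomial.induction_on with
    | C a => exact hC a
    | add p q hp hq =>
      obtain ⟨c₁, hc₁, hw₁⟩ := hp
      obtain ⟨c₂, hc₂, hw₂⟩ := hq
      refine ⟨c₁ + c₂, lt_of_le_of_lt (Polynomial.degree_add_le _ _) (max_lt hc₁ hc₂), ?_⟩
      have : (p + q) • v - (c₁ + c₂) • v = (p • v - c₁ • v) + (q • v - c₂ • v) := by
        simp only [add_smul]; abel
      rw [this]
      exact W.add_mem hw₁ hw₂
    | monomial n a ih =>
      have := hX _ ih
      rwa [show X * (C a * X ^ n) = C a * X ^ (n + 1) by ring] at this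
  · intro c hc hcW
    by_contra hne
    have hj : c.natDegree < Nat.find hW := by
      rw [Polynomial.degree_eq_natDegree hne] at hc
      exact_mod_cast hc
    refine Nat.find_min hW hj ⟨X ^ c.natDegree - C (c.leadingCoeff⁻¹) * c, ?_, ?_⟩
    · rw [Polynomial.degree_lt_iff_coeff_zero]
      intro m hm
      rw [Polynomial.coeff_sub, Polynomial.coeff_C_mul, Polynomial.coeff_X_pow]
      rcases eq_or_lt_of_le hm with h | h
      · subst h
        rw [if_pos rfl, Polynomial.coeff_natDegree,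
          inv_mul_cancel₀ (Polynomial.leadingCoeff_ne_zero.2 hne), sub_self]
      · rw [if_neg (by omega), Polynomial.coeff_eq_zero_of_natDegree_lt h]
        simp
    · have : (X : k[X]) ^ c.natDegree • v - (X ^ c.natDegree - C (c.leadingCoeff⁻¹) * c) • v =
          C (c.leadingCoeff⁻¹) • (c • v) := by
        simp only [sub_smul, mul_smul]; abel
      rw [this]
      exact W.smul_mem _ hcW

theorem exists_kappa (n : ℕ) : ∀ (W : Submodule k[X] V) (e : Fin n → V)
    (_ : ∀ v : V, ∃ (d : ℕ) (c : k[X]), c.degree < d ∧ (X : k[X]) ^ d • v - c • v ∈ W),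
    ∃ κ : Fin n → ℕ,
      (∀ r : Fin n → k[X], ∃ c : Fin n → k[X], (∀ l, (c l).degree < κ l) ∧
        ∑ l, r l • e l - ∑ l, c l • e l ∈ W) ∧
      (∀ c : Fin n → k[X], (∀ l, (c l).degree < κ l) → ∑ l, c l • e l ∈ W → c = 0) := by
  induction n with
  | zero =>
    intro W e _
    refine ⟨fun i => i.elim0, ?_, ?_⟩
    · intro r
      exact ⟨fun i => i.elim0, fun l => l.elim0, by simp⟩
    · intro c _ _
      funext i
      exact i.elim0
  | succ n ih =>
    intro W e hW
    obtain ⟨κ₀, h1₀, h2₀⟩ := exists_kappa_one W (e 0) (hW (e 0))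
    let W' : Submodule k[X] V := W ⊔ Submodule.span k[X] {e 0}
    have hW' : ∀ v : V, ∃ (d : ℕ) (c : k[X]), c.degree < d ∧ (X : k[X]) ^ d • v - c • v ∈ W' := by
      intro v
      obtain ⟨d, c, hc, hw⟩ := hW v
      exact ⟨d, c, hc, Submodule.mem_sup_left hw⟩
    obtain ⟨κ', h1', h2'⟩ := ih W' (fun i => e i.succ) hW'
    refine ⟨Fin.cons κ₀ κ', ?_, ?_⟩
    · intro r
      obtain ⟨c', hc', hw'⟩ := h1' (fun i => r i.succ)
      obtain ⟨w, hw, z, hz, hwz⟩ := Submodule.mem_sup.1 hw'
      obtain ⟨q, rfl⟩ := Submodule.mem_span_singleton.1 hz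
      obtain ⟨c₀, hc₀, hw₀⟩ := h1₀ (r 0 + q)
      refine ⟨Fin.cons c₀ c', ?_, ?_⟩
      · intro l
        refine Fin.cases ?_ ?_ l
        · simpa using hc₀
        · intro i
          simpa using hc' i
      · rw [Fin.sum_univ_succ, Fin.sum_univ_succ]
        simp only [Fin.cons_zero, Fin.cons_succ]
        have hwz' : ∑ i : Fin n, r i.succ • e i.succ =
            ∑ i : Fin n, c' i • e i.succ + (w + q • e 0) := by
          rw [hwz]; abel
        have : r 0 • e 0 + ∑ i : Fin n, r i.succ • e i.succ -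
            (c₀ • e 0 + ∑ i : Fin n, c' i • e i.succ) =
            ((r 0 + q) • e 0 - c₀ • e 0) + w := by
          rw [hwz', add_smul]
          abel
        rw [this]
        exact W.add_mem hw₀ hw
    · intro c hc hcW
      rw [Fin.sum_univ_succ] at hcW
      have htail : ∑ i : Fin n, c i.succ • e i.succ ∈ W' := by
        have : ∑ i : Fin n, c i.succ • e i.succ =
            (c 0 • e 0 + ∑ i : Fin n, c i.succ • e i.succ) + (-(c 0)) • e 0 := by
          rw [neg_smul]; abel
        rw [this]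
        exact W'.add_mem (Submodule.mem_sup_left hcW)
          (Submodule.mem_sup_right (Submodule.smul_mem _ _ (Submodule.mem_span_singleton_self _)))
      have h0 := h2' (fun i => c i.succ) (fun l => by simpa using hc l.succ) htail
      have h0' : ∀ i : Fin n, c i.succ = 0 := fun i => congrFun h0 i
      simp only [h0', zero_smul, Finset.sum_const_zero, add_zero] at hcW
      have hc0 := h2₀ (c 0) (by simpa using hc 0) hcW
      funext l
      refine Fin.cases ?_ ?_ l
      · exact hc0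
      · exact h0'

end Flag

section Stab

variable {R₀ : Type*} [CommRing R₀] {n : ℕ}

/-- vectors of polynomials with degree bounds `κ` -/
def Dκ (R₀ : Type*) [CommRing R₀] {n : ℕ} (κ : Fin n → ℕ) : Submodule R₀ (Fin n → R₀[X]) where
  carrier := {c | ∀ l, c l ∈ Polynomial.degreeLT R₀ (κ l)}
  add_mem' := fun ha hb l => (Polynomial.degreeLT R₀ _).add_mem (ha l) (hb l)
  zero_mem' := fun l => (Polynomial.degreeLT R₀ _).zero_mem
  smul_mem' := fun a _ hc l => (Polynomial.degreeLT R₀ _).smul_mem a (hc l)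

theorem mem_Dκ {κ : Fin n → ℕ} {c : Fin n → R₀[X]} :
    c ∈ Dκ R₀ κ ↔ ∀ l, (c l).degree < (κ l : WithBot ℕ) := by
  change (∀ l, c l ∈ Polynomial.degreeLT R₀ (κ l)) ↔ _
  simp only [Polynomial.mem_degreeLT]

theorem C_smul_mem_Dκ {κ : Fin n → ℕ} {c : Fin n → R₀[X]} (hc : c ∈ Dκ R₀ κ) (a : R₀) :
    (C a : R₀[X]) • c ∈ Dκ R₀ κ := by
  have : (C a : R₀[X]) • c = a • c := by
    funext l
    simp [Polynomial.smul_eq_C_mul]
  rw [this]
  exact (Dκ R₀ κ).smul_mem a hc

/-- The stability argument: if each `X^{κ_i} e_i` is congruent modulo `N'` to a vector with degree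
bounds `κ`, then so is every vector. -/
theorem exists_mem_Dκ_sub_mem (κ : Fin n → ℕ) (N' : Submodule R₀[X] (Fin n → R₀[X]))
    (h : ∀ i, ∃ c ∈ Dκ R₀ κ, Pi.single i ((X : R₀[X]) ^ κ i) - c ∈ N')
    (x : Fin n → R₀[X]) : ∃ c ∈ Dκ R₀ κ, x - c ∈ N' := by
  classical
  choose c₀ hc₀ hν₀ using h
  -- closure under X
  have hX : ∀ x : Fin n → R₀[X], (∃ c ∈ Dκ R₀ κ, x - c ∈ N') →
      ∃ c ∈ Dκ R₀ κ, (X : R₀[X]) • x - c ∈ N' := by
    rintro x ⟨c, hc, hν⟩
    let a : Fin n → R₀ := fun l => (c l).coeff (κ l - 1)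
    let c' : Fin n → R₀[X] := fun l => X * c l - C (a l) * X ^ κ l
    have hc' : c' ∈ Dκ R₀ κ := by
      rw [mem_Dκ]
      intro l
      exact degree_X_mul_sub_lt (c l) (κ l) (mem_Dκ.1 hc l)
    have hXc : (X : R₀[X]) • c = c' + ∑ l, (C (a l) : R₀[X]) • Pi.single l ((X : R₀[X]) ^ κ l) := by
      funext m
      simp only [Pi.smul_apply, smul_eq_mul, Pi.add_apply, Finset.sum_apply, Pi.single_apply,
        mul_ite, mul_zero, Finset.sum_ite_eq, Finset.mem_univ, if_true, c']
      ring
    refine ⟨c' + ∑ l, (C (a l) : R₀[X]) • c₀ l, ?_, ?_⟩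
    · refine (Dκ R₀ κ).add_mem hc' ((Dκ R₀ κ).sum_mem ?_)
      intro l _
      exact C_smul_mem_Dκ (hc₀ l) _
    · have : (X : R₀[X]) • x - (c' + ∑ l, (C (a l) : R₀[X]) • c₀ l) =
          (X : R₀[X]) • (x - c) +
            ∑ l, (C (a l) : R₀[X]) • (Pi.single l ((X : R₀[X]) ^ κ l) - c₀ l) := by
        rw [smul_sub, hXc]
        simp only [smul_sub, Finset.sum_sub_distrib]
        abel
      rw [this]
      refine N'.add_mem (N'.smul_mem _ hν) (N'.sum_mem ?_)
      intro l _
      exact N'.smul_mem _ (hν₀ l)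
  -- closure under all scalars
  have hS : ∀ (r : R₀[X]) (x : Fin n → R₀[X]), (∃ c ∈ Dκ R₀ κ, x - c ∈ N') →
      ∃ c ∈ Dκ R₀ κ, r • x - c ∈ N' := by
    intro r
    induction r using Polynomial.induction_on with
    | C a =>
      rintro x ⟨c, hc, hν⟩
      refine ⟨(C a : R₀[X]) • c, C_smul_mem_Dκ hc a, ?_⟩
      rw [← smul_sub]
      exact N'.smul_mem _ hν
    | add p q hp hq =>
      intro x hx
      obtain ⟨c₁, hc₁, hν₁⟩ := hp x hx
      obtain ⟨c₂, hc₂, hν₂⟩ := hq x hx
      refine ⟨c₁ + c₂, (Dκ R₀ κ).add_mem hc₁ hc₂, ?_⟩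
      have : (p + q) • x - (c₁ + c₂) = (p • x - c₁) + (q • x - c₂) := by
        rw [add_smul]; abel
      rw [this]
      exact N'.add_mem hν₁ hν₂
    | monomial m a ih =>
      intro x hx
      have := hX _ (ih x hx)
      rwa [smul_smul, show X * (C a * X ^ m) = C a * X ^ (m + 1) by ring] at this
  -- basis vectors
  have he : ∀ i, ∃ c ∈ Dκ R₀ κ, (Pi.single i (1 : R₀[X]) : Fin n → R₀[X]) - c ∈ N' := by
    intro i
    rcases Nat.eq_zero_or_pos (κ i) with h0 | hpos
    · refine ⟨c₀ i, hc₀ i, ?_⟩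
      have := hν₀ i
      rwa [h0, pow_zero] at this
    · refine ⟨Pi.single i 1, ?_, by rw [sub_self]; exact N'.zero_mem⟩
      rw [mem_Dκ]
      intro l
      by_cases hl : l = i
      · subst hl
        rw [Pi.single_eq_same]
        exact lt_of_le_of_lt Polynomial.degree_one_le (by exact_mod_cast hpos)
      · rw [Pi.single_eq_of_ne hl, Polynomial.degree_zero]
        exact WithBot.bot_lt_coe _
  have hx : x = ∑ i, x i • (Pi.single i (1 : R₀[X]) : Fin n → R₀[X]) := by
    funext m
    simp [Finset.sum_apply, Pi.single_apply]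
  rw [hx]
  choose c₁ hc₁ hν₁ using fun i => hS (x i) _ (he i)
  refine ⟨∑ i, c₁ i, (Dκ R₀ κ).sum_mem (fun i _ => hc₁ i), ?_⟩
  rw [← Finset.sum_sub_distrib]
  exact N'.sum_mem (fun i _ => hν₁ i)

end Stab

end Groth.Agent.Lib.Helper47.Horrocks
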