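import Mathlib

/-!
Descent of isogenies from a localisation.
-/

set_option autoImplicit false

namespace Groth.Agent.Lib.Helper47.Horrocks

section Descend

variable {R : Type*} [CommRing R] (S : Submonoid R) {M E M' E' : Type*}
  [AddCommGroup M] [Module R M] [AddCommGroup E] [Module R E]
  [AddCommGroup M'] [Module R M'] [AddCommGroup E'] [Module R E']
  [Module.FinitePresentation R M] [Module.FinitePresentation R E]

/-- an isogeny between localisations of finitely presented modules descends, up to an element of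
the multiplicative set -/
theorem descend_isogeny (fM : M →ₗ[R] M') [IsLocalizedModule S fM] (fE : E →ₗ[R] E')
    [IsLocalizedModule S fE] (u' : E' →ₗ[R] M') (v' : M' →ₗ[R] E') (h : R)
    (h1 : ∀ e, v' (u' e) = h • e) (h2 : ∀ m, u' (v' m) = h • m) :
    ∃ (u : E →ₗ[R] M) (v : M →ₗ[R] E) (s : R), s ∈ S ∧ (∀ e, v (u e) = (s * h) • e) ∧
      (∀ m, u (v m) = (s * h) • m) := by
  obtain ⟨u₀, s₁, H₁⟩ :=
    Module.FinitePresentation.exists_lift_of_isLocalizedModule S fM (u' ∘ₗ fE)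
  obtain ⟨v₀, s₂, H₂⟩ :=
    Module.FinitePresentation.exists_lift_of_isLocalizedModule S fE (v' ∘ₗ fM)
  have H₁' : ∀ e, fM (u₀ e) = (s₁ : R) • u' (fE e) := fun e => LinearMap.congr_fun H₁ e
  have H₂' : ∀ m, fE (v₀ m) = (s₂ : R) • v' (fM m) := fun m => LinearMap.congr_fun H₂ m
  have K₁ : fE ∘ₗ (v₀ ∘ₗ u₀) = fE ∘ₗ (((s₂ : R) * s₁ * h) • LinearMap.id) := by
    refine LinearMap.ext fun e => ?_
    simp only [LinearMap.comp_apply, LinearMap.smul_apply, LinearMap.id_apply, map_smul]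
    rw [H₂', H₁', map_smul, h1, smul_smul, smul_smul]
  have K₂ : fM ∘ₗ (u₀ ∘ₗ v₀) = fM ∘ₗ (((s₁ : R) * s₂ * h) • LinearMap.id) := by
    refine LinearMap.ext fun m => ?_
    simp only [LinearMap.comp_apply, LinearMap.smul_apply, LinearMap.id_apply, map_smul]
    rw [H₁', H₂', map_smul, h2, smul_smul, smul_smul]
  obtain ⟨s₃, hs₃⟩ := Module.Finite.exists_smul_of_comp_eq_of_isLocalizedModule S fE _ _ K₁
  obtain ⟨s₄, hs₄⟩ := Module.Finite.exists_smul_of_comp_eq_of_isLocalizedModule S fM _ _ K₂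
  have hs₃' : ∀ e, (s₃ : R) • v₀ (u₀ e) = (s₃ : R) • ((s₂ : R) * s₁ * h) • e :=
    fun e => LinearMap.congr_fun hs₃ e
  have hs₄' : ∀ m, (s₄ : R) • u₀ (v₀ m) = (s₄ : R) • ((s₁ : R) * s₂ * h) • m :=
    fun m => LinearMap.congr_fun hs₄ m
  refine ⟨((s₃ : R) * s₄) • u₀, v₀, (s₃ : R) * s₄ * s₁ * s₂,
    mul_mem (mul_mem (mul_mem s₃.2 s₄.2) s₁.2) s₂.2, ?_, ?_⟩
  · intro e
    rw [LinearMap.smul_apply, map_smul, mul_comm (s₃ : R), mul_smul, hs₃', smul_smul, smul_smul]
    congr 1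
    ring
  · intro m
    rw [LinearMap.smul_apply, mul_smul, hs₄', smul_smul, smul_smul]
    congr 1
    ring

end Descend

end Groth.Agent.Lib.Helper47.Horrocks
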