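import Groth.Agent.Lib.Helper47.HorrocksPatch
import Groth.Agent.Lib.Helper47.HorrocksDescend

/-!
Base change of fibre pairs and isogenies, and Quillen's local-global principle.
-/

set_option autoImplicit false

open TensorProduct Polynomial

attribute [local instance] Polynomial.algebra

namespace Groth.Agent.Lib.Helper47.Horrocks

section BC

variable {A : Type*} [CommRing A] (A' : Type*) [CommRing A'] [Algebra A A']
  {M : Type*} [AddCommGroup M] [Module A[X] M] (P : Type*) [AddCommGroup P] [Module A P]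

/-- comparison of the two base changes of an extended module -/
noncomputable def kappa :
    A'[X] ⊗[A'] (A' ⊗[A] P) ≃ₗ[A'[X]] A'[X] ⊗[A[X]] (A[X] ⊗[A] P) :=
  (AlgebraTensorModule.cancelBaseChange A A' A'[X] A'[X] P) ≪≫ₗ
    (AlgebraTensorModule.cancelBaseChange A A[X] A'[X] A'[X] P).symm

variable {P}

/-- base change of an isogeny between an extended module and `M` -/
theorem exists_baseChange_isogeny (u : A[X] ⊗[A] P →ₗ[A[X]] M) (v : M →ₗ[A[X]] A[X] ⊗[A] P)
    (h : A[X]) (h1 : ∀ e, v (u e) = h • e) (h2 : ∀ m, u (v m) = h • m) :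
    ∃ (u' : A'[X] ⊗[A'] (A' ⊗[A] P) →ₗ[A'[X]] A'[X] ⊗[A[X]] M)
      (v' : A'[X] ⊗[A[X]] M →ₗ[A'[X]] A'[X] ⊗[A'] (A' ⊗[A] P)),
      (∀ e, v' (u' e) = (h.map (algebraMap A A')) • e) ∧
      (∀ m, u' (v' m) = (h.map (algebraMap A A')) • m) := by
  refine ⟨(u.baseChange A'[X]) ∘ₗ (kappa A' P).toLinearMap,
    (kappa A' P).symm.toLinearMap ∘ₗ (v.baseChange A'[X]), fun e => ?_, fun m => ?_⟩
  · have hvu : v ∘ₗ u = h • LinearMap.id := LinearMap.ext h1
    simp only [LinearMap.comp_apply, LinearEquiv.coe_coe]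
    rw [← LinearMap.comp_apply (v.baseChange A'[X]), ← LinearMap.baseChange_comp, hvu,
      LinearMap.baseChange_smul, LinearMap.baseChange_id, LinearMap.smul_apply,
      LinearMap.id_apply, ← algebraMap_smul A'[X] h, map_smul, LinearEquiv.symm_apply_apply]
    rfl
  · have huv : u ∘ₗ v = h • LinearMap.id := LinearMap.ext h2
    simp only [LinearMap.comp_apply, LinearEquiv.coe_coe, LinearEquiv.apply_symm_apply]
    rw [← LinearMap.comp_apply (u.baseChange A'[X]), ← LinearMap.baseChange_comp, huv,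
      LinearMap.baseChange_smul, LinearMap.baseChange_id, LinearMap.smul_apply,
      LinearMap.id_apply, ← algebraMap_smul A'[X] h]
    rfl

end BC

section BCFibre

variable {A : Type*} [CommRing A] (S : Submonoid A) (A' : Type*) [CommRing A'] [Algebra A A']
  [IsLocalization S A']
  {M : Type*} [AddCommGroup M] [Module A[X] M] {P : Type*} [AddCommGroup P] [Module A P]
  (π : FibrePair A M P)

/-- the bi-additive map underlying the base change of a fibre map -/
noncomputable def bcAux : A'[X] →+ M →+ A' ⊗[A] P :=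
  AddMonoidHom.mk' (fun q => AddMonoidHom.mk' (fun m => q.coeff 0 ⊗ₜ[A] π m)
    (fun m m' => by rw [π.map_add, TensorProduct.tmul_add]))
    (fun q q' => by
      ext m
      simp [TensorProduct.add_tmul])

theorem bcAux_apply (q : A'[X]) (m : M) : bcAux A' π q m = q.coeff 0 ⊗ₜ[A] π m := rfl

/-- the base change of a fibre map, as an additive map -/
noncomputable def bcFun : A'[X] ⊗[A[X]] M →+ A' ⊗[A] P :=
  TensorProduct.liftAddHom (bcAux A' π) (fun r q m => by
    rw [bcAux_apply, bcAux_apply, π.map_smul', Algebra.smul_def, mul_coeff_zero,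
      Polynomial.algebraMap_def, Polynomial.coe_mapRingHom, Polynomial.coeff_map,
      ← Algebra.smul_def, TensorProduct.smul_tmul])

@[simp] theorem bcFun_tmul (q : A'[X]) (m : M) :
    bcFun A' π (q ⊗ₜ[A[X]] m) = q.coeff 0 ⊗ₜ[A] π m := rfl

theorem bcFun_smul (q' : A'[X]) (x : A'[X] ⊗[A[X]] M) :
    bcFun A' π (q' • x) = q'.coeff 0 • bcFun A' π x := by
  induction x using TensorProduct.induction_on with
  | zero => simp
  | tmul q m =>
    rw [TensorProduct.smul_tmul', smul_eq_mul, bcFun_tmul, bcFun_tmul, mul_coeff_zero,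
      TensorProduct.smul_tmul', smul_eq_mul]
  | add x y hx hy => rw [smul_add, map_add, hx, hy, map_add, smul_add]

theorem bcFun_surjective : Function.Surjective (bcFun A' π) := by
  intro y
  induction y using TensorProduct.induction_on with
  | zero => exact ⟨0, map_zero _⟩
  | tmul b p =>
    obtain ⟨m, rfl⟩ := π.surj p
    exact ⟨C b ⊗ₜ m, by simp⟩
  | add x y hx hy =>
    obtain ⟨x', rfl⟩ := hx
    obtain ⟨y', rfl⟩ := hy
    exact ⟨x' + y', map_add _ _ _⟩

include S in
theorem bcFun_ker (x : A'[X] ⊗[A[X]] M) (hx : bcFun A' π x = 0) :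
    ∃ x', x = (X : A'[X]) • x' := by
  have := Polynomial.isLocalization S A'
  obtain ⟨⟨m, s⟩, hs⟩ := IsLocalizedModule.surj (S.map (C : A →+* A[X]))
    (TensorProduct.mk A[X] A'[X] M 1) x
  obtain ⟨σ, hσ, hσs⟩ := s.2
  have hs' : (C σ : A[X]) • x = (1 : A'[X]) ⊗ₜ[A[X]] m := by
    rw [hσs]
    exact hs
  have h1 : (1 : A') ⊗ₜ[A] π m = 0 := by
    have := congrArg (bcFun A' π) hs'
    rw [bcFun_tmul, ← algebraMap_smul A'[X] (C σ : A[X]) x, bcFun_smul, hx, smul_zero,
      coeff_one_zero] at this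
    exact this.symm
  obtain ⟨c, hc⟩ := IsLocalizedModule.exists_of_eq (S := S) (f := TensorProduct.mk A A' P 1)
    (show TensorProduct.mk A A' P 1 (π m) = TensorProduct.mk A A' P 1 0 by
      rw [TensorProduct.mk_apply, h1, map_zero])
  rw [smul_zero] at hc
  have h2 : π ((C (c : A) : A[X]) • m) = 0 := by
    rw [π.map_C_smul]
    exact hc
  obtain ⟨m', hm'⟩ := π.ker _ h2
  obtain ⟨w, hw⟩ := (IsLocalization.map_units A' (⟨(c : A) * σ, mul_mem c.2 hσ⟩ : S)).exists_left_inv
  have h3 : (C (algebraMap A A' ((c : A) * σ)) : A'[X]) • x = (X : A'[X]) • ((1 : A'[X]) ⊗ₜ[A[X]] m') := by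
    have : (C (algebraMap A A' ((c : A) * σ)) : A'[X]) = algebraMap A[X] A'[X] (C (c : A) * C σ) := by
      rw [Polynomial.algebraMap_def, Polynomial.coe_mapRingHom, ← C_mul, Polynomial.map_C]
    rw [this, algebraMap_smul, mul_smul, hs', ← TensorProduct.tmul_smul, hm',
      TensorProduct.tmul_smul, ← algebraMap_smul A'[X] (X : A[X]), Polynomial.algebraMap_def,
      Polynomial.coe_mapRingHom, Polynomial.map_X]
  refine ⟨(C w : A'[X]) • ((1 : A'[X]) ⊗ₜ[A[X]] m'), ?_⟩
  rw [smul_comm, ← h3, smul_smul, ← C_mul]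
  simp only at hw
  rw [hw, C_1, one_smul]

/-- base change of a fibre pair to a localisation -/
noncomputable def FibrePair.baseChange : FibrePair A' (A'[X] ⊗[A[X]] M) (A' ⊗[A] P) where
  toFun := bcFun A' π
  map_smul' := bcFun_smul A' π
  surj := bcFun_surjective A' π
  ker := bcFun_ker S A' π

end BCFibre

section LG

variable {A : Type*} [CommRing A] {M : Type*} [AddCommGroup M] [Module A[X] M]
  {P : Type*} [AddCommGroup P] [Module A P]

theorem LocIso.baseChange (A' : Type*) [CommRing A'] [Algebra A A'] {a : A}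
    (h : LocIso A M P a) :
    LocIso A' (A'[X] ⊗[A[X]] M) (A' ⊗[A] P) (algebraMap A A' a) := by
  obtain ⟨u, v, N, h1, h2⟩ := h
  obtain ⟨u', v', h1', h2'⟩ := exists_baseChange_isogeny A' u v (C (a ^ N)) h1 h2
  refine ⟨u', v', N, fun e => ?_, fun m => ?_⟩
  · rw [h1', Polynomial.map_C, map_pow]
  · rw [h2', Polynomial.map_C, map_pow]

theorem LocIso.of_pow {a : A} {k : ℕ} (h : LocIso A M P (a ^ k)) : LocIso A M P a := by
  obtain ⟨u, v, N, h1, h2⟩ := h
  exact ⟨u, v, k * N, fun e => by rw [h1, pow_mul], fun m => by rw [h2, pow_mul]⟩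

/-- descent of an isomorphism from a localisation -/
theorem exists_locIso_of_equiv (S : Submonoid A) (A' : Type*) [CommRing A'] [Algebra A A']
    [IsLocalization S A']
    [Module.FinitePresentation A[X] M] [Module.FinitePresentation A[X] (A[X] ⊗[A] P)]
    (e : (A'[X] ⊗[A'] (A' ⊗[A] P)) ≃ₗ[A'[X]] (A'[X] ⊗[A[X]] M)) :
    ∃ s ∈ S, LocIso A M P s := by
  have := Polynomial.isLocalization S A'
  let u'' : A'[X] ⊗[A[X]] (A[X] ⊗[A] P) →ₗ[A[X]] A'[X] ⊗[A[X]] M :=
    ((e.toLinearMap) ∘ₗ ((kappa A' P).symm.toLinearMap)).restrictScalars A[X]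
  let v'' : A'[X] ⊗[A[X]] M →ₗ[A[X]] A'[X] ⊗[A[X]] (A[X] ⊗[A] P) :=
    ((kappa A' P).toLinearMap ∘ₗ e.symm.toLinearMap).restrictScalars A[X]
  obtain ⟨u, v, s, hs, h1, h2⟩ := descend_isogeny (S.map (C : A →+* A[X]))
    (TensorProduct.mk A[X] A'[X] M 1) (TensorProduct.mk A[X] A'[X] (A[X] ⊗[A] P) 1) u'' v'' 1
    (fun x => by simp [u'', v'']) (fun x => by simp [u'', v''])
  obtain ⟨σ, hσ, rfl⟩ := hs
  refine ⟨σ, hσ, u, v, 1, fun x => ?_, fun m => ?_⟩
  · rw [h1, mul_one, pow_one]
  · rw [h2, mul_one, pow_one]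

theorem LocIso.add [Module.Flat A P] (π : FibrePair A M P)
    [Module.FinitePresentation A[X] M] [Module.FinitePresentation A[X] (A[X] ⊗[A] P)]
    {a b : A} (ha : LocIso A M P a) (hb : LocIso A M P b) : LocIso A M P (a + b) := by
  have ha' := ha.baseChange (Localization.Away (a + b))
  have hb' := hb.baseChange (Localization.Away (a + b))
  have hcop : IsCoprime (algebraMap A (Localization.Away (a + b)) a)
      (algebraMap A (Localization.Away (a + b)) b) := by
    obtain ⟨w, hw⟩ := (IsLocalization.map_units (Localization.Away (a + b))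
      (⟨a + b, Submonoid.mem_powers _⟩ : Submonoid.powers (a + b))).exists_left_inv
    refine ⟨w, w, ?_⟩
    rw [← mul_add, ← map_add]
    exact hw
  obtain ⟨e⟩ := patch2 (π.baseChange (Submonoid.powers (a + b)) (Localization.Away (a + b)))
    hcop ha' hb'
  obtain ⟨s, ⟨k, rfl⟩, hs⟩ := exists_locIso_of_equiv (Submonoid.powers (a + b))
    (Localization.Away (a + b)) e
  exact hs.of_pow

/-- **Quillen's local-global principle** (for modules with a given fibre). -/
theorem extended_of_local [Module.Flat A P] (π : FibrePair A M P)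
    [Module.FinitePresentation A[X] M] [Module.FinitePresentation A[X] (A[X] ⊗[A] P)]
    (h : ∀ (𝔪 : Ideal A) [𝔪.IsMaximal],
      Nonempty (((Localization.AtPrime 𝔪)[X] ⊗[Localization.AtPrime 𝔪]
        (Localization.AtPrime 𝔪 ⊗[A] P)) ≃ₗ[(Localization.AtPrime 𝔪)[X]]
          ((Localization.AtPrime 𝔪)[X] ⊗[A[X]] M))) :
    Nonempty ((A[X] ⊗[A] P) ≃ₗ[A[X]] M) := by
  let J : Ideal A :=
    { carrier := {a | LocIso A M P a}
      add_mem' := fun ha hb => LocIso.add π ha hb
      zero_mem' := ⟨0, 0, 1, by simp, by simp⟩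
      smul_mem' := fun c a ha => by
        show LocIso A M P (c • a)
        rw [smul_eq_mul, mul_comm]
        exact LocIso.mul_right ha c }
  by_cases hJ : J = ⊤
  · have h1 : (1 : A) ∈ J := by rw [hJ]; trivial
    exact LocIso.equiv_of_one h1
  · obtain ⟨𝔪, h𝔪, hJ𝔪⟩ := Ideal.exists_le_maximal J hJ
    obtain ⟨e⟩ := h 𝔪
    obtain ⟨s, hs, hs'⟩ := exists_locIso_of_equiv 𝔪.primeCompl (Localization.AtPrime 𝔪) e
    exact absurd (hJ𝔪 hs') hs

end LG

end Groth.Agent.Lib.Helper47.Horrocks
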