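import Groth.Agent.Lib.Helper47.HorrocksMain

/-!
Local freeness of extended modules on a cover.
-/

set_option autoImplicit false

open TensorProduct Polynomial

namespace Groth.Agent.Lib.Helper47.Horrocks

section Cover

universe u

variable {R : Type u} [CommRing R] (P₀ : Type u) [AddCommGroup P₀] [Module R P₀]
  [Module.Finite R P₀] [Module.Projective R P₀]

/-- isogeny with a free module from freeness of a localisation -/
theorem exists_isogeny_of_free_away (r : R)
    [Module.Free (Localization.Away r) (LocalizedModule.Away r P₀)] :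
    ∃ (n : ℕ) (u : (Fin n →₀ R) →ₗ[R] P₀) (v : P₀ →ₗ[R] (Fin n →₀ R)) (k : ℕ),
      (∀ x, v (u x) = r ^ k • x) ∧ (∀ y, u (v y) = r ^ k • y) := by
  have : Module.FinitePresentation R P₀ := Module.finitePresentation_of_projective _ _
  rcases subsingleton_or_nontrivial (Localization.Away r) with hS | hS
  · have h01 : algebraMap R (Localization.Away r) 1 = algebraMap R (Localization.Away r) 0 :=
      Subsingleton.elim _ _
    obtain ⟨⟨_, k, rfl⟩, hk⟩ := (IsLocalization.eq_iff_exists (Submonoid.powers r) _).1 h01
    simp only [mul_one, mul_zero] at hk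
    exact ⟨0, 0, 0, k, fun x => by simp [hk], fun y => by simp [hk]⟩
  · let b := Module.finBasis (Localization.Away r) (LocalizedModule.Away r P₀)
    obtain ⟨u, v, s, ⟨k, rfl⟩, h1, h2⟩ := descend_isogeny (Submonoid.powers r)
      (LocalizedModule.mkLinearMap (Submonoid.powers r) P₀)
      (Finsupp.mapRange.linearMap (α := Fin (Module.finrank (Localization.Away r)
        (LocalizedModule.Away r P₀))) (Algebra.linearMap R (Localization.Away r)))
      (b.repr.symm.toLinearMap.restrictScalars R) (b.repr.toLinearMap.restrictScalars R) 1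
      (fun x => by simp) (fun y => by simp)
    exact ⟨_, u, v, k, fun x => by rw [h1, mul_one], fun y => by rw [h2, mul_one]⟩

variable {P₀}

/-- an extended module is free wherever its fibre is -/
theorem free_away_of_equiv (r : R) {n : ℕ} (u : (Fin n →₀ R) →ₗ[R] P₀)
    (v : P₀ →ₗ[R] (Fin n →₀ R)) (k : ℕ) (h1 : ∀ x, v (u x) = r ^ k • x)
    (h2 : ∀ y, u (v y) = r ^ k • y) (P : Type u) [AddCommGroup P] [Module R[X] P]
    (e : P ≃ₗ[R[X]] R[X] ⊗[R] P₀) :
    Module.Free (Localization.Away (C r : R[X]))
      (LocalizedModule (Submonoid.powers (C r : R[X])) P) := by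
  have hunit : IsUnit (algebraMap R (Localization.Away (C r : R[X])) (r ^ k)) := by
    rw [IsScalarTower.algebraMap_apply R R[X] (Localization.Away (C r : R[X])), map_pow, map_pow,
      Polynomial.algebraMap_eq]
    exact (IsLocalization.map_units (Localization.Away (C r : R[X]))
      (⟨C r, Submonoid.mem_powers _⟩ : Submonoid.powers (C r : R[X]))).pow k
  obtain ⟨w, hw⟩ := hunit.exists_left_inv
  let e₁ : (Localization.Away (C r : R[X])) ⊗[R[X]] P ≃ₗ[Localization.Away (C r : R[X])]
      LocalizedModule (Submonoid.powers (C r : R[X])) P :=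
    (IsLocalizedModule.isBaseChange (Submonoid.powers (C r : R[X]))
      (Localization.Away (C r : R[X]))
      (LocalizedModule.mkLinearMap (Submonoid.powers (C r : R[X])) P)).equiv
  let e₂ : (Localization.Away (C r : R[X])) ⊗[R[X]] P ≃ₗ[Localization.Away (C r : R[X])]
      (Localization.Away (C r : R[X])) ⊗[R[X]] (R[X] ⊗[R] P₀) :=
    LinearEquiv.baseChange R[X] (Localization.Away (C r : R[X])) _ _ e
  let e₃ : (Localization.Away (C r : R[X])) ⊗[R[X]] (R[X] ⊗[R] P₀) ≃ₗ[Localization.Away
      (C r : R[X])] (Localization.Away (C r : R[X])) ⊗[R] P₀ :=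
    AlgebraTensorModule.cancelBaseChange R R[X] (Localization.Away (C r : R[X]))
      (Localization.Away (C r : R[X])) P₀
  have hvu := baseChange_isogeny (Localization.Away (C r : R[X])) u v (r ^ k) h1
  have huv := baseChange_isogeny (Localization.Away (C r : R[X])) v u (r ^ k) h2
  let e₄ : (Localization.Away (C r : R[X])) ⊗[R] P₀ ≃ₗ[Localization.Away (C r : R[X])]
      (Localization.Away (C r : R[X])) ⊗[R] (Fin n →₀ R) :=
    LinearEquiv.ofBijective (v.baseChange (Localization.Away (C r : R[X]))) (by
      constructor
      · rw [injective_iff_map_eq_zero]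
        intro x hx
        have := huv x
        rw [hx, map_zero] at this
        have h3 := congrArg (fun z => w • z) this
        simp only [smul_zero, smul_smul, hw, one_smul] at h3
        exact h3.symm
      · intro y
        refine ⟨(u.baseChange (Localization.Away (C r : R[X]))) (w • y), ?_⟩
        rw [hvu, smul_smul, mul_comm, hw, one_smul])
  exact Module.Free.of_equiv (e₄.symm ≪≫ₗ e₃.symm ≪≫ₗ e₂.symm ≪≫ₗ e₁)

variable (P₀)

/-- a finitely generated projective module is free on a finite cover by basic opens -/
theorem exists_cover_free_away :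
    ∃ (n : ℕ) (g : Fin n → R), Ideal.span (Set.range g) = ⊤ ∧
      ∀ i, Module.Free (Localization.Away (g i)) (LocalizedModule.Away (g i) P₀) := by
  have : Module.FinitePresentation R P₀ := Module.finitePresentation_of_projective _ _
  have htop : Ideal.span {r : R | Module.Free (Localization.Away r)
      (LocalizedModule.Away r P₀)} = ⊤ := by
    by_contra hne
    obtain ⟨𝔪, h𝔪, hle⟩ := Ideal.exists_le_maximal _ hne
    have : Module.Free (Localization.AtPrime 𝔪) (LocalizedModule 𝔪.primeCompl P₀) :=
      Module.free_of_flat_of_isLocalRing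
    obtain ⟨r, hr, hfree, -⟩ := Module.FinitePresentation.exists_free_localizedModule_powers
      𝔪.primeCompl (LocalizedModule.mkLinearMap 𝔪.primeCompl P₀) (Localization.AtPrime 𝔪)
    exact hr (hle (Ideal.subset_span hfree))
  obtain ⟨s, hs, hs'⟩ := (Ideal.span_eq_top_iff_finite _).1 htop
  refine ⟨s.card, fun i => (s.equivFin.symm i : R), ?_, fun i => hs (s.equivFin.symm i).2⟩
  convert hs'
  ext x
  simp only [Set.mem_range, Finset.mem_coe]
  constructor
  · rintro ⟨i, rfl⟩
    exact (s.equivFin.symm i).2
  · intro hx
    exact ⟨s.equivFin ⟨x, hx⟩, by simp⟩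

end Cover

end Groth.Agent.Lib.Helper47.Horrocks
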