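import Mathlib

/-!
Endomorphisms of extended modules `R' ⊗[A] P` and their push-forward along `A`-algebra maps.
-/

set_option autoImplicit false

open TensorProduct

namespace Groth.Agent.Lib.Helper47.Horrocks

section PushEnd

variable {A : Type*} [CommRing A] {P : Type*} [AddCommGroup P] [Module A P]
variable {R₁ R₂ R₃ : Type*} [CommRing R₁] [Algebra A R₁] [CommRing R₂] [Algebra A R₂]
  [CommRing R₃] [Algebra A R₃]

/-- `ρ ⊗ id : R₁ ⊗ P → R₂ ⊗ P` -/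
noncomputable def tmap (P : Type*) [AddCommGroup P] [Module A P] (ρ : R₁ →ₐ[A] R₂) :
    R₁ ⊗[A] P →ₗ[A] R₂ ⊗[A] P :=
  TensorProduct.map ρ.toLinearMap LinearMap.id

@[simp] theorem tmap_tmul (ρ : R₁ →ₐ[A] R₂) (r : R₁) (p : P) :
    tmap P ρ (r ⊗ₜ p) = ρ r ⊗ₜ p := rfl

theorem tmap_smul (ρ : R₁ →ₐ[A] R₂) (r : R₁) (x : R₁ ⊗[A] P) :
    tmap P ρ (r • x) = ρ r • tmap P ρ x := by
  induction x using TensorProduct.induction_on with
  | zero => simp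
  | tmul s p => simp [TensorProduct.smul_tmul', map_mul]
  | add x y hx hy => rw [smul_add, map_add, hx, hy, map_add, smul_add]

theorem tmap_comp (ρ' : R₂ →ₐ[A] R₃) (ρ : R₁ →ₐ[A] R₂) (x : R₁ ⊗[A] P) :
    tmap P (ρ'.comp ρ) x = tmap P ρ' (tmap P ρ x) := by
  induction x using TensorProduct.induction_on with
  | zero => simp
  | tmul s p => simp
  | add x y hx hy => rw [map_add, hx, hy, map_add, map_add]

theorem tmap_id (x : R₁ ⊗[A] P) : tmap P (AlgHom.id A R₁) x = x := by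
  induction x using TensorProduct.induction_on with
  | zero => simp
  | tmul s p => simp
  | add x y hx hy => rw [map_add, hx, hy]

/-- linear maps out of `R ⊗ P` are determined on `1 ⊗ p` -/
theorem ext_one {N : Type*} [AddCommGroup N] [Module R₁ N] [Module A N] [IsScalarTower A R₁ N]
    {f g : R₁ ⊗[A] P →ₗ[R₁] N} (h : ∀ p : P, f (1 ⊗ₜ p) = g (1 ⊗ₜ p)) : f = g := by
  apply TensorProduct.AlgebraTensorModule.ext
  intro r p
  have : r ⊗ₜ[A] p = r • ((1 : R₁) ⊗ₜ[A] p) := by simp [TensorProduct.smul_tmul']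
  rw [this, map_smul, map_smul, h]

/-- push-forward of an endomorphism of `R₁ ⊗ P` along `ρ : R₁ → R₂` -/
noncomputable def pushEnd (ρ : R₁ →ₐ[A] R₂) (φ : Module.End R₁ (R₁ ⊗[A] P)) :
    Module.End R₂ (R₂ ⊗[A] P) :=
  LinearMap.liftBaseChange R₂
    ((tmap P ρ) ∘ₗ (φ.restrictScalars A) ∘ₗ (TensorProduct.mk A R₁ P 1))

@[simp] theorem pushEnd_one_tmul (ρ : R₁ →ₐ[A] R₂) (φ : Module.End R₁ (R₁ ⊗[A] P)) (p : P) :
    pushEnd ρ φ (1 ⊗ₜ p) = tmap P ρ (φ (1 ⊗ₜ p)) := by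
  simp [pushEnd]

theorem pushEnd_tmap (ρ : R₁ →ₐ[A] R₂) (φ : Module.End R₁ (R₁ ⊗[A] P)) (x : R₁ ⊗[A] P) :
    pushEnd ρ φ (tmap P ρ x) = tmap P ρ (φ x) := by
  induction x using TensorProduct.induction_on with
  | zero => simp
  | tmul r p =>
    have h1 : r ⊗ₜ[A] p = r • ((1 : R₁) ⊗ₜ[A] p) := by simp [TensorProduct.smul_tmul']
    have h2 : ρ r ⊗ₜ[A] p = ρ r • ((1 : R₂) ⊗ₜ[A] p) := by simp [TensorProduct.smul_tmul']
    rw [tmap_tmul, h2, map_smul, pushEnd_one_tmul, h1, map_smul, tmap_smul]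
  | add x y hx hy => rw [map_add, map_add, hx, hy, map_add, map_add]

theorem pushEnd_mul (ρ : R₁ →ₐ[A] R₂) (φ ψ : Module.End R₁ (R₁ ⊗[A] P)) :
    pushEnd ρ (φ * ψ) = pushEnd ρ φ * pushEnd ρ ψ := by
  apply ext_one
  intro p
  rw [pushEnd_one_tmul, Module.End.mul_apply, Module.End.mul_apply, pushEnd_one_tmul,
    pushEnd_tmap]

theorem pushEnd_one (ρ : R₁ →ₐ[A] R₂) :
    pushEnd ρ (1 : Module.End R₁ (R₁ ⊗[A] P)) = 1 := by
  apply ext_one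
  intro p
  simp

theorem pushEnd_add (ρ : R₁ →ₐ[A] R₂) (φ ψ : Module.End R₁ (R₁ ⊗[A] P)) :
    pushEnd ρ (φ + ψ) = pushEnd ρ φ + pushEnd ρ ψ := by
  apply ext_one
  intro p
  simp

theorem pushEnd_zero (ρ : R₁ →ₐ[A] R₂) :
    pushEnd ρ (0 : Module.End R₁ (R₁ ⊗[A] P)) = 0 := by
  apply ext_one
  intro p
  simp

theorem pushEnd_smul (ρ : R₁ →ₐ[A] R₂) (r : R₁) (φ : Module.End R₁ (R₁ ⊗[A] P)) :
    pushEnd ρ (r • φ) = ρ r • pushEnd ρ φ := by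
  apply ext_one
  intro p
  simp [tmap_smul]

/-- `pushEnd` as a ring homomorphism -/
noncomputable def pushEndHom (ρ : R₁ →ₐ[A] R₂) :
    Module.End R₁ (R₁ ⊗[A] P) →+* Module.End R₂ (R₂ ⊗[A] P) where
  toFun := pushEnd ρ
  map_one' := pushEnd_one ρ
  map_mul' := pushEnd_mul ρ
  map_zero' := pushEnd_zero ρ
  map_add' := pushEnd_add ρ

@[simp] theorem pushEndHom_apply (ρ : R₁ →ₐ[A] R₂) (φ : Module.End R₁ (R₁ ⊗[A] P)) :
    pushEndHom ρ φ = pushEnd ρ φ := rfl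

theorem pushEnd_comp (ρ' : R₂ →ₐ[A] R₃) (ρ : R₁ →ₐ[A] R₂) (φ : Module.End R₁ (R₁ ⊗[A] P)) :
    pushEnd (ρ'.comp ρ) φ = pushEnd ρ' (pushEnd ρ φ) := by
  apply ext_one
  intro p
  rw [pushEnd_one_tmul, tmap_comp, ← pushEnd_tmap, ← pushEnd_tmap]
  simp

theorem pushEnd_id (φ : Module.End R₁ (R₁ ⊗[A] P)) : pushEnd (AlgHom.id A R₁) φ = φ := by
  apply ext_one
  intro p
  rw [pushEnd_one_tmul, tmap_id]

theorem pushEnd_smul_one (ρ : R₁ →ₐ[A] R₂) (r : R₁) :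
    pushEnd ρ (r • (1 : Module.End R₁ (R₁ ⊗[A] P))) = ρ r • 1 := by
  rw [pushEnd_smul, pushEnd_one]

theorem pushEnd_baseChange (ρ : R₁ →ₐ[A] R₂) (g : P →ₗ[A] P) :
    pushEnd ρ (g.baseChange R₁) = g.baseChange R₂ := by
  apply ext_one
  intro p
  simp

/-- the difference of two push-forwards, when `ρ₂ - ρ₁` is divisible by `z` -/
theorem pushEnd_sub_eq_smul (ρ₁ ρ₂ : R₁ →ₐ[A] R₂) (z : R₂) (δ : R₁ →ₗ[A] R₂)
    (hδ : ∀ r, ρ₂ r - ρ₁ r = z * δ r) (φ : Module.End R₁ (R₁ ⊗[A] P)) :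
    ∃ D : Module.End R₂ (R₂ ⊗[A] P), pushEnd ρ₂ φ - pushEnd ρ₁ φ = z • D := by
  refine ⟨LinearMap.liftBaseChange R₂
    ((TensorProduct.map δ LinearMap.id) ∘ₗ (φ.restrictScalars A) ∘ₗ (TensorProduct.mk A R₁ P 1)), ?_⟩
  have key : ∀ x : R₁ ⊗[A] P, tmap P ρ₂ x - tmap P ρ₁ x =
      z • (TensorProduct.map δ (LinearMap.id : P →ₗ[A] P)) x := by
    intro x
    induction x using TensorProduct.induction_on with
    | zero => simp
    | tmul r p =>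
      simp only [tmap_tmul, TensorProduct.map_tmul, LinearMap.id_apply]
      rw [← TensorProduct.sub_tmul, hδ, TensorProduct.smul_tmul', smul_eq_mul]
    | add x y hx hy =>
      rw [map_add, map_add, map_add, smul_add, ← hx, ← hy]
      abel
  apply ext_one
  intro p
  simp only [LinearMap.sub_apply, pushEnd_one_tmul, LinearMap.smul_apply,
    LinearMap.liftBaseChange_tmul, one_smul, LinearMap.comp_apply, TensorProduct.mk_apply,
    LinearMap.restrictScalars_apply]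
  exact key _

end PushEnd

section Abstract

variable {K : Type*} [CommRing K] {𝔅 : Type*} [Ring 𝔅] [Algebra K 𝔅]

/-- The abstract scaling lemma behind Quillen's factorisation. -/
theorem key_factor (Z F₁ F₂ c : K) (hreg : ∀ b : 𝔅, Z • b = 0 → b = 0)
    (s : K →+* K) (σ : 𝔅 →+* 𝔅) (hσ : ∀ (k : K) (b : 𝔅), σ (k • b) = s k • σ b)
    (hs1 : s F₁ = F₁) (hs2 : s F₂ = F₂) (hsZ : s Z = F₁ ^ 2 * c * Z)
    (t t' t₁ t₁' : 𝔅) (ht : t = (F₁ * F₂) • (1 : 𝔅) + Z • t₁)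
    (ht' : t' = (F₁ * F₂) • (1 : 𝔅) + Z • t₁')
    (htt' : t * t' = (F₁ * F₂) ^ 2 • (1 : 𝔅)) (ht't : t' * t = (F₁ * F₂) ^ 2 • (1 : 𝔅)) :
    ∃ p p' : 𝔅, p * p' = F₂ ^ 2 • (1 : 𝔅) ∧ p' * p = F₂ ^ 2 • (1 : 𝔅) ∧
      F₁ • p = σ t ∧ F₁ • p' = σ t' := by
  have hD : (F₁ * F₂) • (t₁ + t₁') + Z • (t₁ * t₁') = 0 := by
    apply hreg
    have : Z • ((F₁ * F₂) • (t₁ + t₁') + Z • (t₁ * t₁')) = t * t' - (F₁ * F₂) ^ 2 • (1 : 𝔅) := by
      rw [ht, ht']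
      simp only [add_mul, mul_add, smul_mul_assoc, mul_smul_comm, one_mul, mul_one, smul_add,
        smul_smul]
      module
    rw [this, htt', sub_self]
  have hD' : (F₁ * F₂) • (t₁' + t₁) + Z • (t₁' * t₁) = 0 := by
    apply hreg
    have : Z • ((F₁ * F₂) • (t₁' + t₁) + Z • (t₁' * t₁)) = t' * t - (F₁ * F₂) ^ 2 • (1 : 𝔅) := by
      rw [ht, ht']
      simp only [add_mul, mul_add, smul_mul_assoc, mul_smul_comm, one_mul, mul_one, smul_add,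
        smul_smul]
      module
    rw [this, ht't, sub_self]
  have hsD : (F₁ * F₂) • (σ t₁ + σ t₁') + (F₁ ^ 2 * c * Z) • (σ t₁ * σ t₁') = 0 := by
    have := congrArg σ hD
    rwa [map_add, hσ, hσ, map_add, map_mul, map_mul, hs1, hs2, hsZ, map_zero] at this
  have hsD' : (F₁ * F₂) • (σ t₁' + σ t₁) + (F₁ ^ 2 * c * Z) • (σ t₁' * σ t₁) = 0 := by
    have := congrArg σ hD'
    rwa [map_add, hσ, hσ, map_add, map_mul, map_mul, hs1, hs2, hsZ, map_zero] at this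
  refine ⟨F₂ • (1 : 𝔅) + (F₁ * c * Z) • σ t₁, F₂ • (1 : 𝔅) + (F₁ * c * Z) • σ t₁', ?_, ?_, ?_, ?_⟩
  · have : (F₂ • (1 : 𝔅) + (F₁ * c * Z) • σ t₁) * (F₂ • (1 : 𝔅) + (F₁ * c * Z) • σ t₁') =
        F₂ ^ 2 • (1 : 𝔅) +
          (c * Z) • ((F₁ * F₂) • (σ t₁ + σ t₁') + (F₁ ^ 2 * c * Z) • (σ t₁ * σ t₁')) := by
      simp only [add_mul, mul_add, smul_mul_assoc, mul_smul_comm, one_mul, mul_one, smul_add,
        smul_smul]
      module
    rw [this, hsD, smul_zero, add_zero]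
  · have : (F₂ • (1 : 𝔅) + (F₁ * c * Z) • σ t₁') * (F₂ • (1 : 𝔅) + (F₁ * c * Z) • σ t₁) =
        F₂ ^ 2 • (1 : 𝔅) +
          (c * Z) • ((F₁ * F₂) • (σ t₁' + σ t₁) + (F₁ ^ 2 * c * Z) • (σ t₁' * σ t₁)) := by
      simp only [add_mul, mul_add, smul_mul_assoc, mul_smul_comm, one_mul, mul_one, smul_add,
        smul_smul]
      module
    rw [this, hsD', smul_zero, add_zero]
  · rw [ht, map_add, hσ, hσ, map_one, map_mul, hs1, hs2, hsZ]
    simp only [smul_add, smul_smul]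
    module
  · rw [ht', map_add, hσ, hσ, map_one, map_mul, hs1, hs2, hsZ]
    simp only [smul_add, smul_smul]
    module

end Abstract

end Groth.Agent.Lib.Helper47.Horrocks
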