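import Groth.Agent.Lib.Helper47.HorrocksEnd

/-!
Quillen's factorisation of automorphisms, in denominator-free form.
-/

set_option autoImplicit false

open TensorProduct Polynomial

namespace Groth.Agent.Lib.Helper47.Horrocks

section Reg

variable {A : Type*} [CommRing A] {P : Type*} [AddCommGroup P] [Module A P] [Module.Flat A P]
variable {R' : Type*} [CommRing R'] [Algebra A R']

theorem smul_injective_of_regular (z : R') (hz : IsLeftRegular z) :
    Function.Injective (fun e : R' ⊗[A] P => z • e) := by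
  have h1 : Function.Injective ((LinearMap.mulLeft A z).rTensor P) :=
    Module.Flat.rTensor_preserves_injective_linearMap _ hz
  have h2 : ∀ e : R' ⊗[A] P, (LinearMap.mulLeft A z).rTensor P e = z • e := by
    intro e
    induction e using TensorProduct.induction_on with
    | zero => simp
    | tmul r p => simp [TensorProduct.smul_tmul']
    | add x y hx hy => rw [map_add, hx, hy, smul_add]
  intro e₁ e₂ h
  apply h1
  rw [h2, h2]
  exact h

theorem end_eq_zero_of_regular_smul (z : R') (hz : IsLeftRegular z)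
    (φ : Module.End R' (R' ⊗[A] P)) (h : z • φ = 0) : φ = 0 := by
  refine LinearMap.ext fun e => ?_
  apply smul_injective_of_regular (A := A) (P := P) z hz
  have := LinearMap.congr_fun h e
  simpa using this

end Reg

section Scale

variable {A : Type*} [CommRing A]

/-- `X ↦ a X` -/
noncomputable def scale (a : A) : A[X] →ₐ[A] A[X] := Polynomial.aeval (C a * X)

@[simp] theorem scale_X (a : A) : scale a X = C a * X := by simp [scale]
@[simp] theorem scale_C (a b : A) : scale a (C b) = C b := by simp [scale]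

/-- `X ↦ C X` into `A[X][Y]` -/
noncomputable def rho1 : A[X] →ₐ[A] A[X][X] := Polynomial.aeval (C X : A[X][X])

/-- `X ↦ (1 - Y) X` into `A[X][Y]` -/
noncomputable def rho2 : A[X] →ₐ[A] A[X][X] := Polynomial.aeval ((1 - X) * C X : A[X][X])

/-- `Y ↦ a Y` -/
noncomputable def scaleY (a : A) : A[X][X] →ₐ[A] A[X][X] :=
  (Polynomial.aeval (C (C a) * X : A[X][X]) : A[X][X] →ₐ[A[X]] A[X][X]).restrictScalars A

/-- `Y ↦ 1` -/
noncomputable def evY1 : A[X][X] →ₐ[A] A[X] :=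
  (Polynomial.aeval (1 : A[X]) : A[X][X] →ₐ[A[X]] A[X]).restrictScalars A

theorem rho1_C (b : A) : rho1 (C b) = C (C b) := by
  simp [rho1, Polynomial.algebraMap_apply]

theorem rho2_C (b : A) : rho2 (C b) = C (C b) := by
  simp [rho2, Polynomial.algebraMap_apply]

theorem scaleY_CC (a b : A) : scaleY a (C (C b)) = C (C b) := by
  simp [scaleY]

theorem scaleY_X (a : A) : scaleY a (X : A[X][X]) = C (C a) * X := by
  simp [scaleY]

theorem evY1_scaleY_rho1 (a : A) :
    (evY1.comp ((scaleY a).comp rho1) : A[X] →ₐ[A] A[X]) = AlgHom.id A A[X] := by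
  apply Polynomial.algHom_ext
  simp [evY1, scaleY, rho1]

theorem evY1_scaleY_rho2 (a : A) :
    (evY1.comp ((scaleY a).comp rho2) : A[X] →ₐ[A] A[X]) = scale (1 - a) := by
  apply Polynomial.algHom_ext
  simp [evY1, scaleY, rho2, scale]

/-- the divided difference of `rho2` and `rho1` -/
noncomputable def rhoDelta : A[X] →ₗ[A] A[X][X] where
  toFun r := Polynomial.divX (rho2 r - rho1 r)
  map_add' r s := by simp [Polynomial.divX_add, add_sub_add_comm]
  map_smul' a r := by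
    simp only [map_smul, RingHom.id_apply, ← smul_sub]
    rw [Algebra.smul_def, Algebra.smul_def, Polynomial.algebraMap_apply,
      Polynomial.algebraMap_apply, Polynomial.divX_C_mul]

theorem rho2_sub_rho1 (r : A[X]) : rho2 r - rho1 r = X * rhoDelta r := by
  have h0 : (rho2 r - rho1 r).coeff 0 = 0 := by
    rw [Polynomial.coeff_zero_eq_aeval_zero, map_sub]
    have h1 : ((Polynomial.aeval (0 : A[X]) : A[X][X] →ₐ[A[X]] A[X]).restrictScalars A).comp rho2 =
        ((Polynomial.aeval (0 : A[X]) : A[X][X] →ₐ[A[X]] A[X]).restrictScalars A).comp rho1 := by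
      apply Polynomial.algHom_ext
      simp [rho1, rho2]
    have h2 := AlgHom.congr_fun h1 r
    simp only [AlgHom.comp_apply, AlgHom.restrictScalars_apply] at h2
    rw [h2, sub_self]
  have := Polynomial.X_mul_divX_add (rho2 r - rho1 r)
  rw [h0, map_zero, add_zero] at this
  exact this.symm

end Scale

section Factor

variable {A : Type*} [CommRing A] {P : Type*} [AddCommGroup P] [Module A P] [Module.Flat A P]

theorem pushEnd_algebraMap_smul_one {R₁ R₂ : Type*} [CommRing R₁] [Algebra A R₁] [CommRing R₂]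
    [Algebra A R₂] (ρ : R₁ →ₐ[A] R₂) (b : A) :
    pushEnd ρ ((algebraMap A R₁ b) • (1 : Module.End R₁ (R₁ ⊗[A] P))) =
      (algebraMap A R₂ b) • (1 : Module.End R₂ (R₂ ⊗[A] P)) := by
  rw [pushEnd_smul_one, AlgHom.commutes]

/-- **Quillen's factorisation**, denominator-free form; generic second ring. -/
theorem exists_factor_aux {R₂ : Type*} [CommRing R₂] [Algebra A R₂]
    (Y : R₂) (hY : IsLeftRegular Y) (ρ₁ ρ₂ : A[X] →ₐ[A] R₂) (δ : A[X] →ₗ[A] R₂)
    (hδ : ∀ r, ρ₂ r - ρ₁ r = Y * δ r)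
    (sY : A → (R₂ →ₐ[A] R₂)) (hsY : ∀ a, sY a Y = algebraMap A R₂ a * Y)
    (ε : R₂ →ₐ[A] A[X]) (h1 : ∀ a, ε.comp ((sY a).comp ρ₁) = AlgHom.id A A[X])
    (h2 : ∀ a, ε.comp ((sY a).comp ρ₂) = scale (1 - a))
    (F₁ F₂ c c' : A) (hg : F₁ ^ 2 * c + F₂ ^ 4 * c' = 1)
    (t t' t₁ t₁' : Module.End A[X] (A[X] ⊗[A] P))
    (ht : t = (algebraMap A A[X] (F₁ * F₂)) • (1 : Module.End A[X] (A[X] ⊗[A] P)) +
      (X : A[X]) • t₁)
    (ht' : t' = (algebraMap A A[X] (F₁ * F₂)) • (1 : Module.End A[X] (A[X] ⊗[A] P)) +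
      (X : A[X]) • t₁')
    (htt' : t * t' = (algebraMap A A[X] ((F₁ * F₂) ^ 2)) • (1 : Module.End A[X] (A[X] ⊗[A] P)))
    (ht't : t' * t = (algebraMap A A[X] ((F₁ * F₂) ^ 2)) • (1 : Module.End A[X] (A[X] ⊗[A] P))) :
    ∃ p p' q q' : Module.End A[X] (A[X] ⊗[A] P),
      p * p' = (algebraMap A A[X] (F₂ ^ 2)) • (1 : Module.End A[X] (A[X] ⊗[A] P)) ∧
      p' * p = (algebraMap A A[X] (F₂ ^ 2)) • (1 : Module.End A[X] (A[X] ⊗[A] P)) ∧
      q * q' = (algebraMap A A[X] (F₁ ^ 4)) • (1 : Module.End A[X] (A[X] ⊗[A] P)) ∧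
      q' * q = (algebraMap A A[X] (F₁ ^ 4)) • (1 : Module.End A[X] (A[X] ⊗[A] P)) ∧
      (algebraMap A A[X] (F₁ * F₂ ^ 2)) • (q * p) = (algebraMap A A[X] ((F₁ * F₂) ^ 2)) • t := by
  have hregX : ∀ b : Module.End A[X] (A[X] ⊗[A] P), (X : A[X]) • b = 0 → b = 0 := fun b hb =>
    end_eq_zero_of_regular_smul (A := A) (P := P) (X : A[X]) Polynomial.isRegular_X.left b hb
  have hregY : ∀ b : Module.End R₂ (R₂ ⊗[A] P), Y • b = 0 → b = 0 :=
    fun b hb => end_eq_zero_of_regular_smul (A := A) (P := P) Y hY b hb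
  set g : A := F₁ ^ 2 * c with hgdef
  have hg' : 1 - F₂ ^ 4 * c' = g := by rw [hgdef, ← hg]; ring
  -- Step B
  obtain ⟨p, p', hpp', hp'p, hp, hp'⟩ := key_factor (K := A[X])
    (𝔅 := Module.End A[X] (A[X] ⊗[A] P)) (X : A[X]) (algebraMap A A[X] F₁)
    (algebraMap A A[X] F₂) (algebraMap A A[X] c) hregX
    ((scale g : A[X] →ₐ[A] A[X]) : A[X] →+* A[X]) (pushEndHom (scale g))
    (fun k b => pushEnd_smul (scale g) k b) (by simp) (by simp)
    (by simp [hgdef, map_mul, map_pow, Polynomial.algebraMap_eq]) t t' t₁ t₁'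
    (by rw [ht, map_mul]) (by rw [ht', map_mul])
    (by rw [htt', map_pow, map_mul]) (by rw [ht't, map_pow, map_mul])
  -- Step C
  obtain ⟨D, hD⟩ := pushEnd_sub_eq_smul (P := P) ρ₁ ρ₂ Y δ hδ t
  obtain ⟨D', hD'⟩ := pushEnd_sub_eq_smul (P := P) ρ₁ ρ₂ Y δ hδ t'
  have hj2t : pushEnd ρ₂ t = pushEnd ρ₁ t + Y • D := by
    rw [← hD]; exact (add_sub_cancel (pushEnd ρ₁ t) (pushEnd ρ₂ t)).symm
  have hj2t' : pushEnd ρ₂ t' = pushEnd ρ₁ t' + Y • D' := by
    rw [← hD']; exact (add_sub_cancel (pushEnd ρ₁ t') (pushEnd ρ₂ t')).symm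
  set a' : A := F₂ ^ 4 * c' with ha'def
  obtain ⟨q, q', hqq', hq'q, hq, -⟩ := key_factor (K := R₂)
    (𝔅 := Module.End R₂ (R₂ ⊗[A] P)) Y (algebraMap A R₂ (F₂ ^ 2)) (algebraMap A R₂ (F₁ ^ 2))
    (algebraMap A R₂ c') hregY
    ((sY a' : R₂ →ₐ[A] R₂) : R₂ →+* R₂) (pushEndHom (sY a'))
    (fun k b => pushEnd_smul (sY a') k b) (by simp) (by simp)
    (by
      simp only [RingHom.coe_coe, hsY, ha'def]
      simp only [map_mul, map_pow]
      ring)
    (pushEnd ρ₁ t * pushEnd ρ₂ t') (pushEnd ρ₂ t * pushEnd ρ₁ t')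
    (pushEnd ρ₁ t * D') (D * pushEnd ρ₁ t')
    (by
      rw [hj2t', mul_add, ← pushEnd_mul, htt', pushEnd_algebraMap_smul_one, mul_smul_comm]
      congr 2
      simp only [← map_mul]
      congr 1
      ring)
    (by
      rw [hj2t, add_mul, ← pushEnd_mul, htt', pushEnd_algebraMap_smul_one, smul_mul_assoc]
      congr 2
      simp only [← map_mul]
      congr 1
      ring)
    (by
      have : pushEnd ρ₁ t * pushEnd ρ₂ t' * (pushEnd ρ₂ t * pushEnd ρ₁ t') =
          pushEnd ρ₁ t * (pushEnd ρ₂ (t' * t)) * pushEnd ρ₁ t' := by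
        rw [pushEnd_mul]; noncomm_ring
      rw [this, ht't, pushEnd_algebraMap_smul_one, mul_smul_comm, mul_one, smul_mul_assoc,
        ← pushEnd_mul, htt', pushEnd_algebraMap_smul_one, smul_smul]
      congr 1
      simp only [← map_mul, ← map_pow]
      congr 1
      ring)
    (by
      have : pushEnd ρ₂ t * pushEnd ρ₁ t' * (pushEnd ρ₁ t * pushEnd ρ₂ t') =
          pushEnd ρ₂ t * (pushEnd ρ₁ (t' * t)) * pushEnd ρ₂ t' := by
        rw [pushEnd_mul]; noncomm_ring
      rw [this, ht't, pushEnd_algebraMap_smul_one, mul_smul_comm, mul_one, smul_mul_assoc,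
        ← pushEnd_mul, htt', pushEnd_algebraMap_smul_one, smul_smul]
      congr 1
      simp only [← map_mul, ← map_pow]
      congr 1
      ring)
  have hq1 : (algebraMap A A[X] (F₂ ^ 2)) • pushEnd ε q = t * pushEnd (scale g) t' := by
    have h3 := congrArg (pushEnd ε) hq
    rw [pushEnd_smul, AlgHom.commutes, pushEndHom_apply, pushEnd_mul, pushEnd_mul,
      ← pushEnd_comp, ← pushEnd_comp, ← pushEnd_comp, ← pushEnd_comp, AlgHom.comp_assoc,
      AlgHom.comp_assoc, h1, h2, pushEnd_id, hg'] at h3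
    exact h3
  refine ⟨p, p', pushEnd ε q, pushEnd ε q', ?_, ?_, ?_, ?_, ?_⟩
  · rw [hpp', ← map_pow]
  · rw [hp'p, ← map_pow]
  · rw [← pushEnd_mul, hqq', ← map_pow, pushEnd_algebraMap_smul_one, ← pow_mul]
  · rw [← pushEnd_mul, hq'q, ← map_pow, pushEnd_algebraMap_smul_one, ← pow_mul]
  · have h4 : ((algebraMap A A[X] (F₂ ^ 2)) • pushEnd ε q) * ((algebraMap A A[X] F₁) • p) =
        t * (pushEnd (scale g) (t' * t)) := by
      rw [hq1, hp, pushEndHom_apply, pushEnd_mul, mul_assoc]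
    rw [ht't, pushEnd_algebraMap_smul_one, smul_mul_smul_comm, mul_smul_comm, mul_one] at h4
    rw [← h4, ← map_mul]
    congr 2
    ring

/-- **Quillen's factorisation**, denominator-free form. -/
theorem exists_factor
    (F₁ F₂ c c' : A) (hg : F₁ ^ 2 * c + F₂ ^ 4 * c' = 1)
    (t t' t₁ t₁' : Module.End A[X] (A[X] ⊗[A] P))
    (ht : t = (algebraMap A A[X] (F₁ * F₂)) • (1 : Module.End A[X] (A[X] ⊗[A] P)) +
      (X : A[X]) • t₁)
    (ht' : t' = (algebraMap A A[X] (F₁ * F₂)) • (1 : Module.End A[X] (A[X] ⊗[A] P)) +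
      (X : A[X]) • t₁')
    (htt' : t * t' = (algebraMap A A[X] ((F₁ * F₂) ^ 2)) • (1 : Module.End A[X] (A[X] ⊗[A] P)))
    (ht't : t' * t = (algebraMap A A[X] ((F₁ * F₂) ^ 2)) • (1 : Module.End A[X] (A[X] ⊗[A] P))) :
    ∃ p p' q q' : Module.End A[X] (A[X] ⊗[A] P),
      p * p' = (algebraMap A A[X] (F₂ ^ 2)) • (1 : Module.End A[X] (A[X] ⊗[A] P)) ∧
      p' * p = (algebraMap A A[X] (F₂ ^ 2)) • (1 : Module.End A[X] (A[X] ⊗[A] P)) ∧
      q * q' = (algebraMap A A[X] (F₁ ^ 4)) • (1 : Module.End A[X] (A[X] ⊗[A] P)) ∧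
      q' * q = (algebraMap A A[X] (F₁ ^ 4)) • (1 : Module.End A[X] (A[X] ⊗[A] P)) ∧
      (algebraMap A A[X] (F₁ * F₂ ^ 2)) • (q * p) = (algebraMap A A[X] ((F₁ * F₂) ^ 2)) • t :=
  exists_factor_aux (R₂ := A[X][X]) (X : A[X][X]) Polynomial.isRegular_X.left rho1 rho2 rhoDelta
    rho2_sub_rho1 scaleY
    (fun a => by rw [scaleY_X, Polynomial.algebraMap_apply, Polynomial.algebraMap_apply]; rfl)
    evY1 evY1_scaleY_rho1 evY1_scaleY_rho2 F₁ F₂ c c' hg t t' t₁ t₁' ht ht' htt' ht't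

end Factor

end Groth.Agent.Lib.Helper47.Horrocks
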