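import Groth.Agent.Lib.Helper47.HorrocksEnd

/-!
Fibre pairs: a `B[X]`-module `M` together with its fibre `P = M / X M` at `X = 0`.
-/

set_option autoImplicit false

open TensorProduct Polynomial

namespace Groth.Agent.Lib.Helper47.Horrocks

/-- `P` is the fibre of the `B[X]`-module `M` at `X = 0`. -/
structure FibrePair (B : Type*) [CommRing B] (M : Type*) [AddCommGroup M] [Module B[X] M]
    (P : Type*) [AddCommGroup P] [Module B P] where
  toFun : M →+ P
  map_smul' : ∀ (r : B[X]) (m : M), toFun (r • m) = r.coeff 0 • toFun m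
  surj : Function.Surjective toFun
  ker : ∀ m, toFun m = 0 → ∃ m', m = (X : B[X]) • m'

namespace FibrePair

variable {B : Type*} [CommRing B] {M : Type*} [AddCommGroup M] [Module B[X] M]
  {P : Type*} [AddCommGroup P] [Module B P] (π : FibrePair B M P)

instance : CoeFun (FibrePair B M P) (fun _ => M → P) := ⟨fun π => π.toFun⟩

theorem map_X_smul (m : M) : π ((X : B[X]) • m) = 0 := by
  rw [π.map_smul', coeff_X_zero, zero_smul]

theorem map_C_smul (b : B) (m : M) : π (C b • m) = b • π m := by
  rw [π.map_smul', coeff_C_zero]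

theorem map_add (m m' : M) : π (m + m') = π m + π m' := π.toFun.map_add m m'

theorem map_sub (m m' : M) : π (m - m') = π m - π m' := π.toFun.map_sub m m'

theorem map_zero : π 0 = 0 := π.toFun.map_zero

variable {Q : Type*} [AddCommGroup Q] [Module B Q]

theorem eq_of_eq (g : M →+ Q) (hg : ∀ (r : B[X]) (m : M), g (r • m) = r.coeff 0 • g m)
    {m m' : M} (h : π m = π m') : g m = g m' := by
  have h0 : π (m - m') = 0 := by rw [π.map_sub, h, sub_self]
  obtain ⟨m'', hm''⟩ := π.ker _ h0
  have h1 : g (m - m') = 0 := by rw [hm'', hg, coeff_X_zero, zero_smul]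
  rwa [_root_.map_sub, sub_eq_zero] at h1

/-- semilinear maps out of `M` descend to the fibre -/
noncomputable def lift (g : M →+ Q) (hg : ∀ (r : B[X]) (m : M), g (r • m) = r.coeff 0 • g m) :
    P →ₗ[B] Q where
  toFun p := g (Function.surjInv π.surj p)
  map_add' p q := by
    rw [← _root_.map_add]
    apply π.eq_of_eq g hg
    rw [π.map_add, Function.surjInv_eq π.surj, Function.surjInv_eq π.surj,
      Function.surjInv_eq π.surj]
  map_smul' b p := by
    simp only [RingHom.id_apply]
    rw [← coeff_C_zero (a := b), ← hg]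
    apply π.eq_of_eq g hg
    rw [π.map_smul', Function.surjInv_eq π.surj, Function.surjInv_eq π.surj]

theorem lift_apply (g : M →+ Q) (hg : ∀ (r : B[X]) (m : M), g (r • m) = r.coeff 0 • g m)
    (m : M) : π.lift g hg (π m) = g m :=
  π.eq_of_eq g hg (Function.surjInv_eq π.surj _)

/-- functoriality of the fibre -/
noncomputable def map {M₂ : Type*} [AddCommGroup M₂] [Module B[X] M₂] {P₂ : Type*}
    [AddCommGroup P₂] [Module B P₂] (π₂ : FibrePair B M₂ P₂) (f : M →ₗ[B[X]] M₂) :
    P →ₗ[B] P₂ :=
  π.lift (π₂.toFun.comp f.toAddMonoidHom) (fun r m => by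
    show π₂.toFun (f (r • m)) = r.coeff 0 • π₂.toFun (f m)
    rw [f.map_smul, π₂.map_smul'])

theorem map_apply {M₂ : Type*} [AddCommGroup M₂] [Module B[X] M₂] {P₂ : Type*}
    [AddCommGroup P₂] [Module B P₂] (π₂ : FibrePair B M₂ P₂) (f : M →ₗ[B[X]] M₂) (m : M) :
    π.map π₂ f (π m) = π₂ (f m) :=
  π.lift_apply _ _ m

/-- the fibre is unique -/
noncomputable def equiv {M₂ : Type*} [AddCommGroup M₂] [Module B[X] M₂] {P₂ : Type*}
    [AddCommGroup P₂] [Module B P₂] (π₂ : FibrePair B M₂ P₂) (e : M ≃ₗ[B[X]] M₂) :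
    P ≃ₗ[B] P₂ :=
  LinearEquiv.ofLinearMap (π.map π₂ e.toLinearMap) (π₂.map π e.symm.toLinearMap)
    (by
      refine LinearMap.ext fun p => ?_
      obtain ⟨m, rfl⟩ := π₂.surj p
      have h1 : π₂.map π e.symm.toLinearMap (π₂ m) = π (e.symm m) := π₂.map_apply π _ m
      have h2 : π.map π₂ e.toLinearMap (π (e.symm m)) = π₂ (e (e.symm m)) :=
        π.map_apply π₂ _ _
      show π.map π₂ e.toLinearMap (π₂.map π e.symm.toLinearMap (π₂ m)) = π₂ m
      rw [h1, h2, e.apply_symm_apply])
    (by
      refine LinearMap.ext fun p => ?_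
      obtain ⟨m, rfl⟩ := π.surj p
      have h1 : π.map π₂ e.toLinearMap (π m) = π₂ (e m) := π.map_apply π₂ _ m
      have h2 : π₂.map π e.symm.toLinearMap (π₂ (e m)) = π (e.symm (e m)) :=
        π₂.map_apply π _ _
      show π₂.map π e.symm.toLinearMap (π.map π₂ e.toLinearMap (π m)) = π m
      rw [h1, h2, e.symm_apply_apply])

end FibrePair

section Tensor

variable {B : Type*} [CommRing B] (P : Type*) [AddCommGroup P] [Module B P]

/-- `r ⊗ p ↦ r(0) • p` -/
noncomputable def epsLin : B[X] ⊗[B] P →ₗ[B] P :=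
  TensorProduct.lift ((LinearMap.lsmul B P).comp (Polynomial.lcoeff B 0))

@[simp] theorem epsLin_tmul (r : B[X]) (p : P) : epsLin P (r ⊗ₜ p) = r.coeff 0 • p := by
  simp [epsLin]

theorem epsLin_smul (r : B[X]) (e : B[X] ⊗[B] P) : epsLin P (r • e) = r.coeff 0 • epsLin P e := by
  induction e using TensorProduct.induction_on with
  | zero => simp
  | tmul s p => simp [TensorProduct.smul_tmul', mul_coeff_zero, mul_smul]
  | add x y hx hy => rw [smul_add, map_add, hx, hy, map_add, smul_add]

theorem exists_eq_one_tmul_add (e : B[X] ⊗[B] P) :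
    ∃ e' : B[X] ⊗[B] P, e = (1 : B[X]) ⊗ₜ[B] (epsLin P e) + (X : B[X]) • e' := by
  induction e using TensorProduct.induction_on with
  | zero => exact ⟨0, by simp⟩
  | tmul r p =>
    refine ⟨(divX r) ⊗ₜ p, ?_⟩
    rw [epsLin_tmul, TensorProduct.smul_tmul', smul_eq_mul, ← TensorProduct.smul_tmul,
      ← TensorProduct.add_tmul]
    congr 1
    rw [← Polynomial.C_mul', mul_one, add_comm, Polynomial.X_mul_divX_add]
  | add x y hx hy =>
    obtain ⟨x', hx'⟩ := hx
    obtain ⟨y', hy'⟩ := hy
    refine ⟨x' + y', ?_⟩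
    rw [map_add, TensorProduct.tmul_add, smul_add]
    nth_rewrite 1 [hx', hy']
    abel

/-- the fibre of `B[X] ⊗ P` is `P` -/
noncomputable def FibrePair.tensor : FibrePair B (B[X] ⊗[B] P) P where
  toFun := (epsLin P).toAddMonoidHom
  map_smul' r e := epsLin_smul P r e
  surj p := ⟨1 ⊗ₜ p, by simp⟩
  ker e he := by
    obtain ⟨e', he'⟩ := exists_eq_one_tmul_add P e
    refine ⟨e', ?_⟩
    have : epsLin P e = 0 := he
    rw [he', this, TensorProduct.tmul_zero, zero_add]

@[simp] theorem FibrePair.tensor_apply (e : B[X] ⊗[B] P) :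
    FibrePair.tensor P e = epsLin P e := rfl

end Tensor

section ModX

variable {B : Type*} [CommRing B] {P : Type*} [AddCommGroup P] [Module B P]

/-- evaluation at zero, as an endomorphism of `B[X]` -/
noncomputable def rhoZero : B[X] →ₐ[B] B[X] := Polynomial.aeval (0 : B[X])

theorem rhoZero_apply (r : B[X]) : (rhoZero r : B[X]) = C (r.coeff 0) := by
  rw [rhoZero, ← Polynomial.coeff_zero_eq_aeval_zero']
  rfl

/-- `divX` as a linear map -/
noncomputable def divXLin : B[X] →ₗ[B] B[X] where
  toFun := divX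
  map_add' _ _ := divX_add
  map_smul' a r := by
    simp only [RingHom.id_apply]
    rw [Polynomial.smul_eq_C_mul, Polynomial.divX_C_mul, ← Polynomial.smul_eq_C_mul]

theorem tmap_rhoZero (e : B[X] ⊗[B] P) : tmap P rhoZero e = (1 : B[X]) ⊗ₜ[B] (epsLin P e) := by
  induction e using TensorProduct.induction_on with
  | zero => simp
  | tmul r p =>
    rw [tmap_tmul, rhoZero_apply, epsLin_tmul, ← TensorProduct.smul_tmul, ← Polynomial.C_mul',
      mul_one]
  | add x y hx hy => rw [map_add, hx, hy, map_add, TensorProduct.tmul_add]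

theorem exists_eq_C_smul_add_X_smul (t : Module.End B[X] (B[X] ⊗[B] P)) (k : B)
    (h : ∀ p, epsLin P (t ((1 : B[X]) ⊗ₜ[B] p)) = k • p) :
    ∃ t₁ : Module.End B[X] (B[X] ⊗[B] P),
      t = (algebraMap B B[X] k) • (1 : Module.End B[X] (B[X] ⊗[B] P)) + (X : B[X]) • t₁ := by
  obtain ⟨D, hD⟩ := pushEnd_sub_eq_smul (P := P) rhoZero (AlgHom.id B B[X]) (X : B[X]) divXLin
    (fun r => by
      rw [rhoZero_apply]
      show r - C (r.coeff 0) = X * divX r
      nth_rewrite 1 [← Polynomial.X_mul_divX_add r]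
      ring) t
  have h1 : pushEnd rhoZero t =
      (algebraMap B B[X] k) • (1 : Module.End B[X] (B[X] ⊗[B] P)) := by
    apply ext_one
    intro p
    rw [pushEnd_one_tmul, tmap_rhoZero, h, LinearMap.smul_apply, Module.End.one_apply,
      TensorProduct.smul_tmul', ← TensorProduct.smul_tmul, Algebra.smul_def, mul_one,
      smul_eq_mul, mul_one]
  refine ⟨D, ?_⟩
  rw [pushEnd_id, h1] at hD
  rw [← hD]
  exact (add_sub_cancel ((algebraMap B B[X] k) • (1 : Module.End B[X] (B[X] ⊗[B] P))) t).symm

end ModX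

section Proj

variable {B : Type*} [CommRing B] {M : Type*} [AddCommGroup M] [Module B[X] M]
  {P : Type*} [AddCommGroup P] [Module B P] (π : FibrePair B M P)

include π in
theorem FibrePair.finite [Module.Finite B[X] M] : Module.Finite B P := by
  classical
  obtain ⟨s, hs⟩ := (Module.Finite.fg_top : (⊤ : Submodule B[X] M).FG)
  refine ⟨⟨s.image π, ?_⟩⟩
  rw [eq_top_iff]
  rintro p -
  obtain ⟨m, rfl⟩ := π.surj p
  have hm : m ∈ Submodule.span B[X] (s : Set M) := by rw [hs]; trivial
  induction hm using Submodule.span_induction with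
  | mem x hx =>
    apply Submodule.subset_span
    simp only [Finset.coe_image, Set.mem_image, Finset.mem_coe]
    exact ⟨x, hx, rfl⟩
  | zero => rw [π.map_zero]; exact Submodule.zero_mem _
  | add x y _ _ hx hy => rw [π.map_add]; exact Submodule.add_mem _ hx hy
  | smul r x _ hx => rw [π.map_smul']; exact Submodule.smul_mem _ _ hx

include π in
theorem FibrePair.projective [Module.Projective B[X] M] : Module.Projective B P := by
  refine Module.Projective.of_lifting_property'' fun f hf => ?_
  let i1 : Module B[X] (P →₀ B) := Module.compHom _ (Polynomial.constantCoeff : B[X] →+* B)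
  let i2 : Module B[X] P := Module.compHom _ (Polynomial.constantCoeff : B[X] →+* B)
  let f' : (P →₀ B) →ₗ[B[X]] P :=
    { toFun := f
      map_add' := f.map_add
      map_smul' := fun r x => f.map_smul (Polynomial.constantCoeff r) x }
  let π' : M →ₗ[B[X]] P :=
    { toFun := π
      map_add' := π.map_add
      map_smul' := fun r m => π.map_smul' r m }
  obtain ⟨h, hh⟩ := Module.projective_lifting_property f' π' hf
  refine ⟨π.lift h.toAddMonoidHom (fun r m => ?_), ?_⟩
  · show h (r • m) = r.coeff 0 • h m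
    rw [h.map_smul]
    rfl
  · refine LinearMap.ext fun p => ?_
    obtain ⟨m, rfl⟩ := π.surj p
    rw [LinearMap.comp_apply, π.lift_apply]
    exact LinearMap.congr_fun hh m

end Proj

section Normalize

variable {B : Type*} [CommRing B] {M : Type*} [AddCommGroup M] [Module B[X] M]
  {P : Type*} [AddCommGroup P] [Module B P] (π : FibrePair B M P)

theorem epsLin_baseChange (g : P →ₗ[B] P) (e : B[X] ⊗[B] P) :
    epsLin P (g.baseChange B[X] e) = g (epsLin P e) := by
  induction e using TensorProduct.induction_on with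
  | zero => simp
  | tmul r p => simp
  | add x y hx hy => rw [map_add, map_add, hx, hy, map_add, map_add]

theorem baseChange_baseChange_eq_smul (g g' : P →ₗ[B] P) (k : B) (h : ∀ p, g (g' p) = k • p)
    (e : B[X] ⊗[B] P) : g.baseChange B[X] (g'.baseChange B[X] e) = C k • e := by
  induction e using TensorProduct.induction_on with
  | zero => simp
  | tmul r p =>
    rw [LinearMap.baseChange_tmul, LinearMap.baseChange_tmul, h, TensorProduct.tmul_smul,
      ← Polynomial.algebraMap_eq, algebraMap_smul]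
  | add x y hx hy => rw [map_add, map_add, hx, hy, smul_add]

/-- normalisation of an isogeny between `B[X] ⊗ P` and `M` -/
theorem FibrePair.normalize (u : B[X] ⊗[B] P →ₗ[B[X]] M) (v : M →ₗ[B[X]] B[X] ⊗[B] P) (a : B[X])
    (h1 : ∀ e, v (u e) = a • e) (h2 : ∀ m, u (v m) = a • m) :
    ∃ (u' : B[X] ⊗[B] P →ₗ[B[X]] M) (v' : M →ₗ[B[X]] B[X] ⊗[B] P),
      (∀ e, v' (u' e) = (a * C (a.coeff 0)) • e) ∧ (∀ m, u' (v' m) = (a * C (a.coeff 0)) • m) ∧
      (∀ p, π (u' ((1 : B[X]) ⊗ₜ[B] p)) = a.coeff 0 • p) ∧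
      (∀ m, epsLin P (v' m) = a.coeff 0 • π m) := by
  set ubar : P →ₗ[B] P := (FibrePair.tensor P).map π u with hubar
  set vbar : P →ₗ[B] P := π.map (FibrePair.tensor P) v with hvbar
  have hubar' : ∀ e, ubar (epsLin P e) = π (u e) := fun e => (FibrePair.tensor P).map_apply π u e
  have hvbar' : ∀ m, vbar (π m) = epsLin P (v m) := fun m => π.map_apply (FibrePair.tensor P) v m
  have hvu : ∀ p, vbar (ubar p) = a.coeff 0 • p := by
    intro p
    have : p = epsLin P ((1 : B[X]) ⊗ₜ[B] p) := by simp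
    rw [this, hubar', hvbar', h1, epsLin_smul]
  have huv : ∀ p, ubar (vbar p) = a.coeff 0 • p := by
    intro p
    obtain ⟨m, rfl⟩ := π.surj p
    rw [hvbar', hubar', h2, π.map_smul']
  refine ⟨u ∘ₗ (vbar.baseChange B[X]), (ubar.baseChange B[X]) ∘ₗ v, ?_, ?_, ?_, ?_⟩
  · intro e
    rw [LinearMap.comp_apply, LinearMap.comp_apply, h1, map_smul,
      baseChange_baseChange_eq_smul ubar vbar _ huv, smul_smul]
  · intro m
    rw [LinearMap.comp_apply, LinearMap.comp_apply, baseChange_baseChange_eq_smul vbar ubar _ hvu,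
      map_smul, h2, smul_smul, mul_comm]
  · intro p
    rw [LinearMap.comp_apply, LinearMap.baseChange_tmul, ← hubar']
    simp only [epsLin_tmul, coeff_one_zero, one_smul]
    exact huv p
  · intro m
    rw [LinearMap.comp_apply, epsLin_baseChange, ← hvbar', huv]

end Normalize

end Groth.Agent.Lib.Helper47.Horrocks
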