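import Groth.Agent.Lib.Helper47.HorrocksAux

/-!
The affine Horrocks theorem over a local ring, in "isogeny" form.
-/

set_option autoImplicit false
set_option linter.style.haveILetI false
set_option linter.unusedSectionVars false

open Polynomial IsLocalRing

namespace Groth.Agent.Lib.Helper47.Horrocks

universe u

variable {n : ℕ}

section Red

variable {B : Type*} [CommRing B] [IsLocalRing B]

/-- coefficientwise reduction modulo the maximal ideal -/
noncomputable def red (x : Fin n → B[X]) : Fin n → (ResidueField B)[X] :=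
  fun l => (x l).map (residue B)

theorem red_add (x y : Fin n → B[X]) : red (x + y) = red x + red y := by
  funext l; simp [red]

theorem red_sub (x y : Fin n → B[X]) : red (x - y) = red x - red y := by
  funext l; simp [red]

theorem red_zero : red (0 : Fin n → B[X]) = 0 := by
  funext l; simp [red]

theorem red_smul (r : B[X]) (x : Fin n → B[X]) : red (r • x) = r.map (residue B) • red x := by
  funext l; simp [red]

theorem red_surjective (y : Fin n → (ResidueField B)[X]) : ∃ x : Fin n → B[X], red x = y := by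
  choose x hx using fun l => Polynomial.map_surjective (residue B) residue_surjective (y l)
  exact ⟨x, funext hx⟩

theorem red_single (l : Fin n) (p : B[X]) :
    red (Pi.single l p : Fin n → B[X]) = Pi.single l (p.map (residue B)) := by
  funext m
  by_cases h : m = l
  · subst h; simp [red]
  · simp [red, Pi.single_eq_of_ne h]

theorem red_mem_Dκ {κ : Fin n → ℕ} {c : Fin n → B[X]} (hc : c ∈ Dκ B κ) :
    red c ∈ Dκ (ResidueField B) κ := by
  rw [mem_Dκ] at hc ⊢
  intro l
  exact lt_of_le_of_lt (Polynomial.degree_map_le) (hc l)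

theorem exists_red_eq_of_mem_Dκ {κ : Fin n → ℕ} {c : Fin n → (ResidueField B)[X]}
    (hc : c ∈ Dκ (ResidueField B) κ) : ∃ c' ∈ Dκ B κ, red c' = c := by
  have h : ∀ l, ∃ q : B[X], q.map (residue B) = c l ∧ q.degree = (c l).degree := by
    intro l
    apply Polynomial.exists_degree_eq_of_mem_lifts
    rw [Polynomial.mem_lifts]
    exact Polynomial.map_surjective (residue B) residue_surjective (c l)
  choose q hq hdeg using h
  refine ⟨q, ?_, funext hq⟩
  rw [mem_Dκ] at hc ⊢
  intro l
  rw [hdeg l]
  exact hc l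

/-- an element of `ker red` lies in `𝔪 • ⊤` -/
theorem mem_smul_top_of_red_eq_zero {z : Fin n → B[X]} (hz : red z = 0) :
    z ∈ (maximalIdeal B • ⊤ : Submodule B (Fin n → B[X])) := by
  classical
  have hcoef : ∀ l j, (z l).coeff j ∈ maximalIdeal B := by
    intro l j
    rw [← residue_eq_zero_iff]
    have := congrFun hz l
    have h2 := congrArg (fun p => p.coeff j) this
    simpa [red, Polynomial.coeff_map] using h2
  have h1 : z = ∑ l, (Pi.single l (z l) : Fin n → B[X]) := by
    funext m
    simp [Finset.sum_apply, Pi.single_apply]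
  rw [h1]
  refine Submodule.sum_mem _ (fun l _ => ?_)
  have h2 : (Pi.single l (z l) : Fin n → B[X]) =
      ∑ j ∈ Finset.range ((z l).natDegree + 1),
        (z l).coeff j • (Pi.single l ((X : B[X]) ^ j) : Fin n → B[X]) := by
    conv_lhs => rw [Polynomial.as_sum_range_C_mul_X_pow (z l)]
    funext m
    by_cases h : m = l
    · subst h
      simp [Finset.sum_apply, Polynomial.smul_eq_C_mul]
    · simp [Finset.sum_apply, Pi.single_eq_of_ne h]
  rw [h2]
  refine Submodule.sum_mem _ (fun j _ => ?_)
  exact Submodule.smul_mem_smul (hcoef l j) Submodule.mem_top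

end Red

section Tor

variable {B : Type*} [CommRing B] [IsLocalRing B] {N : Type*} [AddCommGroup N] [Module B[X] N]
  [Module B N] [IsScalarTower B B[X] N]

theorem smul_mem_smul_top_of_mem_map_C (r : B[X]) (hr : r ∈ Ideal.map C (maximalIdeal B)) (y : N) :
    r • y ∈ (maximalIdeal B • ⊤ : Submodule B N) := by
  rw [Ideal.mem_map_C_iff] at hr
  rw [Polynomial.as_sum_range_C_mul_X_pow r, Finset.sum_smul]
  refine Submodule.sum_mem _ (fun j _ => ?_)
  rw [mul_smul, C_smul']
  exact Submodule.smul_mem_smul (hr j) Submodule.mem_top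

theorem apply_mem_map_C (ψ : N →ₗ[B[X]] B[X]) {z : N}
    (hz : z ∈ (maximalIdeal B • ⊤ : Submodule B N)) : ψ z ∈ Ideal.map C (maximalIdeal B) := by
  refine Submodule.smul_induction_on hz ?_ ?_
  · intro μ hμ y _
    rw [← C_smul' (B := B) μ y, map_smul, smul_eq_mul]
    exact Ideal.mul_mem_right _ _ (Ideal.mem_map_of_mem _ hμ)
  · intro x y hx hy
    rw [map_add]
    exact Ideal.add_mem _ hx hy

theorem monic_notMem_map_C (g : B[X]) (hg : g.Monic) : g ∉ Ideal.map C (maximalIdeal B) := by
  intro h
  rw [Ideal.mem_map_C_iff] at h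
  have h1 := h g.natDegree
  rw [Polynomial.coeff_natDegree, hg.leadingCoeff] at h1
  exact (Ideal.ne_top_iff_one _).1 (maximalIdeal.isMaximal B).ne_top h1

theorem mem_smul_top_of_monic_smul_mem [Module.Projective B[X] N] (g : B[X]) (hg : g.Monic)
    (y : N) (h : g • y ∈ (maximalIdeal B • ⊤ : Submodule B N)) :
    y ∈ (maximalIdeal B • ⊤ : Submodule B N) := by
  obtain ⟨s, hs⟩ := (Module.projective_def' (R := B[X]) (P := N)).1 inferInstance
  have hcoef : ∀ i : N, (s y) i ∈ Ideal.map C (maximalIdeal B) := by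
    intro i
    have h1 := apply_mem_map_C ((Finsupp.lapply i).comp s) h
    simp only [LinearMap.comp_apply, map_smul, Finsupp.lapply_apply, Finsupp.smul_apply,
      smul_eq_mul] at h1
    rcases (Ideal.IsPrime.mem_or_mem inferInstance h1) with h2 | h2
    · exact absurd h2 (monic_notMem_map_C g hg)
    · exact h2
  have hy : y = Finsupp.linearCombination B[X] id (s y) := by
    have := LinearMap.congr_fun hs y
    simpa using this.symm
  rw [hy, Finsupp.linearCombination_apply, Finsupp.sum]
  refine Submodule.sum_mem _ (fun i _ => ?_)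
  exact smul_mem_smul_top_of_mem_map_C _ (hcoef i) _

end Tor

section Main

variable {B : Type u} [CommRing B] [IsLocalRing B]

theorem Dκ_le_span (κ : Fin n → ℕ) :
    Dκ B κ ≤ Submodule.span B
      (⋃ l : Fin n, (fun j : ℕ => (Pi.single l ((X : B[X]) ^ j) : Fin n → B[X])) ''
        (Finset.range (κ l) : Set ℕ)) := by
  classical
  intro c hc
  have h1 : c = ∑ l, (Pi.single l (c l) : Fin n → B[X]) := by
    funext m
    simp [Finset.sum_apply, Pi.single_apply]
  rw [h1]
  refine Submodule.sum_mem _ (fun l _ => ?_)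
  have hcl : c l ∈ Polynomial.degreeLT B (κ l) := hc l
  rw [Polynomial.degreeLT_eq_span_X_pow] at hcl
  have := Submodule.apply_mem_span_image_of_mem_span
    (LinearMap.single B (fun _ : Fin n => B[X]) l) hcl
  refine Submodule.span_mono ?_ this
  rintro _ ⟨p, hp, rfl⟩
  simp only [Finset.coe_image, Set.mem_image, Finset.mem_coe, Finset.mem_range] at hp
  obtain ⟨j, hj, rfl⟩ := hp
  refine Set.mem_iUnion.2 ⟨l, j, ?_, rfl⟩
  simpa using hj

theorem monic_sub_X_pow_degree_lt {R : Type*} [CommRing R] (g : R[X]) (hg : g.Monic) :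
    (X ^ g.natDegree - g).degree < (g.natDegree : WithBot ℕ) := by
  rw [Polynomial.degree_lt_iff_coeff_zero]
  intro m hm
  rw [Polynomial.coeff_sub, Polynomial.coeff_X_pow]
  rcases eq_or_lt_of_le hm with h | h
  · subst h
    rw [if_pos rfl, Polynomial.coeff_natDegree, hg.leadingCoeff, sub_self]
  · rw [if_neg (by omega), Polynomial.coeff_eq_zero_of_natDegree_lt h, sub_self]

variable {N : Type u} [AddCommGroup N] [Module B[X] N] [Module.Finite B[X] N]
  [Module.Projective B[X] N]

/-- **Affine Horrocks, local case** (isogeny form): a finite projective `B[X]`-module over a local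
ring `B` which is isogenous, via a monic polynomial, to a finite free module is free. -/
theorem free_of_monic_isogeny (n : ℕ) (h : B[X]) (hh : h.Monic)
    (φ : N →ₗ[B[X]] (Fin n → B[X])) (φ' : (Fin n → B[X]) →ₗ[B[X]] N)
    (h1 : φ' ∘ₗ φ = h • LinearMap.id) (h2 : φ ∘ₗ φ' = h • LinearMap.id) :
    Module.Free B[X] N := by
  classical
  letI : Module B N := Module.compHom N (C : B →+* B[X])
  haveI : IsScalarTower B B[X] N := ⟨fun a r y => by
    change (a • r) • y = (C a : B[X]) • (r • y)
    rw [Polynomial.smul_eq_C_mul, mul_smul]⟩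
  have h1' : ∀ y : N, φ' (φ y) = h • y := fun y => by
    simpa using LinearMap.congr_fun h1 y
  have h2' : ∀ x : Fin n → B[X], φ (φ' x) = h • x := fun x => by
    simpa using LinearMap.congr_fun h2 x
  have hinj : Function.Injective φ := by
    rw [injective_iff_map_eq_zero]
    intro y hy
    have : h • y = 0 := by rw [← h1', hy, map_zero]
    -- `N` is torsion free for monic `h`
    obtain ⟨s, hs⟩ := (Module.projective_def' (R := B[X]) (P := N)).1 inferInstance
    have hsy : s y = 0 := by
      refine Finsupp.ext fun i => ?_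
      have h3 : h * (s y) i = 0 := by
        have := congrArg (fun f => f i) (show s (h • y) = 0 by rw [this, map_zero])
        simpa using this
      exact hh.isRegular.left (show h * (s y) i = h * 0 by rw [h3, mul_zero])
    have := LinearMap.congr_fun hs y
    simp only [LinearMap.comp_apply, hsy, map_zero, LinearMap.id_apply] at this
    exact this.symm
  -- residue field data
  let k := ResidueField B
  let Mbar : Submodule k[X] (Fin n → k[X]) :=
    { carrier := {z | ∃ y : N, red (φ y) = z}
      add_mem' := by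
        rintro _ _ ⟨y₁, rfl⟩ ⟨y₂, rfl⟩
        exact ⟨y₁ + y₂, by rw [map_add, red_add]⟩
      zero_mem' := ⟨0, by rw [map_zero, red_zero]⟩
      smul_mem' := by
        rintro r _ ⟨y, rfl⟩
        obtain ⟨r', rfl⟩ := Polynomial.map_surjective (residue B) residue_surjective r
        exact ⟨r' • y, by rw [map_smul, red_smul]⟩ }
  have hW : ∀ v : Fin n → k[X], ∃ (d : ℕ) (c : k[X]), c.degree < d ∧
      (X : k[X]) ^ d • v - c • v ∈ Mbar := by
    intro v
    obtain ⟨x, rfl⟩ := red_surjective v
    have hbm : (h.map (residue B)).Monic := hh.map _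
    refine ⟨(h.map (residue B)).natDegree, X ^ (h.map (residue B)).natDegree - h.map (residue B),
      monic_sub_X_pow_degree_lt _ hbm, ?_⟩
    have : (X : k[X]) ^ (h.map (residue B)).natDegree • red x -
        (X ^ (h.map (residue B)).natDegree - h.map (residue B)) • red x =
        h.map (residue B) • red x := by
      rw [sub_smul]; abel
    rw [this]
    exact ⟨φ' x, by rw [h2', red_smul]⟩
  obtain ⟨κ, H1, H2⟩ := exists_kappa n Mbar (fun i => Pi.single i 1) hW
  have hsum : ∀ r : Fin n → k[X],
      ∑ l, r l • (Pi.single l (1 : k[X]) : Fin n → k[X]) = r := by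
    intro r
    funext m
    simp [Finset.sum_apply, Pi.single_apply]
  have H1' : ∀ r : Fin n → k[X], ∃ c ∈ Dκ k κ, r - c ∈ Mbar := by
    intro r
    obtain ⟨c, hc, hm⟩ := H1 r
    rw [hsum, hsum] at hm
    exact ⟨c, mem_Dκ.2 hc, hm⟩
  have H2' : ∀ c ∈ Dκ k κ, c ∈ Mbar → c = 0 := by
    intro c hc hm
    apply H2 c (mem_Dκ.1 hc)
    rwa [hsum]
  -- the quotient `F / range φ` is finite over `B`
  haveI : Module.Finite B ((Fin n → B[X]) ⧸ LinearMap.range φ) := by
    refine finite_of_monic_smul_eq_zero h hh ?_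
    intro y
    obtain ⟨x, rfl⟩ := Submodule.Quotient.mk_surjective _ y
    rw [← Submodule.Quotient.mk_smul, Submodule.Quotient.mk_eq_zero]
    exact ⟨φ' x, h2' x⟩
  have S4 : ∀ x : Fin n → B[X], ∃ c ∈ Dκ B κ, x - c ∈ LinearMap.range φ := by
    let U : Submodule B ((Fin n → B[X]) ⧸ LinearMap.range φ) :=
      (Dκ B κ).map ((LinearMap.range φ).mkQ.restrictScalars B)
    have hU : (⊤ : Submodule B ((Fin n → B[X]) ⧸ LinearMap.range φ)) ≤ U := by
      apply Submodule.le_of_le_smul_of_le_jacobson_bot (I := maximalIdeal B)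
        Module.Finite.fg_top (maximalIdeal_le_jacobson _)
      rintro y -
      obtain ⟨x, rfl⟩ := Submodule.Quotient.mk_surjective _ y
      obtain ⟨cb, hcb, y', hy'⟩ := H1' (red x)
      obtain ⟨c, hc, rfl⟩ := exists_red_eq_of_mem_Dκ hcb
      have hz : red (x - c - φ y') = 0 := by
        rw [red_sub, red_sub, hy']; abel
      have hz' := mem_smul_top_of_red_eq_zero hz
      have hsplit : (Submodule.Quotient.mk x : (Fin n → B[X]) ⧸ LinearMap.range φ) =
          (LinearMap.range φ).mkQ c + (LinearMap.range φ).mkQ (x - c - φ y') := by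
        rw [← map_add, Submodule.mkQ_apply, Submodule.Quotient.eq]
        exact ⟨y', by abel⟩
      rw [hsplit]
      refine Submodule.add_mem_sup ⟨c, hc, rfl⟩ ?_
      have h6 : (LinearMap.range φ).mkQ (x - c - φ y') ∈
          ((maximalIdeal B • ⊤ : Submodule B (Fin n → B[X])).map
            ((LinearMap.range φ).mkQ.restrictScalars B)) := ⟨_, hz', rfl⟩
      rw [Submodule.map_smul''] at h6
      exact Submodule.smul_mono le_rfl le_top h6
    intro x
    obtain ⟨c, hc, hcx⟩ := hU (Submodule.mem_top :
      (Submodule.Quotient.mk x : (Fin n → B[X]) ⧸ LinearMap.range φ) ∈ ⊤)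
    refine ⟨c, hc, ?_⟩
    exact (Submodule.Quotient.eq _).1 hcx.symm
  choose cP hcP hpP using fun i => S4 (Pi.single i ((X : B[X]) ^ κ i))
  choose yP hyP using hpP
  let N'' : Submodule B[X] N := Submodule.span B[X] (Set.range yP)
  let N' : Submodule B[X] (Fin n → B[X]) := N''.map φ
  have S5 : ∀ x : Fin n → B[X], ∃ c ∈ Dκ B κ, x - c ∈ N' := by
    apply exists_mem_Dκ_sub_mem κ N'
    intro i
    exact ⟨cP i, hcP i, ⟨yP i, Submodule.subset_span ⟨i, rfl⟩, hyP i⟩⟩
  -- `F / N'` is finite over `B`
  haveI : Module.Finite B ((Fin n → B[X]) ⧸ N') := by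
    let S : Set (Fin n → B[X]) := ⋃ l : Fin n,
      (fun j : ℕ => (Pi.single l ((X : B[X]) ^ j) : Fin n → B[X])) '' (Finset.range (κ l) : Set ℕ)
    have hSfin : S.Finite := Set.finite_iUnion (fun l => (Finset.finite_toSet _).image _)
    refine ⟨⟨(hSfin.image (N'.mkQ.restrictScalars B)).toFinset, ?_⟩⟩
    rw [Set.Finite.coe_toFinset, eq_top_iff]
    rintro y -
    obtain ⟨x, rfl⟩ := Submodule.Quotient.mk_surjective _ y
    obtain ⟨c, hc, hxc⟩ := S5 x
    have : (Submodule.Quotient.mk x : (Fin n → B[X]) ⧸ N') = (N'.mkQ.restrictScalars B) c :=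
      (Submodule.Quotient.eq _).2 hxc
    rw [this]
    exact Submodule.apply_mem_span_image_of_mem_span (N'.mkQ.restrictScalars B) (Dκ_le_span κ hc)
  obtain ⟨χ, hχm, hχ⟩ := LinearMap.exists_monic_and_aeval_eq_zero B
    (Algebra.lsmul B B ((Fin n → B[X]) ⧸ N') (X : B[X]))
  have hχ' : ∀ y : (Fin n → B[X]) ⧸ N', χ • y = 0 := by
    intro y
    have h3 : Polynomial.aeval (Algebra.lsmul B B ((Fin n → B[X]) ⧸ N') (X : B[X])) χ =
        Algebra.lsmul B B ((Fin n → B[X]) ⧸ N') χ := by
      rw [Polynomial.aeval_algHom_apply, Polynomial.aeval_X_left_apply]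
    rw [h3] at hχ
    have := LinearMap.congr_fun hχ y
    simpa using this
  have hχF : ∀ x : Fin n → B[X], χ • x ∈ N' := by
    intro x
    have := hχ' (Submodule.Quotient.mk x)
    rwa [← Submodule.Quotient.mk_smul, Submodule.Quotient.mk_eq_zero] at this
  haveI : Module.Finite B (N ⧸ N'') := by
    refine finite_of_monic_smul_eq_zero χ hχm ?_
    intro y
    obtain ⟨y, rfl⟩ := Submodule.Quotient.mk_surjective _ y
    rw [← Submodule.Quotient.mk_smul, Submodule.Quotient.mk_eq_zero]
    obtain ⟨y'', hy'', he⟩ := hχF (φ y)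
    have : y'' = χ • y := hinj (by rw [he, map_smul])
    rwa [← this]
  have hN'' : N'' = ⊤ := by
    have hq : (⊤ : Submodule B (N ⧸ N'')) = ⊥ := by
      apply Submodule.eq_bot_of_le_smul_of_le_jacobson_bot (maximalIdeal B) ⊤
        Module.Finite.fg_top ?_ (maximalIdeal_le_jacobson _)
      rintro y -
      obtain ⟨y, rfl⟩ := Submodule.Quotient.mk_surjective _ y
      obtain ⟨c, hc, y'', hy'', he⟩ := S5 (φ y)
      have hcφ : φ (y - y'') = c := by rw [map_sub, he]; abel
      have hredc : red c = 0 := H2' _ (red_mem_Dκ hc) ⟨y - y'', by rw [hcφ]⟩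
      have hmem : y - y'' ∈ (maximalIdeal B • ⊤ : Submodule B N) := by
        apply mem_smul_top_of_monic_smul_mem h hh
        rw [← h1', hcφ]
        have hc' := mem_smul_top_of_red_eq_zero hredc
        have h5 : φ' c ∈ ((maximalIdeal B • ⊤ : Submodule B (Fin n → B[X])).map
            (φ'.restrictScalars B)) := ⟨c, hc', rfl⟩
        rw [Submodule.map_smul''] at h5
        exact Submodule.smul_mono le_rfl le_top h5
      have hmk : (Submodule.Quotient.mk y : N ⧸ N'') = Submodule.Quotient.mk (y - y'') := by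
        rw [Submodule.Quotient.mk_sub, (Submodule.Quotient.mk_eq_zero N'').2 hy'', sub_zero]
      rw [hmk]
      have h6 : (Submodule.Quotient.mk (y - y'') : N ⧸ N'') ∈
          ((maximalIdeal B • ⊤ : Submodule B N).map (N''.mkQ.restrictScalars B)) := ⟨_, hmem, rfl⟩
      rw [Submodule.map_smul''] at h6
      exact Submodule.smul_mono le_rfl le_top h6
    rw [eq_top_iff]
    intro y _
    have : (Submodule.Quotient.mk y : N ⧸ N'') ∈ (⊤ : Submodule B (N ⧸ N'')) := trivial
    rw [hq] at this
    exact (Submodule.Quotient.mk_eq_zero N'').1 this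
  -- `N` is generated by `n` elements, hence free
  let γ : (Fin n → B[X]) →ₗ[B[X]] N := Fintype.linearCombination B[X] yP
  have hγsurj : Function.Surjective γ := by
    rw [← LinearMap.range_eq_top, Fintype.range_linearCombination]
    exact hN''
  obtain ⟨σ, hσ⟩ := Module.projective_lifting_property γ LinearMap.id hγsurj
  let a := LinearMap.toMatrix' (φ ∘ₗ γ)
  let b := LinearMap.toMatrix' (σ ∘ₗ φ')
  have hab : a * b = h • (1 : Matrix (Fin n) (Fin n) B[X]) := by
    rw [← LinearMap.toMatrix'_comp]
    have : (φ ∘ₗ γ) ∘ₗ (σ ∘ₗ φ') = h • LinearMap.id := by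
      rw [← h2]
      refine LinearMap.ext fun x => ?_
      have := LinearMap.congr_fun hσ (φ' x)
      simp only [LinearMap.comp_apply, LinearMap.id_apply] at this
      change φ (γ (σ (φ' x))) = φ (φ' x)
      rw [this]
    rw [this, map_smul, LinearMap.toMatrix'_id]
  have hdet : a.det * b.det = h ^ n := by
    rw [← Matrix.det_mul, hab, Matrix.det_smul, Matrix.det_one, mul_one, Fintype.card_fin]
  have hareg : a.det ∈ nonZeroDivisors B[X] := by
    have : a.det * b.det ∈ nonZeroDivisors B[X] := by
      rw [hdet]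
      exact (hh.pow n).mem_nonZeroDivisors
    exact (mul_mem_nonZeroDivisors.1 this).1
  have hγinj : Function.Injective γ := by
    rw [injective_iff_map_eq_zero]
    intro x hx
    have h3 : a.mulVec x = 0 := by
      rw [LinearMap.toMatrix'_mulVec]
      simp [hx]
    have h4 : a.det • x = 0 := by
      have := congrArg (a.adjugate.mulVec) h3
      rwa [Matrix.mulVec_mulVec, Matrix.adjugate_mul, Matrix.smul_mulVec, Matrix.one_mulVec,
        Matrix.mulVec_zero] at this
    funext i
    have h5 := congrFun h4 i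
    simp only [Pi.smul_apply, smul_eq_mul, Pi.zero_apply] at h5
    rw [mul_comm] at h5
    exact (mem_nonZeroDivisors_iff.1 hareg).2 _ h5
  exact Module.Free.of_equiv (LinearEquiv.ofBijective γ ⟨hγinj, hγsurj⟩)

end Main

end Groth.Agent.Lib.Helper47.Horrocks
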