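import Groth.Agent.Lib.Helper47.HorrocksBC
import Groth.Agent.Lib.Helper47.HorrocksLocal

/-!
Horrocks' theorem: a finitely generated projective `A[X]`-module which extends to the projective
line is extended from `A`.
-/

set_option autoImplicit false

open TensorProduct Polynomial

namespace Groth.Agent.Lib.Helper47.Horrocks

section Quot

variable (A : Type*) [CommRing A] (M : Type*) [AddCommGroup M] [Module A[X] M]

/-- the submodule `X M` -/
noncomputable abbrev xRange : Submodule A[X] M :=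
  LinearMap.range ((X : A[X]) • (LinearMap.id : M →ₗ[A[X]] M))

/-- the fibre `M / X M`, as a type with only an `A`-module structure -/
def Fib : Type _ := M ⧸ xRange A M

noncomputable instance : AddCommGroup (Fib A M) :=
  inferInstanceAs (AddCommGroup (M ⧸ xRange A M))

noncomputable instance : Module A (Fib A M) :=
  Module.compHom (M ⧸ xRange A M) (C : A →+* A[X])

/-- the canonical fibre pair -/
noncomputable def FibrePair.ofQuotient : FibrePair A M (Fib A M) where
  toFun := (Submodule.mkQ (xRange A M)).toAddMonoidHom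
  map_smul' r m := by
    show (Submodule.Quotient.mk (r • m) : M ⧸ xRange A M) =
      (C (r.coeff 0) : A[X]) • (Submodule.Quotient.mk m : M ⧸ xRange A M)
    rw [← Submodule.Quotient.mk_smul, Submodule.Quotient.eq]
    refine ⟨divX r • m, ?_⟩
    simp only [LinearMap.smul_apply, LinearMap.id_apply]
    rw [← sub_smul, ← mul_smul]
    congr 1
    nth_rewrite 2 [← X_mul_divX_add r]
    ring
  surj := Submodule.mkQ_surjective _
  ker m hm := by
    have : m ∈ xRange A M := (Submodule.Quotient.mk_eq_zero _).1 hm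
    obtain ⟨m', hm'⟩ := this
    exact ⟨m', hm'.symm⟩

end Quot

section Free

variable {B : Type*} [CommRing B] {M : Type*} [AddCommGroup M] [Module B[X] M]
  {P : Type*} [AddCommGroup P] [Module B P] (π : FibrePair B M P)

include π in
/-- a free module with fibre `P` is extended from `P` -/
theorem FibrePair.extended_of_free [Module.Free B[X] M] [Module.Finite B[X] M] :
    Nonempty ((B[X] ⊗[B] P) ≃ₗ[B[X]] M) := by
  classical
  rcases subsingleton_or_nontrivial B with hB | hB
  · have h1 : Subsingleton M := Module.subsingleton B[X] M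
    have h2 : Subsingleton (B[X] ⊗[B] P) := Module.subsingleton B[X] _
    exact ⟨LinearEquiv.ofSubsingleton _ _⟩
  · let e₁ : M ≃ₗ[B[X]] (Module.Free.ChooseBasisIndex B[X] M → B[X]) :=
      (Module.Free.chooseBasis B[X] M).equivFun
    let e₂ : B[X] ⊗[B] (Module.Free.ChooseBasisIndex B[X] M → B) ≃ₗ[B[X]]
        (Module.Free.ChooseBasisIndex B[X] M → B[X]) :=
      TensorProduct.piScalarRight B B[X] B[X] (Module.Free.ChooseBasisIndex B[X] M)
    let e : M ≃ₗ[B[X]] B[X] ⊗[B] (Module.Free.ChooseBasisIndex B[X] M → B) := e₁ ≪≫ₗ e₂.symm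
    let f : P ≃ₗ[B] (Module.Free.ChooseBasisIndex B[X] M → B) :=
      π.equiv (FibrePair.tensor (Module.Free.ChooseBasisIndex B[X] M → B)) e
    exact ⟨(LinearEquiv.baseChange B B[X] P _ f) ≪≫ₗ e.symm⟩

end Free

section CH

variable {R : Type*} [CommRing R] (I : Ideal R) {Q : Type*} [AddCommGroup Q] [Module R Q]
  [Module.Finite R Q]

/-- an endomorphism congruent to the identity modulo `I` is invertible up to an element of
`1 + I` -/
theorem exists_poly_inverse (φ : Module.End R Q)
    (hφ : ∀ x, x - φ x ∈ I • (⊤ : Submodule R Q)) :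
    ∃ (p : R) (θ : Module.End R Q), p - 1 ∈ I ∧ (∀ x, φ (θ x) = p • x) ∧
      (∀ x, θ (φ x) = p • x) := by
  have hrange : LinearMap.range ((1 : Module.End R Q) - φ) ≤ I • ⊤ := by
    rintro _ ⟨x, rfl⟩
    exact hφ x
  obtain ⟨χ, hχm, -, hχc, hχ⟩ :=
    LinearMap.exists_monic_and_natDegree_eq_and_coeff_mem_pow_and_aeval_eq_zero R _ I hrange
  set g : R[X] := χ.comp (1 - X) with hg
  have hg0 : Polynomial.aeval φ g = 0 := by
    rw [hg, Polynomial.aeval_comp]
    simpa using hχ
  have hgc : g.coeff 0 = χ.eval 1 := by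
    rw [Polynomial.coeff_zero_eq_eval_zero, hg, Polynomial.eval_comp]
    simp
  have hdecomp : g = X * divX g + C (g.coeff 0) := (Polynomial.X_mul_divX_add g).symm
  have h1 : φ * Polynomial.aeval φ (divX g) + algebraMap R _ (g.coeff 0) = 0 := by
    have : Polynomial.aeval φ (X * divX g + C (g.coeff 0)) = 0 := by rw [← hdecomp, hg0]
    rw [map_add, map_mul, Polynomial.aeval_X, Polynomial.aeval_C] at this
    exact this
  have h2 : Polynomial.aeval φ (divX g) * φ + algebraMap R _ (g.coeff 0) = 0 := by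
    have : Polynomial.aeval φ (divX g * X + C (g.coeff 0)) = 0 := by
      rw [mul_comm, ← hdecomp, hg0]
    rw [map_add, map_mul, Polynomial.aeval_X, Polynomial.aeval_C] at this
    exact this
  refine ⟨χ.eval 1, -Polynomial.aeval φ (divX g), ?_, fun x => ?_, fun x => ?_⟩
  · rw [Polynomial.eval_eq_sum_range, Finset.sum_range_succ, hχm.coeff_natDegree]
    simp only [one_pow, mul_one, add_sub_cancel_right]
    refine Ideal.sum_mem _ fun k hk => ?_
    have hk' : k < χ.natDegree := Finset.mem_range.1 hk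
    exact Ideal.pow_le_self (by omega) (hχc k)
  · have := LinearMap.congr_fun h1 x
    simp only [LinearMap.add_apply, Module.End.mul_apply, Module.algebraMap_end_apply,
      LinearMap.zero_apply] at this
    rw [LinearMap.neg_apply, map_neg, ← hgc]
    exact (neg_eq_of_add_eq_zero_right this)
  · have := LinearMap.congr_fun h2 x
    simp only [LinearMap.add_apply, Module.End.mul_apply, Module.algebraMap_end_apply,
      LinearMap.zero_apply] at this
    rw [LinearMap.neg_apply, ← hgc]
    exact (neg_eq_of_add_eq_zero_right this)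

end CH

section Lift

variable {A : Type*} [CommRing A] {M₁ M₂ : Type*} [AddCommGroup M₁] [Module A[X] M₁]
  [AddCommGroup M₂] [Module A[X] M₂] {Q : Type*} [AddCommGroup Q] [Module A Q]

/-- lifting the identity of the fibre -/
theorem FibrePair.exists_lift_id (π₁ : FibrePair A M₁ Q) (π₂ : FibrePair A M₂ Q)
    [Module.Projective A[X] M₁] : ∃ f : M₁ →ₗ[A[X]] M₂, ∀ m, π₂ (f m) = π₁ m := by
  let i2 : Module A[X] Q := Module.compHom _ (Polynomial.constantCoeff : A[X] →+* A)
  let π₁' : M₁ →ₗ[A[X]] Q :=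
    { toFun := π₁
      map_add' := π₁.map_add
      map_smul' := fun r m => π₁.map_smul' r m }
  let π₂' : M₂ →ₗ[A[X]] Q :=
    { toFun := π₂
      map_add' := π₂.map_add
      map_smul' := fun r m => π₂.map_smul' r m }
  obtain ⟨f, hf⟩ := Module.projective_lifting_property π₂' π₁' π₂.surj
  exact ⟨f, fun m => LinearMap.congr_fun hf m⟩

variable {N : Type*} [AddCommGroup N] [Module A[X] N]

theorem X_smul_mem {Y : Type*} [AddCommGroup Y] [Module A[X] Y] (y : Y) :
    (X : A[X]) • y ∈ (Ideal.span {(X : A[X])}) • (⊤ : Submodule A[X] Y) :=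
  Submodule.smul_mem_smul (Ideal.mem_span_singleton_self _) Submodule.mem_top

/-- a projective module is isogenous to the module extended from its fibre, via a polynomial
with constant coefficient one -/
theorem exists_isogeny_of_projective (πN : FibrePair A N Q) [Module.Finite A[X] N]
    [Module.Projective A[X] N] [Module.Projective A Q] [Module.Finite A Q] :
    ∃ (u : A[X] ⊗[A] Q →ₗ[A[X]] N) (v : N →ₗ[A[X]] A[X] ⊗[A] Q) (p : A[X]),
      p.coeff 0 = 1 ∧ (∀ e, v (u e) = p • e) ∧ (∀ n, u (v n) = p • n) := by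
  obtain ⟨u, hu⟩ := FibrePair.exists_lift_id (FibrePair.tensor Q) πN
  obtain ⟨v, hv⟩ := FibrePair.exists_lift_id πN (FibrePair.tensor Q)
  obtain ⟨p₁, θ₁, hp₁, -, h1'⟩ := exists_poly_inverse (Ideal.span {(X : A[X])}) (v ∘ₗ u)
    (fun e => by
      have h0 : (FibrePair.tensor Q) (e - (v ∘ₗ u) e) = 0 := by
        rw [FibrePair.map_sub, LinearMap.comp_apply, hv, hu, sub_self]
      obtain ⟨e', he'⟩ := (FibrePair.tensor Q).ker _ h0
      rw [he']
      exact X_smul_mem e')
  obtain ⟨p₂, θ₂, hp₂, h2, -⟩ := exists_poly_inverse (Ideal.span {(X : A[X])}) (u ∘ₗ v)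
    (fun n => by
      have h0 : πN (n - (u ∘ₗ v) n) = 0 := by
        rw [FibrePair.map_sub, LinearMap.comp_apply, hu, hv, sub_self]
      obtain ⟨n', hn'⟩ := πN.ker _ h0
      rw [hn']
      exact X_smul_mem n')
  simp only [LinearMap.comp_apply] at h1' h2
  have hc : ∀ q : A[X], q - 1 ∈ Ideal.span {(X : A[X])} → q.coeff 0 = 1 := by
    intro q hq
    rw [Ideal.mem_span_singleton, Polynomial.X_dvd_iff, Polynomial.coeff_sub,
      Polynomial.coeff_one_zero, sub_eq_zero] at hq
    exact hq
  have key : ∀ n, p₂ • θ₁ (v n) = p₁ • v (θ₂ n) := by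
    intro n
    rw [← h1' (v (θ₂ n)), h2, map_smul, map_smul]
  refine ⟨u, p₂ • (θ₁ ∘ₗ v), p₁ * p₂, ?_, fun e => ?_, fun n => ?_⟩
  · rw [Polynomial.mul_coeff_zero, hc p₁ hp₁, hc p₂ hp₂, one_mul]
  · rw [LinearMap.smul_apply, LinearMap.comp_apply, h1', smul_smul, mul_comm]
  · rw [LinearMap.smul_apply, LinearMap.comp_apply, key, map_smul, h2, smul_smul]

end Lift

section Transport

variable {L : Type*} [CommRing L] (σ : L → L) (hσ : ∀ a, σ (σ a) = a)
  {Q₁ Q₂ Q₃ : Type*} [AddCommGroup Q₁] [Module L Q₁] [AddCommGroup Q₂] [Module L Q₂]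
  [AddCommGroup Q₃] [Module L Q₃]

include hσ in
/-- transport of an isogeny along semilinear bijections -/
theorem transport_isogeny (ι : Q₁ →+ Q₁) (hι : ∀ a x, ι (a • x) = σ a • ι x)
    (hιι : ∀ x, ι (ι x) = x) (e : Q₂ →+ Q₃) (he : ∀ a x, e (a • x) = σ a • e x)
    (hbij : Function.Bijective e) (u : Q₁ →ₗ[L] Q₃) (v : Q₃ →ₗ[L] Q₁) (p : L)
    (h1 : ∀ x, v (u x) = p • x) (h2 : ∀ y, u (v y) = p • y) :
    ∃ (u' : Q₁ →ₗ[L] Q₂) (v' : Q₂ →ₗ[L] Q₁), (∀ x, v' (u' x) = σ p • x) ∧
      (∀ y, u' (v' y) = σ p • y) := by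
  let e' : Q₂ ≃+ Q₃ := AddEquiv.ofBijective e hbij
  have he' : ∀ x, e' x = e x := fun x => rfl
  have hsymm : ∀ a z, e'.symm (σ a • z) = a • e'.symm z := by
    intro a z
    apply e'.injective
    rw [AddEquiv.apply_symm_apply, he', he, ← he', AddEquiv.apply_symm_apply]
  let u' : Q₁ →ₗ[L] Q₂ :=
    { toFun := fun x => e'.symm (u (ι x))
      map_add' := fun x y => by simp only [map_add]
      map_smul' := fun a x => by
        simp only [RingHom.id_apply]
        rw [hι, map_smul, hsymm] }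
  let v' : Q₂ →ₗ[L] Q₁ :=
    { toFun := fun y => ι (v (e y))
      map_add' := fun x y => by simp only [map_add]
      map_smul' := fun a y => by
        simp only [RingHom.id_apply]
        rw [he, map_smul, hι, hσ] }
  refine ⟨u', v', fun x => ?_, fun y => ?_⟩
  · show ι (v (e (e'.symm (u (ι x))))) = σ p • x
    rw [← he', AddEquiv.apply_symm_apply, h1, hι, hιι]
  · show e'.symm (u (ι (ι (v (e y))))) = σ p • y
    rw [hιι, h2, ← hσ p, hsymm, hσ, ← he', AddEquiv.symm_apply_apply]

end Transport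

section P1

open LaurentPolynomial

instance isScalarTower_laurent {A : Type*} [CommRing A] : IsScalarTower A A[X] A[T;T⁻¹] := by
  refine IsScalarTower.of_algebraMap_eq' ?_
  ext a
  simp only [RingHom.comp_apply, LaurentPolynomial.algebraMap_eq_toLaurent,
    Polynomial.algebraMap_eq, Polynomial.toLaurent_C]
  rfl

theorem monic_reverse_of_coeff_zero {A : Type*} [CommRing A] (p : A[X]) (hp : p.coeff 0 = 1) :
    p.reverse.Monic := by
  rcases subsingleton_or_nontrivial A with hA | hA
  · exact Subsingleton.elim _ _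
  · rw [Polynomial.Monic, Polynomial.reverse_leadingCoeff,
      Polynomial.trailingCoeff_eq_coeff_zero (by rw [hp]; exact one_ne_zero), hp]

theorem baseChange_isogeny {R : Type*} [CommRing R] (R' : Type*) [CommRing R'] [Algebra R R']
    {E N : Type*} [AddCommGroup E] [Module R E] [AddCommGroup N] [Module R N]
    (u : E →ₗ[R] N) (v : N →ₗ[R] E) (h : R) (h1 : ∀ e, v (u e) = h • e) (x : R' ⊗[R] E) :
    (v.baseChange R') ((u.baseChange R') x) = (algebraMap R R' h) • x := by
  have hvu : v ∘ₗ u = h • LinearMap.id := LinearMap.ext h1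
  rw [← LinearMap.comp_apply, ← LinearMap.baseChange_comp, hvu, LinearMap.baseChange_smul,
    LinearMap.baseChange_id, LinearMap.smul_apply, LinearMap.id_apply, algebraMap_smul]

universe u

variable {A : Type u} [CommRing A] {M : Type u} [AddCommGroup M] [Module A[X] M]
  [Module.Finite A[X] M] [Module.Projective A[X] M]
  {N : Type u} [AddCommGroup N] [Module A[X] N] [Module.Finite A[X] N] [Module.Projective A[X] N]

/-- a module on the affine line that glues with a projective module on the chart at infinity is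
isogenous to an extended module via a monic polynomial -/
theorem exists_monic_isogeny_of_P1
    (e : (A[T;T⁻¹] ⊗[A[X]] M) →+ (A[T;T⁻¹] ⊗[A[X]] N))
    (he : ∀ (a : A[T;T⁻¹]) (x : A[T;T⁻¹] ⊗[A[X]] M), e (a • x) = invert a • e x)
    (hbij : Function.Bijective e) :
    ∃ (h : A[X]) (u : A[X] ⊗[A] (Fib A N) →ₗ[A[X]] M) (v : M →ₗ[A[X]] A[X] ⊗[A] (Fib A N)),
      h.Monic ∧ (∀ x, v (u x) = h • x) ∧ (∀ m, u (v m) = h • m) := by
  have : Module.Finite A (Fib A N) := (FibrePair.ofQuotient A N).finite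
  have : Module.Projective A (Fib A N) := (FibrePair.ofQuotient A N).projective
  obtain ⟨u₀, v₀, p, hp0, h1, h2⟩ := exists_isogeny_of_projective (FibrePair.ofQuotient A N)
  let κ : A[T;T⁻¹] ⊗[A[X]] (A[X] ⊗[A] (Fib A N)) ≃ₗ[A[T;T⁻¹]] A[T;T⁻¹] ⊗[A] (Fib A N) :=
    AlgebraTensorModule.cancelBaseChange A A[X] A[T;T⁻¹] A[T;T⁻¹] (Fib A N)
  let inv : A[T;T⁻¹] →ₐ[A] A[T;T⁻¹] := (LaurentPolynomial.invert : A[T;T⁻¹] ≃ₐ[A] A[T;T⁻¹])
  let ι : A[T;T⁻¹] ⊗[A[X]] (A[X] ⊗[A] (Fib A N)) →+ A[T;T⁻¹] ⊗[A[X]] (A[X] ⊗[A] (Fib A N)) :=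
    (κ.symm.toLinearMap.toAddMonoidHom).comp
      ((tmap (Fib A N) inv).toAddMonoidHom.comp κ.toLinearMap.toAddMonoidHom)
  have hι : ∀ (a : A[T;T⁻¹]) (x : A[T;T⁻¹] ⊗[A[X]] (A[X] ⊗[A] (Fib A N))),
      ι (a • x) = invert a • ι x := by
    intro a x
    simp only [ι, AddMonoidHom.coe_comp, Function.comp_apply, LinearMap.toAddMonoidHom_coe,
      LinearEquiv.coe_coe, map_smul, tmap_smul]
    rfl
  have hinv : ∀ y : A[T;T⁻¹] ⊗[A] (Fib A N), tmap (Fib A N) inv (tmap (Fib A N) inv y) = y := by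
    intro y
    rw [← tmap_comp]
    have : inv.comp inv = AlgHom.id A A[T;T⁻¹] := by
      refine AlgHom.ext fun x => ?_
      show invert (invert x) = x
      exact involutive_invert x
    rw [this, tmap_id]
  have hιι : ∀ x, ι (ι x) = x := by
    intro x
    simp only [ι, AddMonoidHom.coe_comp, Function.comp_apply, LinearMap.toAddMonoidHom_coe,
      LinearEquiv.coe_coe, LinearEquiv.apply_symm_apply, hinv, LinearEquiv.symm_apply_apply]
  obtain ⟨u', v', hv'u', hu'v'⟩ := transport_isogeny (fun a : A[T;T⁻¹] => invert a)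
    (fun a => involutive_invert a) ι hι hιι e he hbij (u₀.baseChange A[T;T⁻¹])
    (v₀.baseChange A[T;T⁻¹]) (algebraMap A[X] A[T;T⁻¹] p)
    (baseChange_isogeny A[T;T⁻¹] u₀ v₀ p h1) (baseChange_isogeny A[T;T⁻¹] v₀ u₀ p h2)
  have hrev : T (p.natDegree : ℤ) * invert (algebraMap A[X] A[T;T⁻¹] p) =
      algebraMap A[X] A[T;T⁻¹] p.reverse := by
    rw [algebraMap_eq_toLaurent, algebraMap_eq_toLaurent, toLaurent_reverse, mul_comm]
  have : IsLocalization (Submonoid.powers (X : A[X])) A[T;T⁻¹] := LaurentPolynomial.isLocalization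
  have : Module.FinitePresentation A[X] M := Module.finitePresentation_of_projective _ _
  have : Module.FinitePresentation A[X] (A[X] ⊗[A] (Fib A N)) :=
    Module.finitePresentation_of_projective _ _
  let v'' : A[T;T⁻¹] ⊗[A[X]] M →ₗ[A[T;T⁻¹]] A[T;T⁻¹] ⊗[A[X]] (A[X] ⊗[A] Fib A N) :=
    (T (p.natDegree : ℤ) : A[T;T⁻¹]) • v'
  have hv'' : ∀ y, v'' y = (T (p.natDegree : ℤ) : A[T;T⁻¹]) • v' y :=
    fun y => LinearMap.smul_apply _ _ _
  obtain ⟨u, v, s, hs, hvu, huv⟩ := descend_isogeny (Submonoid.powers (X : A[X]))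
    (TensorProduct.mk A[X] A[T;T⁻¹] M 1)
    (TensorProduct.mk A[X] A[T;T⁻¹] (A[X] ⊗[A] (Fib A N)) 1)
    (u'.restrictScalars A[X]) (v''.restrictScalars A[X]) p.reverse
    (fun x => by
      rw [LinearMap.restrictScalars_apply, LinearMap.restrictScalars_apply, hv'', hv'u',
        smul_smul, hrev, algebraMap_smul])
    (fun m => by
      rw [LinearMap.restrictScalars_apply, LinearMap.restrictScalars_apply, hv'', map_smul,
        hu'v', smul_smul, hrev, algebraMap_smul])
  obtain ⟨k, rfl⟩ := hs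
  exact ⟨X ^ k * p.reverse, u, v, (Polynomial.monic_X_pow k).mul
    (monic_reverse_of_coeff_zero p hp0), hvu, huv⟩

end P1

section Final

attribute [local instance] Polynomial.algebra

universe u

variable {A : Type u} [CommRing A] {M : Type u} [AddCommGroup M] [Module A[X] M]
  [Module.Finite A[X] M] [Module.Projective A[X] M]

/-- local freeness of a module isogenous to an extended module via a monic polynomial -/
theorem free_localization_of_monic_isogeny {Q : Type u} [AddCommGroup Q] [Module A Q]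
    [Module.Finite A Q] [Module.Projective A Q] (h : A[X]) (hh : h.Monic)
    (u : A[X] ⊗[A] Q →ₗ[A[X]] M) (v : M →ₗ[A[X]] A[X] ⊗[A] Q)
    (h1 : ∀ x, v (u x) = h • x) (h2 : ∀ m, u (v m) = h • m) (𝔪 : Ideal A) [𝔪.IsPrime] :
    Module.Free (Localization.AtPrime 𝔪)[X] ((Localization.AtPrime 𝔪)[X] ⊗[A[X]] M) := by
  obtain ⟨u', v', h1', h2'⟩ := exists_baseChange_isogeny (Localization.AtPrime 𝔪) u v h h1 h2
  have : Module.Free (Localization.AtPrime 𝔪) ((Localization.AtPrime 𝔪) ⊗[A] Q) :=
    Module.free_of_flat_of_isLocalRing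
  let f : ((Localization.AtPrime 𝔪) ⊗[A] Q) ≃ₗ[Localization.AtPrime 𝔪]
      (Fin (Module.finrank (Localization.AtPrime 𝔪) ((Localization.AtPrime 𝔪) ⊗[A] Q)) →
        Localization.AtPrime 𝔪) :=
    (Module.finBasis (Localization.AtPrime 𝔪) ((Localization.AtPrime 𝔪) ⊗[A] Q)).equivFun
  let g : (Localization.AtPrime 𝔪)[X] ⊗[Localization.AtPrime 𝔪]
      ((Localization.AtPrime 𝔪) ⊗[A] Q) ≃ₗ[(Localization.AtPrime 𝔪)[X]]
      (Fin (Module.finrank (Localization.AtPrime 𝔪) ((Localization.AtPrime 𝔪) ⊗[A] Q)) →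
        (Localization.AtPrime 𝔪)[X]) :=
    (LinearEquiv.baseChange (Localization.AtPrime 𝔪) (Localization.AtPrime 𝔪)[X] _ _ f) ≪≫ₗ
      (TensorProduct.piScalarRight (Localization.AtPrime 𝔪) (Localization.AtPrime 𝔪)[X]
        (Localization.AtPrime 𝔪)[X] _)
  refine free_of_monic_isogeny _ (h.map (algebraMap A (Localization.AtPrime 𝔪))) (hh.map _)
    (g.toLinearMap ∘ₗ v') (u' ∘ₗ g.symm.toLinearMap) ?_ ?_
  · refine LinearMap.ext fun m => ?_
    simp only [LinearMap.comp_apply, LinearEquiv.coe_coe, LinearEquiv.symm_apply_apply,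
      LinearMap.smul_apply, LinearMap.id_apply]
    exact h2' m
  · refine LinearMap.ext fun x => ?_
    simp only [LinearMap.comp_apply, LinearEquiv.coe_coe, LinearMap.smul_apply,
      LinearMap.id_apply]
    rw [h1', map_smul, LinearEquiv.apply_symm_apply]

/-- **Horrocks–Quillen**: a finitely generated projective `A[X]`-module isogenous to an extended
module via a monic polynomial is extended from its fibre. -/
theorem extended_of_monic_isogeny {Q : Type u} [AddCommGroup Q] [Module A Q]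
    [Module.Finite A Q] [Module.Projective A Q] (h : A[X]) (hh : h.Monic)
    (u : A[X] ⊗[A] Q →ₗ[A[X]] M) (v : M →ₗ[A[X]] A[X] ⊗[A] Q)
    (h1 : ∀ x, v (u x) = h • x) (h2 : ∀ m, u (v m) = h • m) :
    Nonempty ((A[X] ⊗[A] (Fib A M)) ≃ₗ[A[X]] M) := by
  have : Module.Finite A (Fib A M) := (FibrePair.ofQuotient A M).finite
  have : Module.Projective A (Fib A M) := (FibrePair.ofQuotient A M).projective
  have : Module.FinitePresentation A[X] M := Module.finitePresentation_of_projective _ _
  have : Module.FinitePresentation A[X] (A[X] ⊗[A] (Fib A M)) :=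
    Module.finitePresentation_of_projective _ _
  refine extended_of_local (FibrePair.ofQuotient A M) fun 𝔪 h𝔪 => ?_
  have := free_localization_of_monic_isogeny h hh u v h1 h2 𝔪
  exact ((FibrePair.ofQuotient A M).baseChange 𝔪.primeCompl
    (Localization.AtPrime 𝔪)).extended_of_free

end Final

end Groth.Agent.Lib.Helper47.Horrocks
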