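import Groth.Agent.Lib.Helper47.HorrocksMain

/-!
Isomorphism classes of finitely generated projective modules are detected after inverting all
monic polynomials.
-/

set_option autoImplicit false

open TensorProduct Polynomial

namespace Groth.Agent.Lib.Helper47.Horrocks

section Split

universe u v

variable {K : Type v} [CommRing K] {E₁ E₂ : Type u} [AddCommGroup E₁] [Module K E₁]
  [AddCommGroup E₂] [Module K E₂]

/-- the module glued from `E₁` away from `a` and `E₂` away from `b` -/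
def splitMod (a b : K) (u : E₁ →ₗ[K] E₂) (v : E₂ →ₗ[K] E₁) : Submodule K (E₁ × E₂) where
  carrier := {n | u n.1 = a • n.2 ∧ v n.2 = b • n.1}
  add_mem' := by
    rintro x y ⟨hx1, hx2⟩ ⟨hy1, hy2⟩
    exact ⟨by simp [hx1, hy1], by simp [hx2, hy2]⟩
  zero_mem' := ⟨by simp, by simp⟩
  smul_mem' := by
    rintro c x ⟨hx1, hx2⟩
    exact ⟨by simp [hx1, smul_comm a c], by simp [hx2, smul_comm b c]⟩

/-- an isogeny of degree `a * b` with `a`, `b` comaximal factors through a module which is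
`a`-isogenous to the source and `b`-isogenous to the target -/
theorem exists_split_isogeny [Module.Finite K E₁] [Module.Projective K E₁] [Module.Finite K E₂]
    [Module.Projective K E₂] (a b α β : K) (hab : α * a + β * b = 1)
    (u : E₁ →ₗ[K] E₂) (v : E₂ →ₗ[K] E₁)
    (hvu : ∀ e, v (u e) = (a * b) • e) (huv : ∀ e, u (v e) = (a * b) • e) :
    ∃ (N : Type u) (_ : AddCommGroup N) (_ : Module K N), Module.Finite K N ∧
      Module.Projective K N ∧ ∃ (w₁ : E₁ →ₗ[K] N) (w₁' : N →ₗ[K] E₁) (w₂ : N →ₗ[K] E₂)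
        (w₂' : E₂ →ₗ[K] N), (∀ e, w₁' (w₁ e) = a • e) ∧ (∀ n, w₁ (w₁' n) = a • n) ∧
          (∀ e, w₂ (w₂' e) = b • e) ∧ (∀ n, w₂' (w₂ n) = b • n) := by
  let Pr : (E₁ × E₂) →ₗ[K] splitMod a b u v :=
    { toFun := fun x => ⟨((α * a) • x.1 + β • v x.2, α • u x.1 + (β * b) • x.2), by
        refine ⟨?_, ?_⟩
        · show u ((α * a) • x.1 + β • v x.2) = a • (α • u x.1 + (β * b) • x.2)
          rw [map_add, map_smul, map_smul, huv]
          module
        · show v (α • u x.1 + (β * b) • x.2) = b • ((α * a) • x.1 + β • v x.2)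
          rw [map_add, map_smul, map_smul, hvu]
          module⟩
      map_add' := fun x y => by
        refine Subtype.ext (Prod.ext ?_ ?_)
        · show (α * a) • (x + y).1 + β • v (x + y).2 =
            ((α * a) • x.1 + β • v x.2) + ((α * a) • y.1 + β • v y.2)
          rw [Prod.fst_add, Prod.snd_add, map_add]
          module
        · show α • u (x + y).1 + (β * b) • (x + y).2 =
            (α • u x.1 + (β * b) • x.2) + (α • u y.1 + (β * b) • y.2)
          rw [Prod.fst_add, Prod.snd_add, map_add]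
          module
      map_smul' := fun c x => by
        refine Subtype.ext (Prod.ext ?_ ?_)
        · show (α * a) • (c • x).1 + β • v (c • x).2 = c • ((α * a) • x.1 + β • v x.2)
          rw [Prod.smul_fst, Prod.smul_snd, map_smul]
          module
        · show α • u (c • x).1 + (β * b) • (c • x).2 = c • (α • u x.1 + (β * b) • x.2)
          rw [Prod.smul_fst, Prod.smul_snd, map_smul]
          module }
  have hPr : Pr ∘ₗ (splitMod a b u v).subtype = LinearMap.id := by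
    refine LinearMap.ext fun n => Subtype.ext ?_
    obtain ⟨⟨n₁, n₂⟩, hn1, hn2⟩ := n
    simp only at hn1 hn2
    refine Prod.ext ?_ ?_
    · show (α * a) • n₁ + β • v n₂ = n₁
      rw [hn2]
      calc (α * a) • n₁ + β • b • n₁ = (α * a + β * b) • n₁ := by module
        _ = n₁ := by rw [hab, one_smul]
    · show α • u n₁ + (β * b) • n₂ = n₂
      rw [hn1]
      calc α • a • n₂ + (β * b) • n₂ = (α * a + β * b) • n₂ := by module
        _ = n₂ := by rw [hab, one_smul]
  have hsurj : Function.Surjective Pr := fun n => ⟨(splitMod a b u v).subtype n,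
    LinearMap.congr_fun hPr n⟩
  refine ⟨splitMod a b u v, inferInstance, inferInstance, Module.Finite.of_surjective Pr hsurj,
    Module.Projective.of_split (splitMod a b u v).subtype Pr hPr, ?_⟩
  let w₁ : E₁ →ₗ[K] splitMod a b u v :=
    { toFun := fun e => ⟨(a • e, u e), ⟨by
        show u (a • e) = a • u e
        rw [map_smul], by
        show v (u e) = b • a • e
        rw [hvu, mul_comm, mul_smul]⟩⟩
      map_add' := fun x y => by
        refine Subtype.ext (Prod.ext ?_ ?_)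
        · show a • (x + y) = a • x + a • y
          rw [smul_add]
        · show u (x + y) = u x + u y
          rw [map_add]
      map_smul' := fun c x => by
        refine Subtype.ext (Prod.ext ?_ ?_)
        · show a • c • x = c • a • x
          rw [smul_comm]
        · show u (c • x) = c • u x
          rw [map_smul] }
  let w₂' : E₂ →ₗ[K] splitMod a b u v :=
    { toFun := fun e => ⟨(v e, b • e), ⟨by
        show u (v e) = a • b • e
        rw [huv, mul_smul], by
        show v (b • e) = b • v e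
        rw [map_smul]⟩⟩
      map_add' := fun x y => by
        refine Subtype.ext (Prod.ext ?_ ?_)
        · show v (x + y) = v x + v y
          rw [map_add]
        · show b • (x + y) = b • x + b • y
          rw [smul_add]
      map_smul' := fun c x => by
        refine Subtype.ext (Prod.ext ?_ ?_)
        · show v (c • x) = c • v x
          rw [map_smul]
        · show b • c • x = c • b • x
          rw [smul_comm] }
  refine ⟨w₁, LinearMap.fst K E₁ E₂ ∘ₗ (splitMod a b u v).subtype,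
    LinearMap.snd K E₁ E₂ ∘ₗ (splitMod a b u v).subtype, w₂', fun e => rfl, ?_, fun e => rfl, ?_⟩
  · rintro ⟨⟨n₁, n₂⟩, hn1, hn2⟩
    simp only at hn1
    refine Subtype.ext (Prod.ext rfl ?_)
    show u n₁ = a • n₂
    exact hn1
  · rintro ⟨⟨n₁, n₂⟩, hn1, hn2⟩
    simp only at hn2
    refine Subtype.ext (Prod.ext ?_ rfl)
    show v n₂ = b • n₁
    exact hn2

end Split

section EvalOne

variable {A : Type*} [CommRing A] (Q : Type*) [AddCommGroup Q] [Module A Q]

/-- `r ⊗ q ↦ r(1) • q` -/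
noncomputable def evOne : A[X] ⊗[A] Q →ₗ[A] Q :=
  TensorProduct.lift ((LinearMap.lsmul A Q).comp (Polynomial.aeval (1 : A)).toLinearMap)

@[simp] theorem evOne_tmul (r : A[X]) (q : Q) : evOne Q (r ⊗ₜ q) = r.eval 1 • q := by
  simp [evOne, Polynomial.coe_aeval_eq_eval]

theorem evOne_smul (r : A[X]) (e : A[X] ⊗[A] Q) : evOne Q (r • e) = r.eval 1 • evOne Q e := by
  induction e using TensorProduct.induction_on with
  | zero => simp
  | tmul s p => simp [TensorProduct.smul_tmul', mul_smul]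
  | add x y hx hy => rw [smul_add, map_add, hx, hy, map_add, smul_add]

theorem exists_eq_one_tmul_add_evOne (e : A[X] ⊗[A] Q) :
    ∃ e' : A[X] ⊗[A] Q, e = (1 : A[X]) ⊗ₜ[A] (evOne Q e) + (X - 1 : A[X]) • e' := by
  induction e using TensorProduct.induction_on with
  | zero => exact ⟨0, by simp⟩
  | tmul r p =>
    obtain ⟨g, hg⟩ := Polynomial.X_sub_C_dvd_sub_C_eval (a := (1 : A)) (p := r)
    refine ⟨g ⊗ₜ p, ?_⟩
    rw [evOne_tmul, TensorProduct.smul_tmul', smul_eq_mul, ← TensorProduct.smul_tmul,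
      ← TensorProduct.add_tmul]
    congr 1
    rw [← Polynomial.C_mul', mul_one]
    rw [Polynomial.C_1] at hg
    rw [← hg]
    ring
  | add x y hx hy =>
    obtain ⟨x', hx'⟩ := hx
    obtain ⟨y', hy'⟩ := hy
    refine ⟨x' + y', ?_⟩
    rw [map_add, TensorProduct.tmul_add, smul_add]
    nth_rewrite 1 [hx', hy']
    abel

variable {Q} {Q' : Type*} [AddCommGroup Q'] [Module A Q']

theorem evOne_map (f : A[X] ⊗[A] Q →ₗ[A[X]] A[X] ⊗[A] Q') (e : A[X] ⊗[A] Q) :
    evOne Q' (f e) = evOne Q' (f ((1 : A[X]) ⊗ₜ[A] (evOne Q e))) := by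
  obtain ⟨e', he'⟩ := exists_eq_one_tmul_add_evOne Q e
  nth_rewrite 1 [he']
  rw [map_add, map_smul, map_add, evOne_smul]
  simp

/-- an isogeny via a power of `X` between extended modules gives an isomorphism at `X = 1` -/
theorem nonempty_equiv_of_X_pow_isogeny (k : ℕ) (f : A[X] ⊗[A] Q →ₗ[A[X]] A[X] ⊗[A] Q')
    (f' : A[X] ⊗[A] Q' →ₗ[A[X]] A[X] ⊗[A] Q) (h1 : ∀ e, f' (f e) = (X ^ k : A[X]) • e)
    (h2 : ∀ e, f (f' e) = (X ^ k : A[X]) • e) : Nonempty (Q ≃ₗ[A] Q') := by
  let g : Q →ₗ[A] Q' := (evOne Q') ∘ₗ (f.restrictScalars A) ∘ₗ (TensorProduct.mk A A[X] Q 1)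
  let g' : Q' →ₗ[A] Q := (evOne Q) ∘ₗ (f'.restrictScalars A) ∘ₗ (TensorProduct.mk A A[X] Q' 1)
  refine ⟨LinearEquiv.ofLinearMap g g' (LinearMap.ext fun q => ?_) (LinearMap.ext fun q => ?_)⟩
  · show evOne Q' (f ((1 : A[X]) ⊗ₜ[A] (evOne Q (f' ((1 : A[X]) ⊗ₜ[A] q))))) = q
    rw [← evOne_map, h2, evOne_smul]
    simp
  · show evOne Q (f' ((1 : A[X]) ⊗ₜ[A] (evOne Q' (f ((1 : A[X]) ⊗ₜ[A] q))))) = q
    rw [← evOne_map, h1, evOne_smul]
    simp

end EvalOne

section Homog

open LaurentPolynomial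

universe u

variable {A : Type u} [CommRing A]

/-- the semilinear involution of `A[T;T⁻¹] ⊗ (A[X] ⊗ Q)` induced by `T ↦ T⁻¹` -/
theorem exists_invert_involution (Q : Type*) [AddCommGroup Q] [Module A Q] :
    ∃ ι : A[T;T⁻¹] ⊗[A[X]] (A[X] ⊗[A] Q) →+ A[T;T⁻¹] ⊗[A[X]] (A[X] ⊗[A] Q),
      (∀ (a : A[T;T⁻¹]) (x : A[T;T⁻¹] ⊗[A[X]] (A[X] ⊗[A] Q)), ι (a • x) = invert a • ι x) ∧
      (∀ x, ι (ι x) = x) := by
  let κ : A[T;T⁻¹] ⊗[A[X]] (A[X] ⊗[A] Q) ≃ₗ[A[T;T⁻¹]] A[T;T⁻¹] ⊗[A] Q :=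
    AlgebraTensorModule.cancelBaseChange A A[X] A[T;T⁻¹] A[T;T⁻¹] Q
  let inv : A[T;T⁻¹] →ₐ[A] A[T;T⁻¹] := (LaurentPolynomial.invert : A[T;T⁻¹] ≃ₐ[A] A[T;T⁻¹])
  let ι : A[T;T⁻¹] ⊗[A[X]] (A[X] ⊗[A] Q) →+ A[T;T⁻¹] ⊗[A[X]] (A[X] ⊗[A] Q) :=
    (κ.symm.toLinearMap.toAddMonoidHom).comp
      ((tmap Q inv).toAddMonoidHom.comp κ.toLinearMap.toAddMonoidHom)
  have hinv : ∀ y : A[T;T⁻¹] ⊗[A] Q, tmap Q inv (tmap Q inv y) = y := by
    intro y
    rw [← tmap_comp]
    have : inv.comp inv = AlgHom.id A A[T;T⁻¹] := by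
      refine AlgHom.ext fun x => ?_
      show invert (invert x) = x
      exact involutive_invert x
    rw [this, tmap_id]
  refine ⟨ι, fun a x => ?_, fun x => ?_⟩
  · simp only [ι, AddMonoidHom.coe_comp, Function.comp_apply, LinearMap.toAddMonoidHom_coe,
      LinearEquiv.coe_coe, map_smul, tmap_smul]
    rfl
  · simp only [ι, AddMonoidHom.coe_comp, Function.comp_apply, LinearMap.toAddMonoidHom_coe,
      LinearEquiv.coe_coe, LinearEquiv.apply_symm_apply, hinv, LinearEquiv.symm_apply_apply]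

variable {Q Q' : Type u} [AddCommGroup Q] [Module A Q] [Module.Finite A Q]
  [Module.Projective A Q] [AddCommGroup Q'] [Module A Q'] [Module.Finite A Q']
  [Module.Projective A Q']

/-- homogenisation of an isogeny between extended modules: pass to the chart at infinity -/
theorem homogenize_isogeny (u : A[X] ⊗[A] Q →ₗ[A[X]] A[X] ⊗[A] Q')
    (v : A[X] ⊗[A] Q' →ₗ[A[X]] A[X] ⊗[A] Q) (s : A[X])
    (h1 : ∀ e, v (u e) = s • e) (h2 : ∀ e, u (v e) = s • e) :
    ∃ (k : ℕ) (u₁ : A[X] ⊗[A] Q →ₗ[A[X]] A[X] ⊗[A] Q')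
      (v₁ : A[X] ⊗[A] Q' →ₗ[A[X]] A[X] ⊗[A] Q),
      (∀ e, v₁ (u₁ e) = (X ^ k * s.reverse) • e) ∧ (∀ e, u₁ (v₁ e) = (X ^ k * s.reverse) • e) := by
  obtain ⟨ι₁, hι₁, hι₁ι₁⟩ := exists_invert_involution (A := A) Q
  obtain ⟨ι₂, hι₂, hι₂ι₂⟩ := exists_invert_involution (A := A) Q'
  obtain ⟨u', v', hv'u', hu'v'⟩ := transport_isogeny (fun a : A[T;T⁻¹] => invert a)
    (fun a => involutive_invert a) ι₁ hι₁ hι₁ι₁ ι₂ hι₂
    (Function.Involutive.bijective hι₂ι₂) (u.baseChange A[T;T⁻¹])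
    (v.baseChange A[T;T⁻¹]) (algebraMap A[X] A[T;T⁻¹] s)
    (baseChange_isogeny A[T;T⁻¹] u v s h1) (baseChange_isogeny A[T;T⁻¹] v u s h2)
  have hrev : T (s.natDegree : ℤ) * invert (algebraMap A[X] A[T;T⁻¹] s) =
      algebraMap A[X] A[T;T⁻¹] s.reverse := by
    rw [algebraMap_eq_toLaurent, algebraMap_eq_toLaurent, toLaurent_reverse, mul_comm]
  have : IsLocalization (Submonoid.powers (X : A[X])) A[T;T⁻¹] := LaurentPolynomial.isLocalization
  have : Module.FinitePresentation A[X] (A[X] ⊗[A] Q) :=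
    Module.finitePresentation_of_projective _ _
  have : Module.FinitePresentation A[X] (A[X] ⊗[A] Q') :=
    Module.finitePresentation_of_projective _ _
  let v'' : A[T;T⁻¹] ⊗[A[X]] (A[X] ⊗[A] Q') →ₗ[A[T;T⁻¹]] A[T;T⁻¹] ⊗[A[X]] (A[X] ⊗[A] Q) :=
    (T (s.natDegree : ℤ) : A[T;T⁻¹]) • v'
  have hv'' : ∀ y, v'' y = (T (s.natDegree : ℤ) : A[T;T⁻¹]) • v' y :=
    fun y => LinearMap.smul_apply _ _ _
  obtain ⟨u₁, v₁, t, ht, hvu, huv⟩ := descend_isogeny (Submonoid.powers (X : A[X]))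
    (TensorProduct.mk A[X] A[T;T⁻¹] (A[X] ⊗[A] Q') 1)
    (TensorProduct.mk A[X] A[T;T⁻¹] (A[X] ⊗[A] Q) 1)
    (u'.restrictScalars A[X]) (v''.restrictScalars A[X]) s.reverse
    (fun x => by
      rw [LinearMap.restrictScalars_apply, LinearMap.restrictScalars_apply, hv'', hv'u',
        smul_smul, hrev, algebraMap_smul])
    (fun m => by
      rw [LinearMap.restrictScalars_apply, LinearMap.restrictScalars_apply, hv'', map_smul,
        hu'v', smul_smul, hrev, algebraMap_smul])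
  obtain ⟨k, rfl⟩ := ht
  exact ⟨k, u₁, v₁, hvu, huv⟩

end Homog

section Main

universe u

variable {A : Type u} [CommRing A] (M : Submonoid A[X]) (hM : ∀ f : A[X], f ∈ M → f.Monic)
  (At : Type u) [CommRing At] [Algebra A[X] At] [IsLocalization M At] [Algebra A At]
  [IsScalarTower A A[X] At]
  {P P' : Type u} [AddCommGroup P] [Module A P] [Module.Finite A P] [Module.Projective A P]
  [AddCommGroup P'] [Module A P'] [Module.Finite A P'] [Module.Projective A P']

include hM in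
/-- finitely generated projective modules which become isomorphic after inverting all monic
polynomials are isomorphic -/
theorem nonempty_equiv_of_monic_localization (e : (At ⊗[A] P) ≃ₗ[At] (At ⊗[A] P')) :
    Nonempty (P ≃ₗ[A] P') := by
  have fp1 : Module.FinitePresentation A[X] (A[X] ⊗[A] P) :=
    Module.finitePresentation_of_projective _ _
  have fp2 : Module.FinitePresentation A[X] (A[X] ⊗[A] P') :=
    Module.finitePresentation_of_projective _ _
  let κ₁ : At ⊗[A[X]] (A[X] ⊗[A] P) ≃ₗ[At] At ⊗[A] P :=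
    AlgebraTensorModule.cancelBaseChange A A[X] At At P
  let κ₂ : At ⊗[A[X]] (A[X] ⊗[A] P') ≃ₗ[At] At ⊗[A] P' :=
    AlgebraTensorModule.cancelBaseChange A A[X] At At P'
  let e' : At ⊗[A[X]] (A[X] ⊗[A] P) ≃ₗ[At] At ⊗[A[X]] (A[X] ⊗[A] P') :=
    κ₁ ≪≫ₗ e ≪≫ₗ κ₂.symm
  obtain ⟨u, v, s, hs, h1, h2⟩ := descend_isogeny M
    (TensorProduct.mk A[X] At (A[X] ⊗[A] P') 1) (TensorProduct.mk A[X] At (A[X] ⊗[A] P) 1)
    (e'.toLinearMap.restrictScalars A[X]) (e'.symm.toLinearMap.restrictScalars A[X]) 1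
    (fun x => by simp) (fun x => by simp)
  rw [mul_one] at h1 h2
  have hsm : s.Monic := hM s hs
  obtain ⟨k, u₁, v₁, hv₁u₁, hu₁v₁⟩ := homogenize_isogeny u v s h1 h2
  have hb0 : s.reverse.coeff 0 = 1 := by rw [Polynomial.coeff_zero_reverse, hsm.leadingCoeff]
  obtain ⟨α, β, hαβ⟩ : IsCoprime (X ^ k : A[X]) s.reverse := by
    have h0 : IsCoprime (X : A[X]) s.reverse := ⟨-divX s.reverse, 1, by
      have := Polynomial.X_mul_divX_add s.reverse
      rw [hb0, C_1] at this
      linear_combination (-1 : A[X]) * this⟩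
    exact h0.pow_left
  obtain ⟨N, _, _, hfin, hproj, w₁, w₁', w₂, w₂', hw1, hw1', hw2, hw2'⟩ :=
    exists_split_isogeny (X ^ k : A[X]) s.reverse α β hαβ u₁ v₁ hv₁u₁ hu₁v₁
  obtain ⟨ε⟩ := extended_of_monic_isogeny (M := N) (Q := P) (X ^ k : A[X])
    (Polynomial.monic_X_pow k) w₁ w₁' hw1 hw1'
  have hg12 : ∀ p', ((FibrePair.ofQuotient A N).map (FibrePair.tensor (B := A) P') w₂)
      (((FibrePair.tensor (B := A) P').map (FibrePair.ofQuotient A N) w₂') p') = p' := by
    intro p'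
    obtain ⟨x, hx⟩ := (FibrePair.tensor (B := A) P').surj p'
    rw [← hx, FibrePair.map_apply, FibrePair.map_apply, hw2, FibrePair.map_smul', hb0, one_smul]
  have hg21 : ∀ y, ((FibrePair.tensor (B := A) P').map (FibrePair.ofQuotient A N) w₂')
      (((FibrePair.ofQuotient A N).map (FibrePair.tensor (B := A) P') w₂) y) = y := by
    intro y
    obtain ⟨x, hx⟩ := (FibrePair.ofQuotient A N).surj y
    rw [← hx, FibrePair.map_apply, FibrePair.map_apply, hw2', FibrePair.map_smul', hb0, one_smul]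
  let φ : Fib A N ≃ₗ[A] P' := LinearEquiv.ofLinearMap
    ((FibrePair.ofQuotient A N).map (FibrePair.tensor (B := A) P') w₂)
    ((FibrePair.tensor (B := A) P').map (FibrePair.ofQuotient A N) w₂')
    (LinearMap.ext hg12) (LinearMap.ext hg21)
  let Φ : A[X] ⊗[A] P' ≃ₗ[A[X]] N := (LinearEquiv.baseChange A A[X] _ _ φ.symm) ≪≫ₗ ε
  exact nonempty_equiv_of_X_pow_isogeny k (Φ.symm.toLinearMap ∘ₗ w₁) (w₁' ∘ₗ Φ.toLinearMap)
    (fun x => by simp [hw1]) (fun x => by simp [hw1'])

end Main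

end Groth.Agent.Lib.Helper47.Horrocks
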