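import Groth.Agent.Lib.Helper47.HorrocksFactor
import Groth.Agent.Lib.Helper47.HorrocksFibre

/-!
Quillen patching for two comaximal elements (denominator-free form).
-/

set_option autoImplicit false

open TensorProduct Polynomial

namespace Groth.Agent.Lib.Helper47.Horrocks

section Glue

variable {K : Type*} [CommRing K] {E M : Type*} [AddCommGroup E] [Module K E]
  [AddCommGroup M] [Module K M]

/-- gluing two isogenies that agree up to scalars on the overlap -/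
theorem glue_isogenies (f₁ f₂ : K) (hcop : IsCoprime f₁ f₂)
    (w₁ w₂ : E →ₗ[K] M) (z₁ z₂ : M →ₗ[K] E)
    (hz1w1 : ∀ e, z₁ (w₁ e) = f₁ ^ 6 • e) (hw1z1 : ∀ m, w₁ (z₁ m) = f₁ ^ 6 • m)
    (hz2w2 : ∀ e, z₂ (w₂ e) = f₂ ^ 4 • e) (hw2z2 : ∀ m, w₂ (z₂ m) = f₂ ^ 4 • m)
    (hkey : ∀ e, (f₁ * f₂ ^ 4) • w₁ e = (f₁ ^ 4 * f₂ ^ 2) • w₂ e) :
    Nonempty (E ≃ₗ[K] M) := by
  obtain ⟨α₁, α₂, hα⟩ : IsCoprime (f₁ ^ 4) (f₂ ^ 4) := hcop.pow
  obtain ⟨γ₁, γ₂, hγ⟩ : IsCoprime (f₁ ^ 7) (f₂ ^ 6) := hcop.pow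
  set w : E →ₗ[K] M := (α₁ * f₁) • w₁ + (α₂ * f₂ ^ 2) • w₂ with hwdef
  have hw1 : ∀ e, f₁ ^ 4 • w e = f₁ • w₁ e := by
    intro e
    calc f₁ ^ 4 • w e = (α₁ * f₁ ^ 5) • w₁ e + α₂ • ((f₁ ^ 4 * f₂ ^ 2) • w₂ e) := by
          simp only [hwdef, LinearMap.add_apply, LinearMap.smul_apply]
          module
      _ = (α₁ * f₁ ^ 5) • w₁ e + α₂ • ((f₁ * f₂ ^ 4) • w₁ e) := by rw [hkey]
      _ = (f₁ * (α₁ * f₁ ^ 4 + α₂ * f₂ ^ 4)) • w₁ e := by module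
      _ = f₁ • w₁ e := by rw [hα, mul_one]
  have hw2 : ∀ e, f₂ ^ 4 • w e = f₂ ^ 2 • w₂ e := by
    intro e
    calc f₂ ^ 4 • w e = α₁ • ((f₁ * f₂ ^ 4) • w₁ e) + (α₂ * f₂ ^ 6) • w₂ e := by
          simp only [hwdef, LinearMap.add_apply, LinearMap.smul_apply]
          module
      _ = α₁ • ((f₁ ^ 4 * f₂ ^ 2) • w₂ e) + (α₂ * f₂ ^ 6) • w₂ e := by rw [hkey]
      _ = (f₂ ^ 2 * (α₁ * f₁ ^ 4 + α₂ * f₂ ^ 4)) • w₂ e := by module
      _ = f₂ ^ 2 • w₂ e := by rw [hα, mul_one]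
  have hinj : Function.Injective w := by
    rw [injective_iff_map_eq_zero]
    intro e he
    have h1 : f₁ ^ 7 • e = 0 := by
      have : f₁ • w₁ e = 0 := by rw [← hw1, he, smul_zero]
      have h2 := congrArg z₁ this
      rw [map_smul, hz1w1, map_zero, smul_smul] at h2
      rw [← h2]
      congr 1
      ring
    have h2 : f₂ ^ 6 • e = 0 := by
      have : f₂ ^ 2 • w₂ e = 0 := by rw [← hw2, he, smul_zero]
      have h2 := congrArg z₂ this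
      rw [map_smul, hz2w2, map_zero, smul_smul] at h2
      rw [← h2]
      congr 1
      ring
    calc e = (γ₁ * f₁ ^ 7 + γ₂ * f₂ ^ 6) • e := by rw [hγ, one_smul]
      _ = γ₁ • (f₁ ^ 7 • e) + γ₂ • (f₂ ^ 6 • e) := by module
      _ = 0 := by rw [h1, h2, smul_zero, smul_zero, add_zero]
  have hsurj : Function.Surjective w := by
    intro m
    refine ⟨(γ₁ * f₁ ^ 4) • z₁ m + (γ₂ * f₂ ^ 4) • z₂ m, ?_⟩
    have h1 : f₁ ^ 4 • w (z₁ m) = f₁ ^ 7 • m := by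
      rw [hw1, hw1z1, smul_smul]
      congr 1
      ring
    have h2 : f₂ ^ 4 • w (z₂ m) = f₂ ^ 6 • m := by
      rw [hw2, hw2z2, smul_smul]
      congr 1
      ring
    calc w ((γ₁ * f₁ ^ 4) • z₁ m + (γ₂ * f₂ ^ 4) • z₂ m)
        = γ₁ • (f₁ ^ 4 • w (z₁ m)) + γ₂ • (f₂ ^ 4 • w (z₂ m)) := by
          rw [map_add, map_smul, map_smul]
          module
      _ = (γ₁ * f₁ ^ 7 + γ₂ * f₂ ^ 6) • m := by rw [h1, h2]; module
      _ = m := by rw [hγ, one_smul]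
  exact ⟨LinearEquiv.ofBijective w ⟨hinj, hsurj⟩⟩

end Glue

section Patch

variable {B : Type*} [CommRing B] {M : Type*} [AddCommGroup M] [Module B[X] M]
  {P : Type*} [AddCommGroup P] [Module B P] [Module.Flat B P] (π : FibrePair B M P)

include π in
/-- Quillen patching for two comaximal elements, normalised denominator-free form. -/
theorem patch2_normalized (F₁ F₂ : B) (hcop : IsCoprime F₁ F₂)
    (u₁ u₂ : B[X] ⊗[B] P →ₗ[B[X]] M) (v₁ v₂ : M →ₗ[B[X]] B[X] ⊗[B] P)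
    (h11 : ∀ e, v₁ (u₁ e) = C (F₁ ^ 2) • e) (h11' : ∀ m, u₁ (v₁ m) = C (F₁ ^ 2) • m)
    (h22 : ∀ e, v₂ (u₂ e) = C (F₂ ^ 2) • e) (h22' : ∀ m, u₂ (v₂ m) = C (F₂ ^ 2) • m)
    (hu₁ : ∀ p, π (u₁ ((1 : B[X]) ⊗ₜ[B] p)) = F₁ • p)
    (hu₂ : ∀ p, π (u₂ ((1 : B[X]) ⊗ₜ[B] p)) = F₂ • p)
    (hv₁ : ∀ m, epsLin P (v₁ m) = F₁ • π m) (hv₂ : ∀ m, epsLin P (v₂ m) = F₂ • π m) :
    Nonempty ((B[X] ⊗[B] P) ≃ₗ[B[X]] M) := by
  set t : Module.End B[X] (B[X] ⊗[B] P) := v₁ ∘ₗ u₂ with htdef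
  set t' : Module.End B[X] (B[X] ⊗[B] P) := v₂ ∘ₗ u₁ with ht'def
  have htt' : t * t' =
      (algebraMap B B[X] ((F₁ * F₂) ^ 2)) • (1 : Module.End B[X] (B[X] ⊗[B] P)) := by
    refine LinearMap.ext fun e => ?_
    simp only [htdef, ht'def, Module.End.mul_apply, LinearMap.comp_apply, LinearMap.smul_apply,
      Module.End.one_apply]
    rw [h22', map_smul, h11, smul_smul, ← C_mul, Polynomial.algebraMap_eq]
    congr 2
    ring
  have ht't : t' * t =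
      (algebraMap B B[X] ((F₁ * F₂) ^ 2)) • (1 : Module.End B[X] (B[X] ⊗[B] P)) := by
    refine LinearMap.ext fun e => ?_
    simp only [htdef, ht'def, Module.End.mul_apply, LinearMap.comp_apply, LinearMap.smul_apply,
      Module.End.one_apply]
    rw [h11', map_smul, h22, smul_smul, ← C_mul, Polynomial.algebraMap_eq]
    congr 2
    ring
  obtain ⟨t₁, ht⟩ := exists_eq_C_smul_add_X_smul t (F₁ * F₂) (fun p => by
    simp only [htdef, LinearMap.comp_apply]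
    rw [hv₁, hu₂, mul_smul])
  obtain ⟨t₁', ht'⟩ := exists_eq_C_smul_add_X_smul t' (F₁ * F₂) (fun p => by
    simp only [ht'def, LinearMap.comp_apply]
    rw [hv₂, hu₁, smul_smul, mul_comm])
  obtain ⟨c, c', hg⟩ : IsCoprime (F₁ ^ 2) (F₂ ^ 4) := hcop.pow
  obtain ⟨p, p', q, q', hpp', hp'p, hqq', hq'q, hqp⟩ :=
    exists_factor (A := B) (P := P) F₁ F₂ c c' (by rw [← hg]; ring) t t' t₁ t₁' ht ht' htt' ht't
  have hpp'e : ∀ e, p (p' e) = C (F₂ ^ 2) • e := fun e => LinearMap.congr_fun hpp' e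
  have hp'pe : ∀ e, p' (p e) = C (F₂ ^ 2) • e := fun e => LinearMap.congr_fun hp'p e
  have hqq'e : ∀ e, q (q' e) = C (F₁ ^ 4) • e := fun e => LinearMap.congr_fun hqq' e
  have hq'qe : ∀ e, q' (q e) = C (F₁ ^ 4) • e := fun e => LinearMap.congr_fun hq'q e
  have hqpe : ∀ e, C (F₁ * F₂ ^ 2) • q (p e) = C ((F₁ * F₂) ^ 2) • v₁ (u₂ e) :=
    fun e => LinearMap.congr_fun hqp e
  refine glue_isogenies (K := B[X]) (C F₁) (C F₂) (hcop.map (C : B →+* B[X]))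
    (u₁ ∘ₗ q) (u₂ ∘ₗ p') (q' ∘ₗ v₁) (p ∘ₗ v₂) ?_ ?_ ?_ ?_ ?_
  · intro e
    simp only [LinearMap.comp_apply]
    rw [h11, map_smul, hq'qe, smul_smul, ← C_mul, ← C_pow]
    congr 2
    ring
  · intro m
    simp only [LinearMap.comp_apply]
    rw [hqq'e, map_smul, h11', smul_smul, ← C_mul, ← C_pow]
    congr 2
    ring
  · intro e
    simp only [LinearMap.comp_apply]
    rw [h22, map_smul, hpp'e, smul_smul, ← C_mul, ← C_pow]
    congr 2
    ring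
  · intro m
    simp only [LinearMap.comp_apply]
    rw [hp'pe, map_smul, h22', smul_smul, ← C_mul, ← C_pow]
    congr 2
    ring
  · intro e
    simp only [LinearMap.comp_apply]
    have h1 := hqpe (p' e)
    rw [hpp'e, map_smul, smul_smul] at h1
    have h2 := congrArg u₁ h1
    rw [map_smul, map_smul, h11', smul_smul] at h2
    rw [← C_pow, ← C_pow, ← C_pow, ← C_mul, ← C_mul]
    rw [← C_mul] at h2
    rw [← C_mul] at h2
    convert h2 using 3 <;> ring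

end Patch

section LocIso

variable (B : Type*) [CommRing B] (M : Type*) [AddCommGroup M] [Module B[X] M]
  (P : Type*) [AddCommGroup P] [Module B P]

/-- an isogeny between `B[X] ⊗ P` and `M` whose two composites are a power of `a` -/
def LocIso (a : B) : Prop :=
  ∃ (u : B[X] ⊗[B] P →ₗ[B[X]] M) (v : M →ₗ[B[X]] B[X] ⊗[B] P) (N : ℕ),
    (∀ e, v (u e) = C (a ^ N) • e) ∧ (∀ m, u (v m) = C (a ^ N) • m)

variable {B M P}

theorem LocIso.of_equiv (e : (B[X] ⊗[B] P) ≃ₗ[B[X]] M) (a : B) : LocIso B M P a :=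
  ⟨e.toLinearMap, e.symm.toLinearMap, 0, by simp, by simp⟩

theorem LocIso.mul_right {a : B} (h : LocIso B M P a) (b : B) : LocIso B M P (a * b) := by
  obtain ⟨u, v, N, h1, h2⟩ := h
  refine ⟨u, C (b ^ N) • v, N, fun e => ?_, fun m => ?_⟩
  · rw [LinearMap.smul_apply, h1, smul_smul, ← C_mul, mul_pow, mul_comm]
  · rw [LinearMap.smul_apply, map_smul, h2, smul_smul, ← C_mul, mul_pow, mul_comm]

theorem LocIso.equiv_of_one (h : LocIso B M P 1) : Nonempty ((B[X] ⊗[B] P) ≃ₗ[B[X]] M) := by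
  obtain ⟨u, v, N, h1, h2⟩ := h
  simp only [one_pow, C_1, one_smul] at h1 h2
  exact ⟨LinearEquiv.ofLinearMap u v (LinearMap.ext h2) (LinearMap.ext h1)⟩

/-- Quillen patching for two comaximal elements. -/
theorem patch2 [Module.Flat B P] (π : FibrePair B M P) {f₁ f₂ : B} (hcop : IsCoprime f₁ f₂)
    (h₁ : LocIso B M P f₁) (h₂ : LocIso B M P f₂) : Nonempty ((B[X] ⊗[B] P) ≃ₗ[B[X]] M) := by
  obtain ⟨u₁, v₁, N₁, h11, h11'⟩ := h₁
  obtain ⟨u₂, v₂, N₂, h22, h22'⟩ := h₂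
  obtain ⟨u₁', v₁', k11, k11', ku₁, kv₁⟩ := π.normalize u₁ v₁ (C (f₁ ^ N₁)) h11 h11'
  obtain ⟨u₂', v₂', k22, k22', ku₂, kv₂⟩ := π.normalize u₂ v₂ (C (f₂ ^ N₂)) h22 h22'
  simp only [coeff_C_zero] at k11 k11' ku₁ kv₁ k22 k22' ku₂ kv₂
  refine patch2_normalized π (f₁ ^ N₁) (f₂ ^ N₂) hcop.pow u₁' u₂' v₁' v₂' ?_ ?_ ?_ ?_
    ku₁ ku₂ kv₁ kv₂
  · intro x; rw [k11, ← C_mul, sq]
  · intro x; rw [k11', ← C_mul, sq]
  · intro x; rw [k22, ← C_mul, sq]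
  · intro x; rw [k22', ← C_mul, sq]

end LocIso

end Groth.Agent.Lib.Helper47.Horrocks
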