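import Groth.Agent.Lib.Helper94.KosDivDefs
import Groth.Agent.Lib.Helper2.KerSec

set_option autoImplicit false
set_option linter.style.haveILetI false
universe u
open CategoryTheory CategoryTheory.Limits AlgebraicGeometry Opposite TopologicalSpace
open Groth.Agent.Lib.Lead.Inv Groth.Agent.Lib.Helper94.KosDiv

namespace Groth.Agent.Lib.Helper47.KosDivEX

variable {X : Scheme.{u}}

/-- exactness of sections over affines -/
theorem exists_app_eq_of_isColimit {A Z H : X.Modules} [A.IsQuasicoherent] [Z.IsQuasicoherent]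
    (f : A ⟶ Z) (π : Z ⟶ H) (w : f ≫ π = 0) (hc : IsColimit (CokernelCofork.ofπ π w))
    {U : X.Opens} (hU : IsAffineOpen U) (z : Γ(Z, U)) (hz : π.app U z = 0) :
    ∃ a : Γ(A, U), f.app U a = z := by
  haveI : (cokernel f).IsQuasicoherent :=
    Groth.Agent.Lib.Helper21.QCohKernel.isQuasicoherent_cokernel f
  haveI : (kernel (cokernel.π f)).IsQuasicoherent :=
    Groth.Agent.Lib.Helper21.QCohKernel.isQuasicoherent_kernel (cokernel.π f)
  -- `cokernel.π f` factors through `π`
  let d : H ⟶ cokernel f :=
    hc.desc (CokernelCofork.ofπ (cokernel.π f) (cokernel.condition f))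
  have hd : π ≫ d = cokernel.π f :=
    hc.fac (CokernelCofork.ofπ (cokernel.π f) (cokernel.condition f)) WalkingParallelPair.one
  have hz' : (cokernel.π f).app U z = 0 := by
    rw [← hd, Scheme.Modules.Hom.comp_app]
    change d.app U (π.app U z) = 0
    rw [hz, map_zero]
  obtain ⟨t, ht⟩ := Groth.Agent.Lib.Helper2.KerSec.exists_of_app_eq_zero (cokernel.π f) U z hz'
  -- the lift `A ⟶ kernel (cokernel.π f)` is an epimorphism
  let g : A ⟶ kernel (cokernel.π f) := kernel.lift (cokernel.π f) f (cokernel.condition f)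
  have hS : (ShortComplex.mk f (cokernel.π f) (cokernel.condition f)).Exact :=
    ShortComplex.exact_of_g_is_cokernel _ (cokernelIsCokernel f)
  haveI : Epi g := (ShortComplex.exact_iff_epi_kernel_lift _).1 hS
  obtain ⟨a, ha⟩ := Groth.Agent.Lib.Helper21.QCohSections.app_surjective_of_epi g hU t
  refine ⟨a, ?_⟩
  have hg : g ≫ kernel.ι (cokernel.π f) = f := kernel.lift_ι _ _ _
  rw [← hg, Scheme.Modules.Hom.comp_app]
  change (kernel.ι (cokernel.π f)).app U (g.app U a) = z
  rw [ha, ht]

end Groth.Agent.Lib.Helper47.KosDivEX
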