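import Mathlib
import Groth.Prelude.Def_LieS

set_option autoImplicit false
universe u
open CategoryTheory CategoryTheory.Limits MonoidalCategory CartesianMonoidalCategory MonObj GrpObj
  AlgebraicGeometry

namespace Groth.Agent.Lib.Helper47.LieKerK4

theorem K4 (k : Type u) [Field k] {G G' : Over (Spec (CommRingCat.of k))} [GrpObj G] [GrpObj G']
    (f : G ⟶ G') [IsMonHom f]
    (h : Function.Injective (LieS.map k (𝟙 (Spec (CommRingCat.of k))) f)) :
    ∀ g : (Over.mk (Spec.map (CommRingCat.ofHom (algebraMap k (DualNumber k))))) ⟶ G,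
      (∀ x : 𝟙_ (Over (Spec (CommRingCat.of k))) ⟶
          (Over.mk (Spec.map (CommRingCat.ofHom (algebraMap k (DualNumber k))))), x ≫ g = η[G]) →
      g ≫ f = toUnit _ ≫ η[G'] → g = toUnit _ ≫ η[G] := by
  intro g hx hgf
  let e : LieS.dpt k (𝟙 (Spec (CommRingCat.of k))) ≅
      Over.mk (Spec.map (CommRingCat.ofHom (algebraMap k (DualNumber k)))) :=
    Over.isoMk (Iso.refl _) (by simp [LieS.dpt])
  let g' : LieS.dpt k (𝟙 (Spec (CommRingCat.of k))) ⟶ G := e.hom ≫ g
  have hmem : g' ∈ LieS.Lie G k (𝟙 (Spec (CommRingCat.of k))) := by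
    rw [LieS.mem_Lie_iff]
    have h1 := hx (LieS.zeroSec k (𝟙 (Spec (CommRingCat.of k))) ≫ e.hom)
    change LieS.zeroSec k (𝟙 (Spec (CommRingCat.of k))) ≫ e.hom ≫ g = 1
    rw [← Category.assoc, h1, Hom.one_def]
    have : toUnit (LieS.pt k (𝟙 (Spec (CommRingCat.of k)))) = 𝟙 _ := Subsingleton.elim _ _
    rw [this, Category.id_comp]
  let v : LieS.Lie G k (𝟙 (Spec (CommRingCat.of k))) := ⟨g', hmem⟩
  have hv : LieS.map k (𝟙 (Spec (CommRingCat.of k))) f v =
      LieS.map k (𝟙 (Spec (CommRingCat.of k))) f 1 := by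
    rw [map_one]
    apply Subtype.ext
    change g' ≫ f = 1
    change (e.hom ≫ g) ≫ f = 1
    rw [Category.assoc, hgf, Hom.one_def, ← Category.assoc]
    congr 1
  have hv1 : v = 1 := h hv
  have hg' : g' = 1 := congrArg Subtype.val hv1
  have : g = e.inv ≫ g' := by
    change g = e.inv ≫ e.hom ≫ g
    rw [Iso.inv_hom_id_assoc]
  rw [this, hg', Hom.one_def, ← Category.assoc]
  congr 1

end Groth.Agent.Lib.Helper47.LieKerK4
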