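import Mathlib.Tactic
import Mathlib.AlgebraicGeometry.Cover.Open
import Mathlib.AlgebraicGeometry.AffineScheme
import Mathlib.RingTheory.Localization.Away.Basic
import Mathlib.AlgebraicGeometry.Gluing

set_option autoImplicit false
universe u
open CategoryTheory AlgebraicGeometry

namespace Groth.Agent.Lib.Helper47.SpecEpi

theorem away_joint_injective {A A1 A2 : Type u} [CommRing A] [CommRing A1] [CommRing A2]
    (φ1 : A →+* A1) (φ2 : A →+* A2) (hinj : ∀ z : A, φ1 z = 0 → φ2 z = 0 → z = 0) (a : A)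
    (z : Localization.Away a) (h1 : Localization.awayMap φ1 a z = 0)
    (h2 : Localization.awayMap φ2 a z = 0) : z = 0 := by
  obtain ⟨x, ⟨_, n, rfl⟩, rfl⟩ := IsLocalization.mk'_surjective (Submonoid.powers a) z
  unfold Localization.awayMap IsLocalization.Away.map at h1 h2
  rw [IsLocalization.map_mk', IsLocalization.mk'_eq_zero_iff] at h1 h2
  obtain ⟨⟨_, l, rfl⟩, hl⟩ := h1
  obtain ⟨⟨_, l', rfl⟩, hl'⟩ := h2
  rw [IsLocalization.mk'_eq_zero_iff]
  refine ⟨⟨a ^ (l + l'), l + l', rfl⟩, ?_⟩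
  apply hinj
  · simp only [map_mul, map_pow] at hl ⊢
    rw [pow_add, mul_comm (φ1 a ^ l), mul_assoc, hl, mul_zero]
  · simp only [map_mul, map_pow] at hl' ⊢
    rw [pow_add, mul_assoc, hl', mul_zero]

/-- local version: on a basic open landing in an affine chart -/
theorem local_eq {A A1 A2 : Type u} [CommRing A] [CommRing A1] [CommRing A2]
    (φ1 : A →+* A1) (φ2 : A →+* A2) (hinj : ∀ z : A, φ1 z = 0 → φ2 z = 0 → z = 0)
    {X : Scheme.{u}} (u1 u2 : Spec (CommRingCat.of A) ⟶ X)
    (h1 : Spec.map (CommRingCat.ofHom φ1) ≫ u1 = Spec.map (CommRingCat.ofHom φ1) ≫ u2)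
    (h2 : Spec.map (CommRingCat.ofHom φ2) ≫ u1 = Spec.map (CommRingCat.ofHom φ2) ≫ u2)
    (a : A) (Γ : CommRingCat.{u}) (ι : Spec Γ ⟶ X) [IsOpenImmersion ι]
    (hr1 : Set.range (Spec.map (CommRingCat.ofHom (algebraMap A (Localization.Away a))) ≫ u1).base ⊆
      Set.range ι.base)
    (hr2 : Set.range (Spec.map (CommRingCat.ofHom (algebraMap A (Localization.Away a))) ≫ u2).base ⊆
      Set.range ι.base) :
    Spec.map (CommRingCat.ofHom (algebraMap A (Localization.Away a))) ≫ u1 =
      Spec.map (CommRingCat.ofHom (algebraMap A (Localization.Away a))) ≫ u2 := by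
  set j := Spec.map (CommRingCat.ofHom (algebraMap A (Localization.Away a))) with hj
  -- lifts
  set w1 := IsOpenImmersion.lift ι (j ≫ u1) hr1 with hw1
  set w2 := IsOpenImmersion.lift ι (j ≫ u2) hr2 with hw2
  have f1 : w1 ≫ ι = j ≫ u1 := IsOpenImmersion.lift_fac _ _ _
  have f2 : w2 ≫ ι = j ≫ u2 := IsOpenImmersion.lift_fac _ _ _
  obtain ⟨θ1, hθ1⟩ := Spec.map_surjective w1
  obtain ⟨θ2, hθ2⟩ := Spec.map_surjective w2
  suffices hθ : θ1 = θ2 by
    rw [← f1, ← f2, ← hθ1, ← hθ2, hθ]
  -- the squares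
  have sq : ∀ {Ak : Type u} [CommRing Ak] (φk : A →+* Ak)
      (hk : Spec.map (CommRingCat.ofHom φk) ≫ u1 = Spec.map (CommRingCat.ofHom φk) ≫ u2),
      (Localization.awayMap φk a).comp θ1.hom = (Localization.awayMap φk a).comp θ2.hom := by
    intro Ak _ φk hk
    have hsq : Spec.map (CommRingCat.ofHom (Localization.awayMap φk a)) ≫ j =
        Spec.map (CommRingCat.ofHom (algebraMap Ak (Localization.Away (φk a)))) ≫
          Spec.map (CommRingCat.ofHom φk) := by
      rw [hj, ← Spec.map_comp, ← Spec.map_comp, ← CommRingCat.ofHom_comp, ← CommRingCat.ofHom_comp]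
      congr 2
      exact IsLocalization.map_comp _
    have e : Spec.map (CommRingCat.ofHom (Localization.awayMap φk a)) ≫ w1 =
        Spec.map (CommRingCat.ofHom (Localization.awayMap φk a)) ≫ w2 := by
      rw [← cancel_mono ι, Category.assoc, Category.assoc, f1, f2, ← Category.assoc,
        ← Category.assoc, hsq, Category.assoc, Category.assoc, hk]
    rw [← hθ1, ← hθ2, ← Spec.map_comp, ← Spec.map_comp] at e
    have e' := Spec.map_injective e
    exact congrArg CommRingCat.Hom.hom e'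
  apply CommRingCat.hom_ext
  refine RingHom.ext fun g => ?_
  have e1 := congrArg (fun ρ => ρ g) (sq φ1 h1)
  have e2 := congrArg (fun ρ => ρ g) (sq φ2 h2)
  simp only [RingHom.comp_apply] at e1 e2
  have := away_joint_injective φ1 φ2 hinj a (θ1.hom g - θ2.hom g)
    (by rw [map_sub, e1, sub_self]) (by rw [map_sub, e2, sub_self])
  exact sub_eq_zero.mp this

theorem spec_hom_ext {A A1 A2 : Type u} [CommRing A] [CommRing A1] [CommRing A2]
    (φ1 : A →+* A1) (φ2 : A →+* A2)
    (hsurj : Function.Surjective (Spec.map (CommRingCat.ofHom φ1)).base)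
    (hinj : ∀ z : A, φ1 z = 0 → φ2 z = 0 → z = 0)
    {X : Scheme.{u}} (u1 u2 : Spec (CommRingCat.of A) ⟶ X)
    (h1 : Spec.map (CommRingCat.ofHom φ1) ≫ u1 = Spec.map (CommRingCat.ofHom φ1) ≫ u2)
    (h2 : Spec.map (CommRingCat.ofHom φ2) ≫ u1 = Spec.map (CommRingCat.ofHom φ2) ≫ u2) :
    u1 = u2 := by
  have hbase : ∀ p, u1.base p = u2.base p := by
    intro p
    obtain ⟨p', rfl⟩ := hsurj p
    have := congrArg (fun m => m.base p') h1
    simpa using this
  have hex : ∀ p : Spec (CommRingCat.of A), ∃ a : A, p ∈ PrimeSpectrum.basicOpen a ∧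
      ∃ (i : X.affineOpenCover.I₀), (PrimeSpectrum.basicOpen a : Set (PrimeSpectrum A)) ⊆
        u1.base ⁻¹' (Set.range (X.affineOpenCover.f i).base) := by
    intro p
    have hcov := X.affineOpenCover.covers (u1.base p)
    set i := X.affineOpenCover.idx (u1.base p)
    have hVopen : IsOpen (u1.base ⁻¹' (Set.range (X.affineOpenCover.f i).base)) :=
      (X.affineOpenCover.f i).opensRange.isOpen.preimage u1.continuous
    have hpV : p ∈ u1.base ⁻¹' (Set.range (X.affineOpenCover.f i).base) := hcov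
    obtain ⟨W, ⟨a', ⟨a, rfl⟩, rfl⟩, hpW, hWV⟩ :=
      PrimeSpectrum.isBasis_basic_opens.exists_subset_of_mem_open hpV hVopen
    exact ⟨a, hpW, i, hWV⟩
  choose a ha i hi using hex
  have hspan : Ideal.span (Set.range a) = ⊤ := by
    by_contra hne
    obtain ⟨m, hm, hle⟩ := Ideal.exists_le_maximal _ hne
    have := ha ⟨m, hm.isPrime⟩
    exact this (hle (Ideal.subset_span ⟨_, rfl⟩))
  let 𝒰 := Scheme.affineOpenCoverOfSpanRangeEqTop (R := CommRingCat.of A) a hspan
  apply Scheme.Cover.hom_ext 𝒰.openCover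
  intro p
  change Spec.map (CommRingCat.ofHom (algebraMap A (Localization.Away (a p)))) ≫ u1 = _ ≫ u2
  have hmem : ∀ q : Spec (CommRingCat.of (Localization.Away (a p))),
      (Spec.map (CommRingCat.ofHom (algebraMap A (Localization.Away (a p))))).base q ∈
        (PrimeSpectrum.basicOpen (a p) : Set (PrimeSpectrum A)) := by
    intro q
    rw [← PrimeSpectrum.localization_away_comap_range (Localization.Away (a p)) (a p)]
    exact ⟨q, rfl⟩
  apply local_eq φ1 φ2 hinj u1 u2 h1 h2 (a p) _ (X.affineOpenCover.f (i p))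
  · rintro _ ⟨q, rfl⟩
    exact hi p (hmem q)
  · rintro _ ⟨q, rfl⟩
    have := hi p (hmem q)
    have e := hbase ((Spec.map (CommRingCat.ofHom (algebraMap A (Localization.Away (a p))))).base q)
    exact e ▸ this

theorem spec_surj_of_aug {A A1 B0 : Type u} [CommRing A] [CommRing A1] [CommRing B0]
    (φ1 : A →+* A1) (aug : A →+* B0) (r1 : A1 →+* B0) (hr : r1.comp φ1 = aug)
    (haug : Function.Surjective aug) (hnil : ∀ z, aug z = 0 → IsNilpotent z) :
    Function.Surjective (Spec.map (CommRingCat.ofHom φ1)).base := by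
  intro p
  have hp : (p : PrimeSpectrum A) ∈ PrimeSpectrum.zeroLocus (RingHom.ker aug : Set A) := by
    intro z hz
    exact nilpotent_iff_mem_prime.mp (hnil z hz) p.asIdeal p.isPrime
  rw [← range_comap_of_surjective _ aug haug] at hp
  obtain ⟨q, hq⟩ := hp
  refine ⟨PrimeSpectrum.comap r1 q, ?_⟩
  rw [← hq, ← hr]
  rfl

end Groth.Agent.Lib.Helper47.SpecEpi
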