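import Groth.Prelude.Def_LieS
import Groth.Agent.Lib.Helper47.SpecEpi
import Mathlib.Tactic

set_option autoImplicit false
universe u
open CategoryTheory MonObj AlgebraicGeometry

noncomputable section

namespace Groth.Agent.Lib.Helper47.LieTan

open Groth.Agent.Lib.Helper47.SpecEpi

section

variable {S : Scheme.{u}} (B : Type u) [CommRing B] (f : Spec (CommRingCat.of B) ⟶ S)

/-- `Spec` of the trivial square zero extension `B ⊕ N`, as a scheme over `S`. -/
def apt (N : Type u) [AddCommGroup N] [Module B N] [Module Bᵐᵒᵖ N] [IsCentralScalar B N] : Over S :=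
  Over.mk (Spec.map (CommRingCat.ofHom (algebraMap B (TrivSqZeroExt B N))) ≫ f)

variable {N N' N'' : Type u} [AddCommGroup N] [Module B N] [Module Bᵐᵒᵖ N] [IsCentralScalar B N]
  [AddCommGroup N'] [Module B N'] [Module Bᵐᵒᵖ N'] [IsCentralScalar B N']
  [AddCommGroup N''] [Module B N''] [Module Bᵐᵒᵖ N''] [IsCentralScalar B N'']

/-- the ring map `B ⊕ N → B ⊕ N'` induced by a linear map -/
def mp (ℓ : N →ₗ[B] N') : TrivSqZeroExt B N →+* TrivSqZeroExt B N' :=
  (TrivSqZeroExt.map ℓ).toRingHom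

theorem mp_apply (ℓ : N →ₗ[B] N') (x : TrivSqZeroExt B N) : mp B ℓ x = TrivSqZeroExt.map ℓ x := rfl

theorem mp_comp (ℓ : N →ₗ[B] N') (ℓ' : N' →ₗ[B] N'') :
    (mp B ℓ').comp (mp B ℓ) = mp B (ℓ'.comp ℓ) := by
  refine RingHom.ext fun x => ?_
  simp only [RingHom.comp_apply, mp_apply, TrivSqZeroExt.map_comp_map]
  rfl

theorem mp_comp_algebraMap (ℓ : N →ₗ[B] N') :
    (mp B ℓ).comp (algebraMap B (TrivSqZeroExt B N)) = algebraMap B (TrivSqZeroExt B N') := by
  refine RingHom.ext fun x => ?_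
  simp only [RingHom.comp_apply, mp_apply]
  exact (TrivSqZeroExt.map ℓ).commutes x

/-- the morphism `Spec (B ⊕ N') ⟶ Spec (B ⊕ N)` over `S` -/
def amap (ℓ : N →ₗ[B] N') : apt B f N' ⟶ apt B f N :=
  Over.homMk (Spec.map (CommRingCat.ofHom (mp B ℓ))) (by
    change Spec.map _ ≫ Spec.map _ ≫ f = Spec.map _ ≫ f
    rw [← Category.assoc, LieS.specMap_comp, mp_comp_algebraMap])

theorem amap_comp (ℓ : N →ₗ[B] N') (ℓ' : N' →ₗ[B] N'') :
    amap B f ℓ' ≫ amap B f ℓ = amap B f (ℓ'.comp ℓ) := by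
  apply Over.OverMorphism.ext
  change Spec.map _ ≫ Spec.map _ = Spec.map _
  rw [LieS.specMap_comp, mp_comp]

theorem amap_id : amap B f (LinearMap.id : N →ₗ[B] N) = 𝟙 _ := by
  apply Over.OverMorphism.ext
  change Spec.map _ = 𝟙 _
  have : mp B (LinearMap.id : N →ₗ[B] N) = RingHom.id _ := by
    refine RingHom.ext fun x => ?_
    rw [mp_apply, TrivSqZeroExt.map_id]
    rfl
  rw [this, CommRingCat.ofHom_id]
  erw [Spec.map_id]

/-- projection to `T` -/
def aproj (N : Type u) [AddCommGroup N] [Module B N] [Module Bᵐᵒᵖ N] [IsCentralScalar B N] :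
    apt B f N ⟶ LieS.pt B f :=
  Over.homMk (Spec.map (CommRingCat.ofHom (algebraMap B (TrivSqZeroExt B N)))) rfl

theorem dpt_eq : LieS.dpt B f = apt B f B := rfl

/-- the zero section, typed in the `apt` world -/
def azero : LieS.pt B f ⟶ apt B f B := LieS.zeroSec B f

theorem amap_zero :
    (amap B f (0 : B →ₗ[B] N) : apt B f N ⟶ apt B f B) = aproj B f N ≫ azero B f := by
  apply Over.OverMorphism.ext
  change Spec.map _ = Spec.map _ ≫ Spec.map _
  rw [LieS.specMap_comp]
  congr 2
  refine RingHom.ext fun x => ?_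
  rw [mp_apply]
  ext <;> simp [TrivSqZeroExt.algebraMap_eq_inl']

theorem scale_eq (b : B) :
    LieS.scale B f b = amap B f (b • LinearMap.id : B →ₗ[B] B) := by
  apply Over.OverMorphism.ext
  change Spec.map _ = Spec.map _
  congr 2
  refine RingHom.ext fun x => ?_
  rw [mp_apply]
  ext <;> simp [LieS.scaleHom, TrivSqZeroExt.algebraMap_eq_inl', mul_comm]

theorem sq_zero_of_fst (x : TrivSqZeroExt B N) (hx : x.fst = 0) : x * x = 0 := by
  ext <;> simp [hx]

theorem mp_fst_surj :
    Function.Surjective (Spec.map (CommRingCat.ofHom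
      (R := TrivSqZeroExt B (B × B)) (S := TrivSqZeroExt B B) (mp B (LinearMap.fst B B B)))).base := by
  have h0 := @spec_surj_of_aug (TrivSqZeroExt B (B × B)) (TrivSqZeroExt B B) B _ _ _
    (mp B (LinearMap.fst B B B)) (TrivSqZeroExt.fstHom B B (B × B)).toRingHom
    (TrivSqZeroExt.fstHom B B B).toRingHom
  apply h0
  · refine RingHom.ext fun x => ?_
    change TrivSqZeroExt.fst (TrivSqZeroExt.map (LinearMap.fst B B B) x) = TrivSqZeroExt.fst x
    rw [TrivSqZeroExt.fst_map]
  · intro b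
    exact ⟨TrivSqZeroExt.inl b, TrivSqZeroExt.fst_inl (B × B) b⟩
  · intro x hx
    exact ⟨2, by rw [pow_two]; exact sq_zero_of_fst B x hx⟩

theorem mp_fst_snd_inj (x : TrivSqZeroExt B (B × B)) (h1 : mp B (LinearMap.fst B B B) x = 0)
    (h2 : mp B (LinearMap.snd B B B) x = 0) : x = 0 := by
  have e0 := congrArg TrivSqZeroExt.fst h1
  have e1 := congrArg TrivSqZeroExt.snd h1
  have e2 := congrArg TrivSqZeroExt.snd h2
  rw [mp_apply] at e0 e1 e2
  rw [TrivSqZeroExt.fst_map] at e0
  rw [TrivSqZeroExt.snd_map] at e1 e2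
  ext
  · exact e0
  · exact e1
  · exact e2

theorem spec_hom_ext_R2 {X : Scheme.{u}} (u1 u2 : Spec (CommRingCat.of (TrivSqZeroExt B (B × B))) ⟶ X)
    (h1 : Spec.map (CommRingCat.ofHom (R := TrivSqZeroExt B (B × B)) (S := TrivSqZeroExt B B)
        (mp B (LinearMap.fst B B B))) ≫ u1 =
      Spec.map (CommRingCat.ofHom (R := TrivSqZeroExt B (B × B)) (S := TrivSqZeroExt B B)
        (mp B (LinearMap.fst B B B))) ≫ u2)
    (h2 : Spec.map (CommRingCat.ofHom (R := TrivSqZeroExt B (B × B)) (S := TrivSqZeroExt B B)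
        (mp B (LinearMap.snd B B B))) ≫ u1 =
      Spec.map (CommRingCat.ofHom (R := TrivSqZeroExt B (B × B)) (S := TrivSqZeroExt B B)
        (mp B (LinearMap.snd B B B))) ≫ u2) : u1 = u2 := by
  have key := @spec_hom_ext (TrivSqZeroExt B (B × B)) (TrivSqZeroExt B B) (TrivSqZeroExt B B) _ _ _
    (mp B (LinearMap.fst B B B)) (mp B (LinearMap.snd B B B))
  have hs := mp_fst_surj B
  exact key hs (mp_fst_snd_inj B) u1 u2 h1 h2

theorem hom_ext_R2 {X : Over S} (w w' : apt B f (B × B) ⟶ X)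
    (h1 : amap B f (LinearMap.fst B B B) ≫ w = amap B f (LinearMap.fst B B B) ≫ w')
    (h2 : amap B f (LinearMap.snd B B B) ≫ w = amap B f (LinearMap.snd B B B) ≫ w') : w = w' := by
  apply Over.OverMorphism.ext
  have e1 : (amap B f (LinearMap.fst B B B)).left =
    Spec.map (CommRingCat.ofHom (mp B (LinearMap.fst B B B))) := rfl
  have e2 : (amap B f (LinearMap.snd B B B)).left =
    Spec.map (CommRingCat.ofHom (mp B (LinearMap.snd B B B))) := rfl
  have hl1 := congrArg Over.Hom.left h1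
  have hl2 := congrArg Over.Hom.left h2
  rw [Over.comp_left, Over.comp_left, e1] at hl1
  rw [Over.comp_left, Over.comp_left, e2] at hl2
  exact spec_hom_ext_R2 B w.left w'.left hl1 hl2

theorem amap_zero_comp {X : Over S} [MonObj X] (u : apt B f B ⟶ X)
    (hu : azero B f ≫ u = 1) :
    amap B f (0 : B →ₗ[B] N) ≫ u = 1 := by
  rw [amap_zero, Category.assoc, hu, MonObj.comp_one]

/-- additivity of the scalar action w.r.t. the monoid law, for points of a monoid scheme over the dual
numbers restricting to the unit section -/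
theorem amap_smul_mul_smul {X : Over S} [MonObj X] (u : apt B f B ⟶ X)
    (hu : azero B f ≫ u = 1) (a b : B) :
    (amap B f (a • LinearMap.id : B →ₗ[B] B) ≫ u) * (amap B f (b • LinearMap.id : B →ₗ[B] B) ≫ u) =
      amap B f ((a + b) • LinearMap.id : B →ₗ[B] B) ≫ u := by
  have key : amap B f (LinearMap.prod (a • LinearMap.id : B →ₗ[B] B) (b • LinearMap.id : B →ₗ[B] B)) ≫ u =
      (amap B f ((LinearMap.inl B B B).comp (a • LinearMap.id : B →ₗ[B] B)) ≫ u) *
      (amap B f ((LinearMap.inr B B B).comp (b • LinearMap.id : B →ₗ[B] B)) ≫ u) := by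
    apply hom_ext_R2
    · rw [MonObj.comp_mul, ← Category.assoc, ← Category.assoc, ← Category.assoc, amap_comp, amap_comp,
        amap_comp]
      have e1 : (LinearMap.fst B B B).comp (LinearMap.prod (a • LinearMap.id : B →ₗ[B] B)
          (b • LinearMap.id : B →ₗ[B] B)) = (a • LinearMap.id : B →ₗ[B] B) := by
        ext; simp
      have e2 : (LinearMap.fst B B B).comp ((LinearMap.inl B B B).comp (a • LinearMap.id : B →ₗ[B] B)) =
          (a • LinearMap.id : B →ₗ[B] B) := by
        ext; simp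
      have e3 : (LinearMap.fst B B B).comp ((LinearMap.inr B B B).comp (b • LinearMap.id : B →ₗ[B] B)) =
          (0 : B →ₗ[B] B) := by
        ext; simp
      rw [e1, e2, e3, amap_zero_comp B f u hu, _root_.mul_one]
    · rw [MonObj.comp_mul, ← Category.assoc, ← Category.assoc, ← Category.assoc, amap_comp, amap_comp,
        amap_comp]
      have e1 : (LinearMap.snd B B B).comp (LinearMap.prod (a • LinearMap.id : B →ₗ[B] B)
          (b • LinearMap.id : B →ₗ[B] B)) = (b • LinearMap.id : B →ₗ[B] B) := by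
        ext; simp
      have e2 : (LinearMap.snd B B B).comp ((LinearMap.inl B B B).comp (a • LinearMap.id : B →ₗ[B] B)) =
          (0 : B →ₗ[B] B) := by
        ext; simp
      have e3 : (LinearMap.snd B B B).comp ((LinearMap.inr B B B).comp (b • LinearMap.id : B →ₗ[B] B)) =
          (b • LinearMap.id : B →ₗ[B] B) := by
        ext; simp
      rw [e1, e2, e3, amap_zero_comp B f u hu, _root_.one_mul]
  have key2 := congrArg (fun t => amap B f (LinearMap.coprod (LinearMap.id : B →ₗ[B] B)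
    (LinearMap.id : B →ₗ[B] B)) ≫ t) key
  simp only [MonObj.comp_mul] at key2
  rw [← Category.assoc, ← Category.assoc, ← Category.assoc, amap_comp, amap_comp, amap_comp] at key2
  have e1 : (LinearMap.coprod (LinearMap.id : B →ₗ[B] B) (LinearMap.id : B →ₗ[B] B)).comp
      (LinearMap.prod (a • LinearMap.id : B →ₗ[B] B) (b • LinearMap.id : B →ₗ[B] B)) =
      ((a + b) • LinearMap.id : B →ₗ[B] B) := by
    ext; simp
  have e2 : (LinearMap.coprod (LinearMap.id : B →ₗ[B] B) (LinearMap.id : B →ₗ[B] B)).comp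
      ((LinearMap.inl B B B).comp (a • LinearMap.id : B →ₗ[B] B)) = (a • LinearMap.id : B →ₗ[B] B) := by
    ext; simp
  have e3 : (LinearMap.coprod (LinearMap.id : B →ₗ[B] B) (LinearMap.id : B →ₗ[B] B)).comp
      ((LinearMap.inr B B B).comp (b • LinearMap.id : B →ₗ[B] B)) = (b • LinearMap.id : B →ₗ[B] B) := by
    ext; simp
  rw [e1, e2, e3] at key2
  exact key2.symm

/-- (P): `(a • u) * (b • u) = (a + b) • u` -/
theorem scale_mul_scale {X : Over S} [MonObj X] (u : LieS.dpt B f ⟶ X)
    (hu : LieS.zeroSec B f ≫ u = 1) (a b : B) :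
    (LieS.scale B f a ≫ u) * (LieS.scale B f b ≫ u) = LieS.scale B f (a + b) ≫ u := by
  rw [scale_eq, scale_eq, scale_eq]
  exact amap_smul_mul_smul B f u hu a b

theorem scale_one {X : Over S} (u : LieS.dpt B f ⟶ X) : LieS.scale B f 1 ≫ u = u := by
  rw [scale_eq, one_smul, amap_id]
  exact Category.id_comp u

theorem scale_zero {X : Over S} [MonObj X] (u : LieS.dpt B f ⟶ X)
    (hu : LieS.zeroSec B f ≫ u = 1) : LieS.scale B f 0 ≫ u = 1 := by
  rw [scale_eq, zero_smul]
  exact amap_zero_comp B f u hu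

end

end Groth.Agent.Lib.Helper47.LieTan
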