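import Mathlib.AlgebraicGeometry.Morphisms.QuasiCompact
import Mathlib.RingTheory.Spectrum.Prime.RingHom
import Mathlib.Tactic

set_option autoImplicit false
universe u
open CategoryTheory CategoryTheory.Limits AlgebraicGeometry Opposite

namespace Groth.Agent.Lib.Helper47.QcSep

lemma exists_sep {B R : Type*} [CommRing B] [CommRing R] (φ : B →+* R) (q : PrimeSpectrum B)
    (hq : q ∉ Set.range (PrimeSpectrum.comap φ)) :
    ∃ s : B, s ∉ q.asIdeal ∧
      ∀ p : PrimeSpectrum R, q.asIdeal ≤ (PrimeSpectrum.comap φ p).asIdeal →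
        s ∈ (PrimeSpectrum.comap φ p).asIdeal := by
  rw [PrimeSpectrum.mem_range_comap_iff] at hq
  have hle : q.asIdeal ≤ (q.asIdeal.map φ).comap φ := Ideal.le_comap_map
  have hlt : ¬ ((q.asIdeal.map φ).comap φ ≤ q.asIdeal) := fun h => hq (le_antisymm h hle)
  obtain ⟨s, hs1, hs2⟩ := Set.not_subset.mp hlt
  refine ⟨s, hs2, fun p hp => ?_⟩
  have h1 : q.asIdeal.map φ ≤ p.asIdeal := Ideal.map_le_iff_le_comap.mpr hp
  exact h1 hs1


lemma exists_open_sep {X Y : Scheme.{u}} (g : X ⟶ Y) [QuasiCompact g] (y : Y)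
    (hy : y ∉ Set.range g.base) :
    ∃ U : Y.Opens, y ∈ U ∧ ∀ x : X, g.base x ∈ U → ¬ (y ⤳ g.base x) := by
  obtain ⟨_, ⟨U₀, hU₀, rfl⟩, hyU₀, -⟩ :=
    Y.isBasis_affineOpens.exists_subset_of_mem_open (Set.mem_univ y) isOpen_univ
  replace hU₀ : IsAffineOpen U₀ := hU₀
  have hc : IsCompact ((g ⁻¹ᵁ U₀ : X.Opens) : Set X) :=
    QuasiCompact.isCompact_preimage (f := g) _ U₀.isOpen hU₀.isCompact
  obtain ⟨R, f, hf⟩ := isCompact_iff_exists.mp hc
  have hrange : Set.range (f ≫ g).base ⊆ Set.range hU₀.fromSpec.base := by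
    rw [hU₀.range_fromSpec]
    rintro _ ⟨r, rfl⟩
    have : f.base r ∈ ((g ⁻¹ᵁ U₀ : X.Opens) : Set X) := hf ▸ ⟨r, rfl⟩
    exact this
  let h : Spec R ⟶ Spec Γ(Y, U₀) := IsOpenImmersion.lift hU₀.fromSpec (f ≫ g) hrange
  have hh : h ≫ hU₀.fromSpec = f ≫ g := IsOpenImmersion.lift_fac _ _ _
  obtain ⟨φ, hφ⟩ : ∃ φ, Spec.map φ = h := ⟨Spec.preimage h, Spec.map_preimage h⟩
  let q := hU₀.primeIdealOf ⟨y, hyU₀⟩
  have hq : hU₀.fromSpec.base q = y := hU₀.fromSpec_primeIdealOf ⟨y, hyU₀⟩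
  have hcomp : ∀ r : Spec R, hU₀.fromSpec.base (h.base r) = g.base (f.base r) := by
    intro r
    have := congrArg (fun k => k.base r) hh
    exact this
  have hqr : q ∉ Set.range (PrimeSpectrum.comap φ.hom) := by
    rintro ⟨r, hr⟩
    apply hy
    refine ⟨f.base r, ?_⟩
    rw [← hcomp r, ← hq]
    congr 1
    rw [← hφ]
    exact hr
  obtain ⟨s, hs1, hs2⟩ := exists_sep φ.hom q hqr
  have hpre : ∀ p : Spec Γ(Y, U₀), hU₀.fromSpec.base p ∈ Y.basicOpen s ↔ s ∉ p.asIdeal := by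
    intro p
    have h1 := hU₀.fromSpec_preimage_basicOpen s
    have h2 : p ∈ (hU₀.fromSpec ⁻¹ᵁ Y.basicOpen s) ↔ p ∈ PrimeSpectrum.basicOpen s := by
      rw [h1]
      exact Iff.rfl
    exact h2
  refine ⟨Y.basicOpen s, ?_, ?_⟩
  · rw [← hq]
    exact (hpre q).mpr hs1
  · intro x hx hspec
    have hx0 : g.base x ∈ U₀ := Y.basicOpen_le s hx
    have hxr : x ∈ Set.range f.base := by
      rw [hf]
      exact hx0
    obtain ⟨r, rfl⟩ := hxr
    rw [← hcomp r] at hx hspec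
    rw [← hq] at hspec
    have h3 : q ⤳ h.base r :=
      (hU₀.fromSpec.isOpenEmbedding.isInducing.specializes_iff).mp hspec
    have h4 : q ≤ h.base r := (PrimeSpectrum.le_iff_specializes _ _).mpr h3
    have h5 : s ∈ (h.base r).asIdeal := by
      have := hs2 r (by
        intro b hb
        have := h4 hb
        rw [← hφ] at this
        exact this)
      rw [← hφ]
      exact this
    exact (hpre _).mp hx h5

end Groth.Agent.Lib.Helper47.QcSep
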