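import Groth.Agent.Lib.Helper47.SecPullDesc
import Groth.Agent.Lib.Helper47.QcSep
import Groth.Agent.Lib.Helper4.LocConstEt
import Groth.Prelude.Def_EtAcyc

set_option autoImplicit false
universe u
open CategoryTheory CategoryTheory.Limits AlgebraicGeometry Opposite
open EtDesc

namespace Groth.Agent.Lib.Helper47.MinusOne

open Groth.Agent.Lib.Helper47.SecPullBC

/-- the constant sheaf of sets with value `Bool`. -/
noncomputable abbrev cB (T : Scheme.{u}) : Sh T :=
  (constantSheaf T.smallEtaleTopology (Type (u + 1))).obj (ULift.{u + 1} Bool)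

/-- constant sections -/
noncomputable def cb (T : Scheme.{u}) (W : T.Etale) (b : Bool) : (cB T).obj.obj (op W) :=
  (toSheafify T.smallEtaleTopology ((Functor.const _).obj (ULift.{u + 1} Bool))).app (op W)
    (ULift.up b)

lemma cb_ne (T : Scheme.{u}) (W : T.Etale) [hW : Nonempty W.left] :
    cb T W true ≠ cb T W false := by
  intro h
  have hmem := Presheaf.equalizerSieve_mem (D := Type (u + 1)) T.smallEtaleTopology
    (toSheafify T.smallEtaleTopology ((Functor.const _).obj (ULift.{u + 1} Bool)))
    (X := op W) (ULift.up true : ULift.{u + 1} Bool) (ULift.up false : ULift.{u + 1} Bool) h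
  have hbot : (⊥ : Sieve W) ∈ T.smallEtaleTopology W := by
    refine T.smallEtaleTopology.superset_covering ?_ hmem
    intro Z g hg
    have : (ULift.up true : ULift.{u + 1} Bool) = ULift.up false := hg
    simp at this
  have := (Groth.Agent.Lib.Helper4.LocConst.bot_mem_iff W).1 hbot
  exact this.false hW.some


lemma range_of_isPullback {A B C D : Scheme.{u}} {L : A ⟶ B} {p : A ⟶ C} {q : B ⟶ D} {r : C ⟶ D}
    (hpb : IsPullback L p q r) (z : B) (hz : q.base z ∈ Set.range r.base) :
    z ∈ Set.range L.base := by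
  obtain ⟨w, hw⟩ := hz
  obtain ⟨c, hc1, -⟩ := Scheme.Pullback.exists_preimage_pullback (f := q) (g := r) z w hw.symm
  refine ⟨hpb.isoPullback.inv.base c, ?_⟩
  have := congrArg (fun k => k.base c) hpb.isoPullback_inv_fst
  exact this.trans hc1

lemma isIso_etale_of_left {Z : Scheme.{u}} {A B : Z.Etale} (m : A ⟶ B) [IsIso m.left] : IsIso m := by
  have : IsIso ((Scheme.Etale.forget Z ⋙ Over.forget Z).map m) := by
    show IsIso m.left
    infer_instance
  exact isIso_of_reflects_iso m (Scheme.Etale.forget Z ⋙ Over.forget Z)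

set_option backward.isDefEq.respectTransparency.types false in
lemma not_mono_unit {V Xp T : Scheme.{u}} (g' : Xp ⟶ V) (i : T ⟶ V) [Nonempty T] (Wo : V.Opens)
    (hg : Set.range g'.base ⊆ (Wo : Set V)) (hi : Disjoint (Set.range i.base) (Wo : Set V)) :
    ¬ Mono ((adjSh g').unit.app ((pushSh i).obj (cB T))) := by
  intro hm
  let W : V.Etale := Scheme.Etale.mk Wo.ι
  let m : W ⟶ EtCoh.top V := (EtCore.topIsTerminal V).from W
  have hml : m.left = Wo.ι := by
    have h1 : m.left ≫ 𝟙 V = Wo.ι := Over.w m.hom
    exact (Category.comp_id _).symm.trans h1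
  have hpb := EtCoh.isPullback_bc_map g' m
  have hopen : IsOpenImmersion ((EtCoh.bc g').map m).left := by
    have h00 : IsOpenImmersion Wo.ι := inferInstance
    have h0 : IsOpenImmersion m.left := by rw [hml]; exact h00
    exact MorphismProperty.of_isPullback (P := @IsOpenImmersion) hpb.flip h0
  have hsurj : Surjective ((EtCoh.bc g').map m).left := by
    constructor
    intro z
    apply range_of_isPullback hpb z
    rw [hml]
    have hr : Set.range Wo.ι.base = (Wo : Set V) := Scheme.Opens.range_ι Wo
    refine hr.symm ▸ ?_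
    apply hg
    refine ⟨(pullback.snd (EtCoh.top V).hom g').base z, ?_⟩
    have h2 := congrArg (fun k => k.base z)
      (pullback.condition (f := (EtCoh.top V).hom) (g := g'))
    exact h2.symm
  have hisoL : IsIso ((EtCoh.bc g').map m).left :=
    (isIso_iff_isOpenImmersion_and_surjective _).mpr ⟨hopen, hsurj⟩
  have hiso : IsIso ((EtCoh.bc g').map m) := isIso_etale_of_left _
  let F : Sh V := (pushSh i).obj (cB T)
  have hne : Nonempty ((EtCoh.bc i).obj (EtCoh.top V)).left := by
    obtain ⟨t⟩ := ‹Nonempty T›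
    obtain ⟨c, -, -⟩ := Scheme.Pullback.exists_preimage_pullback (f := (EtCoh.top V).hom) (g := i)
      (i.base t) t rfl
    exact ⟨c⟩
  have hemp : IsEmpty ((EtCoh.bc i).obj W).left := by
    constructor
    intro z
    have h2 := congrArg (fun k => k.base z) (pullback.condition (f := W.hom) (g := i))
    have h3 : (W.hom.base ((pullback.fst W.hom i).base z)) ∈ (Wo : Set V) :=
      ((pullback.fst W.hom i).base z).2
    have h4 : W.hom.base ((pullback.fst W.hom i).base z) ∈ Set.range i.base := ⟨_, h2.symm⟩
    exact Set.disjoint_left.mp hi h4 h3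
  let f : Bool → F.obj.obj (op (EtCoh.top V)) :=
    fun b => cb T ((EtCoh.bc i).obj (EtCoh.top V)) b
  have hf : f true ≠ f false := cb_ne T _
  have h1 : F.obj.map m.op (f true) = F.obj.map m.op (f false) := by
    obtain ⟨uq⟩ := Groth.Agent.Lib.Helper57.StalkSets.unique_sect_of_isEmpty (cB T)
      ((EtCoh.bc i).obj W)
    exact (uq.eq_default _).trans (uq.default_eq _)
  have h2 : ∀ x : F.obj.obj (op (EtCoh.top V)),
      ((pullSh g').obj F).obj.map ((EtCoh.bc g').map m).op
        (((adjSh g').unit.app F).hom.app (op (EtCoh.top V)) x) =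
      ((adjSh g').unit.app F).hom.app (op W) (F.obj.map m.op x) := fun x =>
    (NatTrans.naturality_apply ((adjSh g').unit.app F).hom m.op x).symm
  have hinj := (map_iso_hom_bijective ((pullSh g').obj F) (asIso ((EtCoh.bc g').map m))).1
  have h3 : ((adjSh g').unit.app F).hom.app (op (EtCoh.top V)) (f true) =
      ((adjSh g').unit.app F).hom.app (op (EtCoh.top V)) (f false) := by
    apply hinj
    show ((pullSh g').obj F).obj.map ((EtCoh.bc g').map m).op _ =
      ((pullSh g').obj F).obj.map ((EtCoh.bc g').map m).op _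
    rw [h2, h2, h1]
  exact hf (app_injective_of_mono _ _ h3)


theorem minusOne_of_surjective {X Y : Scheme.{u}} (g : X ⟶ Y)
    (hs : Function.Surjective g.base) : EtAcyc.IsMinusOneAcyclic g := by
  intro V F
  have : Surjective g := ⟨hs⟩
  have : Surjective (EtAcyc.prj g V) := by
    unfold EtAcyc.prj
    infer_instance
  have : (pullSh (EtAcyc.prj g V)).Faithful :=
    Groth.Agent.Lib.Helper57.StalkSets.pullSh_faithful _
  exact Adjunction.unit_mono_of_L_faithful _ F

set_option backward.isDefEq.respectTransparency.types false in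
theorem surjective_of_minusOne {X Y : Scheme.{u}} (g : X ⟶ Y) [QuasiCompact g]
    (h : EtAcyc.IsMinusOneAcyclic g) : Function.Surjective g.base := by
  by_contra hns
  obtain ⟨y, hy⟩ : ∃ y, y ∉ Set.range g.base := by
    by_contra hall
    exact hns (fun y => by
      by_contra hy
      exact hall ⟨y, hy⟩)
  obtain ⟨U, hyU, hsep⟩ := Groth.Agent.Lib.Helper47.QcSep.exists_open_sep g y hy
  let V₁ : Y.Etale := Scheme.Etale.mk U.ι
  let y₁ : U.toScheme := ⟨y, hyU⟩
  let i : Spec (U.toScheme.residueField y₁) ⟶ U.toScheme := U.toScheme.fromSpecResidueField y₁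
  let Wo : U.toScheme.Opens := ⟨(closure {y₁})ᶜ, isClosed_closure.isOpen_compl⟩
  have hg : Set.range (EtAcyc.prj g V₁).base ⊆ (Wo : Set U.toScheme) := by
    rintro _ ⟨z, rfl⟩
    show _ ∉ closure {y₁}
    intro hcl
    have hspec : y₁ ⤳ (EtAcyc.prj g V₁).base z := specializes_iff_mem_closure.mpr hcl
    have hspec' : U.ι.base y₁ ⤳ U.ι.base ((EtAcyc.prj g V₁).base z) :=
      hspec.map U.ι.continuous
    have hc := congrArg (fun k => k.base z) (pullback.condition (f := V₁.hom) (g := g))
    have hin : g.base ((pullback.snd V₁.hom g).base z) ∈ U := by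
      have h5 : U.ι.base ((EtAcyc.prj g V₁).base z) ∈ U := ((EtAcyc.prj g V₁).base z).2
      exact hc ▸ h5
    apply hsep _ hin
    exact hc ▸ hspec'
  have hi : Disjoint (Set.range i.base) (Wo : Set U.toScheme) := by
    rw [Scheme.range_fromSpecResidueField, Set.disjoint_singleton_left]
    intro hmem
    exact hmem (subset_closure rfl)
  exact not_mono_unit (EtAcyc.prj g V₁) i Wo hg hi (h V₁ _)

end Groth.Agent.Lib.Helper47.MinusOne
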