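import Mathlib

set_option autoImplicit false
universe u
open CategoryTheory CategoryTheory.Limits AlgebraicGeometry

namespace Groth.Agent.Lib.Helper47.NeronUnqFC

set_option backward.isDefEq.respectTransparency.types false in
/-- a point closed in its fibre has finite residue field extension (second half of
`Helper37.ContrFIB.finite_residueFieldMap_of_isClosed`). -/
theorem finite_residueFieldMap_of_isClosed_asFiber {X S : Scheme.{u}} (f : X ⟶ S)
    [LocallyOfFiniteType f] (x : X) (hcl : IsClosed ({f.asFiber x} : Set (f.fiber (f x)))) :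
    (f.residueFieldMap x).hom.Finite := by
  have : IsClosedImmersion (f.asFiberHom x) :=
    .of_isPreimmersion _ (by rw [f.range_asFiberHom]; exact hcl)
  have : LocallyOfFiniteType (f.fiberToSpecResidueField (f x)) :=
    MorphismProperty.pullback_snd _ _ inferInstance
  have h2 : IsFinite (f.asFiberHom x ≫ f.fiberToSpecResidueField (f x)) :=
    (isFinite_iff_locallyOfFiniteType_of_jacobsonSpace
      (f := f.asFiberHom x ≫ f.fiberToSpecResidueField (f x))).mpr inferInstance
  rw [f.asFiberHom_fiberToSpecResidueField, IsFinite.SpecMap_iff] at h2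
  exact h2

theorem isClosed_transport {X S : Scheme.{u}} (f : X ⟶ S) (s₁ s₂ : S) (h : s₁ = s₂)
    (c₁ : f.fiber s₁) (c₂ : f.fiber s₂) (hc : f.fiberι s₁ c₁ = f.fiberι s₂ c₂)
    (h2 : IsClosed ({c₂} : Set (f.fiber s₂))) : IsClosed ({c₁} : Set (f.fiber s₁)) := by
  subst h
  have : c₁ = c₂ := (f.fiberι _).isEmbedding.injective hc
  rw [this]; exact h2

theorem exists_mem_finite_residueFieldMap {Z S : Scheme.{u}} (q : Z ⟶ S) [LocallyOfFiniteType q]
    (C : Set Z) (hC : IsClosed C) (hne : C.Nonempty) :
    ∃ c ∈ C, (q.residueFieldMap c).hom.Finite := by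
  obtain ⟨z, hz⟩ := hne
  have hC' : IsClosed ((q.fiberι (q z)) ⁻¹' C) := hC.preimage (q.fiberι (q z)).continuous
  have hne' : ((q.fiberι (q z)) ⁻¹' C).Nonempty :=
    ⟨q.asFiber z, by rw [Set.mem_preimage, q.fiberι_asFiber z]; exact hz⟩
  obtain ⟨c', hc'C, hc'cl⟩ := nonempty_inter_closedPoints hne' hC'.isLocallyClosed
  have hcl : IsClosed ({c'} : Set (q.fiber (q z))) := hc'cl
  refine ⟨q.fiberι (q z) c', hc'C, ?_⟩
  have hs : q (q.fiberι (q z) c') = q z := by
    have : q.fiberι (q z) c' ∈ Set.range (q.fiberι (q z)) := ⟨c', rfl⟩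
    rw [q.range_fiberι] at this
    exact this
  apply finite_residueFieldMap_of_isClosed_asFiber
  exact isClosed_transport q _ _ hs _ c' (q.fiberι_asFiber _) hcl

end Groth.Agent.Lib.Helper47.NeronUnqFC
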