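import Mathlib

/-!
# Picard groups of polynomial rings over integrally closed domains

* `coeff_mul_coeff_mem_valuationSubring`: Gauss' lemma over a valuation subring.
* `coeff_mul_coeff_mem_range`: Kronecker's theorem for an integrally closed domain `A` with
  fraction field `K`: if `f * g ∈ A[X]` for `f g : K[X]`, then all `f_i * g_j ∈ A`.
* `exists_extended'`: every invertible `A[X]`-module is extended from an invertible `A`-module
  (`A` an integrally closed domain).
* `mapAlgebra_surjective`: `Pic A → Pic A[X]` is surjective.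
* `mapRingHom_evalRingHom_eq`: all evaluations `A[X] → A` induce the same map on `Pic`.
-/

set_option autoImplicit false

open Polynomial TensorProduct

namespace Groth.Agent.Lib.Helper47.PicPoly

universe u

section Val

variable {K : Type*} [Field K]

/-- A nonzero polynomial over `K` can be scaled so that all coefficients lie in `V` and one of them
is `1`. -/
theorem exists_max_coeff (V : ValuationSubring K) (f : K[X]) (hf : f ≠ 0) :
    ∃ i₀, f.coeff i₀ ≠ 0 ∧ ∀ i, V.valuation (f.coeff i) ≤ V.valuation (f.coeff i₀) := by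
  have hne : f.support.Nonempty := by
    rwa [Finset.nonempty_iff_ne_empty, Ne, Polynomial.support_eq_empty]
  obtain ⟨i₀, hi₀, hmax⟩ := Finset.exists_max_image f.support
    (fun i => V.valuation (f.coeff i)) hne
  refine ⟨i₀, Polynomial.mem_support_iff.mp hi₀, fun i => ?_⟩
  by_cases hi : i ∈ f.support
  · exact hmax i hi
  · rw [Polynomial.notMem_support_iff.mp hi, map_zero]
    exact zero_le

/-- Core of Gauss' lemma: two polynomials with coefficients of valuation `≤ 1`, each having a
coefficient of valuation `1`, have a product with some coefficient of valuation `1`. -/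
theorem exists_coeff_mul_valuation_eq_one (V : ValuationSubring K) (f g : K[X])
    (hf : ∀ i, V.valuation (f.coeff i) ≤ 1) (hg : ∀ i, V.valuation (g.coeff i) ≤ 1)
    (hf1 : ∃ i, V.valuation (f.coeff i) = 1) (hg1 : ∃ i, V.valuation (g.coeff i) = 1) :
    ∃ n, V.valuation ((f * g).coeff n) = 1 := by
  classical
  let i₁ := Nat.find hf1
  let j₁ := Nat.find hg1
  have hi₁ : V.valuation (f.coeff i₁) = 1 := Nat.find_spec hf1
  have hj₁ : V.valuation (g.coeff j₁) = 1 := Nat.find_spec hg1
  have hi_lt : ∀ i, i < i₁ → V.valuation (f.coeff i) < 1 := fun i hi =>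
    lt_of_le_of_ne (hf i) (Nat.find_min hf1 hi)
  have hj_lt : ∀ j, j < j₁ → V.valuation (g.coeff j) < 1 := fun j hj =>
    lt_of_le_of_ne (hg j) (Nat.find_min hg1 hj)
  refine ⟨i₁ + j₁, ?_⟩
  rw [Polynomial.coeff_mul]
  have hmem : (i₁, j₁) ∈ Finset.HasAntidiagonal.antidiagonal (i₁ + j₁) := by simp
  rw [← Finset.add_sum_erase _ _ hmem]
  have hrest : V.valuation (∑ x ∈ (Finset.HasAntidiagonal.antidiagonal (i₁ + j₁)).erase (i₁, j₁),
      f.coeff x.1 * g.coeff x.2) < 1 := by
    apply Valuation.map_sum_lt _ one_ne_zero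
    rintro ⟨i, j⟩ hx
    rw [Finset.mem_erase, Finset.HasAntidiagonal.mem_antidiagonal] at hx
    obtain ⟨hne, hsum⟩ := hx
    rw [map_mul]
    rcases lt_trichotomy i i₁ with h | h | h
    · calc V.valuation (f.coeff i) * V.valuation (g.coeff j)
          ≤ V.valuation (f.coeff i) * 1 := by gcongr; exact hg j
        _ < 1 := by rw [mul_one]; exact hi_lt i h
    · exfalso; apply hne; simp only at hsum h ⊢; subst h; congr 1; omega
    · have hj : j < j₁ := by simp only at hsum; omega
      calc V.valuation (f.coeff i) * V.valuation (g.coeff j)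
          ≤ 1 * V.valuation (g.coeff j) := by gcongr; exact hf i
        _ < 1 := by rw [one_mul]; exact hj_lt j hj
  have hmain : V.valuation (f.coeff i₁ * g.coeff j₁) = 1 := by
    rw [map_mul, hi₁, hj₁, one_mul]
  rw [Valuation.map_add_eq_of_lt_left, hmain]
  rw [hmain]; exact hrest

/-- **Gauss' lemma** for a valuation subring `V` of a field `K`: if `f * g` has coefficients in `V`
then so do all the products of a coefficient of `f` with a coefficient of `g`. -/
theorem coeff_mul_coeff_mem_valuationSubring (V : ValuationSubring K) (f g : K[X])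
    (h : ∀ n, (f * g).coeff n ∈ V) (i j : ℕ) : f.coeff i * g.coeff j ∈ V := by
  by_cases hf0 : f = 0
  · rw [hf0]; simp [V.zero_mem]
  by_cases hg0 : g = 0
  · rw [hg0]; simp [V.zero_mem]
  obtain ⟨i₀, ha, hfmax⟩ := exists_max_coeff V f hf0
  obtain ⟨j₀, hb, hgmax⟩ := exists_max_coeff V g hg0
  set a := f.coeff i₀ with ha_def
  set b := g.coeff j₀ with hb_def
  have hva : V.valuation a ≠ 0 := (Valuation.ne_zero_iff _).mpr ha
  have hvb : V.valuation b ≠ 0 := (Valuation.ne_zero_iff _).mpr hb
  -- it suffices to show `a * b ∈ V`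
  suffices hab : V.valuation (a * b) ≤ 1 by
    rw [← ValuationSubring.valuation_le_one_iff, map_mul]
    calc V.valuation (f.coeff i) * V.valuation (g.coeff j)
        ≤ V.valuation a * V.valuation b := mul_le_mul' (hfmax i) (hgmax j)
      _ = V.valuation (a * b) := (map_mul _ _ _).symm
      _ ≤ 1 := hab
  by_contra hab
  rw [not_le] at hab
  -- scaled polynomials
  have hf' : ∀ i, V.valuation ((C a⁻¹ * f).coeff i) ≤ 1 := fun i => by
    rw [coeff_C_mul, map_mul, map_inv₀]
    rw [inv_mul_le_iff₀ (zero_lt_iff.mpr hva), mul_one]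
    exact hfmax i
  have hg' : ∀ i, V.valuation ((C b⁻¹ * g).coeff i) ≤ 1 := fun i => by
    rw [coeff_C_mul, map_mul, map_inv₀]
    rw [inv_mul_le_iff₀ (zero_lt_iff.mpr hvb), mul_one]
    exact hgmax i
  have hf1 : ∃ i, V.valuation ((C a⁻¹ * f).coeff i) = 1 :=
    ⟨i₀, by rw [coeff_C_mul, ← ha_def, inv_mul_cancel₀ ha, map_one]⟩
  have hg1 : ∃ i, V.valuation ((C b⁻¹ * g).coeff i) = 1 :=
    ⟨j₀, by rw [coeff_C_mul, ← hb_def, inv_mul_cancel₀ hb, map_one]⟩
  obtain ⟨n, hn⟩ := exists_coeff_mul_valuation_eq_one V _ _ hf' hg' hf1 hg1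
  have heq : C a⁻¹ * f * (C b⁻¹ * g) = C (a * b)⁻¹ * (f * g) := by
    rw [mul_inv, C_mul]; ring
  rw [heq, coeff_C_mul, map_mul, map_inv₀] at hn
  have h1 : V.valuation ((f * g).coeff n) ≤ 1 :=
    (ValuationSubring.valuation_le_one_iff V _).mpr (h n)
  have hvab : V.valuation (a * b) ≠ 0 := by
    rw [map_mul]; exact mul_ne_zero hva hvb
  rw [inv_mul_eq_one₀ hvab] at hn
  rw [hn] at hab
  exact absurd h1 (not_le.mpr hab)

end Val

theorem isIntegrallyClosedIn_range {A K : Type*} [CommRing A] [IsDomain A] [Field K] [Algebra A K]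
    [IsFractionRing A K] [IsIntegrallyClosed A] :
    IsIntegrallyClosedIn (algebraMap A K).range K := by
  have hA : IsIntegrallyClosedIn A K := (isIntegrallyClosed_iff_isIntegrallyClosedIn K).mp ‹_›
  let _ : Algebra A (algebraMap A K).range := (algebraMap A K).rangeRestrict.toAlgebra
  have : IsScalarTower A (algebraMap A K).range K := IsScalarTower.of_algebraMap_eq (fun x => rfl)
  have : Algebra.IsIntegral A (algebraMap A K).range :=
    Algebra.isIntegral_of_surjective (algebraMap A K).rangeRestrict_surjective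
  rw [isIntegrallyClosedIn_iff]
  refine ⟨Subtype.val_injective, fun {x} hx => ?_⟩
  have hx' : IsIntegral A x := isIntegral_trans x hx
  obtain ⟨y, hy⟩ := (isIntegrallyClosedIn_iff.mp hA).2 hx'
  exact ⟨⟨x, y, hy⟩, rfl⟩

theorem coeff_mul_coeff_mem_range {A K : Type*} [CommRing A] [IsDomain A] [Field K] [Algebra A K]
    [IsFractionRing A K] [IsIntegrallyClosed A] (f g : K[X])
    (h : ∀ n, (f * g).coeff n ∈ (algebraMap A K).range) (i j : ℕ) :
    f.coeff i * g.coeff j ∈ (algebraMap A K).range := by
  haveI := isIntegrallyClosedIn_range (A := A) (K := K)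
  have key := Subring.eq_iInf_of_isIntegrallyClosedIn (R := (algebraMap A K).range)
  rw [SetLike.ext_iff.mp key, Subring.mem_iInf]
  rintro ⟨V, hV⟩
  exact coeff_mul_coeff_mem_valuationSubring V f g (fun n => hV (h n)) i j

section Content

variable {A K : Type*} [CommRing A] [Field K] [Algebra A K]

attribute [local instance] Polynomial.algebra

/-- Polynomials over `K` all of whose coefficients lie in the `A`-submodule `c`. -/
def ext (c : Submodule A K) : Submodule A[X] K[X] where
  carrier := {f | ∀ n, f.coeff n ∈ c}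
  add_mem' := by
    intro f g hf hg n
    rw [coeff_add]; exact c.add_mem (hf n) (hg n)
  zero_mem' := by intro n; simp
  smul_mem' := by
    intro p f hf n
    rw [Algebra.smul_def, Polynomial.algebraMap_def, coe_mapRingHom, coeff_mul]
    refine c.sum_mem fun x _ => ?_
    rw [coeff_map, ← Algebra.smul_def]
    exact c.smul_mem _ (hf _)

theorem mem_ext {c : Submodule A K} {f : K[X]} : f ∈ ext c ↔ ∀ n, f.coeff n ∈ c := Iff.rfl

/-- The `A`-submodule of `K` generated by the coefficients of the elements of `I`. -/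
def cont (I : Submodule A[X] K[X]) : Submodule A K :=
  Submodule.span A {x | ∃ f ∈ I, ∃ n, f.coeff n = x}

theorem coeff_mem_cont {I : Submodule A[X] K[X]} {f : K[X]} (hf : f ∈ I) (n : ℕ) :
    f.coeff n ∈ cont I := Submodule.subset_span ⟨f, hf, n, rfl⟩

theorem le_ext_cont (I : Submodule A[X] K[X]) : I ≤ ext (cont I) :=
  fun _ hf n => coeff_mem_cont hf n

theorem ext_mono {c c' : Submodule A K} (h : c ≤ c') : ext c ≤ ext c' :=
  fun _ hf n => h (hf n)

theorem ext_mul_le (c c' : Submodule A K) : ext c * ext c' ≤ ext (c * c') := by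
  rw [Submodule.mul_le]
  intro f hf g hg n
  rw [coeff_mul]
  exact Submodule.sum_mem _ fun x _ => Submodule.mul_mem_mul (hf _) (hg _)

theorem ext_one : ext (1 : Submodule A K) = 1 := by
  ext f
  rw [mem_ext, Submodule.mem_one]
  constructor
  · intro h
    have : f ∈ Polynomial.lifts (algebraMap A K) := by
      rw [Polynomial.lifts_iff_coeff_lifts]
      intro n
      obtain ⟨y, hy⟩ := Submodule.mem_one.mp (h n)
      exact ⟨y, hy⟩
    obtain ⟨p, hp⟩ := (Polynomial.mem_lifts f).mp this
    exact ⟨p, hp⟩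
  · rintro ⟨p, rfl⟩ n
    rw [Polynomial.algebraMap_def, coe_mapRingHom, coeff_map]
    exact Submodule.mem_one.mpr ⟨_, rfl⟩

theorem coeff_mem_cont_mul (I J : Submodule A[X] K[X]) {h : K[X]} (hh : h ∈ I * J) (n : ℕ) :
    h.coeff n ∈ cont I * cont J := by
  revert n
  refine Submodule.mul_induction_on hh (fun f hf g hg n => ?_) (fun x y hx hy n => ?_)
  · rw [coeff_mul]
    exact Submodule.sum_mem _ fun x _ =>
      Submodule.mul_mem_mul (coeff_mem_cont hf _) (coeff_mem_cont hg _)
  · rw [coeff_add]; exact Submodule.add_mem _ (hx n) (hy n)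

variable [IsDomain A] [IsFractionRing A K] [IsIntegrallyClosed A]

theorem cont_mul_cont_le_one {I J : Submodule A[X] K[X]} (h : I * J = 1) :
    cont I * cont J ≤ 1 := by
  rw [cont, cont, Submodule.span_mul_span, Submodule.span_le]
  rintro _ ⟨_, ⟨f, hf, n, rfl⟩, _, ⟨g, hg, m, rfl⟩, rfl⟩
  have hfg : f * g ∈ (1 : Submodule A[X] K[X]) := h ▸ Submodule.mul_mem_mul hf hg
  obtain ⟨p, hp⟩ := Submodule.mem_one.mp hfg
  have hcoef : ∀ k, (f * g).coeff k ∈ (algebraMap A K).range := fun k => by
    rw [← hp, Polynomial.algebraMap_def, coe_mapRingHom, coeff_map]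
    exact ⟨_, rfl⟩
  obtain ⟨y, hy⟩ := coeff_mul_coeff_mem_range f g hcoef n m
  exact Submodule.mem_one.mpr ⟨y, hy⟩

theorem cont_mul_cont_eq_one {I J : Submodule A[X] K[X]} (h : I * J = 1) :
    cont I * cont J = 1 := by
  refine le_antisymm (cont_mul_cont_le_one h) ?_
  rw [Submodule.one_le]
  have h1 : (1 : K[X]) ∈ I * J := h ▸ Submodule.one_le.mp le_rfl
  have := coeff_mem_cont_mul I J h1 0
  rwa [coeff_one_zero] at this

theorem eq_ext_cont {I J : Submodule A[X] K[X]} (h : I * J = 1) : I = ext (cont I) := by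
  refine le_antisymm (le_ext_cont I) ?_
  calc ext (cont I) = ext (cont I) * (J * I) := by rw [mul_comm J I, h, mul_one]
    _ = ext (cont I) * J * I := (mul_assoc _ _ _).symm
    _ ≤ ext (cont I) * ext (cont J) * I :=
        mul_le_mul' (mul_le_mul' le_rfl (le_ext_cont J)) le_rfl
    _ ≤ ext (cont I * cont J) * I := mul_le_mul' (ext_mul_le _ _) le_rfl
    _ = I := by rw [cont_mul_cont_eq_one h, ext_one, one_mul]

end Content

section Extend

variable {A K : Type*} [CommRing A] [Field K] [Algebra A K]

attribute [local instance] Polynomial.algebra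

/-- The natural map `A[X] ⊗[A] c → K[X]`, `p ⊗ x ↦ p • C x`. -/
noncomputable def extMap (c : Submodule A K) : A[X] ⊗[A] c →ₗ[A[X]] K[X] :=
  LinearMap.liftBaseChange A[X] (((Algebra.linearMap K K[X]).restrictScalars A).comp c.subtype)

theorem extMap_tmul (c : Submodule A K) (p : A[X]) (x : c) :
    extMap c (p ⊗ₜ x) = p • C (x : K) := by
  rw [extMap, LinearMap.liftBaseChange_tmul]
  rfl

theorem range_extMap (c : Submodule A K) : LinearMap.range (extMap c) = ext c := by
  apply le_antisymm
  · rintro _ ⟨t, rfl⟩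
    induction t using TensorProduct.induction_on with
    | zero => simp
    | tmul p x =>
      rw [extMap_tmul]
      refine (ext c).smul_mem p ?_
      intro n
      rw [coeff_C]
      split_ifs
      · exact x.2
      · exact c.zero_mem
    | add t₁ t₂ h₁ h₂ => rw [map_add]; exact (ext c).add_mem h₁ h₂
  · intro f hf
    rw [← f.sum_monomial_eq, Polynomial.sum]
    refine Submodule.sum_mem _ fun n _ => ?_
    refine ⟨(X ^ n : A[X]) ⊗ₜ ⟨f.coeff n, hf n⟩, ?_⟩
    rw [extMap_tmul, Algebra.smul_def, Polynomial.algebraMap_def, coe_mapRingHom,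
      Polynomial.map_pow, map_X, mul_comm, ← C_mul_X_pow_eq_monomial]

end Extend

section Main

open CommRing

attribute [local instance] Polynomial.algebra

/-- Over an integrally closed domain `A`, every invertible `A[X]`-module is extended from an
invertible `A`-submodule of the fraction field. -/
theorem exists_extended' (A : Type u) [CommRing A] [IsDomain A] [IsIntegrallyClosed A]
    (K : Type*) [Field K] [Algebra A K] [IsFractionRing A K]
    (P : Type u) [AddCommGroup P] [Module A[X] P] [Module.Invertible A[X] P] :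
    ∃ c : (Submodule A K)ˣ,
      Nonempty (A[X] ⊗[A] (c : Submodule A K) ≃ₗ[A[X]] P) := by
  have hmem : Pic.mk A[X] P ∈ relPic A[X] K[X] := by
    rw [relPic_eq_top]; trivial
  rw [← Submodule.range_unitsToPic] at hmem
  obtain ⟨I, hI⟩ := hmem
  obtain ⟨e⟩ := Pic.mk_eq_mk_iff.mp hI
  have hIJ : (I : Submodule A[X] K[X]) *
      ((I⁻¹ : (Submodule A[X] K[X])ˣ) : Submodule A[X] K[X]) = 1 := I.mul_inv
  have hc : cont (I : Submodule A[X] K[X]) *
      cont ((I⁻¹ : (Submodule A[X] K[X])ˣ) : Submodule A[X] K[X]) = 1 :=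
    cont_mul_cont_eq_one hIJ
  obtain ⟨c, hcI⟩ : ∃ c : (Submodule A K)ˣ,
      (c : Submodule A K) = cont (I : Submodule A[X] K[X]) :=
    ⟨⟨cont (I : Submodule A[X] K[X]),
      cont ((I⁻¹ : (Submodule A[X] K[X])ˣ) : Submodule A[X] K[X]), hc,
      by rw [mul_comm]; exact hc⟩, rfl⟩
  have hIext : (I : Submodule A[X] K[X]) = ext (c : Submodule A K) := by
    rw [hcI]; exact eq_ext_cont hIJ
  have hrange : LinearMap.range (extMap (c : Submodule A K)) = (I : Submodule A[X] K[X]) := by
    rw [range_extMap, ← hIext]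
  let μ : A[X] ⊗[A] (c : Submodule A K) →ₗ[A[X]] (I : Submodule A[X] K[X]) :=
    (extMap (c : Submodule A K)).codRestrict _ (fun t => hrange ▸ LinearMap.mem_range_self _ t)
  have hμ : Function.Surjective μ := by
    rintro ⟨f, hf⟩
    rw [← hrange] at hf
    obtain ⟨t, ht⟩ := hf
    exact ⟨t, Subtype.ext ht⟩
  have hbij : Function.Bijective μ := Module.Invertible.bijective_of_surjective hμ
  exact ⟨c, ⟨(LinearEquiv.ofBijective μ hbij).trans e⟩⟩

/-- For an integrally closed domain `A`, the map `Pic A → Pic A[X]` is surjective. -/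
theorem mapAlgebra_surjective (A : Type u) [CommRing A] [IsDomain A] [IsIntegrallyClosed A] :
    Function.Surjective (Pic.mapAlgebra A A[X]) := by
  intro x
  obtain ⟨c, ⟨e⟩⟩ := exists_extended' A (FractionRing A) x
  refine ⟨Pic.mk A (c : Submodule A (FractionRing A)), ?_⟩
  rw [Pic.mapAlgebra_apply, Pic.mk_eq_iff]
  exact ⟨(TensorProduct.AlgebraTensorModule.congr (LinearEquiv.refl A[X] A[X])
    (Pic.mk.linearEquiv A _)).trans e⟩

/-- For an integrally closed domain `A`, all evaluation maps `A[X] → A` induce the same map on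
Picard groups. -/
theorem mapRingHom_evalRingHom_eq (A : Type u) [CommRing A] [IsDomain A] [IsIntegrallyClosed A]
    (a b : A) (x : Pic A[X]) :
    Pic.mapRingHom (evalRingHom a) x = Pic.mapRingHom (evalRingHom b) x := by
  obtain ⟨y, rfl⟩ := mapAlgebra_surjective A x
  have h : ∀ a : A, (evalRingHom a).comp (algebraMap A A[X]) = RingHom.id A := by
    intro a; ext r; simp
  rw [← Pic.mapRingHom_algebraMap, Pic.mapRingHom_mapRingHom, Pic.mapRingHom_mapRingHom, h, h]

end Main

end Groth.Agent.Lib.Helper47.PicPoly
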