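import Mathlib
import Groth.Agent.Lib.Helper47.PicPoly

/-!
# The Picard group of a normal affine cone is trivial (Swan–Weibel homotopy trick)
-/

set_option autoImplicit false
universe u

namespace Groth.Agent.Lib.Helper47.PicCone

open Groth.Agent.Lib.Helper47.PicPoly CommRing

section Scaling

variable {k : Type u} [Field k] {n : ℕ} (I : Ideal (MvPolynomial (Fin n) k))

/-- The scaling homomorphism `k[x] → (k[x]/I)[T]`, `x_i ↦ x_i T`. -/
noncomputable def Phi : MvPolynomial (Fin n) k →ₐ[k] Polynomial (MvPolynomial (Fin n) k ⧸ I) :=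
  MvPolynomial.aeval
    (fun i => Polynomial.C (Ideal.Quotient.mk I (MvPolynomial.X i)) * Polynomial.X)

theorem Phi_monomial (m : Fin n →₀ ℕ) (c : k) :
    Phi I (MvPolynomial.monomial m c) =
      Polynomial.C (Ideal.Quotient.mk I (MvPolynomial.monomial m c)) * Polynomial.X ^ m.degree := by
  rw [Phi, MvPolynomial.aeval_monomial, MvPolynomial.monomial_eq]
  simp only [Finsupp.prod, map_mul, map_prod, map_pow, Finsupp.degree_apply]
  rw [IsScalarTower.algebraMap_apply k (MvPolynomial (Fin n) k ⧸ I)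
    (Polynomial (MvPolynomial (Fin n) k ⧸ I)), Polynomial.algebraMap_apply,
    Algebra.algebraMap_self, RingHom.id_apply]
  rw [Finset.prod_congr rfl (fun x _ => mul_pow (Polynomial.C (Ideal.Quotient.mk I (MvPolynomial.X x)))
    (Polynomial.X) (m x)), Finset.prod_mul_distrib, Finset.prod_pow_eq_pow_sum, ← mul_assoc]
  rfl

theorem Phi_homogeneous {f : MvPolynomial (Fin n) k} {d : ℕ} (hf : f.IsHomogeneous d) :
    Phi I f = Polynomial.C (Ideal.Quotient.mk I f) * Polynomial.X ^ d := by
  conv_lhs => rw [← MvPolynomial.support_sum_monomial_coeff f]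
  conv_rhs => rw [← MvPolynomial.support_sum_monomial_coeff f]
  rw [map_sum, map_sum, map_sum, Finset.sum_mul]
  refine Finset.sum_congr rfl fun m hm => ?_
  rw [Phi_monomial]
  congr 2
  by_contra h
  exact (MvPolynomial.mem_support_iff.mp hm) (hf.coeff_eq_zero h)

variable {I}

theorem Phi_eq_zero_of_mem {s : Set (MvPolynomial (Fin n) k)}
    (hs : ∀ f ∈ s, ∃ d : ℕ, f.IsHomogeneous d) (hI : I = Ideal.span s)
    (a : MvPolynomial (Fin n) k) (ha : a ∈ I) : (Phi I).toRingHom a = 0 := by
  have hle : I ≤ RingHom.ker (Phi I).toRingHom := by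
    rw [hI, Ideal.span_le]
    intro f hf
    obtain ⟨d, hd⟩ := hs f hf
    have hfI : f ∈ Ideal.span s := Ideal.subset_span hf
    rw [SetLike.mem_coe, RingHom.mem_ker]
    change Phi (Ideal.span s) f = 0
    rw [Phi_homogeneous _ hd, Ideal.Quotient.eq_zero_iff_mem.mpr hfI, map_zero, zero_mul]
  exact hle ha

theorem constantCoeff_eq_zero_of_mem [Nontrivial (MvPolynomial (Fin n) k ⧸ I)]
    {s : Set (MvPolynomial (Fin n) k)}
    (hs : ∀ f ∈ s, ∃ d : ℕ, f.IsHomogeneous d) (hI : I = Ideal.span s)
    (a : MvPolynomial (Fin n) k) (ha : a ∈ I) :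
    (MvPolynomial.constantCoeff : MvPolynomial (Fin n) k →+* k) a = 0 := by
  have hle : I ≤ RingHom.ker (MvPolynomial.constantCoeff : MvPolynomial (Fin n) k →+* k) := by
    rw [hI, Ideal.span_le]
    intro f hf
    obtain ⟨d, hd⟩ := hs f hf
    have hfI : f ∈ I := hI ▸ Ideal.subset_span hf
    rw [SetLike.mem_coe, RingHom.mem_ker, MvPolynomial.constantCoeff_eq]
    by_cases h0 : d = 0
    · subst h0
      by_contra hne
      have hC : f = MvPolynomial.C (MvPolynomial.coeff 0 f) :=
        (MvPolynomial.totalDegree_eq_zero_iff_eq_C).mp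
          ((MvPolynomial.totalDegree_zero_iff_isHomogeneous (Fin n)).mpr hd)
      have hunit : IsUnit f := by
        rw [hC]; exact (IsUnit.mk0 _ hne).map MvPolynomial.C
      have htop : I = ⊤ := Ideal.eq_top_of_isUnit_mem _ hfI hunit
      have : Subsingleton (MvPolynomial (Fin n) k ⧸ I) :=
        Ideal.Quotient.subsingleton_iff.mpr htop
      exact not_subsingleton _ this
    · exact hd.coeff_eq_zero (by simpa using Ne.symm h0)
  exact hle ha

end Scaling

theorem result' (k : Type u) [Field k] (n : ℕ)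
    (I : Ideal (MvPolynomial (Fin n) k))
    (hI : ∃ s : Set (MvPolynomial (Fin n) k), (∀ f ∈ s, ∃ d : ℕ, f.IsHomogeneous d) ∧ I = Ideal.span s)
    [IsDomain (MvPolynomial (Fin n) k ⧸ I)] [IsIntegrallyClosed (MvPolynomial (Fin n) k ⧸ I)]
    (M : Type u) [AddCommGroup M] [Module (MvPolynomial (Fin n) k ⧸ I) M]
    [Module.Invertible (MvPolynomial (Fin n) k ⧸ I) M] :
    Module.Free (MvPolynomial (Fin n) k ⧸ I) M := by
  obtain ⟨s, hs, hIs⟩ := hI
  rw [← Pic.mk_eq_one_iff_free]
  -- the scaling map and the augmentation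
  let phi : (MvPolynomial (Fin n) k ⧸ I) →+* Polynomial (MvPolynomial (Fin n) k ⧸ I) :=
    Ideal.Quotient.lift I (Phi I).toRingHom (Phi_eq_zero_of_mem hs hIs)
  let aug : (MvPolynomial (Fin n) k ⧸ I) →+* k :=
    Ideal.Quotient.lift I MvPolynomial.constantCoeff (constantCoeff_eq_zero_of_mem hs hIs)
  let j : k →+* (MvPolynomial (Fin n) k ⧸ I) := algebraMap k (MvPolynomial (Fin n) k ⧸ I)
  have h1 : (Polynomial.evalRingHom (1 : MvPolynomial (Fin n) k ⧸ I)).comp phi =
      RingHom.id _ := by
    apply Ideal.Quotient.ringHom_ext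
    apply MvPolynomial.ringHom_ext
    · intro c
      simp only [RingHom.comp_apply, phi, Ideal.Quotient.lift_mk, RingHom.id_apply]
      change Polynomial.eval 1 (Phi I (MvPolynomial.C c)) = _
      rw [← MvPolynomial.algebraMap_eq, AlgHom.commutes,
        IsScalarTower.algebraMap_apply k (MvPolynomial (Fin n) k ⧸ I)
          (Polynomial (MvPolynomial (Fin n) k ⧸ I)), Polynomial.algebraMap_apply,
        Algebra.algebraMap_self, RingHom.id_apply, Polynomial.eval_C]
      rfl
    · intro i
      simp only [RingHom.comp_apply, phi, Ideal.Quotient.lift_mk, RingHom.id_apply]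
      change Polynomial.eval 1 (Phi I (MvPolynomial.X i)) = _
      rw [Phi, MvPolynomial.aeval_X, Polynomial.eval_mul, Polynomial.eval_C, Polynomial.eval_X,
        mul_one]
  have h0 : (Polynomial.evalRingHom (0 : MvPolynomial (Fin n) k ⧸ I)).comp phi =
      j.comp aug := by
    apply Ideal.Quotient.ringHom_ext
    apply MvPolynomial.ringHom_ext
    · intro c
      simp only [RingHom.comp_apply, phi, aug, Ideal.Quotient.lift_mk]
      change Polynomial.eval 0 (Phi I (MvPolynomial.C c)) = _
      rw [← MvPolynomial.algebraMap_eq, AlgHom.commutes,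
        IsScalarTower.algebraMap_apply k (MvPolynomial (Fin n) k ⧸ I)
          (Polynomial (MvPolynomial (Fin n) k ⧸ I)), Polynomial.algebraMap_apply,
        Algebra.algebraMap_self, RingHom.id_apply, Polynomial.eval_C,
        MvPolynomial.algebraMap_eq, MvPolynomial.constantCoeff_C]
    · intro i
      simp only [RingHom.comp_apply, phi, aug, Ideal.Quotient.lift_mk]
      change Polynomial.eval 0 (Phi I (MvPolynomial.X i)) = _
      rw [Phi, MvPolynomial.aeval_X, Polynomial.eval_mul, Polynomial.eval_C, Polynomial.eval_X,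
        mul_zero, MvPolynomial.constantCoeff_X, map_zero]
  set x := Pic.mk (MvPolynomial (Fin n) k ⧸ I) M with hx
  calc x = Pic.mapRingHom (RingHom.id (MvPolynomial (Fin n) k ⧸ I)) x :=
        Pic.mapRingHom_id_apply.symm
    _ = Pic.mapRingHom ((Polynomial.evalRingHom (1 : MvPolynomial (Fin n) k ⧸ I)).comp phi) x := by
        rw [h1]
    _ = Pic.mapRingHom (Polynomial.evalRingHom (1 : MvPolynomial (Fin n) k ⧸ I))
          (Pic.mapRingHom phi x) := Pic.mapRingHom_mapRingHom.symm
    _ = Pic.mapRingHom (Polynomial.evalRingHom (0 : MvPolynomial (Fin n) k ⧸ I))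
          (Pic.mapRingHom phi x) := mapRingHom_evalRingHom_eq _ 1 0 _
    _ = Pic.mapRingHom ((Polynomial.evalRingHom (0 : MvPolynomial (Fin n) k ⧸ I)).comp phi) x :=
        Pic.mapRingHom_mapRingHom
    _ = Pic.mapRingHom (j.comp aug) x := by rw [h0]
    _ = Pic.mapRingHom j (Pic.mapRingHom aug x) := Pic.mapRingHom_mapRingHom.symm
    _ = Pic.mapRingHom j 1 := by rw [Subsingleton.elim (Pic.mapRingHom aug x) 1]
    _ = 1 := map_one _

end Groth.Agent.Lib.Helper47.PicCone
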