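import Mathlib
import Groth.Agent.Lib.Helper47.PicPoly

/-!
# Picard groups of polynomial rings in several variables

* `mvPolynomial_fin_aux`: for an integrally closed domain `B` with trivial Picard group,
  `MvPolynomial (Fin n) B` is integrally closed with trivial Picard group.
* `free_of_prod`: if `Pic (R_i[x_1..x_n]) = 0` for domains `R_i`, then
  `Pic ((∏ R_i)[x_1..x_n]) = 0` (bounded-degree assembling of local generators).
-/

set_option autoImplicit false
open TensorProduct CommRing

namespace Groth.Agent.Lib.Helper47.PicPoly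

universe u

theorem subsingleton_pic_of_ringEquiv {S T : Type u} [CommRing S] [CommRing T] (e : S ≃+* T)
    [Subsingleton (Pic T)] : Subsingleton (Pic S) := by
  refine ⟨fun x y => ?_⟩
  have h : ∀ z : Pic S, Pic.mapRingHom (e.symm : T →+* S) (Pic.mapRingHom (e : S →+* T) z) = z := by
    intro z
    rw [Pic.mapRingHom_mapRingHom]
    have : (e.symm : T →+* S).comp (e : S →+* T) = RingHom.id S := by
      ext s; simp
    rw [this, Pic.mapRingHom_id_apply]
  rw [← h x, ← h y, Subsingleton.elim (Pic.mapRingHom (e : S →+* T) x) (Pic.mapRingHom (e : S →+* T) y)]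

theorem subsingleton_pic_polynomial (B : Type u) [CommRing B] [IsDomain B] [IsIntegrallyClosed B]
    [Subsingleton (Pic B)] : Subsingleton (Pic (Polynomial B)) :=
  (mapAlgebra_surjective B).subsingleton

theorem mvPolynomial_fin_aux (B : Type u) [CommRing B] [IsDomain B] [IsIntegrallyClosed B]
    [Subsingleton (Pic B)] (n : ℕ) :
    IsIntegrallyClosed (MvPolynomial (Fin n) B) ∧ Subsingleton (Pic (MvPolynomial (Fin n) B)) := by
  induction n with
  | zero =>
    let e := (MvPolynomial.isEmptyAlgEquiv B (Fin 0)).toRingEquiv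
    exact ⟨IsIntegrallyClosed.of_equiv e.symm, subsingleton_pic_of_ringEquiv e⟩
  | succ n ih =>
    obtain ⟨h1, h2⟩ := ih
    let e := (MvPolynomial.finSuccEquiv B n).toRingEquiv
    have := subsingleton_pic_polynomial (MvPolynomial (Fin n) B)
    exact ⟨IsIntegrallyClosed.of_equiv e.symm, subsingleton_pic_of_ringEquiv e⟩

section Swap

variable {S : Type*} [CommRing S] {P : Type*} [AddCommGroup P] [Module S P] [Module.Invertible S P]

/-- In an invertible module, `q p • p' = q p' • p` for any functional `q`. -/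
theorem dual_swap (q : Module.Dual S P) (p p' : P) : q p • p' = q p' • p := by
  have h := congrArg (TensorProduct.lift ((LinearMap.lsmul S P).comp q))
    (Module.Invertible.tmul_comm (R := S) (m₁ := p) (m₂ := p'))
  simpa using h

/-- Dual basis for an invertible module. -/
theorem exists_dual_basis (S : Type*) [CommRing S] (P : Type*) [AddCommGroup P] [Module S P]
    [Module.Invertible S P] :
    ∃ T : Finset (Module.Dual S P × P), (∑ x ∈ T, x.1 x.2 = (1 : S)) ∧
      ∀ p : P, ∑ x ∈ T, x.1 p • x.2 = p := by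
  obtain ⟨t, ht⟩ := (Module.Invertible.bijective (R := S) (M := P)).2 1
  obtain ⟨T, hT⟩ := TensorProduct.exists_finset t
  have hsum : ∑ x ∈ T, x.1 x.2 = (1 : S) := by
    rw [← ht, hT, map_sum]
    exact Finset.sum_congr rfl fun x _ => (contractLeft_apply x.1 x.2).symm
  refine ⟨T, hsum, fun p => ?_⟩
  calc ∑ x ∈ T, x.1 p • x.2 = ∑ x ∈ T, x.1 x.2 • p :=
        Finset.sum_congr rfl fun x _ => dual_swap x.1 p x.2
    _ = p := by rw [← Finset.sum_smul, hsum, one_smul]

end Swap

section Proj

variable {ι : Type*} (R : ι → Type*) [∀ i, CommRing (R i)] (n : ℕ)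

/-- The projection `(∏ R_i)[x] → R_i[x]`. -/
noncomputable def proj (i : ι) :
    MvPolynomial (Fin n) (∀ i, R i) →+* MvPolynomial (Fin n) (R i) :=
  MvPolynomial.map (Pi.evalRingHom R i)

variable {R n}

theorem coeff_proj (i : ι) (H : MvPolynomial (Fin n) (∀ i, R i)) (m : Fin n →₀ ℕ) :
    MvPolynomial.coeff m (proj R n i H) = MvPolynomial.coeff m H i := by
  rw [proj, MvPolynomial.coeff_map]; rfl

theorem proj_injective {H H' : MvPolynomial (Fin n) (∀ i, R i)}
    (h : ∀ i, proj R n i H = proj R n i H') : H = H' := by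
  ext m i
  rw [← coeff_proj, ← coeff_proj, h i]

theorem totalDegree_proj_le (i : ι) (H : MvPolynomial (Fin n) (∀ i, R i)) :
    (proj R n i H).totalDegree ≤ H.totalDegree :=
  Finset.sup_mono (MvPolynomial.support_map_subset _ _)

theorem exists_proj_eq (h : ∀ i, MvPolynomial (Fin n) (R i)) (D : ℕ)
    (hD : ∀ i, (h i).totalDegree ≤ D) :
    ∃ H : MvPolynomial (Fin n) (∀ i, R i), ∀ i, proj R n i H = h i := by
  classical
  let T : Finset (Fin n →₀ ℕ) := (Finsupp.finite_of_degree_le (σ := Fin n) D).toFinset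
  refine ⟨∑ m ∈ T, MvPolynomial.monomial m (fun i => MvPolynomial.coeff m (h i)), fun i => ?_⟩
  ext m'
  rw [coeff_proj, MvPolynomial.coeff_sum, Finset.sum_apply]
  simp only [MvPolynomial.coeff_monomial]
  have : ∀ m ∈ T, (if m = m' then (fun i => MvPolynomial.coeff m (h i)) else 0) i =
      if m = m' then MvPolynomial.coeff m (h i) else 0 := by
    intro m _; split_ifs <;> rfl
  rw [Finset.sum_congr rfl this, Finset.sum_ite_eq' T m']
  split_ifs with hm
  · rfl
  · symm
    by_contra hne
    apply hm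
    have h1 : m' ∈ (h i).support := MvPolynomial.mem_support_iff.mpr hne
    have h2 := MvPolynomial.le_totalDegree h1
    rw [Set.Finite.mem_toFinset, Set.mem_ofPred_eq]
    exact le_trans h2 (hD i)

end Proj

theorem exists_ne_zero_of_sum_mul_eq_one {α B : Type*} [CommRing B] [Nontrivial B]
    (T : Finset α) (f g : α → B) (h : ∑ y ∈ T, f y * g y = 1) :
    (∃ y ∈ T, g y ≠ 0) ∧ (∃ x ∈ T, f x ≠ 0) := by
  constructor
  · by_contra hcon
    have h0 : ∑ y ∈ T, f y * g y = 0 := Finset.sum_eq_zero fun y hy => by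
      have : g y = 0 := by_contra fun h => hcon ⟨y, hy, h⟩
      rw [this, mul_zero]
    rw [h0] at h
    exact zero_ne_one h
  · by_contra hcon
    have h0 : ∑ y ∈ T, f y * g y = 0 := Finset.sum_eq_zero fun y hy => by
      have : f y = 0 := by_contra fun h => hcon ⟨y, hy, h⟩
      rw [this, zero_mul]
    rw [h0] at h
    exact zero_ne_one h

section ProdMain

variable {ι : Type u} (R : ι → Type u) [∀ i, CommRing (R i)] [∀ i, IsDomain (R i)] (n : ℕ)

/-- Local factorization data at the index `i`. -/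
theorem exists_local_factor
    (P : Type u) [AddCommGroup P] [Module (MvPolynomial (Fin n) (∀ i, R i)) P]
    [Module.Invertible (MvPolynomial (Fin n) (∀ i, R i)) P] (i : ι)
    [Subsingleton (Pic (MvPolynomial (Fin n) (R i)))] :
    ∃ (f g : Module.Dual (MvPolynomial (Fin n) (∀ i, R i)) P × P → MvPolynomial (Fin n) (R i)),
      ∀ x y, f x * g y = proj R n i (y.1 x.2) := by
  letI : Algebra (MvPolynomial (Fin n) (∀ i, R i)) (MvPolynomial (Fin n) (R i)) :=
    (proj R n i).toAlgebra
  obtain ⟨θ⟩ := Module.Invertible.free_iff_linearEquiv.mp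
    (inferInstance : Module.Free (MvPolynomial (Fin n) (R i))
      (MvPolynomial (Fin n) (R i) ⊗[MvPolynomial (Fin n) (∀ i, R i)] P))
  let qi : Module.Dual (MvPolynomial (Fin n) (∀ i, R i)) P →
      (MvPolynomial (Fin n) (R i) ⊗[MvPolynomial (Fin n) (∀ i, R i)] P →ₗ[MvPolynomial (Fin n) (R i)]
        MvPolynomial (Fin n) (R i)) := fun q =>
    LinearMap.liftBaseChange (MvPolynomial (Fin n) (R i))
      ((Algebra.linearMap (MvPolynomial (Fin n) (∀ i, R i)) (MvPolynomial (Fin n) (R i))).comp q)
  refine ⟨fun x => θ (1 ⊗ₜ x.2), fun y => qi y.1 (θ.symm 1), fun x y => ?_⟩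
  calc θ (1 ⊗ₜ x.2) * qi y.1 (θ.symm 1) = qi y.1 (θ.symm (θ (1 ⊗ₜ x.2) • 1)) := by
        rw [map_smul, map_smul, smul_eq_mul]
    _ = qi y.1 (1 ⊗ₜ x.2) := by rw [smul_eq_mul, mul_one, LinearEquiv.symm_apply_apply]
    _ = proj R n i (y.1 x.2) := by
        simp only [qi, LinearMap.liftBaseChange_tmul, LinearMap.comp_apply, Algebra.linearMap_apply,
          one_smul]
        rfl

set_option maxHeartbeats 1600000 in
theorem free_of_prod
    (hR : ∀ i, Subsingleton (Pic (MvPolynomial (Fin n) (R i))))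
    (P : Type u) [AddCommGroup P] [Module (MvPolynomial (Fin n) (∀ i, R i)) P]
    [Module.Invertible (MvPolynomial (Fin n) (∀ i, R i)) P] :
    Module.Free (MvPolynomial (Fin n) (∀ i, R i)) P := by
  classical
  obtain ⟨T, hsum, hbasis⟩ := exists_dual_basis (MvPolynomial (Fin n) (∀ i, R i)) P
  have key : ∀ i, ∃ (f g : Module.Dual (MvPolynomial (Fin n) (∀ i, R i)) P × P →
      MvPolynomial (Fin n) (R i)), ∀ x y, f x * g y = proj R n i (y.1 x.2) := fun i =>
    haveI := hR i
    exists_local_factor R n P i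
  choose f g hfg using key
  -- the degree bound
  let D : ℕ := T.sup fun x => T.sup fun y => (y.1 x.2).totalDegree
  have hD : ∀ x ∈ T, ∀ y ∈ T, ∀ i, (f i x * g i y).totalDegree ≤ D := by
    intro x hx y hy i
    rw [hfg]
    refine le_trans (totalDegree_proj_le i _) ?_
    exact le_trans (Finset.le_sup (f := fun y => (y.1 x.2).totalDegree) hy)
      (Finset.le_sup (f := fun x => T.sup fun y => (y.1 x.2).totalDegree) hx)
  have hone : ∀ i, ∑ y ∈ T, f i y * g i y = 1 := by
    intro i
    simp_rw [hfg]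
    rw [← map_sum, hsum, map_one]
  have hfD : ∀ x ∈ T, ∀ i, (f i x).totalDegree ≤ D := by
    intro x hx i
    by_cases hf0 : f i x = 0
    · rw [hf0, MvPolynomial.totalDegree_zero]; exact Nat.zero_le _
    · obtain ⟨y, hy, hgy⟩ : ∃ y ∈ T, g i y ≠ 0 :=
        (exists_ne_zero_of_sum_mul_eq_one T (f i) (g i) (hone i)).1
      have := hD x hx y hy i
      rw [MvPolynomial.totalDegree_mul_of_isDomain hf0 hgy] at this
      omega
  have hgD : ∀ y ∈ T, ∀ i, (g i y).totalDegree ≤ D := by
    intro y hy i
    by_cases hg0 : g i y = 0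
    · rw [hg0, MvPolynomial.totalDegree_zero]; exact Nat.zero_le _
    · obtain ⟨x, hx, hfx⟩ : ∃ x ∈ T, f i x ≠ 0 :=
        (exists_ne_zero_of_sum_mul_eq_one T (f i) (g i) (hone i)).2
      have := hD x hx y hy i
      rw [MvPolynomial.totalDegree_mul_of_isDomain hfx hg0] at this
      omega
  have hF : ∀ x ∈ T, ∃ F : MvPolynomial (Fin n) (∀ i, R i), ∀ i, proj R n i F = f i x :=
    fun x hx => exists_proj_eq (fun i => f i x) D (hfD x hx)
  have hG : ∀ y ∈ T, ∃ G : MvPolynomial (Fin n) (∀ i, R i), ∀ i, proj R n i G = g i y :=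
    fun y hy => exists_proj_eq (fun i => g i y) D (hgD y hy)
  choose! F hF using hF
  choose! G hG using hG
  have hFG : ∀ x ∈ T, ∀ y ∈ T, F x * G y = y.1 x.2 := by
    intro x hx y hy
    apply proj_injective
    intro i
    rw [map_mul, hF x hx, hG y hy, hfg]
  -- the generator
  let v : P := ∑ y ∈ T, G y • y.2
  have hv : ∀ x ∈ T, F x • v = x.2 := by
    intro x hx
    rw [Finset.smul_sum]
    calc ∑ y ∈ T, F x • G y • y.2 = ∑ y ∈ T, y.1 x.2 • y.2 :=
          Finset.sum_congr rfl fun y hy => by rw [smul_smul, hFG x hx y hy]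
      _ = x.2 := hbasis x.2
  have hsurj : Function.Surjective
      (LinearMap.toSpanSingleton (MvPolynomial (Fin n) (∀ i, R i)) P v) := by
    intro p
    refine ⟨∑ x ∈ T, x.1 p * F x, ?_⟩
    rw [LinearMap.toSpanSingleton_apply, Finset.sum_smul]
    calc ∑ x ∈ T, (x.1 p * F x) • v = ∑ x ∈ T, x.1 p • x.2 :=
          Finset.sum_congr rfl fun x hx => by rw [mul_smul, hv x hx]
      _ = p := hbasis p
  have hbij := Module.Invertible.bijective_of_surjective hsurj
  exact Module.Free.of_equiv (LinearEquiv.ofBijective _ hbij)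

end ProdMain

/-- The Picard group of a polynomial ring in finitely many variables over a product of valuation
rings is trivial. -/
theorem pic_mvPolynomial_pi_valuationRing {ι : Type u} (R : ι → Type u)
    [∀ i, CommRing (R i)] [∀ i, IsDomain (R i)] [∀ i, ValuationRing (R i)]
    (n : ℕ) : Subsingleton (CommRing.Pic (MvPolynomial (Fin n) (∀ i, R i))) := by
  rw [Pic.subsingleton_iff]
  intro P _ _ _
  exact free_of_prod R n (fun i => (mvPolynomial_fin_aux (R i) n).2) P

end Groth.Agent.Lib.Helper47.PicPoly
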