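import Mathlib

/-!
# Pure ideals and closed subsets stable under generalization (Stacks 04PR–04PU)

For a subset `Z` of `Spec A`, `pureOf Z` is the kernel of `A → ∏_{p ∈ Z} A_p`.  If `Z` is closed and stable under
generalization then `pureOf Z` is a pure ideal with zero locus `Z`.
-/

set_option autoImplicit false

namespace Groth.Agent.Lib.Helper47.PureIdeal

open PrimeSpectrum

variable {A : Type*} [CommRing A]

/-- elementwise purity -/
def IsPureC (I : Ideal A) : Prop := ∀ x ∈ I, ∃ y ∈ I, x = x * y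

theorem IsPureC.pure {I : Ideal A} (h : IsPureC I) : I.Pure := by
  apply Ideal.Pure.of_inf_eq_mul
  intro J _
  apply le_antisymm
  · intro x hx
    obtain ⟨y, hy, hxy⟩ := h x hx.1
    have h1 : y * x ∈ I * J := Ideal.mul_mem_mul hy hx.2
    have h2 : y * x = x := by rw [mul_comm]; exact hxy.symm
    rwa [h2] at h1
  · exact Ideal.mul_le_inf

theorem isPureC_of_pure {I : Ideal A} [I.Pure] : IsPureC I :=
  fun _ hx => Ideal.exists_eq_mul_of_pure hx

theorem IsPureC.map {B : Type*} [CommRing B] (φ : A →+* B) {I : Ideal A} (h : IsPureC I) :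
    IsPureC (I.map φ) := by
  intro x hx
  unfold Ideal.map at hx
  induction hx using Submodule.span_induction with
  | mem x hx =>
    obtain ⟨a, ha, rfl⟩ := hx
    obtain ⟨y, hy, hay⟩ := h a ha
    exact ⟨φ y, Ideal.mem_map_of_mem φ hy, by rw [← map_mul, ← hay]⟩
  | zero => exact ⟨0, Ideal.zero_mem _, by simp⟩
  | add x x' _ _ ihx ihx' =>
    obtain ⟨y, hy, hxy⟩ := ihx
    obtain ⟨y', hy', hxy'⟩ := ihx'
    refine ⟨y + y' - y * y', ?_, ?_⟩
    · exact Ideal.sub_mem _ (Ideal.add_mem _ hy hy') (Ideal.mul_mem_left _ _ hy')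
    · have e1 : x * (1 - y) = 0 := by linear_combination hxy
      have e2 : x' * (1 - y') = 0 := by linear_combination hxy'
      linear_combination (1 - y') * e1 + (1 - y) * e2
  | smul r x _ ihx =>
    obtain ⟨y, hy, hxy⟩ := ihx
    refine ⟨y, hy, ?_⟩
    rw [smul_eq_mul]
    linear_combination r * hxy

/-- the kernel of `A → ∏_{p ∈ Z} A_p`, elementwise -/
def pureOf (Z : Set (PrimeSpectrum A)) : Ideal A where
  carrier := {a | ∀ p ∈ Z, ∃ s : A, s ∉ p.asIdeal ∧ s * a = 0}
  add_mem' := by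
    intro a b ha hb p hp
    obtain ⟨s, hs, hsa⟩ := ha p hp
    obtain ⟨t, ht, htb⟩ := hb p hp
    refine ⟨s * t, ?_, ?_⟩
    · intro h
      rcases p.isPrime.mem_or_mem h with h | h
      · exact hs h
      · exact ht h
    · linear_combination t * hsa + s * htb
  zero_mem' := fun p _ => ⟨1, p.asIdeal.one_notMem, by simp⟩
  smul_mem' := by
    intro c a ha p hp
    obtain ⟨s, hs, hsa⟩ := ha p hp
    exact ⟨s, hs, by rw [smul_eq_mul]; linear_combination c * hsa⟩

theorem mem_pureOf {Z : Set (PrimeSpectrum A)} {a : A} :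
    a ∈ pureOf Z ↔ ∀ p ∈ Z, ∃ s : A, s ∉ p.asIdeal ∧ s * a = 0 := Iff.rfl

theorem pureOf_le {Z : Set (PrimeSpectrum A)} {p : PrimeSpectrum A} (hp : p ∈ Z) :
    pureOf Z ≤ p.asIdeal := by
  intro a ha
  obtain ⟨s, hs, hsa⟩ := ha p hp
  have : s * a ∈ p.asIdeal := by rw [hsa]; exact Ideal.zero_mem _
  exact (p.isPrime.mem_or_mem this).resolve_left hs

theorem subset_zeroLocus_pureOf (Z : Set (PrimeSpectrum A)) : Z ⊆ zeroLocus (pureOf Z : Set A) :=
  fun _ hp => (mem_zeroLocus _ _).mpr (pureOf_le hp)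

/-- key lemma: on a closed set stable under generalization, elements of the ideal are uniformly locally nilpotent -/
theorem exists_pow_mem_pureOf (J : Ideal A) (hZ : StableUnderGeneralization (zeroLocus (J : Set A)))
    (a : A) (ha : a ∈ J) : ∃ n : ℕ, a ^ n ∈ pureOf (zeroLocus (J : Set A)) := by
  classical
  -- the ideal of elements killing a power of `a`
  let 𝔟 : Ideal A :=
    { carrier := {b | ∃ n : ℕ, b * a ^ n = 0}
      add_mem' := by
        rintro b c ⟨n, hn⟩ ⟨m, hm⟩
        refine ⟨n + m, ?_⟩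
        rw [pow_add]
        linear_combination a ^ m * hn + a ^ n * hm
      zero_mem' := ⟨0, by simp⟩
      smul_mem' := by
        rintro c b ⟨n, hn⟩
        exact ⟨n, by rw [smul_eq_mul]; linear_combination c * hn⟩ }
  have htop : 𝔟 ⊔ J = ⊤ := by
    by_contra hne
    obtain ⟨m, hm, hle⟩ := Ideal.exists_le_maximal _ hne
    let p : PrimeSpectrum A := ⟨m, hm.isPrime⟩
    have hpZ : p ∈ zeroLocus (J : Set A) := (mem_zeroLocus _ _).mpr (fun z hz => hle (Ideal.mem_sup_right hz))
    -- the multiplicative set generated by the complement of `m` and `a`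
    let S : Submonoid A :=
      { carrier := {x | ∃ (s : A) (n : ℕ), s ∉ m ∧ x = s * a ^ n}
        mul_mem' := by
          rintro x y ⟨s, n, hs, rfl⟩ ⟨t, k, ht, rfl⟩
          refine ⟨s * t, n + k, ?_, by rw [pow_add]; ring⟩
          intro h
          rcases hm.isPrime.mem_or_mem h with h | h
          · exact hs h
          · exact ht h
        one_mem' := ⟨1, 0, m.one_notMem, by simp⟩ }
    by_cases h0 : (0 : A) ∈ S
    · obtain ⟨s, n, hs, h0⟩ := h0
      exact hs (hle (Ideal.mem_sup_left (⟨n, h0.symm⟩ : s ∈ 𝔟)))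
    · have hdisj : Disjoint ((⊥ : Ideal A) : Set A) (S : Set A) := by
        rw [Set.disjoint_left]
        intro x hx hxS
        rw [SetLike.mem_coe, Ideal.mem_bot] at hx
        exact h0 (hx ▸ hxS)
      obtain ⟨q, hq, -, hqS⟩ := Ideal.exists_le_prime_disjoint (⊥ : Ideal A) S hdisj
      let q' : PrimeSpectrum A := ⟨q, hq⟩
      have hqm : q ≤ m := by
        intro x hx
        by_contra hxm
        exact (Set.disjoint_left.mp hqS) hx ⟨x, 0, hxm, by simp⟩
      have hspec : q' ⤳ p := (PrimeSpectrum.le_iff_specializes q' p).mp hqm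
      have hq'Z : q' ∈ zeroLocus (J : Set A) := hZ hspec hpZ
      have haq : a ∈ q := ((mem_zeroLocus _ _).mp hq'Z) ha
      exact (Set.disjoint_left.mp hqS) haq ⟨1, 1, m.one_notMem, by simp⟩
  obtain ⟨b, hb, c, hc, hbc⟩ := Submodule.mem_sup.mp ((Ideal.eq_top_iff_one _).mp htop)
  obtain ⟨n, hn⟩ := hb
  refine ⟨n, fun p hp => ⟨b, ?_, hn⟩⟩
  intro hbp
  have hcp : c ∈ p.asIdeal := ((mem_zeroLocus _ _).mp hp) hc
  exact p.asIdeal.one_notMem (hbc ▸ Ideal.add_mem _ hbp hcp)

theorem zeroLocus_pureOf (J : Ideal A) (hZ : StableUnderGeneralization (zeroLocus (J : Set A))) :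
    zeroLocus (pureOf (zeroLocus (J : Set A)) : Set A) = zeroLocus (J : Set A) := by
  apply Set.Subset.antisymm
  · intro q hq
    rw [mem_zeroLocus]
    intro a ha
    obtain ⟨n, hn⟩ := exists_pow_mem_pureOf J hZ a ha
    exact q.isPrime.mem_of_pow_mem n (((mem_zeroLocus _ _).mp hq) hn)
  · exact subset_zeroLocus_pureOf _

theorem isPureC_pureOf (J : Ideal A) (hZ : StableUnderGeneralization (zeroLocus (J : Set A))) :
    IsPureC (pureOf (zeroLocus (J : Set A))) := by
  intro x hx
  -- Ann(x) + J = ⊤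
  have htop : (Ideal.span {x}).annihilator ⊔ J = ⊤ := by
    by_contra hne
    obtain ⟨m, hm, hle⟩ := Ideal.exists_le_maximal _ hne
    let p : PrimeSpectrum A := ⟨m, hm.isPrime⟩
    have hpZ : p ∈ zeroLocus (J : Set A) := (mem_zeroLocus _ _).mpr (fun z hz => hle (Ideal.mem_sup_right hz))
    obtain ⟨s, hs, hsx⟩ := hx p hpZ
    apply hs
    apply hle
    apply Ideal.mem_sup_left
    rw [Submodule.mem_annihilator_span_singleton]
    exact hsx
  obtain ⟨s, hs, a, ha, hsa⟩ := Submodule.mem_sup.mp ((Ideal.eq_top_iff_one _).mp htop)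
  rw [Submodule.mem_annihilator_span_singleton, smul_eq_mul] at hs
  obtain ⟨n, hn⟩ := exists_pow_mem_pureOf J hZ a ha
  refine ⟨a ^ n, hn, ?_⟩
  -- 1 = (s + a)^n = s * (...) + a^n
  have h1 : ∃ c : A, (1 : A) = s * c + a ^ n := by
    have : (s + a) ^ n = 1 := by rw [hsa, one_pow]
    have key : ∀ k : ℕ, ∃ c, (s + a) ^ k = s * c + a ^ k := by
      intro k
      induction k with
      | zero => exact ⟨0, by simp⟩
      | succ k ih =>
        obtain ⟨c, hc⟩ := ih
        exact ⟨(s + a) ^ k + a * c, by rw [pow_succ, pow_succ, hc]; ring⟩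
    obtain ⟨c, hc⟩ := key n
    exact ⟨c, by rw [← this, hc]⟩
  obtain ⟨c, hc⟩ := h1
  calc x = x * 1 := (mul_one x).symm
    _ = x * (s * c + a ^ n) := by rw [← hc]
    _ = (s * x) * c + x * a ^ n := by ring
    _ = x * a ^ n := by rw [hs]; ring

theorem zeroLocus_pureOf' (Z : Set (PrimeSpectrum A)) (hc : IsClosed Z)
    (hg : StableUnderGeneralization Z) : zeroLocus (pureOf Z : Set A) = Z := by
  have h : zeroLocus ((vanishingIdeal Z : Ideal A) : Set A) = Z := by
    rw [zeroLocus_vanishingIdeal_eq_closure, hc.closure_eq]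
  have := zeroLocus_pureOf (vanishingIdeal Z) (by rw [h]; exact hg)
  rw [h] at this
  exact this

theorem isPureC_pureOf' (Z : Set (PrimeSpectrum A)) (hc : IsClosed Z)
    (hg : StableUnderGeneralization Z) : IsPureC (pureOf Z) := by
  have h : zeroLocus ((vanishingIdeal Z : Ideal A) : Set A) = Z := by
    rw [zeroLocus_vanishingIdeal_eq_closure, hc.closure_eq]
  have := isPureC_pureOf (vanishingIdeal Z) (by rw [h]; exact hg)
  rw [h] at this
  exact this

/-- a pure ideal is determined by its zero locus -/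
theorem eq_of_isPureC_of_zeroLocus_eq {I J : Ideal A} (hI : IsPureC I) (hJ : IsPureC J)
    (h : zeroLocus (I : Set A) = zeroLocus (J : Set A)) : I = J := by
  haveI := hI.pure
  haveI := hJ.pure
  exact Ideal.zeroLocus_inj_of_pure.mp h

end Groth.Agent.Lib.Helper47.PureIdeal
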