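import Mathlib

set_option autoImplicit false
set_option linter.style.haveILetI false
universe u
open CategoryTheory CategoryTheory.Limits AlgebraicGeometry

namespace Groth.Agent.Lib.Helper47.QfM1

theorem locallyQuasiFinite_of_baseChange (k K : Type u) [Field k] [Field K]
    (j : Spec (CommRingCat.of K) ⟶ Spec (CommRingCat.of k)) {X : Scheme.{u}}
    (f : X ⟶ Spec (CommRingCat.of k)) [LocallyOfFiniteType f]
    [LocallyQuasiFinite (pullback.snd f j)] : LocallyQuasiFinite f := by
  rw [locallyQuasiFinite_iff_isDiscrete_preimage_singleton]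
  intro x
  -- `Spec k` and `Spec K` are one-point spaces
  have hk : Subsingleton ↥(Spec (CommRingCat.of k)) :=
    inferInstanceAs (Subsingleton (PrimeSpectrum k))
  have hK : Subsingleton ↥(Spec (CommRingCat.of K)) :=
    inferInstanceAs (Subsingleton (PrimeSpectrum K))
  have hKn : Nonempty ↥(Spec (CommRingCat.of K)) :=
    inferInstanceAs (Nonempty (PrimeSpectrum K))
  have : Surjective j := ⟨fun y => by
    obtain ⟨z⟩ := hKn
    exact ⟨z, Subsingleton.elim _ _⟩⟩
  -- the pullback is a discrete space
  obtain ⟨z⟩ := hKn
  have hP : _root_.IsDiscrete ((pullback.snd f j) ⁻¹' {z}) :=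
    (pullback.snd f j).isDiscrete_preimage_singleton z
  have hPuniv : (pullback.snd f j) ⁻¹' {z} = Set.univ := by
    ext p
    simp only [Set.mem_preimage, Set.mem_singleton_iff, Set.mem_univ, iff_true]
    exact Subsingleton.elim _ _
  rw [hPuniv, isDiscrete_univ_iff] at hP
  -- `pullback.fst` is open and surjective
  have hopen : IsOpenMap (pullback.fst f j) := (pullback.fst f j).isOpenMap
  have hsurj : Function.Surjective (pullback.fst f j) := (pullback.fst f j).surjective
  have hX : DiscreteTopology ↥X := by
    rw [discreteTopology_iff_isOpen_singleton]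
    intro a
    obtain ⟨p, rfl⟩ := hsurj a
    have := hopen {p} (isOpen_discrete _)
    rwa [Set.image_singleton] at this
  exact (isDiscrete_univ_iff.2 hX).mono (Set.subset_univ _)

end Groth.Agent.Lib.Helper47.QfM1
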