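import Groth.Prelude.Def_EtBCD
import Mathlib.AlgebraicGeometry.Morphisms.QuasiSeparated
import Mathlib.Tactic

set_option autoImplicit false
universe u
open CategoryTheory CategoryTheory.Limits AlgebraicGeometry Opposite
open EtBC EtDesc

namespace Groth.Agent.Lib.Helper47.SecPullBC

variable {X Y Xb Yb : Scheme.{u}}

/-- restriction maps of a sheaf along two morphisms into a terminal object agree -/
lemma map_eq_of_isTerminal {Z : Scheme.{u}} (G : Sh Z) {T T' : Z.Etale} (hT : IsTerminal T)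
    (m m' : T' ⟶ T) (x : sect G T) : G.obj.map m.op x = G.obj.map m'.op x := by
  rw [hT.hom_ext m m']

lemma map_map {Z : Scheme.{u}} (G : Sh Z) {A B C : Z.Etale} (m : A ⟶ B) (m' : B ⟶ C)
    (x : sect G C) : G.obj.map m.op (G.obj.map m'.op x) = G.obj.map (m ≫ m').op x := by
  rw [op_comp, G.obj.map_comp]
  rfl

set_option backward.isDefEq.respectTransparency.types false in
lemma pushCompSh_hom_app {A B C : Scheme.{u}} (f : A ⟶ B) (g : C ⟶ A) (G : Sh C) (U : B.Etale)
    (x : ((pushSh g ⋙ pushSh f).obj G).obj.obj (op U)) :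
    ((pushCompSh f g).hom.app G).hom.app (op U) x =
      G.obj.map (((MorphismProperty.Over.pullbackComp (P := EtCoh.etaleMP) (Q := ⊤) g f).hom.app U).op) x := rfl

set_option backward.isDefEq.respectTransparency.types false in
lemma pushCompSh_inv_app {A B C : Scheme.{u}} (f : A ⟶ B) (g : C ⟶ A) (G : Sh C) (U : B.Etale)
    (x : ((pushSh (g ≫ f)).obj G).obj.obj (op U)) :
    ((pushCompSh f g).inv.app G).hom.app (op U) x =
      G.obj.map (((MorphismProperty.Over.pullbackComp (P := EtCoh.etaleMP) (Q := ⊤) g f).inv.app U).op) x := rfl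

set_option backward.isDefEq.respectTransparency.types false in
lemma pushCongrSh_hom_app {A B : Scheme.{u}} {f f' : A ⟶ B} (e : f = f') (G : Sh A) (U : B.Etale)
    (x : ((pushSh f).obj G).obj.obj (op U)) :
    ((pushCongrSh e).hom.app G).hom.app (op U) x =
      G.obj.map (((MorphismProperty.Over.pullbackCongr (P := EtCoh.etaleMP) (Q := ⊤) e).inv.app U).op) x := rfl


lemma map_id' {Z : Scheme.{u}} (G : Sh Z) {A : Z.Etale} (x : sect G A) :
    G.obj.map (𝟙 A).op x = x := by
  rw [op_id, G.obj.map_id]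
  rfl

lemma map_iso_hom_bijective {Z : Scheme.{u}} (G : Sh Z) {A B : Z.Etale} (e : A ≅ B) :
    Function.Bijective (fun x : sect G B => (G.obj.map e.hom.op x : sect G A)) := by
  refine Function.bijective_iff_has_inverse.mpr ⟨fun y => G.obj.map e.inv.op y, ?_, ?_⟩
  · intro x
    show G.obj.map e.inv.op (G.obj.map e.hom.op x) = x
    rw [map_map, e.inv_hom_id, map_id']
  · intro y
    show G.obj.map e.hom.op (G.obj.map e.inv.op y) = y
    rw [map_map, e.hom_inv_id, map_id']

lemma app_injective_of_mono {Z : Scheme.{u}} {F G : Sh Z} (φ : F ⟶ G) [Mono φ]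
    (U : (Z.Etale)ᵒᵖ) : Function.Injective (φ.hom.app U) := by
  have h1 : Mono φ.hom := (Sheaf.Hom.mono_iff_presheaf_mono _ (Type _) φ).mp inferInstance
  have h2 : Mono (φ.hom.app U) := (NatTrans.mono_iff_mono_app φ.hom).mp h1 U
  exact (mono_iff_injective _).mp h2

lemma app_bijective_of_isIso {Z : Scheme.{u}} {F G : Sh Z} (φ : F ⟶ G) [IsIso φ]
    (U : (Z.Etale)ᵒᵖ) : Function.Bijective (φ.hom.app U) := by
  have h1 : IsIso φ.hom := (sheafToPresheaf _ _).map_isIso φ
  have h2 : IsIso (φ.hom.app U) := inferInstance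
  exact (isIso_iff_bijective _).mp h2

theorem secPull_eq (h : Y ⟶ X) (p : Xb ⟶ X) (hb : Yb ⟶ Xb) (pY : Yb ⟶ Y) (w : hb ≫ p = pY ≫ h)
    (Fb : Sh Xb) (s : sect Fb (EtCoh.top Xb)) :
    secPull hb Fb s = ((pullSh hb).obj Fb).obj.map (EtCore.bcTopIso pY).inv.op
      ((baseChange0Sh p h pY hb w Fb).hom.app (op (EtCoh.top Y))
        (secPull h ((pushSh p).obj Fb) (Fb.obj.map (EtCore.bcTopIso p).hom.op s))) := by
  have hadj : (adjSh h).unit.app ((pushSh p).obj Fb) ≫
      (pushSh h).map (baseChange0Sh p h pY hb w Fb) =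
      (pushSh p).map ((adjSh hb).unit.app Fb) ≫ (pushCompSh p hb).hom.app _ ≫
        (pushCongrSh w).hom.app _ ≫ (pushCompSh h pY).inv.app _ := by
    unfold baseChange0Sh
    exact ((adjSh h).homEquiv_unit _ _ _).symm.trans (Equiv.apply_symm_apply _ _)
  have hadj' := congrArg (fun φ => φ.hom.app (op (EtCoh.top X))
    (Fb.obj.map (EtCore.bcTopIso p).hom.op s)) hadj
  have e3 : (baseChange0Sh p h pY hb w Fb).hom.app (op ((EtCoh.bc h).obj (EtCoh.top X)))
      (((adjSh h).unit.app ((pushSh p).obj Fb)).hom.app (op (EtCoh.top X))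
        (Fb.obj.map (EtCore.bcTopIso p).hom.op s)) =
      ((pullSh hb).obj Fb).obj.map
        (((MorphismProperty.Over.pullbackComp (P := EtCoh.etaleMP) (Q := ⊤) pY h).inv.app
          (EtCoh.top X)).op)
        (((pullSh hb).obj Fb).obj.map
          (((MorphismProperty.Over.pullbackCongr (P := EtCoh.etaleMP) (Q := ⊤) w).inv.app
            (EtCoh.top X)).op)
          (((pullSh hb).obj Fb).obj.map
            (((MorphismProperty.Over.pullbackComp (P := EtCoh.etaleMP) (Q := ⊤) hb p).hom.app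
              (EtCoh.top X)).op)
            (((adjSh hb).unit.app Fb).hom.app (op ((EtCoh.bc p).obj (EtCoh.top X)))
              (Fb.obj.map (EtCore.bcTopIso p).hom.op s)))) := hadj'
  have e5 : ((adjSh hb).unit.app Fb).hom.app (op ((EtCoh.bc p).obj (EtCoh.top X)))
      (Fb.obj.map (EtCore.bcTopIso p).hom.op s) =
      ((pullSh hb).obj Fb).obj.map ((EtCoh.bc hb).map (EtCore.bcTopIso p).hom).op
        (((adjSh hb).unit.app Fb).hom.app (op (EtCoh.top Xb)) s) :=
    NatTrans.naturality_apply ((adjSh hb).unit.app Fb).hom (EtCore.bcTopIso p).hom.op s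
  have e2 : (baseChange0Sh p h pY hb w Fb).hom.app (op (EtCoh.top Y))
      (((pullSh h).obj ((pushSh p).obj Fb)).obj.map (EtCore.bcTopIso h).inv.op
        (((adjSh h).unit.app ((pushSh p).obj Fb)).hom.app (op (EtCoh.top X))
          (Fb.obj.map (EtCore.bcTopIso p).hom.op s))) =
      ((pullSh hb).obj Fb).obj.map ((EtCoh.bc pY).map (EtCore.bcTopIso h).inv).op
        ((baseChange0Sh p h pY hb w Fb).hom.app (op ((EtCoh.bc h).obj (EtCoh.top X)))
          (((adjSh h).unit.app ((pushSh p).obj Fb)).hom.app (op (EtCoh.top X))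
            (Fb.obj.map (EtCore.bcTopIso p).hom.op s))) :=
    NatTrans.naturality_apply (baseChange0Sh p h pY hb w Fb).hom (EtCore.bcTopIso h).inv.op _
  have e0 : secPull h ((pushSh p).obj Fb) (Fb.obj.map (EtCore.bcTopIso p).hom.op s) =
      ((pullSh h).obj ((pushSh p).obj Fb)).obj.map (EtCore.bcTopIso h).inv.op
        (((adjSh h).unit.app ((pushSh p).obj Fb)).hom.app (op (EtCoh.top X))
          (Fb.obj.map (EtCore.bcTopIso p).hom.op s)) := rfl
  rw [e0, e2, e3, e5]
  erw [map_map, map_map, map_map, map_map, map_map]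
  exact map_eq_of_isTerminal _ (EtCore.bcTopIsTerminal hb) _ _ _


theorem secPull_injective (h : Y ⟶ X) (p : Xb ⟶ X) (hb : Yb ⟶ Xb) (pY : Yb ⟶ Y)
    (w : hb ≫ p = pY ≫ h)
    (H1 : ∀ F : Sh X, Function.Injective (secPull h F))
    (Fb : Sh Xb) [Mono (baseChange0Sh p h pY hb w Fb)] :
    Function.Injective (secPull hb Fb) := by
  have hfun : secPull hb Fb =
      (fun x => ((pullSh hb).obj Fb).obj.map (EtCore.bcTopIso pY).inv.op x) ∘
      ((baseChange0Sh p h pY hb w Fb).hom.app (op (EtCoh.top Y))) ∘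
      (secPull h ((pushSh p).obj Fb)) ∘
      (fun s => Fb.obj.map (EtCore.bcTopIso p).hom.op s) := by
    funext s
    exact secPull_eq h p hb pY w Fb s
  rw [hfun]
  refine Function.Injective.comp ?_ (Function.Injective.comp ?_ (Function.Injective.comp ?_ ?_))
  · exact (map_iso_hom_bijective ((pullSh hb).obj Fb) (EtCore.bcTopIso pY).symm).1
  · exact app_injective_of_mono _ _
  · exact H1 _
  · exact (map_iso_hom_bijective Fb (EtCore.bcTopIso p)).1

theorem secPull_bijective (h : Y ⟶ X) (p : Xb ⟶ X) (hb : Yb ⟶ Xb) (pY : Yb ⟶ Y)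
    (w : hb ≫ p = pY ≫ h)
    (H1 : ∀ F : Sh X, Function.Bijective (secPull h F))
    (Fb : Sh Xb) [IsIso (baseChange0Sh p h pY hb w Fb)] :
    Function.Bijective (secPull hb Fb) := by
  have hfun : secPull hb Fb =
      (fun x => ((pullSh hb).obj Fb).obj.map (EtCore.bcTopIso pY).inv.op x) ∘
      ((baseChange0Sh p h pY hb w Fb).hom.app (op (EtCoh.top Y))) ∘
      (secPull h ((pushSh p).obj Fb)) ∘
      (fun s => Fb.obj.map (EtCore.bcTopIso p).hom.op s) := by
    funext s
    exact secPull_eq h p hb pY w Fb s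
  rw [hfun]
  refine Function.Bijective.comp ?_ (Function.Bijective.comp ?_ (Function.Bijective.comp ?_ ?_))
  · exact map_iso_hom_bijective ((pullSh hb).obj Fb) (EtCore.bcTopIso pY).symm
  · exact app_bijective_of_isIso _ _
  · exact H1 _
  · exact map_iso_hom_bijective Fb (EtCore.bcTopIso p)

end Groth.Agent.Lib.Helper47.SecPullBC
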