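import Groth.Agent.Lib.Helper47.SecPullBC
import Groth.Agent.Lib.Helper57.PullSets
import Mathlib.CategoryTheory.Monad.Comonadicity
import Mathlib.CategoryTheory.Limits.Types.Equalizers

set_option autoImplicit false
universe u
open CategoryTheory CategoryTheory.Limits AlgebraicGeometry Opposite
open EtBC EtDesc

namespace Groth.Agent.Lib.Helper47.SecPullDesc

open Groth.Agent.Lib.Helper47.SecPullBC

variable {X Y Xb Yb : Scheme.{u}}

/-- `secPull` is natural in the sheaf. -/
lemma secPull_natural (h : Y ⟶ X) {F G : Sh X} (a : F ⟶ G) (s : sect F (EtCoh.top X)) :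
    secPull h G (a.hom.app (op (EtCoh.top X)) s) =
      ((pullSh h).map a).hom.app (op (EtCoh.top Y)) (secPull h F s) := by
  have hn : a ≫ (adjSh h).unit.app G =
      (adjSh h).unit.app F ≫ (pushSh h).map ((pullSh h).map a) :=
    (adjSh h).unit.naturality a
  have hn' := congrArg (fun φ => φ.hom.app (op (EtCoh.top X)) s) hn
  have e1 : ((adjSh h).unit.app G).hom.app (op (EtCoh.top X)) (a.hom.app (op (EtCoh.top X)) s) =
      ((pullSh h).map a).hom.app (op ((EtCoh.bc h).obj (EtCoh.top X)))
        (((adjSh h).unit.app F).hom.app (op (EtCoh.top X)) s) := hn'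
  have e2 := NatTrans.naturality_apply ((pullSh h).map a).hom (EtCore.bcTopIso h).inv.op
    (((adjSh h).unit.app F).hom.app (op (EtCoh.top X)) s)
  unfold secPull
  rw [e1]
  exact e2.symm


/-- factorization of `secPull hb Fb` through `secPull h (p_* Fb)` and the base change map. -/
lemma secPull_factor (h : Y ⟶ X) (p : Xb ⟶ X) (hb : Yb ⟶ Xb) (pY : Yb ⟶ Y)
    (w : hb ≫ p = pY ≫ h) (Fb : Sh Xb) :
    secPull hb Fb =
      (fun x => ((pullSh hb).obj Fb).obj.map (EtCore.bcTopIso pY).inv.op x) ∘
      ((baseChange0Sh p h pY hb w Fb).hom.app (op (EtCoh.top Y))) ∘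
      (secPull h ((pushSh p).obj Fb)) ∘
      (fun s => Fb.obj.map (EtCore.bcTopIso p).hom.op s) := by
  funext s
  exact secPull_eq h p hb pY w Fb s

lemma secPull_injective_of_surjective (p : Xb ⟶ X) (hp : Function.Surjective p.base)
    (F : Sh X) : Function.Injective (secPull p F) := by
  have : Surjective p := ⟨hp⟩
  have : (pullSh p).Faithful := Groth.Agent.Lib.Helper57.StalkSets.pullSh_faithful p
  have : Mono ((adjSh p).unit.app F) := Adjunction.unit_mono_of_L_faithful (adjSh p) F
  have hfun : secPull p F =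
      (fun x => ((pullSh p).obj F).obj.map (EtCore.bcTopIso p).inv.op x) ∘
      (((adjSh p).unit.app F).hom.app (op (EtCoh.top X))) := rfl
  rw [hfun]
  refine Function.Injective.comp ?_ ?_
  · exact (map_iso_hom_bijective ((pullSh p).obj F) (EtCore.bcTopIso p).symm).1
  · exact app_injective_of_mono _ _

/-- key formula: pulling back along the other composite only depends on `secPull h F s`. -/
lemma secPull_secPull (h : Y ⟶ X) (p : Xb ⟶ X) (hb : Yb ⟶ Xb) (pY : Yb ⟶ Y)
    (w : hb ≫ p = pY ≫ h) (F : Sh X) (s : sect F (EtCoh.top X)) :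
    secPull hb ((pullSh p).obj F) (secPull p F s) =
      ((pullSh hb).obj ((pullSh p).obj F)).obj.map (EtCore.bcTopIso pY).inv.op
        ((baseChange0Sh p h pY hb w ((pullSh p).obj F)).hom.app (op (EtCoh.top Y))
          (((pullSh h).map ((adjSh p).unit.app F)).hom.app (op (EtCoh.top Y))
            (secPull h F s))) := by
  rw [secPull_eq h p hb pY w ((pullSh p).obj F) (secPull p F s)]
  have e1 : ((pullSh p).obj F).obj.map (EtCore.bcTopIso p).hom.op (secPull p F s) =
      ((adjSh p).unit.app F).hom.app (op (EtCoh.top X)) s := by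
    unfold secPull
    erw [map_map]
    rw [Iso.hom_inv_id]
    exact map_id' _ _
  rw [e1]
  have e2 := secPull_natural h ((adjSh p).unit.app F) s
  exact congrArg (fun z => ((pullSh hb).obj ((pullSh p).obj F)).obj.map (EtCore.bcTopIso pY).inv.op
        ((baseChange0Sh p h pY hb w ((pullSh p).obj F)).hom.app (op (EtCoh.top Y)) z)) e2

theorem descent_injective (h : Y ⟶ X) (p : Xb ⟶ X) (hb : Yb ⟶ Xb) (pY : Yb ⟶ Y)
    (w : hb ≫ p = pY ≫ h) (hp : Function.Surjective p.base)
    (H : ∀ Fb : Sh Xb, Function.Injective (secPull hb Fb)) (F : Sh X) :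
    Function.Injective (secPull h F) := by
  intro s t hst
  apply secPull_injective_of_surjective p hp F
  apply H ((pullSh p).obj F)
  rw [secPull_secPull h p hb pY w F s, secPull_secPull h p hb pY w F t, hst]

theorem push_bijective (h : Y ⟶ X) (p : Xb ⟶ X) (hb : Yb ⟶ Xb) (pY : Yb ⟶ Y)
    (w : hb ≫ p = pY ≫ h) (Fb : Sh Xb)
    (H : Function.Bijective (secPull hb Fb))
    [Mono (baseChange0Sh p h pY hb w Fb)] :
    Function.Bijective (secPull h ((pushSh p).obj Fb)) := by
  have hf := secPull_factor h p hb pY w Fb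
  have hβ := map_iso_hom_bijective ((pullSh hb).obj Fb) (EtCore.bcTopIso pY).symm
  have hα := map_iso_hom_bijective Fb (EtCore.bcTopIso p)
  have hbc : Function.Injective ((baseChange0Sh p h pY hb w Fb).hom.app (op (EtCoh.top Y))) :=
    app_injective_of_mono _ _
  rw [hf] at H
  constructor
  · -- injective
    have h1 : Function.Injective
        ((secPull h ((pushSh p).obj Fb)) ∘
          (fun s => Fb.obj.map (EtCore.bcTopIso p).hom.op s)) := by
      have := H.1
      exact Function.Injective.of_comp (Function.Injective.of_comp this)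
    intro x y hxy
    obtain ⟨x', rfl⟩ := hα.2 x
    obtain ⟨y', rfl⟩ := hα.2 y
    exact congrArg _ (h1 hxy)
  · intro y
    obtain ⟨x, hx⟩ := H.2 ((fun x => ((pullSh hb).obj Fb).obj.map (EtCore.bcTopIso pY).inv.op x)
      ((baseChange0Sh p h pY hb w Fb).hom.app (op (EtCoh.top Y)) y))
    refine ⟨(fun s => Fb.obj.map (EtCore.bcTopIso p).hom.op s) x, ?_⟩
    exact hbc (hβ.1 hx)


lemma reflectsIsomorphisms_pullSh (p : Xb ⟶ X) [Surjective p] :
    (pullSh p).ReflectsIsomorphisms :=
  ⟨fun a _ => Groth.Agent.Lib.Helper57.StalkSets.isIso_of_isIso_pullSh p a inferInstance⟩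

/-- the global sections functor -/
noncomputable abbrev Gam (X : Scheme.{u}) : Sh X ⥤ Type (u + 1) :=
  sheafToPresheaf _ _ ⋙ (evaluation _ _).obj (op (EtCoh.top X))

lemma unit_sections_equalizer (p : Xb ⟶ X) (hp : Function.Surjective p.base) (F : Sh X)
    (g : sect ((pushSh p).obj ((pullSh p).obj F)) (EtCoh.top X))
    (hg : ((pushSh p).map ((pullSh p).map ((adjSh p).unit.app F))).hom.app (op (EtCoh.top X)) g =
      ((adjSh p).unit.app ((pushSh p).obj ((pullSh p).obj F))).hom.app (op (EtCoh.top X)) g) :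
    ∃ s : sect F (EtCoh.top X), ((adjSh p).unit.app F).hom.app (op (EtCoh.top X)) s = g := by
  have : Surjective p := ⟨hp⟩
  have := reflectsIsomorphisms_pullSh p
  have hl := Comonad.ComonadicityInternal.unitEqualizerOfCoreflectsEqualizer (adjSh p) F
  have hl' := isLimitForkMapOfIsLimit (Gam X) _ hl
  obtain ⟨s, hs, -⟩ := Types.unique_of_type_equalizer _ _ hl' g hg
  exact ⟨s, hs⟩


theorem descent_bijective (h : Y ⟶ X) (p : Xb ⟶ X) (hb : Yb ⟶ Xb) (pY : Yb ⟶ Y)
    (w : hb ≫ p = pY ≫ h) (hp : Function.Surjective p.base)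
    (H : ∀ Fb : Sh Xb, Function.Bijective (secPull hb Fb))
    (Hm : ∀ Fb : Sh Xb, Mono (baseChange0Sh p h pY hb w Fb)) (F : Sh X) :
    Function.Bijective (secPull h F) := by
  have hinj : ∀ G : Sh X, Function.Injective (secPull h G) :=
    descent_injective h p hb pY w hp (fun Fb => (H Fb).1)
  refine ⟨hinj F, ?_⟩
  intro τ
  have : Surjective p := ⟨hp⟩
  have : (pullSh p).Faithful := Groth.Agent.Lib.Helper57.StalkSets.pullSh_faithful p
  have hη : Mono ((adjSh p).unit.app F) := Adjunction.unit_mono_of_L_faithful (adjSh p) F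
  have := Hm ((pullSh p).obj F)
  have hG := push_bijective h p hb pY w ((pullSh p).obj F) (H _)
  obtain ⟨g, hg⟩ := hG.2 (((pullSh h).map ((adjSh p).unit.app F)).hom.app (op (EtCoh.top Y)) τ)
  have hnat : (adjSh p).unit.app F ≫ (adjSh p).unit.app ((pushSh p).obj ((pullSh p).obj F)) =
      (adjSh p).unit.app F ≫ (pushSh p).map ((pullSh p).map ((adjSh p).unit.app F)) :=
    (adjSh p).unit.naturality ((adjSh p).unit.app F)
  have hnat' : (pullSh h).map ((adjSh p).unit.app F) ≫
      (pullSh h).map ((adjSh p).unit.app ((pushSh p).obj ((pullSh p).obj F))) =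
      (pullSh h).map ((adjSh p).unit.app F) ≫
      (pullSh h).map ((pushSh p).map ((pullSh p).map ((adjSh p).unit.app F))) := by
    rw [← Functor.map_comp, ← Functor.map_comp, hnat]
  have hnat'' := congrArg (fun φ => φ.hom.app (op (EtCoh.top Y)) τ) hnat'
  have heq : ((pushSh p).map ((pullSh p).map ((adjSh p).unit.app F))).hom.app (op (EtCoh.top X)) g =
      ((adjSh p).unit.app ((pushSh p).obj ((pullSh p).obj F))).hom.app (op (EtCoh.top X)) g := by
    apply hinj
    rw [secPull_natural h _ g, secPull_natural h _ g, hg]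
    exact hnat''.symm
  obtain ⟨s, hs⟩ := unit_sections_equalizer p hp F g heq
  refine ⟨s, ?_⟩
  have hmono : Mono ((pullSh h).map ((adjSh p).unit.app F)) := inferInstance
  apply app_injective_of_mono ((pullSh h).map ((adjSh p).unit.app F)) (op (EtCoh.top Y))
  have e1 := secPull_natural h ((adjSh p).unit.app F) s
  exact e1.symm.trans ((congrArg (secPull h ((pushSh p).obj ((pullSh p).obj F))) hs).trans hg)

end Groth.Agent.Lib.Helper47.SecPullDesc
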