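import Mathlib

/-!
# The fibre of a retraction with a Cartier section is a discrete valuation ring at the section

`φ : A → B` a local homomorphism of local rings, `ρ : B → A₁` a surjection with `ρ ∘ φ` bijective whose kernel is
generated by a nonzerodivisor `t`.  If `B / 𝔪_A B` is Noetherian then it is a discrete valuation ring.
-/

set_option autoImplicit false

namespace Groth.Agent.Lib.Helper47.SectionDVR

open IsLocalRing

section General

variable {C : Type*} [CommRing C] [IsLocalRing C] [IsNoetherianRing C]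

/-- in a Noetherian local ring with principal maximal ideal `(τ)`, every nonzero element is a unit times a power of `τ` -/
theorem exists_unit_mul_pow (τ : C) (hτ : maximalIdeal C = Ideal.span {τ}) (x : C) (hx : x ≠ 0) :
    ∃ (n : ℕ) (u : C), IsUnit u ∧ x = u * τ ^ n := by
  classical
  have hex : ∃ n : ℕ, x ∉ maximalIdeal C ^ (n + 1) := by
    by_contra hcon
    push_neg at hcon
    apply hx
    have h0 : x ∈ ⨅ i : ℕ, maximalIdeal C ^ i := by
      rw [Ideal.mem_iInf]
      intro i
      cases i with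
      | zero => simp
      | succ i => exact hcon i
    rw [Ideal.iInf_pow_eq_bot_of_isLocalRing (maximalIdeal C) Ideal.IsPrime.ne_top'] at h0
    exact h0
  let n := Nat.find hex
  have hn : x ∉ maximalIdeal C ^ (n + 1) := Nat.find_spec hex
  have hmem : x ∈ maximalIdeal C ^ n := by
    cases hn0 : n with
    | zero => simp
    | succ m =>
      have : ¬ (x ∉ maximalIdeal C ^ (m + 1)) := Nat.find_min hex (by omega)
      exact not_not.mp this
  rw [hτ, Ideal.span_singleton_pow, Ideal.mem_span_singleton'] at hmem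
  obtain ⟨c, hc⟩ := hmem
  refine ⟨n, c, ?_, hc.symm⟩
  by_contra hcu
  have hcm : c ∈ maximalIdeal C := (mem_maximalIdeal c).mpr hcu
  apply hn
  rw [pow_succ', ← hc]
  apply Ideal.mul_mem_mul hcm
  rw [hτ, Ideal.span_singleton_pow]
  exact Ideal.mem_span_singleton_self _

theorem isDomain_of_principal (τ : C) (hτ : maximalIdeal C = Ideal.span {τ}) (hnil : ∀ n : ℕ, τ ^ n ≠ 0) :
    IsDomain C := by
  haveI : NoZeroDivisors C := by
    refine ⟨?_⟩
    intro x y hxy
    by_contra hcon
    push_neg at hcon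
    obtain ⟨n, u, hu, rfl⟩ := exists_unit_mul_pow τ hτ x hcon.1
    obtain ⟨m, v, hv, rfl⟩ := exists_unit_mul_pow τ hτ y hcon.2
    have h1 : (u * v) * τ ^ (n + m) = 0 := by rw [← hxy, pow_add]; ring
    have h2 : τ ^ (n + m) = 0 := by
      have := (hu.mul hv).mul_right_eq_zero.mp h1
      exact this
    exact hnil _ h2
  exact NoZeroDivisors.to_isDomain C

theorem isDVR_of_principal (τ : C) (hτ : maximalIdeal C = Ideal.span {τ}) (hnil : ∀ n : ℕ, τ ^ n ≠ 0) :
    ∃ _ : IsDomain C, IsDiscreteValuationRing C := by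
  haveI hd := isDomain_of_principal τ hτ hnil
  refine ⟨hd, ?_⟩
  have hnf : ¬ IsField C := by
    rw [isField_iff_maximalIdeal_eq]
    intro h
    have : τ ∈ maximalIdeal C := by rw [hτ]; exact Ideal.mem_span_singleton_self _
    rw [h] at this
    exact hnil 1 (by simpa using this)
  refine ((IsDiscreteValuationRing.TFAE C hnf).out 4 0).mp ?_
  exact ⟨⟨τ, hτ⟩⟩

end General

section Retraction

variable {A B : Type*} [CommRing A] [CommRing B] [IsLocalRing A] [IsLocalRing B]
  (φ : A →+* B) [IsLocalHom φ] (ρ : B →+* A) (hρφ : ∀ a, ρ (φ a) = a)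
  (t : B) (ht : t ∈ nonZeroDivisors B) (hker : RingHom.ker ρ = Ideal.span {t})

include hρφ hker in
theorem exists_split (b : B) : ∃ c : B, b = φ (ρ b) + t * c := by
  have h : b - φ (ρ b) ∈ RingHom.ker ρ := by
    rw [RingHom.mem_ker, map_sub, hρφ, sub_self]
  rw [hker, Ideal.mem_span_singleton'] at h
  obtain ⟨c, hc⟩ := h
  exact ⟨c, by linear_combination -hc⟩

include hker in
theorem rho_t : ρ t = 0 := by
  have : t ∈ RingHom.ker ρ := by rw [hker]; exact Ideal.mem_span_singleton_self _
  exact this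

include hρφ hker in
theorem exists_split_mem (y : B) (hy : y ∈ (maximalIdeal A).map φ) :
    ∃ c ∈ (maximalIdeal A).map φ, y = φ (ρ y) + t * c := by
  unfold Ideal.map at hy
  induction hy using Submodule.span_induction with
  | mem x hx =>
    obtain ⟨a, ha, rfl⟩ := hx
    exact ⟨0, Ideal.zero_mem _, by rw [hρφ, mul_zero, add_zero]⟩
  | zero => exact ⟨0, Ideal.zero_mem _, by simp⟩
  | add x y hx hy ihx ihy =>
    obtain ⟨c, hc, hxc⟩ := ihx
    obtain ⟨d, hd, hyd⟩ := ihy
    refine ⟨c + d, Ideal.add_mem _ hc hd, ?_⟩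
    rw [map_add, map_add]
    linear_combination hxc + hyd
  | smul r x hx ihx =>
    obtain ⟨c, hc, hxc⟩ := ihx
    obtain ⟨d, hd⟩ := exists_split φ ρ hρφ t hker r
    have hxI : x ∈ (maximalIdeal A).map φ := hx
    refine ⟨φ (ρ r) * c + d * x, Ideal.add_mem _ (Ideal.mul_mem_left _ _ hc)
      (Ideal.mul_mem_left _ _ hxI), ?_⟩
    rw [smul_eq_mul, map_mul, map_mul]
    have e1 : r * x = (φ (ρ r) + t * d) * x := by rw [← hd]
    rw [e1]
    have e2 : φ (ρ r) * x = φ (ρ r) * (φ (ρ x) + t * c) := by rw [← hxc]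
    linear_combination e2

include hρφ hker ht in
theorem mem_of_mul_mem (b : B) (h : t * b ∈ (maximalIdeal A).map φ) : b ∈ (maximalIdeal A).map φ := by
  obtain ⟨c, hc, hbc⟩ := exists_split_mem φ ρ hρφ t hker _ h
  rw [map_mul, rho_t ρ t hker, zero_mul, map_zero, zero_add] at hbc
  have : b = c := by
    have h2 : (b - c) * t = 0 := by linear_combination hbc
    have := (mem_nonZeroDivisors_iff_right.mp ht) _ h2
    linear_combination this
  rw [this]; exact hc

include hρφ hker ht in
theorem pow_notMem (n : ℕ) : t ^ n ∉ (maximalIdeal A).map φ := by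
  induction n with
  | zero =>
    intro h
    rw [pow_zero] at h
    have hle : (maximalIdeal A).map φ ≤ maximalIdeal B := IsLocalRing.map_maximalIdeal_le φ
    exact (Ideal.ne_top_iff_one _).mp (IsLocalRing.maximalIdeal.isMaximal B).ne_top (hle h)
  | succ n ih =>
    intro h
    rw [pow_succ'] at h
    exact ih (mem_of_mul_mem φ ρ hρφ t ht hker _ h)

include hρφ hker in
theorem t_mem_maximalIdeal : t ∈ maximalIdeal B := by
  rw [mem_maximalIdeal]
  intro hu
  have := hu.map ρ
  rw [rho_t ρ t hker] at this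
  exact not_isUnit_zero this

include hρφ hker in
theorem maximalIdeal_le : maximalIdeal B ≤ (maximalIdeal A).map φ ⊔ Ideal.span {t} := by
  intro b hb
  obtain ⟨c, hc⟩ := exists_split φ ρ hρφ t hker b
  have hρb : ρ b ∈ maximalIdeal A := by
    rw [mem_maximalIdeal]
    intro hu
    have h1 : IsUnit (φ (ρ b)) := hu.map φ
    have h2 : φ (ρ b) = b - t * c := by linear_combination -hc
    have h3 : t * c ∈ maximalIdeal B := Ideal.mul_mem_right _ _ (t_mem_maximalIdeal φ ρ hρφ t hker)
    have h4 : φ (ρ b) ∈ maximalIdeal B := by rw [h2]; exact Ideal.sub_mem _ hb h3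
    exact (mem_maximalIdeal _).mp h4 h1
  rw [hc]
  exact Ideal.add_mem _ (Ideal.mem_sup_left (Ideal.mem_map_of_mem φ hρb))
    (Ideal.mem_sup_right (Ideal.mul_mem_right _ _ (Ideal.mem_span_singleton_self t)))

end Retraction

section Main

variable {A B A₁ : Type*} [CommRing A] [CommRing B] [CommRing A₁] [IsLocalRing A] [IsLocalRing B]

theorem main (φ : A →+* B) [IsLocalHom φ] (ρ : B →+* A₁)
    (hρφ : Function.Bijective (ρ.comp φ))
    (t : B) (ht : t ∈ nonZeroDivisors B) (hker : RingHom.ker ρ = Ideal.span {t})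
    [IsNoetherianRing (B ⧸ (maximalIdeal A).map φ)] :
    ∃ _ : IsDomain (B ⧸ (maximalIdeal A).map φ),
      IsDiscreteValuationRing (B ⧸ (maximalIdeal A).map φ) := by
  let e : A ≃+* A₁ := RingEquiv.ofBijective (ρ.comp φ) hρφ
  let ρ' : B →+* A := e.symm.toRingHom.comp ρ
  have hρ'φ : ∀ a, ρ' (φ a) = a := fun a => e.symm_apply_apply a
  have hker' : RingHom.ker ρ' = Ideal.span {t} := by
    rw [← hker]
    ext b
    simp only [RingHom.mem_ker]
    change e.symm (ρ b) = 0 ↔ ρ b = 0
    exact e.symm.map_eq_zero_iff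
  have hle : (maximalIdeal A).map φ ≤ maximalIdeal B := IsLocalRing.map_maximalIdeal_le φ
  haveI : Nontrivial (B ⧸ (maximalIdeal A).map φ) :=
    Ideal.Quotient.nontrivial_iff.mpr (fun h => by
      rw [h] at hle
      exact (IsLocalRing.maximalIdeal.isMaximal B).ne_top (top_le_iff.mp hle))
  haveI : IsLocalRing (B ⧸ (maximalIdeal A).map φ) :=
    IsLocalRing.of_surjective' (Ideal.Quotient.mk ((maximalIdeal A).map φ)) Ideal.Quotient.mk_surjective
  haveI : IsLocalHom (Ideal.Quotient.mk ((maximalIdeal A).map φ)) :=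
    IsLocalHom.of_surjective _ Ideal.Quotient.mk_surjective
  have htm : t ∈ maximalIdeal B := t_mem_maximalIdeal φ ρ' hρ'φ t hker'
  refine isDVR_of_principal (Ideal.Quotient.mk ((maximalIdeal A).map φ) t) ?_ ?_
  · apply le_antisymm
    · intro x hx
      obtain ⟨b, rfl⟩ := Ideal.Quotient.mk_surjective x
      have hb : b ∈ maximalIdeal B := by
        rw [mem_maximalIdeal] at hx ⊢
        intro hu
        exact hx (hu.map _)
      obtain ⟨i, hi, s, hs, rfl⟩ := Submodule.mem_sup.mp (maximalIdeal_le φ ρ' hρ'φ t hker' hb)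
      obtain ⟨c, rfl⟩ := Ideal.mem_span_singleton'.mp hs
      rw [map_add, Ideal.Quotient.eq_zero_iff_mem.mpr hi, zero_add, map_mul]
      exact Ideal.mul_mem_left _ _ (Ideal.mem_span_singleton_self _)
    · rw [Ideal.span_singleton_le_iff_mem, mem_maximalIdeal]
      intro hu
      exact (mem_maximalIdeal _).mp htm (isUnit_of_map_unit _ _ hu)
  · intro n
    rw [← map_pow, Ne, Ideal.Quotient.eq_zero_iff_mem]
    exact pow_notMem φ ρ' hρ'φ t ht hker' n

end Main

end Groth.Agent.Lib.Helper47.SectionDVR
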