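import Groth.Agent.Lib.Helper47.SectionDVR
import Groth.Agent.Lib.Helper67.FiberStalk
import Mathlib
import Groth.Prelude.Def_BlowUp2

set_option autoImplicit false
universe u
open CategoryTheory AlgebraicGeometry

namespace Groth.Agent.Lib.Helper47.SectionDVRSch

theorem ker_stalkMap_of_ker_app {X V : Scheme.{u}} (j : X ⟶ V) [IsClosedImmersion j] (x : X)
    (U : V.Opens) (hU : IsAffineOpen U) (hx : j x ∈ U) (f : Γ(V, U))
    (hf : RingHom.ker (j.app U).hom = Ideal.span {f}) :
    RingHom.ker (j.stalkMap x).hom = Ideal.span {V.presheaf.germ U (j x) hx f} := by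
  have hU' : IsAffineOpen (j ⁻¹ᵁ U) := hU.preimage j
  have hsurj : Function.Surjective (j.app U).hom := j.app_surjective U hU
  letI algV := V.presheaf.algebra_section_stalk ⟨j x, hx⟩
  haveI locV := hU.isLocalization_stalk ⟨j x, hx⟩
  letI algX := X.presheaf.algebra_section_stalk (U := j ⁻¹ᵁ U) ⟨x, hx⟩
  haveI locX := hU'.isLocalization_stalk ⟨x, hx⟩
  have hcomm : ∀ g : Γ(V, U), (j.stalkMap x).hom (V.presheaf.germ U (j x) hx g) =
      X.presheaf.germ (j ⁻¹ᵁ U) x hx ((j.app U).hom g) := fun g => j.germ_stalkMap_apply U x hx g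
  apply le_antisymm
  · intro b hb
    rw [RingHom.mem_ker] at hb
    obtain ⟨⟨g, s⟩, hgs⟩ := IsLocalization.surj (hU.primeIdealOf ⟨j x, hx⟩).asIdeal.primeCompl b
    have hgs' : b * V.presheaf.germ U (j x) hx s = V.presheaf.germ U (j x) hx g := hgs
    have hs_unit : IsUnit (V.presheaf.germ U (j x) hx s) :=
      IsLocalization.map_units (M := (hU.primeIdealOf ⟨j x, hx⟩).asIdeal.primeCompl)
        (V.presheaf.stalk (j x)) s
    have h0 : X.presheaf.germ (j ⁻¹ᵁ U) x hx ((j.app U).hom g) = 0 := by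
      rw [← hcomm, ← hgs', map_mul, hb, zero_mul]
    obtain ⟨m, hm⟩ := (IsLocalization.map_eq_zero_iff
      (hU'.primeIdealOf ⟨x, hx⟩).asIdeal.primeCompl (X.presheaf.stalk x) _).mp h0
    obtain ⟨m', hm'⟩ := hsurj m.1
    have hm'u : IsUnit (V.presheaf.germ U (j x) hx m') := by
      apply isUnit_of_map_unit (j.stalkMap x).hom
      rw [hcomm, hm']
      exact IsLocalization.map_units (M := (hU'.primeIdealOf ⟨x, hx⟩).asIdeal.primeCompl)
        (X.presheaf.stalk x) m
    have hmem : m' * g ∈ Ideal.span {f} := by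
      rw [← hf, RingHom.mem_ker, map_mul, hm']
      exact hm
    obtain ⟨c, hc⟩ := Ideal.mem_span_singleton'.mp hmem
    have h1 : V.presheaf.germ U (j x) hx m' * V.presheaf.germ U (j x) hx g =
        V.presheaf.germ U (j x) hx c * V.presheaf.germ U (j x) hx f := by
      rw [← map_mul, ← map_mul, hc]
    have h2 : V.presheaf.germ U (j x) hx g ∈ Ideal.span {V.presheaf.germ U (j x) hx f} := by
      obtain ⟨u, hu⟩ := hm'u
      have : V.presheaf.germ U (j x) hx g =
          (↑u⁻¹ * V.presheaf.germ U (j x) hx c) * V.presheaf.germ U (j x) hx f := by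
        rw [mul_assoc, ← h1, ← hu, ← mul_assoc, Units.inv_mul, one_mul]
      rw [this]
      exact Ideal.mul_mem_left _ _ (Ideal.mem_span_singleton_self _)
    rw [← hgs'] at h2
    obtain ⟨w, hw⟩ := hs_unit
    have : b = (b * V.presheaf.germ U (j x) hx s) * ↑w⁻¹ := by
      rw [mul_assoc, ← hw, Units.mul_inv, mul_one]
    rw [this]
    exact Ideal.mul_mem_right _ _ h2
  · rw [Ideal.span_singleton_le_iff_mem, RingHom.mem_ker, hcomm]
    have : (j.app U).hom f = 0 := by
      have : f ∈ RingHom.ker (j.app U).hom := by rw [hf]; exact Ideal.mem_span_singleton_self _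
      exact this
    rw [this, map_zero]

open Groth.Agent.Lib.Helper67.FiberStalk in
theorem main {X V : Scheme.{u}} (π : V ⟶ X) [LocallyOfFiniteType π]
    (j : X ⟶ V) [IsClosedImmersion j] (hj : j ≫ π = 𝟙 X) (hJ : BlowUp.IsEffCartierIdeal j.ker) (x : X) :
    ∃ _ : IsDomain (Q π (j x)), IsDiscreteValuationRing (Q π (j x)) := by
  obtain ⟨U, hvU, f, hf, hker⟩ := hJ (j x)
  rw [Scheme.Hom.ker_apply] at hker
  have hker' := ker_stalkMap_of_ker_app j x U.1 U.2 hvU f hker
  -- t is a nonzerodivisor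
  have ht : V.presheaf.germ U.1 (j x) hvU f ∈ nonZeroDivisors (V.presheaf.stalk (j x)) := by
    letI algV := V.presheaf.algebra_section_stalk ⟨j x, hvU⟩
    haveI locV := U.2.isLocalization_stalk ⟨j x, hvU⟩
    exact IsLocalization.map_nonZeroDivisors_le (U.2.primeIdealOf ⟨j x, hvU⟩).asIdeal.primeCompl
      (V.presheaf.stalk (j x)) (Submonoid.mem_map_of_mem _ hf)
  -- the composite is bijective
  have hbij : Function.Bijective ((j.stalkMap x).hom.comp (π.stalkMap (j x)).hom) := by
    have h1 := Scheme.Hom.stalkMap_congr_hom _ _ hj x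
    rw [Scheme.Hom.stalkMap_comp] at h1
    have hid : IsIso ((𝟙 X : X ⟶ X).stalkMap x) :=
      (Scheme.Hom.stalkMap_id X x).symm ▸ (IsIso.id (X.presheaf.stalk x))
    have h2 : IsIso (π.stalkMap (j x) ≫ j.stalkMap x) := by
      rw [h1]
      exact @IsIso.comp_isIso _ _ _ _ _ _ _ (Iso.isIso_hom _) hid
    exact ConcreteCategory.bijective_of_isIso (π.stalkMap (j x) ≫ j.stalkMap x)
  -- Noetherian
  haveI : IsLocallyNoetherian (π.fiber (π (j x))) :=
    inferInstanceAs (IsLocallyNoetherian (Limits.pullback π (X.fromSpecResidueField (π (j x)))))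
  haveI : IsNoetherianRing (Q π (j x)) :=
    isNoetherianRing_of_ringEquiv _ (fiberStalkEquiv π (j x))
  exact SectionDVR.main (π.stalkMap (j x)).hom (j.stalkMap x).hom hbij _ ht hker'

end Groth.Agent.Lib.Helper47.SectionDVRSch
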