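import Groth.Agent.Lib.Helper6.ThickIsAffine
import Groth.Agent.Lib.Helper6.Thickening
import Groth.Agent.Lib.Helper6.ThickAffine
import Mathlib

/-!
# Endomorphisms of an `S`-scheme which are the identity modulo a square-zero ideal

`S = Spec R`, `J` an ideal of `R` with `J * J = ⊥`.  For an `S`-scheme `X` and an `S`-endomorphism `u` of `X`
whose base change to `Spec (R/J)` is the identity, `u` is the identity on points and on every affine open
`U` the ring endomorphism `θ` of `Γ(X, U)` satisfies `θ a - a ∈ J Γ(X, U)` (`endo_data`, following helper6's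
proof of S8362).  Two such endomorphisms commute (`comm_of_pullback_eq_id`).
-/

set_option autoImplicit false
universe u
open CategoryTheory AlgebraicGeometry Limits

namespace Groth.Agent.Lib.Helper47.SqZeroEndo

/-- ring level: two endomorphisms congruent to the identity modulo `J A`, `J` of square zero, commute -/
theorem ring_comm {R A : Type*} [CommRing R] [CommRing A] (J : Ideal R) (hJ : J * J = ⊥) (ψ : R →+* A)
    (θ θ' : A →+* A) (hθψ : θ.comp ψ = ψ) (hθ'ψ : θ'.comp ψ = ψ)
    (hθ : ∀ a, θ a - a ∈ J.map ψ) (hθ' : ∀ a, θ' a - a ∈ J.map ψ) (a : A) :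
    θ (θ' a) = θ' (θ a) := by
  have key : ∀ (τ : A →+* A), τ.comp ψ = ψ → (∀ a, τ a - a ∈ J.map ψ) → ∀ x ∈ J.map ψ, τ x = x := by
    intro τ hτψ hτ x hx
    induction hx using Submodule.span_induction with
    | mem x hx =>
      obtain ⟨j, hj, rfl⟩ := hx
      exact RingHom.congr_fun hτψ j
    | zero => simp
    | add x y _ _ hx hy => rw [map_add, hx, hy]
    | smul c x hx hxx =>
      rw [smul_eq_mul, map_mul, hxx]
      have h1 : (τ c - c) * x ∈ J.map ψ * J.map ψ := Ideal.mul_mem_mul (hτ c) hx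
      rw [← Ideal.map_mul, hJ, Ideal.map_bot, Ideal.mem_bot] at h1
      linear_combination h1
  have e1 : θ (θ' a) = θ a + (θ' a - a) := by
    have : θ (θ' a - a) = θ' a - a := key θ hθψ hθ _ (hθ' a)
    rw [map_sub] at this
    linear_combination this
  have e2 : θ' (θ a) = θ' a + (θ a - a) := by
    have : θ' (θ a - a) = θ a - a := key θ' hθ'ψ hθ' _ (hθ a)
    rw [map_sub] at this
    linear_combination this
  rw [e1, e2]; ring

variable (R : Type u) [CommRing R] (J : Ideal R)

/-- the structure ring map `R → Γ(X, U)` -/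
noncomputable def strMap (X : Over (Spec (CommRingCat.of R))) (U : X.left.Opens) : R →+* Γ(X.left, U) :=
  (X.hom.appLE ⊤ U le_top).hom.comp (Scheme.ΓSpecIso (CommRingCat.of R)).inv.hom

theorem endo_data_of_surj
    (hsurj : Surjective (Spec.map (CommRingCat.ofHom (Ideal.Quotient.mk J))))
    (X : Over (Spec (CommRingCat.of R))) (u : X ⟶ X)
    (h : (Over.pullback (Spec.map (CommRingCat.ofHom (Ideal.Quotient.mk J)))).map u = 𝟙 _)
    (U : X.left.Opens) (hUa : IsAffineOpen U) :
    ∃ hle : U ≤ u.left ⁻¹ᵁ U, u.left ⁻¹ᵁ U = U ∧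
      (u.left.appLE U U hle).hom.comp (strMap R X U) = strMap R X U ∧
      ∀ a, (u.left.appLE U U hle).hom a - a ∈ J.map (strMap R X U) := by
  open Groth.Agent.Lib.Helper6 in
  set i₀ := Spec.map (CommRingCat.ofHom (Ideal.Quotient.mk J)) with hi₀
  have hci : IsClosedImmersion i₀ :=
    IsClosedImmersion.spec_of_surjective _ Ideal.Quotient.mk_surjective
  let ι := pullback.fst X.hom i₀
  have hpb : IsPullback ι (pullback.snd X.hom i₀) X.hom i₀ := IsPullback.of_hasPullback _ _
  have hιu : ι ≫ u.left = ι := by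
    have h1 := congrArg (fun k => k.left ≫ pullback.fst X.hom i₀) h
    simp only [Over.pullback, Over.homMk_left, Over.id_left, Category.id_comp] at h1
    rw [pullback.lift_fst] at h1
    exact h1
  have hι : MoreMor.IsThickening ι := Thick.baseChange ⟨hci, hsurj⟩ hpb.flip
  have hιci := hι.1
  have hU : u.left ⁻¹ᵁ U = U := by
    apply ThickIsAffine.eq_of_preimage_eq ι hι.2.surj
    rw [← Scheme.Hom.comp_preimage, hιu]
  have hle : U ≤ u.left ⁻¹ᵁ U := hU.ge
  refine ⟨hle, hU, ?_, ?_⟩
  · have htop : U ≤ X.hom ⁻¹ᵁ ⊤ := le_top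
    have h1 : X.hom.appLE ⊤ U htop ≫ u.left.appLE U U hle = X.hom.appLE ⊤ U htop := by
      rw [Scheme.Hom.appLE_comp_appLE]
      simp only [Over.w]
    have h2 : (u.left.appLE U U hle).hom.comp (X.hom.appLE ⊤ U htop).hom =
        (X.hom.appLE ⊤ U htop).hom := by
      rw [← CommRingCat.hom_comp, h1]
    unfold strMap
    rw [← RingHom.comp_assoc, h2]
  · have htop : U ≤ X.hom ⁻¹ᵁ ⊤ := le_top
    obtain ⟨-, hker⟩ := ThickAffine.ring_data hpb (isAffineOpen_top _) hUa htop
    have hkerle : RingHom.ker (ι.app U).hom ≤ J.map (strMap R X U) := by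
      rw [hker, Ideal.map_le_iff_le_comap]
      intro x hx
      have hx0 : (i₀.app ⊤) x = 0 := hx
      have hnat := Scheme.ΓSpecIso_naturality (CommRingCat.ofHom (Ideal.Quotient.mk J))
      have h3 := ConcreteCategory.congr_hom hnat x
      rw [ConcreteCategory.comp_apply, ConcreteCategory.comp_apply] at h3
      erw [hx0, map_zero] at h3
      have hr : (Scheme.ΓSpecIso (CommRingCat.of R)).hom x ∈ J := by
        rw [← Ideal.Quotient.eq_zero_iff_mem]
        exact h3.symm
      have hxr : x = (Scheme.ΓSpecIso (CommRingCat.of R)).inv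
          ((Scheme.ΓSpecIso (CommRingCat.of R)).hom x) := by
        rw [← CommRingCat.comp_apply, Iso.hom_inv_id, CommRingCat.id_apply]
      rw [Ideal.mem_comap, hxr]
      exact Ideal.mem_map_of_mem (strMap R X U) hr
    intro a
    apply hkerle
    rw [RingHom.mem_ker, map_sub, sub_eq_zero]
    have h1 : u.left.appLE U U hle ≫ ι.appLE U (ι ⁻¹ᵁ U) le_rfl =
        ι.appLE U (ι ⁻¹ᵁ U) le_rfl := by
      rw [Scheme.Hom.appLE_comp_appLE]
      simp only [hιu]
    rw [Scheme.Hom.appLE_eq_app] at h1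
    exact ConcreteCategory.congr_hom h1 a

theorem surjective_of_forall_isNilpotent (hJ : ∀ j ∈ J, IsNilpotent j) :
    Surjective (Spec.map (CommRingCat.ofHom (Ideal.Quotient.mk J))) := by
  constructor
  intro x
  let x' : PrimeSpectrum R := x
  have hx : x' ∈ Set.range (PrimeSpectrum.comap (Ideal.Quotient.mk J)) := by
    rw [_root_.range_comap_of_surjective _ _ Ideal.Quotient.mk_surjective,
      Ideal.mk_ker, PrimeSpectrum.mem_zeroLocus]
    intro j hj
    obtain ⟨n, hn⟩ := hJ j hj
    have : j ^ n ∈ x'.asIdeal := by rw [hn]; exact zero_mem _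
    exact x'.isPrime.mem_of_pow_mem n this
  obtain ⟨y, hy⟩ := hx
  exact ⟨y, hy⟩

theorem endo_data (hJ : J * J = ⊥) (X : Over (Spec (CommRingCat.of R))) (u : X ⟶ X)
    (h : (Over.pullback (Spec.map (CommRingCat.ofHom (Ideal.Quotient.mk J)))).map u = 𝟙 _)
    (U : X.left.Opens) (hUa : IsAffineOpen U) :
    ∃ hle : U ≤ u.left ⁻¹ᵁ U, u.left ⁻¹ᵁ U = U ∧
      (u.left.appLE U U hle).hom.comp (strMap R X U) = strMap R X U ∧
      ∀ a, (u.left.appLE U U hle).hom a - a ∈ J.map (strMap R X U) := by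
  refine endo_data_of_surj R J (surjective_of_forall_isNilpotent R J ?_) X u h U hUa
  intro j hj
  refine ⟨2, ?_⟩
  have : j * j ∈ J * J := Ideal.mul_mem_mul hj hj
  rw [hJ] at this
  rw [pow_two]; exact this

theorem endo_data_nil (hJ : IsNilpotent J) (X : Over (Spec (CommRingCat.of R))) (u : X ⟶ X)
    (h : (Over.pullback (Spec.map (CommRingCat.ofHom (Ideal.Quotient.mk J)))).map u = 𝟙 _)
    (U : X.left.Opens) (hUa : IsAffineOpen U) :
    ∃ hle : U ≤ u.left ⁻¹ᵁ U, u.left ⁻¹ᵁ U = U ∧
      (u.left.appLE U U hle).hom.comp (strMap R X U) = strMap R X U ∧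
      ∀ a, (u.left.appLE U U hle).hom a - a ∈ J.map (strMap R X U) := by
  refine endo_data_of_surj R J (surjective_of_forall_isNilpotent R J ?_) X u h U hUa
  intro j hj
  obtain ⟨n, hn⟩ := hJ
  refine ⟨n, ?_⟩
  have : j ^ n ∈ J ^ n := Ideal.pow_mem_pow hj n
  rw [hn] at this
  exact this

theorem comm_on_affine (hJ : J * J = ⊥) (X : Over (Spec (CommRingCat.of R))) (u u' : X ⟶ X)
    (h : (Over.pullback (Spec.map (CommRingCat.ofHom (Ideal.Quotient.mk J)))).map u = 𝟙 _)
    (h' : (Over.pullback (Spec.map (CommRingCat.ofHom (Ideal.Quotient.mk J)))).map u' = 𝟙 _)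
    (U : X.left.Opens) (hU : IsAffineOpen U) :
    U.ι ≫ u.left ≫ u'.left = U.ι ≫ u'.left ≫ u.left := by
  obtain ⟨hle, -, hψ, hmem⟩ := endo_data R J hJ X u h U hU
  obtain ⟨hle', -, hψ', hmem'⟩ := endo_data R J hJ X u' h' U hU
  have e1 : U.ι ≫ u.left = u.left.resLE U U hle ≫ U.ι := (Scheme.Hom.resLE_comp_ι _ _).symm
  have e1' : U.ι ≫ u'.left = u'.left.resLE U U hle' ≫ U.ι := (Scheme.Hom.resLE_comp_ι _ _).symm
  have l1 : U.ι ≫ u.left ≫ u'.left =
      (u.left.resLE U U hle ≫ u'.left.resLE U U hle') ≫ U.ι := by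
    rw [← Category.assoc, e1, Category.assoc, e1', Category.assoc]
  have l2 : U.ι ≫ u'.left ≫ u.left =
      (u'.left.resLE U U hle' ≫ u.left.resLE U U hle) ≫ U.ι := by
    rw [← Category.assoc, e1', Category.assoc, e1, Category.assoc]
  rw [l1, l2]
  congr 1
  haveI : IsAffine U.toScheme := hU
  apply ext_of_isAffine
  have a1 : (u.left.resLE U U hle).appTop =
      U.topIso.hom ≫ u.left.appLE U U hle ≫ U.topIso.inv := Scheme.Hom.resLE_app_top _ _
  have a1' : (u'.left.resLE U U hle').appTop =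
      U.topIso.hom ≫ u'.left.appLE U U hle' ≫ U.topIso.inv := Scheme.Hom.resLE_app_top _ _
  rw [Scheme.Hom.comp_appTop, Scheme.Hom.comp_appTop, a1, a1']
  simp only [Category.assoc, Iso.inv_hom_id_assoc]
  congr 1
  rw [← Category.assoc, ← Category.assoc]
  congr 1
  ext a
  exact ring_comm J hJ (strMap R X U) _ _ hψ hψ' hmem hmem' a

/-- Two `S`-endomorphisms of an `S`-scheme which are the identity modulo a square-zero ideal commute. -/
theorem comm_of_pullback_eq_id (hJ : J * J = ⊥) (X : Over (Spec (CommRingCat.of R))) (u u' : X ⟶ X)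
    (h : (Over.pullback (Spec.map (CommRingCat.ofHom (Ideal.Quotient.mk J)))).map u = 𝟙 _)
    (h' : (Over.pullback (Spec.map (CommRingCat.ofHom (Ideal.Quotient.mk J)))).map u' = 𝟙 _) :
    u ≫ u' = u' ≫ u := by
  apply Over.OverMorphism.ext
  rw [Over.comp_left, Over.comp_left]
  apply Scheme.hom_ext_of_forall
  intro x
  obtain ⟨_, ⟨U, hU, rfl⟩, hxU, -⟩ :=
    X.left.isBasis_affineOpens.exists_subset_of_mem_open (Set.mem_univ x) isOpen_univ
  exact ⟨U, hxU, comm_on_affine R J hJ X u u' h h' U hU⟩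

end Groth.Agent.Lib.Helper47.SqZeroEndo
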