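import Groth.Agent.Lib.Helper47.TransClStalk

set_option autoImplicit false
set_option linter.style.haveILetI false
universe u
open CategoryTheory CategoryTheory.Limits AlgebraicGeometry Opposite
open DefoSh

namespace Groth.Agent.Lib.Helper47.TransCl

open Groth.Agent.Lib.Helper97.DefoLoc Groth.Agent.Lib.Helper62

variable {X : Scheme.{u}} {k : Type u} [Field k] [X.Over (Spec (CommRingCat.of k))] {E : X.Modules}

theorem smulMod_comm (c : k) {M N : X.Modules} (f : M ⟶ N) :
    Formal.smulMod k M c ≫ f = f ≫ Formal.smulMod k N c :=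
  (KLin.comp_smulModΓ f _).symm

section Auto
variable (D : DefoSh.Defo E (ArtFun.Art.dual k k)) (ι : E ⟶ D.sheaf)
  (hι : D.π ≫ ι = D.act (DualNumber.eps : DualNumber k)) (S : E ⟶ E)

/-- the nilpotent endomorphism `π ≫ S ≫ ι` of the deformed module -/
noncomputable def nil : D.sheaf ⟶ D.sheaf := D.π ≫ S ≫ ι

include hι

theorem nil_π : nil D ι S ≫ D.π = 0 := by
  rw [nil, Category.assoc, Category.assoc, ι_π D ι hι, comp_zero, comp_zero]

theorem nil_nil (S' : E ⟶ E) : nil D ι S ≫ nil D ι S' = 0 := by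
  rw [nil, nil, Category.assoc, Category.assoc, ← Category.assoc ι, ι_π D ι hι, zero_comp,
    comp_zero, comp_zero]

theorem act_eps_nil : (D.act (epsA k) : D.sheaf ⟶ D.sheaf) ≫ nil D ι S = 0 := by
  have h : (D.act (epsA k) : D.sheaf ⟶ D.sheaf) = D.π ≫ ι := hι.symm
  rw [h, nil, Category.assoc, ← Category.assoc ι, ι_π D ι hι, zero_comp, comp_zero]

theorem nil_act_eps : nil D ι S ≫ (D.act (epsA k) : D.sheaf ⟶ D.sheaf) = 0 := by
  have h : (D.act (epsA k) : D.sheaf ⟶ D.sheaf) = D.π ≫ ι := hι.symm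
  rw [h, nil, Category.assoc, Category.assoc, ← Category.assoc ι, ι_π D ι hι, zero_comp,
    comp_zero, comp_zero]

theorem act_nil (a : ArtFun.Art.dual k k) :
    (D.act a : D.sheaf ⟶ D.sheaf) ≫ nil D ι S = nil D ι S ≫ D.act a := by
  have h1 : ∀ y : k, (Formal.smulMod k D.sheaf y ≫ (D.act (epsA k) : D.sheaf ⟶ D.sheaf)) ≫ nil D ι S = 0 := by
    intro y
    rw [Category.assoc, act_eps_nil D ι hι S, comp_zero]
  have h2 : ∀ y : k, nil D ι S ≫ (Formal.smulMod k D.sheaf y ≫ (D.act (epsA k) : D.sheaf ⟶ D.sheaf)) = 0 := by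
    intro y
    rw [← Category.assoc, ← smulMod_comm, Category.assoc, nil_act_eps D ι hι S, comp_zero]
  rw [act_decomp D a, Preadditive.add_comp, Preadditive.comp_add, h1, h2, add_zero, add_zero,
    smulMod_comm]

/-- the automorphism `𝟙 + π ≫ S ≫ ι` of the deformation `D` -/
noncomputable def autoIso : Defo.Iso D D where
  iso :=
    { hom := 𝟙 _ + nil D ι S
      inv := 𝟙 _ - nil D ι S
      hom_inv_id := by
        rw [Preadditive.add_comp, Category.id_comp, Preadditive.comp_sub, Category.comp_id,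
          nil_nil D ι hι S S, sub_zero, sub_add_cancel]
      inv_hom_id := by
        rw [Preadditive.sub_comp, Category.id_comp, Preadditive.comp_add, Category.comp_id,
          nil_nil D ι hι S S, add_zero, add_sub_cancel_right] }
  act_hom a := by
    change (D.act a : D.sheaf ⟶ D.sheaf) ≫ (𝟙 _ + nil D ι S) = (𝟙 _ + nil D ι S) ≫ D.act a
    rw [Preadditive.comp_add, Preadditive.add_comp, Category.comp_id, Category.id_comp,
      act_nil D ι hι S a]
  hom_π := by
    change (𝟙 _ + nil D ι S) ≫ D.π = D.π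
    rw [Preadditive.add_comp, Category.id_comp, nil_π D ι hι S, add_zero]

theorem autoIso_hom : (autoIso D ι hι S).iso.hom = 𝟙 _ + nil D ι S := rfl

/-- every automorphism of the deformation `D` is of the form `𝟙 + π ≫ S ≫ ι` -/
theorem exists_eq_autoIso (e : Defo.Iso D D) : ∃ S : E ⟶ E, e.iso.hom = 𝟙 _ + nil D ι S := by
  have hT : (e.iso.hom - 𝟙 _) ≫ D.π = 0 := by
    rw [Preadditive.sub_comp, e.hom_π, Category.id_comp, sub_self]
  have hc : (D.π ≫ ι) ≫ (e.iso.hom - 𝟙 _) = (e.iso.hom - 𝟙 _) ≫ (D.π ≫ ι) := by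
    have h := e.act_hom (epsA k)
    have h' : (D.act (epsA k) : D.sheaf ⟶ D.sheaf) = D.π ≫ ι := hι.symm
    rw [h'] at h
    rw [Preadditive.comp_sub, Preadditive.sub_comp, Category.comp_id, Category.id_comp, h]
  obtain ⟨S, hS⟩ := exists_factor ι D.π (ι_π D ι hι) (shortExact D ι hι) _ hT hc
  refine ⟨S, ?_⟩
  rw [nil, ← hS, add_sub_cancel]

end Auto

end Groth.Agent.Lib.Helper47.TransCl
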