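import Groth.Agent.Lib.Helper47.TransClTensor

set_option autoImplicit false
set_option linter.style.haveILetI false
universe u
open CategoryTheory CategoryTheory.Limits AlgebraicGeometry Opposite
open DefoSh

namespace Groth.Agent.Lib.Helper47.TransCl

open Groth.Agent.Lib.Helper97.DefoLoc Groth.Agent.Lib.Helper62 Groth.Agent.Lib.Helper47.TrivConn

variable {X : Scheme.{u}} {Ω' : X.Modules}

/-- an `O_X`-linear morphism of underlying abelian sheaves is a morphism of modules -/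
noncomputable def homOfLinear {M N : X.Modules} (d : Coh.toAb M ⟶ Coh.toAb N)
    (h : ∀ (U : X.Opens) (t : Γ(X, U)) (m : M.val.obj (op U)),
      ConnSh.secApp d U (t • m) = t • ConnSh.secApp d U m) : M ⟶ N :=
  ⟨PresheafOfModules.homMk d.hom (by
    intro U s m
    exact h U.unop s m)⟩

theorem toAb_homOfLinear {M N : X.Modules} (d : Coh.toAb M ⟶ Coh.toAb N)
    (h : ∀ (U : X.Opens) (t : Γ(X, U)) (m : M.val.obj (op U)),
      ConnSh.secApp d U (t • m) = t • ConnSh.secApp d U m) :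
    (SheafOfModules.toSheaf X.ringCatSheaf).map (homOfLinear d h) = d := by
  apply toAb_hom_ext
  intro U x
  rfl

theorem T_homOfLinear {M N : X.Modules} (d : Coh.toAb M ⟶ Coh.toAb N)
    (h : ∀ (U : X.Opens) (t : Γ(X, U)) (m : M.val.obj (op U)),
      ConnSh.secApp d U (t • m) = t • ConnSh.secApp d U m) (U : X.Opens) (x : M.val.obj (op U)) :
    T (homOfLinear d h) U x = ConnSh.secApp d U x := rfl

/-- morphisms of modules are determined on sections -/
theorem hom_ext_T {M N : X.Modules} (f g : M ⟶ N)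
    (h : ∀ (U : X.Opens) (x : M.val.obj (op U)), T f U x = T g U x) : f = g := by
  apply (SheafOfModules.toSheaf X.ringCatSheaf).map_injective
  apply toAb_hom_ext
  intro U x
  exact h U x


theorem secApp_add {M N : X.Modules} (f g : Coh.toAb M ⟶ Coh.toAb N)
    (U : X.Opens) (x : M.val.obj (op U)) :
    ConnSh.secApp (f + g) U x = ConnSh.secApp f U x + ConnSh.secApp g U x := rfl

variable {k : Type u} [Field k] [X.Over (Spec (CommRingCat.of k))] {E : X.Modules}
  {δ : OmegaSh.Der (X ↘ Spec (CommRingCat.of k)) Ω'}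
  {nabla : Coh.toAb E ⟶ Coh.toAb (CohB1.tensorMod E Ω')}

section
variable (D : DefoSh.Defo E (ArtFun.Art.dual k k)) (ι : E ⟶ D.sheaf)
  (hι : D.π ≫ ι = D.act (DualNumber.eps : DualNumber k)) (hE : FlatMod.IsFinLocFree E)

/-- the difference of two deformations of `∇` over `D`, as a morphism of modules -/
noncomputable def diffHom (c c₀ : DefoConn δ nabla D) : D.sheaf ⟶ CohB1.tensorMod D.sheaf Ω' :=
  homOfLinear (c.conn - c₀.conn) (by
    intro U t m
    rw [secApp_sub, secApp_sub, c.isConn U t m, c₀.isConn U t m, smul_sub]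
    abel)

theorem toAb_diffHom (c c₀ : DefoConn δ nabla D) :
    (SheafOfModules.toSheaf X.ringCatSheaf).map (diffHom D c c₀) = c.conn - c₀.conn :=
  toAb_homOfLinear _ _

theorem T_diffHom (c c₀ : DefoConn δ nabla D) (U : X.Opens) (x : D.sheaf.val.obj (op U)) :
    T (diffHom D c c₀) U x = ConnSh.secApp c.conn U x - ConnSh.secApp c₀.conn U x := rfl

theorem diffHom_π (c c₀ : DefoConn δ nabla D) :
    diffHom D c c₀ ≫ KoszTw.tensorMap D.π (𝟙 Ω') = 0 := by
  apply hom_ext_T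
  intro U x
  rw [T_comp', T_diffHom, T_sub, ← (horizontal_iff _ _ _).1 c.π_horizontal U x,
    ← (horizontal_iff _ _ _).1 c₀.π_horizontal U x, sub_self]
  rfl

include hι

theorem ι_diffHom (c c₀ : DefoConn δ nabla D) : ι ≫ diffHom D c c₀ = 0 := by
  apply hom_ext_T
  intro U y
  rw [T_comp', T_diffHom, (horizontal_iff _ _ _).1 (ι_horizontal D ι hι c) U y,
    (horizontal_iff _ _ _).1 (ι_horizontal D ι hι c₀) U y, sub_self]
  rfl

include hE

theorem exists_factor_diff (c c₀ : DefoConn δ nabla D) :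
    ∃ φ : E ⟶ CohB1.tensorMod E Ω', diffHom D c c₀ = D.π ≫ φ ≫ KoszTw.tensorMap ι (𝟙 Ω') := by
  have hS := shortExact D ι hι
  haveI : Epi D.π := epi_π D
  haveI : Epi (ShortComplex.mk ι D.π (ι_π D ι hι)).g := hS.epi_g
  haveI : Mono (KoszTw.tensorMap ι (𝟙 Ω')) := tensor_mono D ι hι hE Ω'
  haveI : Mono (ShortComplex.mk (KoszTw.tensorMap ι (𝟙 Ω')) (KoszTw.tensorMap D.π (𝟙 Ω'))
      (tensor_ι_π D ι hι Ω')).f := tensor_mono D ι hι hE Ω'
  obtain ⟨g, hg⟩ : ∃ g : E ⟶ CohB1.tensorMod D.sheaf Ω', D.π ≫ g = diffHom D c c₀ :=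
    ⟨hS.exact.desc (diffHom D c c₀) (ι_diffHom D ι hι c c₀),
      hS.exact.g_desc (diffHom D c c₀) (ι_diffHom D ι hι c c₀)⟩
  have h2 : g ≫ KoszTw.tensorMap D.π (𝟙 Ω') = 0 := by
    rw [← cancel_epi D.π, comp_zero, ← Category.assoc, hg, diffHom_π]
  obtain ⟨φ, hφ⟩ : ∃ φ : E ⟶ CohB1.tensorMod E Ω', φ ≫ KoszTw.tensorMap ι (𝟙 Ω') = g :=
    ⟨(tensor_exact D ι hι hE Ω').lift g h2, (tensor_exact D ι hι hE Ω').lift_f g h2⟩
  exact ⟨φ, by rw [hφ, hg]⟩

end


section Psi
variable (D : DefoSh.Defo E (ArtFun.Art.dual k k)) (ι : E ⟶ D.sheaf)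
  (hι : D.π ≫ ι = D.act (DualNumber.eps : DualNumber k)) (φ : E ⟶ CohB1.tensorMod E Ω')

/-- the `O_X`-linear map `π ≫ φ ≫ (ι ⊗ 1)` by which a deformation of `∇` is translated -/
noncomputable def psi : D.sheaf ⟶ CohB1.tensorMod D.sheaf Ω' := D.π ≫ φ ≫ KoszTw.tensorMap ι (𝟙 Ω')

theorem tm_comp {M M' M'' N : X.Modules} (f : M ⟶ M') (g : M' ⟶ M'') :
    KoszTw.tensorMap (f ≫ g) (𝟙 N) = KoszTw.tensorMap f (𝟙 N) ≫ KoszTw.tensorMap g (𝟙 N) := by
  have h := KoszTw.tensorMap_comp f g (𝟙 N) (𝟙 N)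
  rw [Category.comp_id] at h
  exact h

theorem tm_smulMod (M N : X.Modules) (c : k) :
    KoszTw.tensorMap (Formal.smulMod k M c) (𝟙 N) = Formal.smulMod k (CohB1.tensorMod M N) c := by
  unfold Formal.smulMod
  exact tensorMap_smulModΓ M N _

include hι

theorem psi_π : psi D ι φ ≫ KoszTw.tensorMap D.π (𝟙 Ω') = 0 := by
  rw [psi, Category.assoc, Category.assoc, tensor_ι_π D ι hι Ω', comp_zero, comp_zero]

omit hι in
theorem act_eps_psi : (D.act (epsA k) : D.sheaf ⟶ D.sheaf) ≫ psi D ι φ = 0 := by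
  rw [psi, ← Category.assoc, act_eps_π D, zero_comp]

theorem psi_tm_eps :
    psi D ι φ ≫ KoszTw.tensorMap (D.act (epsA k) : D.sheaf ⟶ D.sheaf) (𝟙 Ω') = 0 := by
  have h : (D.act (epsA k) : D.sheaf ⟶ D.sheaf) = D.π ≫ ι := hι.symm
  rw [h, tm_comp, ← Category.assoc, psi_π D ι hι φ, zero_comp]

theorem psi_act (a : ArtFun.Art.dual k k) :
    (D.act a : D.sheaf ⟶ D.sheaf) ≫ psi D ι φ =
      psi D ι φ ≫ KoszTw.tensorMap (D.act a : D.sheaf ⟶ D.sheaf) (𝟙 Ω') := by
  have h1 : ∀ y : k, (Formal.smulMod k D.sheaf y ≫ (D.act (epsA k) : D.sheaf ⟶ D.sheaf)) ≫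
      psi D ι φ = 0 := by
    intro y
    rw [Category.assoc, act_eps_psi D ι φ, comp_zero]
  have h2 : ∀ y : k, psi D ι φ ≫ (Formal.smulMod k (CohB1.tensorMod D.sheaf Ω') y ≫
      KoszTw.tensorMap (D.act (epsA k) : D.sheaf ⟶ D.sheaf) (𝟙 Ω')) = 0 := by
    intro y
    rw [← Category.assoc, ← smulMod_comm, Category.assoc, psi_tm_eps D ι hι φ, comp_zero]
  rw [act_decomp D a, tensorMap_add_left, tm_comp, tm_smulMod, tm_smulMod, Preadditive.add_comp,
    Preadditive.comp_add, h1, h2, add_zero, add_zero, smulMod_comm]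

/-- the deformation `c₀ + π ≫ φ ≫ (ι ⊗ 1)` of `∇` -/
noncomputable def connOf (c₀ : DefoConn δ nabla D) : DefoConn δ nabla D where
  conn := c₀.conn + (SheafOfModules.toSheaf X.ringCatSheaf).map (psi D ι φ)
  isConn := by
    intro U t e
    rw [secApp_add, secApp_add, c₀.isConn U t e, secApp_map, secApp_map, T_smul, smul_add]
    abel
  act_horizontal a := by
    rw [horizontal_iff]
    intro U x
    rw [secApp_add, secApp_add, (horizontal_iff _ _ _).1 (c₀.act_horizontal a) U x, secApp_map,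
      secApp_map, T_add, ← T_comp', psi_act D ι hι φ a]
    rfl
  π_horizontal := by
    rw [horizontal_iff]
    intro U x
    rw [secApp_add, (horizontal_iff _ _ _).1 c₀.π_horizontal U x, secApp_map, T_add, ← T_comp',
      psi_π D ι hι φ]
    exact (add_zero _).symm

theorem connOf_conn (c₀ : DefoConn δ nabla D) :
    (connOf D ι hι φ c₀).conn = c₀.conn + (SheafOfModules.toSheaf X.ringCatSheaf).map (psi D ι φ) := rfl

theorem diffHom_connOf (c₀ : DefoConn δ nabla D) : diffHom D (connOf D ι hι φ c₀) c₀ = psi D ι φ := by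
  apply (SheafOfModules.toSheaf X.ringCatSheaf).map_injective
  rw [toAb_diffHom, connOf_conn, add_sub_cancel_left]

end Psi

theorem defoConn_ext {D : DefoSh.Defo E (ArtFun.Art.dual k k)} (c c' : DefoConn δ nabla D)
    (h : c.conn = c'.conn) : c = c' := by
  cases c
  cases c'
  simp only [DefoConn.mk.injEq]
  exact h

section Main
variable (D : DefoSh.Defo E (ArtFun.Art.dual k k)) (ι : E ⟶ D.sheaf)
  (hι : D.π ≫ ι = D.act (DualNumber.eps : DualNumber k)) (hE : FlatMod.IsFinLocFree E)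
include hι hE

/-- the `O_X`-linear map `E → E ⊗ Ω'` measuring the difference of `c` and `c₀` -/
noncomputable def phiOf (c c₀ : DefoConn δ nabla D) : E ⟶ CohB1.tensorMod E Ω' :=
  Classical.choose (exists_factor_diff D ι hι hE c c₀)

theorem phiOf_spec (c c₀ : DefoConn δ nabla D) :
    diffHom D c c₀ = D.π ≫ phiOf D ι hι hE c c₀ ≫ KoszTw.tensorMap ι (𝟙 Ω') :=
  Classical.choose_spec (exists_factor_diff D ι hι hE c c₀)

theorem exists_equiv (c₀ : DefoConn δ nabla D) :
    ∃ Φ : DefoConn δ nabla D ≃ (E ⟶ CohB1.tensorMod E Ω'),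
      ∀ c : DefoConn δ nabla D, c.conn - c₀.conn =
        (SheafOfModules.toSheaf X.ringCatSheaf).map (D.π ≫ Φ c ≫ KoszTw.tensorMap ι (𝟙 Ω')) := by
  haveI : Epi D.π := epi_π D
  haveI : Mono (KoszTw.tensorMap ι (𝟙 Ω')) := tensor_mono D ι hι hE Ω'
  refine ⟨{ toFun := fun c => phiOf D ι hι hE c c₀
            invFun := fun φ => connOf D ι hι φ c₀
            left_inv := ?_
            right_inv := ?_ }, ?_⟩
  · intro c
    apply defoConn_ext
    change (connOf D ι hι (phiOf D ι hι hE c c₀) c₀).conn = c.conn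
    rw [connOf_conn, psi, ← phiOf_spec D ι hι hE c c₀, toAb_diffHom, add_sub_cancel]
  · intro φ
    change phiOf D ι hι hE (connOf D ι hι φ c₀) c₀ = φ
    have h1 := phiOf_spec D ι hι hE (connOf D ι hι φ c₀) c₀
    rw [diffHom_connOf, psi] at h1
    have h2 := (cancel_epi D.π).1 h1
    exact ((cancel_mono (KoszTw.tensorMap ι (𝟙 Ω'))).1 h2).symm
  · intro c
    change c.conn - c₀.conn = (SheafOfModules.toSheaf X.ringCatSheaf).map
      (D.π ≫ phiOf D ι hι hE c c₀ ≫ KoszTw.tensorMap ι (𝟙 Ω'))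
    have h := congrArg (fun f => (SheafOfModules.toSheaf X.ringCatSheaf).map f)
      (phiOf_spec D ι hι hE c c₀)
    exact (toAb_diffHom D c c₀).symm.trans h

end Main

end Groth.Agent.Lib.Helper47.TransCl
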