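import Groth.Agent.Lib.Helper47.TransClAuto
import Groth.Agent.Lib.Helper12.Sky7
import Groth.Agent.Lib.Helper54.ExtClassIso
import Groth.Agent.Lib.Helper89.ExtOne

set_option autoImplicit false
set_option linter.style.haveILetI false
universe u
open CategoryTheory CategoryTheory.Limits AlgebraicGeometry Opposite Abelian
open DefoSh

namespace Groth.Agent.Lib.Helper47.TransCl

open Groth.Agent.Lib.Helper97.DefoLoc Groth.Agent.Lib.Helper62

variable {X : Scheme.{u}} {k : Type u} [Field k] [X.Over (Spec (CommRingCat.of k))] {E : X.Modules}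

/-- for every first-order deformation `D` of `E`, multiplication by `ε` factors through the reduction. -/
theorem exists_ι (D : DefoSh.Defo E (ArtFun.Art.dual k k)) :
    ∃ ι : E ⟶ D.sheaf, D.π ≫ ι = D.act (DualNumber.eps : DualNumber k) := by
  haveI : Epi D.π := epi_π D
  have hz : kernel.ι D.π ≫ (D.act (epsA k) : D.sheaf ⟶ D.sheaf) = 0 := by
    apply Groth.Agent.Lib.Helper12.Sky.hom_eq_zero_of_stalk
    intro p
    have key : ∀ v : ↑((kernel D.π).presheaf.stalk p),
        RefHull.stalkMapₗ (kernel.ι D.π ≫ (D.act (epsA k) : D.sheaf ⟶ D.sheaf)) p v = 0 := by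
      intro v
      rw [DefoSh.stalkMapₗ_comp_apply]
      have h1 : RefHull.stalkMapₗ D.π p (RefHull.stalkMapₗ (kernel.ι D.π) p v) = 0 := by
        rw [← DefoSh.stalkMapₗ_comp_apply, kernel.condition]
        exact DefoSh.stalkMapₗ_zero_apply p v
      obtain ⟨w, hw⟩ := exists_eps_of_π_eq_zero D p _ h1
      rw [hw, ← DefoSh.stalkMapₗ_comp_apply]
      have h2 : (D.act (epsA k) : D.sheaf ⟶ D.sheaf) ≫ D.act (epsA k) = 0 := act_eps_sq D
      rw [h2]
      exact DefoSh.stalkMapₗ_zero_apply p w
    ext v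
    exact key v
  let S : ShortComplex X.Modules := ShortComplex.mk (kernel.ι D.π) D.π (kernel.condition D.π)
  have hS : S.Exact := S.exact_of_f_is_kernel (kernelIsKernel D.π)
  haveI : Epi S.g := ‹Epi D.π›
  exact ⟨hS.desc (D.act (epsA k) : D.sheaf ⟶ D.sheaf) hz, hS.g_desc _ hz⟩

section WellDef
variable (D D' : DefoSh.Defo E (ArtFun.Art.dual k k)) (ι : E ⟶ D.sheaf) (ι' : E ⟶ D'.sheaf)
  (hι : D.π ≫ ι = D.act (DualNumber.eps : DualNumber k))
  (hι' : D'.π ≫ ι' = D'.act (DualNumber.eps : DualNumber k))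
include hι hι'

theorem ι_comp_iso (e : Defo.Iso D D') : ι ≫ e.iso.hom = ι' := by
  haveI : Epi D.π := epi_π D
  have e1 : D.π ≫ ι = (D.act (epsA k) : D.sheaf ⟶ D.sheaf) := hι
  have e2 : (D'.act (epsA k) : D'.sheaf ⟶ D'.sheaf) = D'.π ≫ ι' := hι'.symm
  rw [← cancel_epi D.π, ← Category.assoc, e1, e.act_hom, e2, ← Category.assoc, e.hom_π]

theorem extClass_eq_of_iso [HasExt.{u} X.Modules] (e : Defo.Iso D D') :
    (shortExact D ι hι).extClass = (shortExact D' ι' hι').extClass := by
  let φ : ShortComplex.mk ι D.π (ι_π D ι hι) ⟶ ShortComplex.mk ι' D'.π (ι_π D' ι' hι') :=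
    { τ₁ := 𝟙 E
      τ₂ := e.iso.hom
      τ₃ := 𝟙 E
      comm₁₂ := by
        change 𝟙 E ≫ ι' = ι ≫ e.iso.hom
        rw [Category.id_comp, ι_comp_iso D D' ι ι' hι hι' e]
      comm₂₃ := by
        change e.iso.hom ≫ D'.π = D.π ≫ 𝟙 E
        rw [Category.comp_id, e.hom_π] }
  have hnat := ShortComplex.ShortExact.extClass_naturality (shortExact D ι hι) (shortExact D' ι' hι') φ
  simp only [φ, Ext.mk₀_id_comp, Ext.comp_mk₀_id] at hnat
  exact hnat

theorem nonempty_iso_of_extClass_eq [HasExt.{u} X.Modules]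
    (h : (shortExact D ι hι).extClass = (shortExact D' ι' hι').extClass) :
    Nonempty (Defo.Iso D D') := by
  obtain ⟨γ, hγ, h1, h2⟩ := Groth.Agent.Lib.Helper54.ExtClassIso.exists_iso_of_extClass_eq
    ι D.π (ι_π D ι hι) ι' D'.π (ι_π D' ι' hι') (shortExact D ι hι) (shortExact D' ι' hι') h
  haveI := hγ
  have hε : (D.act (epsA k) : D.sheaf ⟶ D.sheaf) ≫ γ = γ ≫ D'.act (epsA k) := by
    have e1 : (D.act (epsA k) : D.sheaf ⟶ D.sheaf) = D.π ≫ ι := hι.symm
    have e2 : (D'.act (epsA k) : D'.sheaf ⟶ D'.sheaf) = D'.π ≫ ι' := hι'.symm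
    rw [e1, e2, Category.assoc, h1, ← Category.assoc, h2]
  refine ⟨{ iso := asIso γ, act_hom := ?_, hom_π := h2 }⟩
  intro a
  change (D.act a : D.sheaf ⟶ D.sheaf) ≫ γ = γ ≫ D'.act a
  rw [act_decomp D a, act_decomp D' a, Preadditive.add_comp, Preadditive.comp_add, Category.assoc, hε,
    ← Category.assoc, smulMod_comm, smulMod_comm, Category.assoc]

end WellDef

section FromExt
variable {F : X.Modules} (f : E ⟶ F) (g : F ⟶ E) (w : f ≫ g = 0)

/-- `ε` acts on the middle term of an extension `0 → E → F → E → 0` by `g ≫ f` -/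
noncomputable def epsEnd : End F := g ≫ f

include w in
theorem epsEnd_mul_self : epsEnd f g * epsEnd f g = 0 := by
  rw [End.mul_def, epsEnd, Category.assoc, reassoc_of% w, zero_comp, comp_zero]

variable (k) in
/-- the action of the dual numbers on the middle term of an extension -/
noncomputable def extAct : DualNumber k →ₐ[k] End F :=
  DualNumber.lift ⟨(Algebra.ofId k (End F), epsEnd f g),
    epsEnd_mul_self f g w, fun a => (Algebra.commutes a (epsEnd f g)).symm⟩

theorem extAct_apply (z : DualNumber k) :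
    extAct k f g w z = z.fst • (1 : End F) + z.snd • epsEnd f g := by
  change algebraMap k (End F) z.fst + (algebraMap k (End F) z.snd) * epsEnd f g = _
  rw [Algebra.algebraMap_eq_smul_one, Algebra.algebraMap_eq_smul_one, smul_mul_assoc, one_mul]

theorem extAct_hom (z : DualNumber k) :
    (extAct k f g w z : F ⟶ F) = z.fst • 𝟙 F + z.snd • (g ≫ f) :=
  extAct_apply (k := k) f g w z

theorem extAct_eps : (extAct k f g w (DualNumber.eps : DualNumber k) : F ⟶ F) = g ≫ f := by
  rw [extAct_hom]
  change ((DualNumber.eps : DualNumber k).fst • 𝟙 F +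
      (DualNumber.eps : DualNumber k).snd • (g ≫ f) : F ⟶ F) = _
  simp

theorem extAct_comp_g (z : DualNumber k) (hz : z.fst = 0) :
    (extAct k f g w z : F ⟶ F) ≫ g = 0 := by
  rw [extAct_hom, hz]
  simp [Linear.smul_comp, w]

variable (hS : (ShortComplex.mk f g w).ShortExact)
include hS

theorem stalk_f_injective (p : X) : Function.Injective (RefHull.stalkMapₗ f p) :=
  Groth.Agent.Lib.Helper78.ModStalkExact.stalk_injective _ hS p

theorem stalk_g_surjective (p : X) : Function.Surjective (RefHull.stalkMapₗ g p) :=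
  Groth.Agent.Lib.Helper78.ModStalkExact.stalk_surjective _ hS p

theorem stalk_fg_exact (p : X) :
    Function.Exact (RefHull.stalkMapₗ f p) (RefHull.stalkMapₗ g p) :=
  Groth.Agent.Lib.Helper78.ModStalkExact.stalk_function_exact _ hS p

end FromExt

section DefoOfExt
variable {F : X.Modules} (f : E ⟶ F) (g : F ⟶ E) (w : f ≫ g = 0)
  (hS : (ShortComplex.mk f g w).ShortExact)
  (hB : ∀ (M : Type u) [AddCommGroup M] [Module (DualNumber k) M],
    (∀ m : M, (DualNumber.eps : DualNumber k) • m = 0 →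
      ∃ m' : M, m = (DualNumber.eps : DualNumber k) • m') → Module.Flat (DualNumber k) M)

include hS in
theorem stalk_eps_eq (p : X) (v : ↑(F.presheaf.stalk p)) (hv : RefHull.stalkMapₗ g p v = 0) :
    ∃ y : ↑(F.presheaf.stalk p),
      v = RefHull.stalkMapₗ (extAct k f g w (DualNumber.eps : DualNumber k) : F ⟶ F) p y := by
  obtain ⟨x, rfl⟩ := (stalk_fg_exact f g w hS p v).1 hv
  obtain ⟨y, rfl⟩ := stalk_g_surjective f g w hS p x
  refine ⟨y, ?_⟩
  rw [extAct_eps, DefoSh.stalkMapₗ_comp_apply]

/-- the first-order deformation defined by an extension `0 → E → F → E → 0` -/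
noncomputable def defoOfExt : DefoSh.Defo E (ArtFun.Art.dual k k) where
  sheaf := F
  act := extAct k f g w
  π := g
  act_π a ha := extAct_comp_g (k := k) f g w a ha
  surj p := stalk_g_surjective f g w hS p
  ker_le p v hv := by
    letI : Module (ArtFun.Art.dual k k) ↑(F.presheaf.stalk p) :=
      stalkModule (A := ArtFun.Art.dual k k) F (extAct k f g w).toRingHom p
    let ε : (ArtFun.Art.dual k k) := (DualNumber.eps : DualNumber k)
    have hε : ε ∈ IsLocalRing.maximalIdeal (ArtFun.Art.dual k k) := by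
      rw [ArtFun.Art.mem_maximalIdeal_iff]
      rfl
    obtain ⟨y, hy⟩ := stalk_eps_eq (k := k) f g w hS p v hv
    have hv' : v = ε • y := hy
    rw [hv']
    exact Submodule.smul_mem_smul hε Submodule.mem_top
  flat p := by
    letI : Module (DualNumber k) ↑(F.presheaf.stalk p) :=
      stalkModule (A := DualNumber k) F (extAct k f g w).toRingHom p
    refine hB ↑(F.presheaf.stalk p) ?_
    intro m hm
    have hm' : RefHull.stalkMapₗ (extAct k f g w (DualNumber.eps : DualNumber k) : F ⟶ F) p m = 0 := hm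
    rw [extAct_eps, DefoSh.stalkMapₗ_comp_apply] at hm'
    have h0 : RefHull.stalkMapₗ g p m = 0 :=
      stalk_f_injective f g w hS p (hm'.trans (map_zero _).symm)
    obtain ⟨y, hy⟩ := stalk_eps_eq (k := k) f g w hS p m h0
    exact ⟨y, hy⟩

theorem defoOfExt_hι :
    (defoOfExt f g w hS hB).π ≫ f = (defoOfExt f g w hS hB).act (DualNumber.eps : DualNumber k) :=
  (extAct_eps f g w).symm

theorem defoOfExt_extClass [HasExt.{u} X.Modules] :
    (shortExact (defoOfExt f g w hS hB) f (defoOfExt_hι f g w hS hB)).extClass = hS.extClass := rfl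

end DefoOfExt

section Main

/-- First-order deformations of `E` are classified by `Ext¹(E, E)`; the two inputs `hB` (flatness over the dual
numbers from `ker ε ⊆ im ε`) and `hC` (split sequences have zero class) are pure algebra. -/
theorem firstOrder_equiv_ext [HasExt.{u} X.Modules]
    (hB : ∀ (M : Type u) [AddCommGroup M] [Module (DualNumber k) M],
      (∀ m : M, (DualNumber.eps : DualNumber k) • m = 0 →
        ∃ m' : M, m = (DualNumber.eps : DualNumber k) • m') → Module.Flat (DualNumber k) M)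
    (hC : ∀ {S : ShortComplex X.Modules} (hS : S.ShortExact) (s : S.X₃ ⟶ S.X₂),
      s ≫ S.g = 𝟙 S.X₃ → hS.extClass = 0) :
    ∃ e : DefoSh.FirstOrder k E ≃ Abelian.Ext E E 1,
      e (DefoSh.Defo.trivDual k E).cl = 0 ∧
      ∀ (D : DefoSh.Defo E (ArtFun.Art.dual k k)) (i : E ⟶ D.sheaf)
        (hi : D.π ≫ i = D.act (DualNumber.eps : DualNumber k))
        (h0 : i ≫ D.π = 0) (hS : (ShortComplex.mk i D.π h0).ShortExact),
        e D.cl = hS.extClass := by
  classical
  let cls : DefoSh.Defo E (ArtFun.Art.dual k k) → Abelian.Ext E E 1 := fun D =>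
    (shortExact D (exists_ι D).choose (exists_ι D).choose_spec).extClass
  have cls_eq : ∀ (D : DefoSh.Defo E (ArtFun.Art.dual k k)) (ι : E ⟶ D.sheaf)
      (hι : D.π ≫ ι = D.act (DualNumber.eps : DualNumber k)),
      cls D = (shortExact D ι hι).extClass := fun D ι hι =>
    extClass_eq_of_iso D D _ ι (exists_ι D).choose_spec hι (Defo.Iso.refl D)
  have resp : ∀ D D' : DefoSh.Defo E (ArtFun.Art.dual k k),
      (Defo.setoid E (ArtFun.Art.dual k k)).r D D' → cls D = cls D' := by
    rintro D D' ⟨e⟩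
    exact extClass_eq_of_iso D D' _ _ (exists_ι D).choose_spec (exists_ι D').choose_spec e
  let φ : DefoSh.FirstOrder k E → Abelian.Ext E E 1 := Quotient.lift cls resp
  have hφ : ∀ D : DefoSh.Defo E (ArtFun.Art.dual k k), φ D.cl = cls D := fun D => rfl
  have inj : Function.Injective φ := by
    intro a b hab
    induction a using Quotient.inductionOn with
    | h D =>
      induction b using Quotient.inductionOn with
      | h D' =>
        exact Quotient.sound (nonempty_iso_of_extClass_eq D D' _ _ (exists_ι D).choose_spec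
          (exists_ι D').choose_spec hab)
  have surj : Function.Surjective φ := by
    intro x
    obtain ⟨F, f, g, w, hS, hx⟩ := Helper89.ExtOne.exists_extClass_eq x
    refine ⟨(defoOfExt f g w hS hB).cl, ?_⟩
    rw [hφ, cls_eq _ f (defoOfExt_hι f g w hS hB), defoOfExt_extClass, hx]
  refine ⟨Equiv.ofBijective φ ⟨inj, surj⟩, ?_, ?_⟩
  · change φ (DefoSh.Defo.trivDual k E).cl = 0
    rw [hφ, cls_eq _ (biprod.inr : E ⟶ E ⊞ E) (DefoSh.dualAct_eps E).symm]
    exact hC _ (biprod.inl : E ⟶ E ⊞ E) biprod.inl_fst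
  · intro D i hi h0 hS
    change φ D.cl = _
    rw [hφ, cls_eq D i hi]

end Main

end Groth.Agent.Lib.Helper47.TransCl
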