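import Groth.Prelude.Def_DefoConn
import Groth.Prelude.Def_DefoSh2
import Groth.Prelude.Def_FlatMod2
import Groth.Prelude.Def_KLin
import Groth.Prelude.Def_DDual2

set_option autoImplicit false
universe u
open CategoryTheory CategoryTheory.Limits AlgebraicGeometry Opposite
open DefoSh

namespace Groth.Agent.Lib.Helper47.TrivConn

variable {X : Scheme.{u}} {Ω' : X.Modules}

/-- additivity of `tensorMap` in the first variable -/
lemma tensorMap_add_left {M M' N : X.Modules} (f g : M ⟶ M') :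
    KoszTw.tensorMap (f + g) (𝟙 N) = KoszTw.tensorMap f (𝟙 N) + KoszTw.tensorMap g (𝟙 N) := by
  rw [← KoszTw.tensorRightMod_map, ← KoszTw.tensorRightMod_map, ← KoszTw.tensorRightMod_map]
  exact (DCoh.tensorRightMod N).map_add

lemma tensorMap_zero_left {M M' N : X.Modules} :
    KoszTw.tensorMap (0 : M ⟶ M') (𝟙 N) = 0 := by
  rw [← KoszTw.tensorRightMod_map]
  exact (DCoh.tensorRightMod N).map_zero _ _

variable {E : X.Modules}

/-- the candidate connection on `E ⊞ E` -/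
noncomputable def conn (nabla : Coh.toAb E ⟶ Coh.toAb (CohB1.tensorMod E Ω')) :
    Coh.toAb (E ⊞ E) ⟶ Coh.toAb (CohB1.tensorMod (E ⊞ E) Ω') :=
  (SheafOfModules.toSheaf X.ringCatSheaf).map (biprod.fst : E ⊞ E ⟶ E) ≫ nabla ≫
      (SheafOfModules.toSheaf X.ringCatSheaf).map (KoszTw.tensorMap (biprod.inl : E ⟶ E ⊞ E) (𝟙 Ω')) +
    (SheafOfModules.toSheaf X.ringCatSheaf).map (biprod.snd : E ⊞ E ⟶ E) ≫ nabla ≫
      (SheafOfModules.toSheaf X.ringCatSheaf).map (KoszTw.tensorMap (biprod.inr : E ⟶ E ⊞ E) (𝟙 Ω'))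

lemma secApp_conn (nabla : Coh.toAb E ⟶ Coh.toAb (CohB1.tensorMod E Ω')) (U : X.Opens)
    (x : (E ⊞ E).val.obj (op U)) :
    ConnSh.secApp (conn nabla) U x =
      (KoszTw.tensorMap (biprod.inl : E ⟶ E ⊞ E) (𝟙 Ω')).app U
          (ConnSh.secApp nabla U ((biprod.fst : E ⊞ E ⟶ E).app U x)) +
        (KoszTw.tensorMap (biprod.inr : E ⟶ E ⊞ E) (𝟙 Ω')).app U
          (ConnSh.secApp nabla U ((biprod.snd : E ⊞ E ⟶ E).app U x)) := by
  rfl


lemma tm_comp_app {M M' M'' N : X.Modules} (f : M ⟶ M') (g : M' ⟶ M'') (U : X.Opens)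
    (w : (CohB1.tensorMod M N).val.obj (op U)) :
    (KoszTw.tensorMap g (𝟙 N)).app U ((KoszTw.tensorMap f (𝟙 N)).app U w) =
      (KoszTw.tensorMap (f ≫ g) (𝟙 N)).app U w := by
  have h := KoszTw.tensorMap_comp f g (𝟙 N) (𝟙 N)
  rw [Category.comp_id] at h
  rw [h, Scheme.Modules.Hom.comp_app]
  rfl

lemma tm_id_app {M N : X.Modules} (U : X.Opens) (w : (CohB1.tensorMod M N).val.obj (op U)) :
    (KoszTw.tensorMap (𝟙 M) (𝟙 N)).app U w = w := by
  rw [KoszTw.tensorMap_id, Scheme.Modules.Hom.id_app]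
  rfl

lemma tm_zero_app {M M' N : X.Modules} (U : X.Opens) (w : (CohB1.tensorMod M N).val.obj (op U)) :
    (KoszTw.tensorMap (0 : M ⟶ M') (𝟙 N)).app U w = 0 := by
  rw [tensorMap_zero_left, Scheme.Modules.Hom.zero_app]
  rfl

lemma tm_add_app {M M' N : X.Modules} (f g : M ⟶ M') (U : X.Opens)
    (w : (CohB1.tensorMod M N).val.obj (op U)) :
    (KoszTw.tensorMap (f + g) (𝟙 N)).app U w =
      (KoszTw.tensorMap f (𝟙 N)).app U w + (KoszTw.tensorMap g (𝟙 N)).app U w := by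
  rw [tensorMap_add_left, Scheme.Modules.Hom.add_app]
  rfl

theorem π_horizontal (nabla : Coh.toAb E ⟶ Coh.toAb (CohB1.tensorMod E Ω')) :
    ConnSh.IsHorizontal (conn nabla) nabla (biprod.fst : E ⊞ E ⟶ E) := by
  intro U e
  rw [secApp_conn, map_add, tm_comp_app, tm_comp_app, biprod.inl_fst, biprod.inr_fst, tm_id_app,
    tm_zero_app]
  exact (add_zero _).symm


lemma tmul_add_left (M N : X.Modules) (U : X.Opens) (m m' : M.val.obj (op U)) (n : N.val.obj (op U)) :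
    SecTwist.tmul M N U (m + m') n = SecTwist.tmul M N U m n + SecTwist.tmul M N U m' n := by
  unfold SecTwist.tmul
  rw [TensorProduct.add_tmul]
  exact map_add ((SecTwist.toTensor M N).app (op U)).hom _ _

lemma tmul_zero_right (M N : X.Modules) (U : X.Opens) (m : M.val.obj (op U)) :
    SecTwist.tmul M N U m 0 = 0 := by
  unfold SecTwist.tmul
  rw [TensorProduct.tmul_zero]
  exact map_zero ((SecTwist.toTensor M N).app (op U)).hom

lemma app_smul' {M N : X.Modules} (φ : M ⟶ N) (U : X.Opens) (t : Γ(X, U)) (e : M.val.obj (op U)) :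
    φ.app U (t • e) = t • φ.app U e :=
  Scheme.Modules.Hom.app_smul φ t e

lemma app_add' {M N : X.Modules} (φ : M ⟶ N) (U : X.Opens) (a b : M.val.obj (op U)) :
    φ.app U (a + b) = φ.app U a + φ.app U b :=
  map_add (φ.app U).hom a b

lemma total_app (U : X.Opens) (e : (E ⊞ E).val.obj (op U)) :
    (biprod.inl : E ⟶ E ⊞ E).app U ((biprod.fst : E ⊞ E ⟶ E).app U e) +
      (biprod.inr : E ⟶ E ⊞ E).app U ((biprod.snd : E ⊞ E ⟶ E).app U e) = e := by
  have h := congrArg (fun φ : E ⊞ E ⟶ E ⊞ E => φ.app U e) (biprod.total (X := E) (Y := E))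
  simp only [Scheme.Modules.Hom.add_app, Scheme.Modules.Hom.comp_app, Scheme.Modules.Hom.id_app] at h
  exact h

/-- sectionwise application as a plain function (to keep rewriting syntactic) -/
noncomputable def T {M N : X.Modules} (φ : M ⟶ N) (U : X.Opens) (w : M.val.obj (op U)) : N.val.obj (op U) :=
  φ.app U w

lemma T_add {M N : X.Modules} (φ : M ⟶ N) (U : X.Opens) (a b : M.val.obj (op U)) :
    T φ U (a + b) = T φ U a + T φ U b := app_add' φ U a b

lemma T_smul {M N : X.Modules} (φ : M ⟶ N) (U : X.Opens) (t : Γ(X, U)) (a : M.val.obj (op U)) :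
    T φ U (t • a) = t • T φ U a := app_smul' φ U t a

lemma T_tmul {M M' N : X.Modules} (f : M ⟶ M') (U : X.Opens) (m : M.val.obj (op U)) (n : N.val.obj (op U)) :
    T (KoszTw.tensorMap f (𝟙 N)) U (SecTwist.tmul M N U m n) = SecTwist.tmul M' N U (T f U m) n :=
  KoszTw.tensorMap_tmul f (𝟙 N) U m n

lemma T_comp {M M' M'' N : X.Modules} (f : M ⟶ M') (g : M' ⟶ M'') (U : X.Opens)
    (w : (CohB1.tensorMod M N).val.obj (op U)) :
    T (KoszTw.tensorMap g (𝟙 N)) U (T (KoszTw.tensorMap f (𝟙 N)) U w) =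
      T (KoszTw.tensorMap (f ≫ g) (𝟙 N)) U w := tm_comp_app f g U w

lemma T_total (U : X.Opens) (e : (E ⊞ E).val.obj (op U)) :
    T (biprod.inl : E ⟶ E ⊞ E) U (T (biprod.fst : E ⊞ E ⟶ E) U e) +
      T (biprod.inr : E ⟶ E ⊞ E) U (T (biprod.snd : E ⊞ E ⟶ E) U e) = e := total_app U e

lemma secApp_conn' (nabla : Coh.toAb E ⟶ Coh.toAb (CohB1.tensorMod E Ω')) (U : X.Opens)
    (x : (E ⊞ E).val.obj (op U)) :
    ConnSh.secApp (conn nabla) U x =
      T (KoszTw.tensorMap (biprod.inl : E ⟶ E ⊞ E) (𝟙 Ω')) U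
          (ConnSh.secApp nabla U (T (biprod.fst : E ⊞ E ⟶ E) U x)) +
        T (KoszTw.tensorMap (biprod.inr : E ⟶ E ⊞ E) (𝟙 Ω')) U
          (ConnSh.secApp nabla U (T (biprod.snd : E ⊞ E ⟶ E) U x)) := rfl

theorem isConn {k : Type u} [Field k] [X.Over (Spec (CommRingCat.of k))]
    (δ : OmegaSh.Der (X ↘ Spec (CommRingCat.of k)) Ω')
    (nabla : Coh.toAb E ⟶ Coh.toAb (CohB1.tensorMod E Ω')) (hn : ConnSh.IsConn δ E nabla) :
    ConnSh.IsConn δ (E ⊞ E) (conn nabla) := by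
  intro U t e
  have n1 := hn U t (T (biprod.fst : E ⊞ E ⟶ E) U e)
  have n2 := hn U t (T (biprod.snd : E ⊞ E ⟶ E) U e)
  rw [secApp_conn', secApp_conn', T_smul, T_smul, n1, n2, T_add, T_add, T_smul, T_smul]
  have t1 := T_tmul (N := Ω') (biprod.inl : E ⟶ E ⊞ E) U (T (biprod.fst : E ⊞ E ⟶ E) U e) (δ.app U t)
  have t2 := T_tmul (N := Ω') (biprod.inr : E ⟶ E ⊞ E) U (T (biprod.snd : E ⊞ E ⟶ E) U e) (δ.app U t)
  rw [t1, t2]
  have h1 := tmul_add_left (E ⊞ E) Ω' U (T (biprod.inl : E ⟶ E ⊞ E) U (T (biprod.fst : E ⊞ E ⟶ E) U e))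
    (T (biprod.inr : E ⟶ E ⊞ E) U (T (biprod.snd : E ⊞ E ⟶ E) U e)) (δ.app U t)
  rw [T_total] at h1
  rw [h1, smul_add]
  abel


lemma hom_ext_tmul {M N P : X.Modules} (A B : CohB1.tensorMod M N ⟶ P)
    (h : ∀ (U : X.Opens) (m : M.val.obj (op U)) (n : N.val.obj (op U)),
      T A U (SecTwist.tmul M N U m n) = T B U (SecTwist.tmul M N U m n)) : A = B := by
  let adj := PresheafOfModules.sheafificationAdjunction.{u, u, u, u}
    (J := Opens.grothendieckTopology X) (𝟙 X.ringCatSheaf.obj)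
  apply (adj.homEquiv (CohB1.tensorPre M N : X.PresheafOfModules) P).injective
  refine (adj.homEquiv_unit _ _ A).trans (Eq.trans ?_ (adj.homEquiv_unit _ _ B).symm)
  apply PresheafOfModules.hom_ext
  intro U
  apply ModuleCat.hom_ext
  apply LinearMap.ext
  intro z
  induction z using TensorProduct.induction_on with
  | zero => exact (map_zero _).trans (map_zero _).symm
  | tmul m n => exact h U.unop m n
  | add a b ha hb =>
    exact (map_add _ a b).trans ((congrArg₂ (· + ·) ha hb).trans (map_add _ a b).symm)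


lemma tmul_smul_left (M N : X.Modules) (U : X.Opens) (t : Γ(X, U)) (m : M.val.obj (op U))
    (n : N.val.obj (op U)) :
    SecTwist.tmul M N U (t • m) n = t • SecTwist.tmul M N U m n := by
  let t' : ↑((X.sheaf.obj ⋙ forget₂ CommRingCat RingCat).obj (op U)) := t
  let m' : ↑((CohB1.toPMod M).obj (op U)) := m
  let n' : ↑((CohB1.toPMod N).obj (op U)) := n
  exact (congrArg (fun z => ((SecTwist.toTensor M N).app (op U)).hom z)
    (TensorProduct.smul_tmul' t' m' n').symm).trans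
    (map_smul ((SecTwist.toTensor M N).app (op U)).hom t' (m' ⊗ₜ n'))

lemma T_smulModΓ (M : X.Modules) (r : Coh.Γtop X) (U : X.Opens) (m : M.val.obj (op U)) :
    T (Formal.smulModΓ M r) U m = X.presheaf.map (homOfLE (le_top : U ≤ ⊤)).op r • m := rfl

lemma tensorMap_smulModΓ (M N : X.Modules) (r : Coh.Γtop X) :
    KoszTw.tensorMap (Formal.smulModΓ M r) (𝟙 N) = Formal.smulModΓ (CohB1.tensorMod M N) r := by
  apply hom_ext_tmul
  intro U m n
  rw [T_tmul, T_smulModΓ, T_smulModΓ, tmul_smul_left]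

lemma tensorMap_smul {k : Type u} [Field k] [X.Over (Spec (CommRingCat.of k))]
    {M M' N : X.Modules} (c : k) (f : M ⟶ M') :
    KoszTw.tensorMap (c • f) (𝟙 N) = c • KoszTw.tensorMap f (𝟙 N) := by
  rw [KLin.smul_def, KLin.smul_def]
  have h := KoszTw.tensorMap_comp (Formal.smulMod k M c) f (𝟙 N) (𝟙 N)
  rw [Category.comp_id] at h
  rw [h]
  unfold Formal.smulMod
  rw [tensorMap_smulModΓ]


section KLinear

variable {k : Type u} [Field k] [X.Over (Spec (CommRingCat.of k))]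

lemma der_toGlobal (δ : OmegaSh.Der (X ↘ Spec (CommRingCat.of k)) Ω') (c : k) :
    δ.d (X := op ⊤) (Coh.toGlobal (X ↘ Spec (CommRingCat.of k)) c) = 0 :=
  δ.d_app (X := op ⊤) ((Scheme.ΓSpecIso (CommRingCat.of k)).inv c)

lemma der_res_toGlobal (δ : OmegaSh.Der (X ↘ Spec (CommRingCat.of k)) Ω') (c : k) (U : X.Opens) :
    δ.app U (X.presheaf.map (homOfLE (le_top : U ≤ ⊤)).op
      (Coh.toGlobal (X ↘ Spec (CommRingCat.of k)) c)) = 0 := by
  have h := δ.d_map (homOfLE (le_top : U ≤ ⊤)).op (Coh.toGlobal (X ↘ Spec (CommRingCat.of k)) c)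
  rw [der_toGlobal, map_zero] at h
  exact h

end KLinear


section KLinear2

variable {k : Type u} [Field k] [X.Over (Spec (CommRingCat.of k))]

/-- the image of `c : k` in `Γ(X, U)` -/
noncomputable def cb (c : k) (U : X.Opens) : Γ(X, U) :=
  X.presheaf.map (homOfLE (le_top : U ≤ ⊤)).op (Coh.toGlobal (X ↘ Spec (CommRingCat.of k)) c)

lemma T_ksmul {M N : X.Modules} (c : k) (f : M ⟶ N) (U : X.Opens) (m : M.val.obj (op U)) :
    T (c • f) U m = cb c U • T f U m := KLin.smul_app_apply c f U m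

lemma T_hom_add {M N : X.Modules} (f g : M ⟶ N) (U : X.Opens) (m : M.val.obj (op U)) :
    T (f + g) U m = T f U m + T g U m := rfl

lemma T_hom_comp {M N P : X.Modules} (f : M ⟶ N) (g : N ⟶ P) (U : X.Opens) (m : M.val.obj (op U)) :
    T g U (T f U m) = T (f ≫ g) U m := rfl

lemma nabla_ksmul (δ : OmegaSh.Der (X ↘ Spec (CommRingCat.of k)) Ω')
    (nabla : Coh.toAb E ⟶ Coh.toAb (CohB1.tensorMod E Ω')) (hn : ConnSh.IsConn δ E nabla)
    (c : k) (U : X.Opens) (x : E.val.obj (op U)) :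
    ConnSh.secApp nabla U (cb c U • x) = cb c U • ConnSh.secApp nabla U x := by
  have h := hn U (cb c U) x
  have h0 : δ.app U (cb c U) = 0 := der_res_toGlobal δ c U
  rw [h0] at h
  have hz := tmul_zero_right E Ω' U x
  exact h.trans ((congrArg (fun z => cb c U • ConnSh.secApp nabla U x + z) hz).trans (add_zero _))

lemma act_fst (a : DualNumber k) :
    (dualAct k E a : E ⊞ E ⟶ E ⊞ E) ≫ biprod.fst = a.fst • (biprod.fst : E ⊞ E ⟶ E) := by
  rw [dualAct_hom]
  change (a.fst • 𝟙 (E ⊞ E) + a.snd • ((biprod.fst : E ⊞ E ⟶ E) ≫ biprod.inr)) ≫ biprod.fst = _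
  simp [Preadditive.add_comp, Linear.smul_comp]

lemma act_snd (a : DualNumber k) :
    (dualAct k E a : E ⊞ E ⟶ E ⊞ E) ≫ biprod.snd =
      a.fst • (biprod.snd : E ⊞ E ⟶ E) + a.snd • (biprod.fst : E ⊞ E ⟶ E) := by
  rw [dualAct_hom]
  change (a.fst • 𝟙 (E ⊞ E) + a.snd • ((biprod.fst : E ⊞ E ⟶ E) ≫ biprod.inr)) ≫ biprod.snd = _
  simp [Preadditive.add_comp, Linear.smul_comp]

lemma inl_act (a : DualNumber k) :
    (biprod.inl : E ⟶ E ⊞ E) ≫ (dualAct k E a : E ⊞ E ⟶ E ⊞ E) =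
      a.fst • (biprod.inl : E ⟶ E ⊞ E) + a.snd • (biprod.inr : E ⟶ E ⊞ E) := by
  rw [dualAct_hom]
  change (biprod.inl : E ⟶ E ⊞ E) ≫
    (a.fst • 𝟙 (E ⊞ E) + a.snd • ((biprod.fst : E ⊞ E ⟶ E) ≫ biprod.inr)) = _
  simp [Preadditive.comp_add, Linear.comp_smul]

lemma inr_act (a : DualNumber k) :
    (biprod.inr : E ⟶ E ⊞ E) ≫ (dualAct k E a : E ⊞ E ⟶ E ⊞ E) =
      a.fst • (biprod.inr : E ⟶ E ⊞ E) := by
  rw [dualAct_hom]
  change (biprod.inr : E ⟶ E ⊞ E) ≫
    (a.fst • 𝟙 (E ⊞ E) + a.snd • ((biprod.fst : E ⊞ E ⟶ E) ≫ biprod.inr)) = _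
  simp [Preadditive.comp_add, Linear.comp_smul]

end KLinear2


section Main

variable {k : Type u} [Field k] [X.Over (Spec (CommRingCat.of k))]

lemma secApp_add {M N : X.Modules} (φ : Coh.toAb M ⟶ Coh.toAb N) (U : X.Opens)
    (a b : M.val.obj (op U)) :
    ConnSh.secApp φ U (a + b) = ConnSh.secApp φ U a + ConnSh.secApp φ U b :=
  map_add (ConnSh.secApp φ U) a b

theorem act_horizontal (δ : OmegaSh.Der (X ↘ Spec (CommRingCat.of k)) Ω')
    (nabla : Coh.toAb E ⟶ Coh.toAb (CohB1.tensorMod E Ω')) (hn : ConnSh.IsConn δ E nabla)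
    (a : DualNumber k) :
    ConnSh.IsHorizontal (conn nabla) (conn nabla) (dualAct k E a : E ⊞ E ⟶ E ⊞ E) := by
  intro U e
  show ConnSh.secApp (conn nabla) U (T (dualAct k E a : E ⊞ E ⟶ E ⊞ E) U e) =
    T (KoszTw.tensorMap (dualAct k E a : E ⊞ E ⟶ E ⊞ E) (𝟙 Ω')) U (ConnSh.secApp (conn nabla) U e)
  rw [secApp_conn', secApp_conn', T_hom_comp, T_hom_comp, act_fst, act_snd, T_add, T_comp, T_comp,
    inl_act, inr_act, tensorMap_add_left, tensorMap_smul, tensorMap_smul, tensorMap_smul,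
    T_hom_add, T_ksmul, T_ksmul, T_ksmul, T_hom_add, T_ksmul, T_ksmul, T_ksmul,
    secApp_add, nabla_ksmul δ nabla hn, nabla_ksmul δ nabla hn, nabla_ksmul δ nabla hn,
    T_smul, T_add, T_smul, T_smul]
  abel

end Main

end Groth.Agent.Lib.Helper47.TrivConn
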