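import Groth.Agent.Lib.Helper47.TransClAuto
import Groth.Agent.Lib.Helper47.TrivConn

set_option autoImplicit false
set_option linter.style.haveILetI false
universe u
open CategoryTheory CategoryTheory.Limits AlgebraicGeometry Opposite
open DefoSh

namespace Groth.Agent.Lib.Helper47.TransCl

open Groth.Agent.Lib.Helper97.DefoLoc Groth.Agent.Lib.Helper62 Groth.Agent.Lib.Helper47.TrivConn

variable {X : Scheme.{u}} {Ω' : X.Modules}

/-- morphisms of the underlying abelian sheaves are determined on sections -/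
theorem toAb_hom_ext {M N : X.Modules} (f g : Coh.toAb M ⟶ Coh.toAb N)
    (h : ∀ (U : X.Opens) (x : M.val.obj (op U)), ConnSh.secApp f U x = ConnSh.secApp g U x) :
    f = g := by
  apply Sheaf.hom_ext
  ext U x
  exact h U.unop x

theorem secApp_comp {M N P : X.Modules} (f : Coh.toAb M ⟶ Coh.toAb N) (g : Coh.toAb N ⟶ Coh.toAb P)
    (U : X.Opens) (x : M.val.obj (op U)) :
    ConnSh.secApp (f ≫ g) U x = ConnSh.secApp g U (ConnSh.secApp f U x) := rfl

theorem secApp_sub {M N : X.Modules} (f g : Coh.toAb M ⟶ Coh.toAb N)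
    (U : X.Opens) (x : M.val.obj (op U)) :
    ConnSh.secApp (f - g) U x = ConnSh.secApp f U x - ConnSh.secApp g U x := rfl

theorem secApp_map {M N : X.Modules} (φ : M ⟶ N) (U : X.Opens) (x : M.val.obj (op U)) :
    ConnSh.secApp ((SheafOfModules.toSheaf X.ringCatSheaf).map φ) U x = T φ U x := rfl

theorem T_comp' {M N P : X.Modules} (φ : M ⟶ N) (ψ : N ⟶ P) (U : X.Opens) (x : M.val.obj (op U)) :
    T (φ ≫ ψ) U x = T ψ U (T φ U x) := rfl

theorem T_add_hom {M N : X.Modules} (φ ψ : M ⟶ N) (U : X.Opens) (x : M.val.obj (op U)) :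
    T (φ + ψ) U x = T φ U x + T ψ U x := rfl

theorem T_id {M : X.Modules} (U : X.Opens) (x : M.val.obj (op U)) : T (𝟙 M) U x = x := rfl

theorem T_sub {M N : X.Modules} (φ : M ⟶ N) (U : X.Opens) (a b : M.val.obj (op U)) :
    T φ U (a - b) = T φ U a - T φ U b := map_sub (φ.app U).hom a b

theorem T_tm_add {M M' N : X.Modules} (f g : M ⟶ M') (U : X.Opens)
    (w : (CohB1.tensorMod M N).val.obj (op U)) :
    T (KoszTw.tensorMap (f + g) (𝟙 N)) U w =
      T (KoszTw.tensorMap f (𝟙 N)) U w + T (KoszTw.tensorMap g (𝟙 N)) U w := tm_add_app f g U w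

theorem T_tm_id {M N : X.Modules} (U : X.Opens) (w : (CohB1.tensorMod M N).val.obj (op U)) :
    T (KoszTw.tensorMap (𝟙 M) (𝟙 N)) U w = w := tm_id_app U w

theorem horizontal_iff {E E' : X.Modules} (c : Coh.toAb E ⟶ Coh.toAb (CohB1.tensorMod E Ω'))
    (c' : Coh.toAb E' ⟶ Coh.toAb (CohB1.tensorMod E' Ω')) (φ : E ⟶ E') :
    ConnSh.IsHorizontal c c' φ ↔ ∀ (U : X.Opens) (e : E.val.obj (op U)),
      ConnSh.secApp c' U (T φ U e) = T (KoszTw.tensorMap φ (𝟙 Ω')) U (ConnSh.secApp c U e) := Iff.rfl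

variable {k : Type u} [Field k] [X.Over (Spec (CommRingCat.of k))] {E : X.Modules}
  {δ : OmegaSh.Der (X ↘ Spec (CommRingCat.of k)) Ω'}
  {nabla : Coh.toAb E ⟶ Coh.toAb (CohB1.tensorMod E Ω')}

section
variable (D : DefoSh.Defo E (ArtFun.Art.dual k k)) (ι : E ⟶ D.sheaf)
  (hι : D.π ≫ ι = D.act (DualNumber.eps : DualNumber k))

theorem epi_toAb_π : Epi ((SheafOfModules.toSheaf X.ringCatSheaf).map D.π) := by
  have h := epi_π D
  haveI : PreservesFiniteColimits (SheafOfModules.toSheaf.{u} X.ringCatSheaf) :=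
    PreservesColimitsOfSize.preservesFiniteColimits _
  haveI : (SheafOfModules.toSheaf.{u} X.ringCatSheaf).PreservesEpimorphisms :=
    preservesEpimorphisms_of_preservesColimitsOfShape _
  exact @Functor.map_epi _ _ _ _ (SheafOfModules.toSheaf.{u} X.ringCatSheaf) _ _ _ D.π h

include hι

/-- multiplication by `ε`, as the map `ι : E → D`, is horizontal -/
theorem ι_horizontal (c : DefoConn δ nabla D) : ConnSh.IsHorizontal nabla c.conn ι := by
  have hab : (SheafOfModules.toSheaf X.ringCatSheaf).map ι ≫ c.conn =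
      nabla ≫ (SheafOfModules.toSheaf X.ringCatSheaf).map (KoszTw.tensorMap ι (𝟙 Ω')) := by
    haveI := epi_toAb_π D
    rw [← cancel_epi ((SheafOfModules.toSheaf X.ringCatSheaf).map D.π)]
    apply toAb_hom_ext
    intro U z
    rw [secApp_comp, secApp_comp, secApp_comp, secApp_comp, secApp_map, secApp_map, secApp_map]
    have h1 : T ι U (T D.π U z) = T (D.act (epsA k) : D.sheaf ⟶ D.sheaf) U z := by
      rw [← T_comp', hι]
      rfl
    rw [h1, (horizontal_iff _ _ _).1 (c.act_horizontal (epsA k)) U z]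
    have h2 : (D.act (epsA k) : D.sheaf ⟶ D.sheaf) = D.π ≫ ι := hι.symm
    rw [h2, ← T_comp (N := Ω') D.π ι U, ← (horizontal_iff _ _ _).1 c.π_horizontal U z]
  rw [horizontal_iff]
  intro U y
  have := congrArg (fun φ => ConnSh.secApp φ U y) hab
  exact this

/-- the key identity: `𝟙 + π ≫ S ≫ ι` is horizontal from `c` to `c'` iff `c' - c` is the expected expression in `S`. -/
theorem horizontal_autoIso_iff (c c' : DefoConn δ nabla D) (S : E ⟶ E) :
    ConnSh.IsHorizontal c.conn c'.conn (𝟙 _ + nil D ι S) ↔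
      c'.conn - c.conn = (SheafOfModules.toSheaf X.ringCatSheaf).map D.π ≫
        (nabla ≫ (SheafOfModules.toSheaf X.ringCatSheaf).map (KoszTw.tensorMap S (𝟙 Ω')) -
          (SheafOfModules.toSheaf X.ringCatSheaf).map S ≫ nabla) ≫
          (SheafOfModules.toSheaf X.ringCatSheaf).map (KoszTw.tensorMap ι (𝟙 Ω')) := by
  have key : ∀ (U : X.Opens) (x : D.sheaf.val.obj (op U)),
      (ConnSh.secApp c'.conn U (T (𝟙 _ + nil D ι S) U x) =
        T (KoszTw.tensorMap (𝟙 _ + nil D ι S) (𝟙 Ω')) U (ConnSh.secApp c.conn U x)) ↔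
      ConnSh.secApp (c'.conn - c.conn) U x =
        ConnSh.secApp ((SheafOfModules.toSheaf X.ringCatSheaf).map D.π ≫
        (nabla ≫ (SheafOfModules.toSheaf X.ringCatSheaf).map (KoszTw.tensorMap S (𝟙 Ω')) -
          (SheafOfModules.toSheaf X.ringCatSheaf).map S ≫ nabla) ≫
          (SheafOfModules.toSheaf X.ringCatSheaf).map (KoszTw.tensorMap ι (𝟙 Ω'))) U x := by
    intro U x
    have hL1 : T (𝟙 _ + nil D ι S) U x = x + T ι U (T S U (T D.π U x)) := by
      rw [T_add_hom, T_id]
      rfl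
    have hL2 : ConnSh.secApp c'.conn U (T ι U (T S U (T D.π U x))) =
        T (KoszTw.tensorMap ι (𝟙 Ω')) U (ConnSh.secApp nabla U (T S U (T D.π U x))) :=
      (horizontal_iff _ _ _).1 (ι_horizontal D ι hι c') U _
    have hR1 : T (KoszTw.tensorMap (𝟙 _ + nil D ι S) (𝟙 Ω')) U (ConnSh.secApp c.conn U x) =
        ConnSh.secApp c.conn U x + T (KoszTw.tensorMap ι (𝟙 Ω')) U
          (T (KoszTw.tensorMap S (𝟙 Ω')) U (ConnSh.secApp nabla U (T D.π U x))) := by
      rw [T_tm_add, T_tm_id, (horizontal_iff _ _ _).1 c.π_horizontal U x, T_comp, T_comp]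
      rfl
    rw [hL1, map_add, hL2, hR1, secApp_sub, secApp_comp, secApp_comp, secApp_map, secApp_map,
      secApp_sub, secApp_comp, secApp_comp, secApp_map, secApp_map, T_sub,
      sub_eq_sub_iff_add_eq_add]
    constructor
    · intro h
      rw [h, add_comm]
    · intro h
      rw [h, add_comm]
  rw [horizontal_iff]
  constructor
  · intro h
    apply toAb_hom_ext
    intro U x
    exact (key U x).1 (h U x)
  · intro h U x
    exact (key U x).2 (congrArg (fun φ => ConnSh.secApp φ U x) h)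

end

end Groth.Agent.Lib.Helper47.TransCl
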