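import Groth.Prelude.Def_DefoConn
import Groth.Agent.Lib.Helper12.StalkExact
import Groth.Agent.Lib.Helper62.ModIso
import Groth.Agent.Lib.Helper97.DefoLoc7

set_option autoImplicit false
set_option linter.style.haveILetI false
universe u
open CategoryTheory CategoryTheory.Limits AlgebraicGeometry Opposite
open DefoSh

namespace Groth.Agent.Lib.Helper47.TransCl

open Groth.Agent.Lib.Helper97.DefoLoc Groth.Agent.Lib.Helper62

section Abstract
universe v w
variable {C : Type w} [Category.{v} C] [Abelian C]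

/-- In an abelian category, for a short exact sequence `0 → E →ι D →π E → 0`, every endomorphism `T` of `D`
with `T ≫ π = 0` commuting with `π ≫ ι` is of the form `π ≫ S ≫ ι`. -/
theorem exists_factor {E D : C} (ι : E ⟶ D) (π : D ⟶ E) (w : ι ≫ π = 0)
    (hS : (ShortComplex.mk ι π w).ShortExact) (T : D ⟶ D) (hT : T ≫ π = 0)
    (hc : (π ≫ ι) ≫ T = T ≫ (π ≫ ι)) : ∃ S : E ⟶ E, T = π ≫ S ≫ ι := by
  haveI : Epi π := hS.epi_g
  haveI : Mono ι := hS.mono_f
  have h1 : ι ≫ T = 0 := by
    rw [← cancel_epi π, comp_zero, ← Category.assoc, hc, ← Category.assoc, hT, zero_comp]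
  -- T factors through π
  obtain ⟨T₂, hT₂⟩ : ∃ T₂ : E ⟶ D, π ≫ T₂ = T :=
    ⟨hS.exact.desc T h1, hS.exact.g_desc T h1⟩
  have h2 : T₂ ≫ π = 0 := by
    rw [← cancel_epi π, comp_zero, ← Category.assoc, hT₂, hT]
  obtain ⟨S, hS'⟩ : ∃ S : E ⟶ E, S ≫ ι = T₂ :=
    ⟨hS.exact.lift T₂ h2, hS.exact.lift_f T₂ h2⟩
  exact ⟨S, by rw [hS', hT₂]⟩


end Abstract

variable {X : Scheme.{u}}

theorem stalkFunctor_map_eq {M N : X.Modules} (φ : M ⟶ N) (x : X) (m : M.presheaf.stalk x) :
    (DerSch.stalkFunctor X x).map φ m = RefHull.stalkMapₗ φ x m := rfl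

theorem mono_of_stalk {M N : X.Modules} (φ : M ⟶ N)
    (h : ∀ x : X, Function.Injective (RefHull.stalkMapₗ φ x)) : Mono φ := by
  let S : ShortComplex X.Modules := ShortComplex.mk (0 : M ⟶ M) φ zero_comp
  have hS : S.Exact := by
    rw [Groth.Agent.Lib.Helper12.StalkExact.exact_iff_stalk]
    intro x
    have hm : Mono (S.map (DerSch.stalkFunctor X x)).g := by
      rw [ModuleCat.mono_iff_injective]
      exact h x
    exact (ShortComplex.exact_iff_mono _ (Functor.map_zero (DerSch.stalkFunctor X x) _ _)).2 hm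
  exact (S.exact_iff_mono rfl).1 hS

theorem epi_of_stalk {M N : X.Modules} (φ : M ⟶ N)
    (h : ∀ x : X, Function.Surjective (RefHull.stalkMapₗ φ x)) : Epi φ := by
  let S : ShortComplex X.Modules := ShortComplex.mk φ (0 : N ⟶ N) comp_zero
  have hS : S.Exact := by
    rw [Groth.Agent.Lib.Helper12.StalkExact.exact_iff_stalk]
    intro x
    have hm : Epi (S.map (DerSch.stalkFunctor X x)).f := by
      rw [ModuleCat.epi_iff_surjective]
      exact h x
    exact (ShortComplex.exact_iff_epi _ (Functor.map_zero (DerSch.stalkFunctor X x) _ _)).2 hm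
  exact (S.exact_iff_epi rfl).1 hS

theorem exact_of_stalk (S : ShortComplex X.Modules)
    (h : ∀ x : X, Function.Exact (RefHull.stalkMapₗ S.f x) (RefHull.stalkMapₗ S.g x)) : S.Exact := by
  rw [Groth.Agent.Lib.Helper12.StalkExact.exact_iff_stalk]
  intro x
  rw [ShortComplex.ShortExact.moduleCat_exact_iff_function_exact]
  exact h x

variable {k : Type u} [Field k] [X.Over (Spec (CommRingCat.of k))] {E : X.Modules}


section Stalks
variable (D : DefoSh.Defo E (ArtFun.Art.dual k k))

/-- elements of the maximal ideal of the dual numbers are multiples of `ε` -/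
theorem eq_eps_mul_of_mem (a : ArtFun.Art.dual k k)
    (ha : a ∈ IsLocalRing.maximalIdeal (ArtFun.Art.dual k k)) :
    ∃ b : ArtFun.Art.dual k k, a = epsA k * b := by
  rw [ArtFun.Art.mem_maximalIdeal_iff] at ha
  refine ⟨algebraMap k (ArtFun.Art.dual k k) (TrivSqZeroExt.snd (a : DualNumber k)), ?_⟩
  have h := dual_decomp' a
  have h0 : TrivSqZeroExt.fst (a : DualNumber k) = 0 := ha
  rw [h0, map_zero, zero_add] at h
  exact h

/-- the kernel of `π` on a stalk consists of multiples of `ε` -/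
theorem exists_eps_of_π_eq_zero (p : X) (v : ↑(D.sheaf.presheaf.stalk p))
    (hv : RefHull.stalkMapₗ D.π p v = 0) :
    ∃ w : ↑(D.sheaf.presheaf.stalk p), v = RefHull.stalkMapₗ (D.act (epsA k)) p w := by
  letI := DefoSh.stalkModule D.sheaf D.act.toRingHom p
  have hmem := D.ker_le p v hv
  refine Submodule.smul_induction_on hmem ?_ ?_
  · intro a ha w _
    obtain ⟨b, rfl⟩ := eq_eps_mul_of_mem a ha
    refine ⟨RefHull.stalkMapₗ (D.act b) p w, ?_⟩
    change RefHull.stalkMapₗ (D.act (epsA k * b)) p w = _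
    rw [map_mul, End.mul_def]
    exact DefoSh.stalkMapₗ_comp_apply p _ _ w
  · rintro x y ⟨w₁, rfl⟩ ⟨w₂, rfl⟩
    exact ⟨w₁ + w₂, (map_add _ _ _).symm⟩

/-- `ε`-torsion elements of a stalk die under `π` (flatness over the dual numbers) -/
theorem π_eq_zero_of_eps (p : X) (w : ↑(D.sheaf.presheaf.stalk p))
    (hw : RefHull.stalkMapₗ (D.act (epsA k)) p w = 0) : RefHull.stalkMapₗ D.π p w = 0 := by
  letI := DefoSh.stalkModule D.sheaf D.act.toRingHom p
  haveI : Module.Flat (ArtFun.Art.dual k k) ↑(D.sheaf.presheaf.stalk p) := D.flat p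
  have hrel : ∑ i : Unit, (fun _ : Unit => epsA k) i • (fun _ : Unit => w) i = 0 := by
    simp only [Finset.univ_unique, Finset.sum_singleton]
    exact hw
  obtain ⟨κ, a, y, hy, ha⟩ := Module.Flat.isTrivialRelation_of_sum_smul_eq_zero hrel
  have hw' : w = ∑ j, a () j • y j := hy ()
  apply defo_π_of_mem D p w
  rw [hw']
  refine Submodule.sum_mem _ (fun j _ => Submodule.smul_mem_smul ?_ Submodule.mem_top)
  have h1 : epsA k * a () j = 0 := by
    have := ha j
    simpa only [Finset.univ_unique, Finset.sum_singleton] using this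
  rw [ArtFun.Art.mem_maximalIdeal_iff]
  -- `ε * b = 0` forces `fst b = 0`
  have h2 : TrivSqZeroExt.snd ((DualNumber.eps : DualNumber k) * (show DualNumber k from a () j)) =
      TrivSqZeroExt.snd (0 : DualNumber k) :=
    congrArg (fun z : DualNumber k => TrivSqZeroExt.snd z) h1
  rw [TrivSqZeroExt.snd_mul, DualNumber.fst_eps, DualNumber.snd_eps, TrivSqZeroExt.snd_zero] at h2
  have h3 : TrivSqZeroExt.fst (show DualNumber k from a () j) = 0 := by simpa using h2
  exact h3

end Stalks

section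
variable (D : DefoSh.Defo E (ArtFun.Art.dual k k)) (ι : E ⟶ D.sheaf)
  (hι : D.π ≫ ι = D.act (DualNumber.eps : DualNumber k))
include hι

omit hι in
theorem epi_π : Epi D.π := epi_of_stalk D.π (fun p => D.surj p)

omit hι in
theorem act_eps_π : (D.act (epsA k) : D.sheaf ⟶ D.sheaf) ≫ D.π = 0 := D.act_π _ res_epsA

theorem ι_π : ι ≫ D.π = 0 := by
  haveI := epi_π D
  rw [← cancel_epi D.π, comp_zero, ← Category.assoc, hι]
  exact act_eps_π D

/-- the stalk of `ι` after the stalk of `π` is multiplication by `ε` -/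
theorem stalk_ι_π (p : X) (w : ↑(D.sheaf.presheaf.stalk p)) :
    RefHull.stalkMapₗ ι p (RefHull.stalkMapₗ D.π p w) =
      RefHull.stalkMapₗ (D.act (epsA k)) p w := by
  rw [← DefoSh.stalkMapₗ_comp_apply, hι]
  rfl

theorem stalk_ι_injective (p : X) : Function.Injective (RefHull.stalkMapₗ ι p) := by
  rw [injective_iff_map_eq_zero]
  intro y hy
  obtain ⟨w, rfl⟩ := D.surj p y
  rw [stalk_ι_π D ι hι] at hy
  exact π_eq_zero_of_eps D p w hy

theorem stalk_exact (p : X) :
    Function.Exact (RefHull.stalkMapₗ ι p) (RefHull.stalkMapₗ D.π p) := by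
  intro v
  constructor
  · intro hv
    obtain ⟨w, rfl⟩ := exists_eps_of_π_eq_zero D p v hv
    exact ⟨RefHull.stalkMapₗ D.π p w, stalk_ι_π D ι hι p w⟩
  · rintro ⟨y, rfl⟩
    rw [← DefoSh.stalkMapₗ_comp_apply, ι_π D ι hι]
    exact DefoSh.stalkMapₗ_zero_apply p y

theorem shortExact : (ShortComplex.mk ι D.π (ι_π D ι hι)).ShortExact := by
  haveI : Mono ι := mono_of_stalk ι (stalk_ι_injective D ι hι)
  haveI : Epi D.π := epi_π D
  exact ShortComplex.ShortExact.mk
    (exact_of_stalk (ShortComplex.mk ι D.π (ι_π D ι hι)) (stalk_exact D ι hι))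

end

end Groth.Agent.Lib.Helper47.TransCl
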