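import Groth.Agent.Lib.Helper47.TransClHoriz
import Groth.Agent.Lib.Helper12.SkyT7
import Groth.Agent.Lib.Helper22.Syzygy

set_option autoImplicit false
set_option linter.style.haveILetI false
universe u
open CategoryTheory CategoryTheory.Limits AlgebraicGeometry Opposite MonoidalCategory
open DefoSh

namespace Groth.Agent.Lib.Helper47.TransCl

section Alg
variable {R : Type u} [CommRing R] {M N P W : Type u} [AddCommGroup M] [AddCommGroup N]
  [AddCommGroup P] [AddCommGroup W] [Module R M] [Module R N] [Module R P] [Module R W]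

/-- tensoring a short exact sequence with projective cokernel stays short exact on the left -/
theorem rTensor_inj_exact (f : M →ₗ[R] N) (g : N →ₗ[R] P) (hf : Function.Injective f)
    (hfg : Function.Exact f g) (hg : Function.Surjective g) [Module.Projective R P] :
    Function.Injective (f.rTensor W) ∧ Function.Exact (f.rTensor W) (g.rTensor W) := by
  obtain ⟨s, hs⟩ := Module.projective_lifting_property g LinearMap.id hg
  have h01 := (hfg.split_tfae').out 0 1
  obtain ⟨_, l, hl⟩ := h01.1 ⟨hf, s, hs⟩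
  refine ⟨?_, rTensor_exact W hfg hg⟩
  have hli : Function.LeftInverse (l.rTensor W) (f.rTensor W) := by
    intro x
    rw [← LinearMap.comp_apply, ← LinearMap.rTensor_comp, hl, LinearMap.rTensor_id]
    rfl
  exact hli.injective

end Alg

variable {X : Scheme.{u}}

/-- transport of injectivity / exactness to the stalks of `f ⊗ 1`, `g ⊗ 1` -/
theorem stalk_tensor_inj_exact {M N P : X.Modules} (W : X.Modules) (f : M ⟶ N) (g : N ⟶ P) (p : X)
    (hf : Function.Injective (RefHull.stalkMapₗ f p))
    (hfg : Function.Exact (RefHull.stalkMapₗ f p) (RefHull.stalkMapₗ g p))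
    (hg : Function.Surjective (RefHull.stalkMapₗ g p))
    [Module.Projective (X.presheaf.stalk p) (P.presheaf.stalk p)] :
    Function.Injective (RefHull.stalkMapₗ (KoszTw.tensorMap f (𝟙 W)) p) ∧
      Function.Exact (RefHull.stalkMapₗ (KoszTw.tensorMap f (𝟙 W)) p)
        (RefHull.stalkMapₗ (KoszTw.tensorMap g (𝟙 W)) p) := by
  let F := DerSch.stalkFunctor X p
  have nf := Groth.Agent.Lib.Helper12.Sky.stalkTensorIso_naturality_left p f W
  have ng := Groth.Agent.Lib.Helper12.Sky.stalkTensorIso_naturality_left p g W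
  rw [KoszTw.tensorBi_map_app] at nf ng
  let θM := Groth.Agent.Lib.Helper12.Sky.stalkTensorIso p M W
  let θN := Groth.Agent.Lib.Helper12.Sky.stalkTensorIso p N W
  let θP := Groth.Agent.Lib.Helper12.Sky.stalkTensorIso p P W
  have hθM : Function.Bijective θM.hom := ConcreteCategory.bijective_of_isIso θM.hom
  have hθN : Function.Bijective θN.hom := ConcreteCategory.bijective_of_isIso θN.hom
  have hθP : Function.Bijective θP.hom := ConcreteCategory.bijective_of_isIso θP.hom
  have ef : ∀ z, θN.hom ((F.map (KoszTw.tensorMap f (𝟙 W))) z) =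
      ((F.map f ▷ F.obj W)) (θM.hom z) := fun z => ConcreteCategory.congr_hom nf z
  have eg : ∀ z, θP.hom ((F.map (KoszTw.tensorMap g (𝟙 W))) z) =
      ((F.map g ▷ F.obj W)) (θN.hom z) := fun z => ConcreteCategory.congr_hom ng z
  have hf' : Function.Injective (F.map f).hom := hf
  have hg' : Function.Surjective (F.map g).hom := hg
  have hfg' : Function.Exact (F.map f).hom (F.map g).hom := hfg
  haveI hproj : Module.Projective (X.presheaf.stalk p) (F.obj P) := ‹_›
  obtain ⟨hi, he⟩ := rTensor_inj_exact (W := F.obj W) (F.map f).hom (F.map g).hom hf' hfg' hg'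
  have hi' : Function.Injective (F.map f ▷ F.obj W).hom := hi
  have he' : Function.Exact (F.map f ▷ F.obj W).hom (F.map g ▷ F.obj W).hom := he
  change Function.Injective (F.map (KoszTw.tensorMap f (𝟙 W))).hom ∧
    Function.Exact (F.map (KoszTw.tensorMap f (𝟙 W))).hom (F.map (KoszTw.tensorMap g (𝟙 W))).hom
  constructor
  · intro z z' hzz
    apply hθM.injective
    apply hi'
    have h1 := ef z
    have h2 := ef z'
    exact h1.symm.trans ((congrArg θN.hom hzz).trans h2)
  · intro y
    constructor
    · intro hy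
      have h1 : (F.map g ▷ F.obj W).hom (θN.hom y) = 0 := by
        have h2 := eg y
        exact h2.symm.trans ((congrArg θP.hom hy).trans (map_zero θP.hom.hom))
      obtain ⟨z', hz'⟩ := (he' _).1 h1
      obtain ⟨z, rfl⟩ := hθM.surjective z'
      refine ⟨z, ?_⟩
      apply hθN.injective
      exact (ef z).trans hz'
    · rintro ⟨z, rfl⟩
      apply hθP.injective
      refine (eg _).trans (Eq.trans ?_ (map_zero θP.hom.hom).symm)
      have h3 : (F.map g ▷ F.obj W).hom ((F.map f ▷ F.obj W).hom (θM.hom z)) = 0 :=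
        (he' _).2 ⟨_, rfl⟩
      exact (congrArg (F.map g ▷ F.obj W).hom (ef z)).trans h3


variable {k : Type u} [Field k] [X.Over (Spec (CommRingCat.of k))] {E : X.Modules}

section
variable (D : DefoSh.Defo E (ArtFun.Art.dual k k)) (ι : E ⟶ D.sheaf)
  (hι : D.π ≫ ι = D.act (DualNumber.eps : DualNumber k)) (hE : FlatMod.IsFinLocFree E)
  (Ω' : X.Modules)
include hι

theorem tensor_ι_π :
    KoszTw.tensorMap ι (𝟙 Ω') ≫ KoszTw.tensorMap D.π (𝟙 Ω') = 0 := by
  have h := KoszTw.tensorMap_comp ι D.π (𝟙 Ω') (𝟙 Ω')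
  rw [Category.comp_id] at h
  rw [← h, ι_π D ι hι]
  exact Groth.Agent.Lib.Helper47.TrivConn.tensorMap_zero_left

include hE

theorem tensor_stalk (p : X) :
    Function.Injective (RefHull.stalkMapₗ (KoszTw.tensorMap ι (𝟙 Ω')) p) ∧
      Function.Exact (RefHull.stalkMapₗ (KoszTw.tensorMap ι (𝟙 Ω')) p)
        (RefHull.stalkMapₗ (KoszTw.tensorMap D.π (𝟙 Ω')) p) := by
  haveI : Module.Free (X.presheaf.stalk p) (E.presheaf.stalk p) :=
    Groth.Agent.Lib.Helper22.Syzygy.free_stalk_of_isFinLocFree E hE p
  exact stalk_tensor_inj_exact Ω' ι D.π p (stalk_ι_injective D ι hι p) (stalk_exact D ι hι p)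
    (D.surj p)

theorem tensor_mono : Mono (KoszTw.tensorMap ι (𝟙 Ω')) :=
  mono_of_stalk _ (fun p => (tensor_stalk D ι hι hE Ω' p).1)

theorem tensor_exact :
    (ShortComplex.mk (KoszTw.tensorMap ι (𝟙 Ω')) (KoszTw.tensorMap D.π (𝟙 Ω'))
      (tensor_ι_π D ι hι Ω')).Exact :=
  exact_of_stalk _ (fun p => (tensor_stalk D ι hι hE Ω' p).2)

end

end Groth.Agent.Lib.Helper47.TransCl
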