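import Mathlib
import Groth.Prelude.Def_CohB1
import Groth.Prelude.Def_Flat
import Groth.Agent.Lib.Helper5.WidePB

set_option autoImplicit false
universe u
open CategoryTheory CategoryTheory.Limits AlgebraicGeometry

namespace Groth.Agent.Lib.Helper47.WidePBWP1

open Groth.Agent.Lib.Helper5.WidePB

/-- Mathlib's chosen wide pullback is a wide pullback in the sense of `IsWidePB`. -/
theorem isWidePB_widePullback {C : Type*} [Category C] {ι : Type*} {B : C} {objs : ι → C}
    (arrows : ∀ k, objs k ⟶ B) [HasWidePullback B objs arrows] :
    IsWidePB arrows (WidePullback.base arrows) (WidePullback.π arrows) := by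
  refine ⟨fun k => WidePullback.π_arrow arrows k, ?_, ?_⟩
  · intro Z z zk hz
    exact ⟨WidePullback.lift z zk hz, WidePullback.lift_base _ _ _ _,
      fun k => WidePullback.lift_π _ _ _ _ _⟩
  · intro Z l l' h1 h2
    exact WidePullback.hom_ext _ _ _ h2 h1

theorem isProper_wideBase {n : ℕ} {B : Scheme.{u}} (objs : Fin n → Scheme.{u})
    (arrows : ∀ k, objs k ⟶ B) [∀ k, IsProper (arrows k)] :
    IsProper (WidePullback.base arrows) := by
  induction n with
  | zero =>
    have hiso : IsIso (WidePullback.base arrows) := by
      refine ⟨WidePullback.lift (𝟙 B) (fun k => Fin.elim0 k) (fun k => Fin.elim0 k), ?_, ?_⟩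
      · apply WidePullback.hom_ext
        · intro k; exact Fin.elim0 k
        · rw [Category.assoc, WidePullback.lift_base, Category.comp_id, Category.id_comp]
      · exact WidePullback.lift_base _ _ _ _
    infer_instance
  | succ n ih =>
    let arrows' : ∀ k : Fin n, objs k.castSucc ⟶ B := fun k => arrows k.castSucc
    have : ∀ k, IsProper (arrows' k) := fun k => inferInstanceAs (IsProper (arrows k.castSucc))
    have hb' : IsProper (WidePullback.base arrows') := ih (fun k => objs k.castSucc) arrows'
    have h' : IsWidePB arrows' (WidePullback.base arrows') (WidePullback.π arrows') :=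
      isWidePB_widePullback arrows'
    have sq : IsPullback (pullback.fst (arrows (Fin.last n)) (WidePullback.base arrows'))
        (pullback.snd (arrows (Fin.last n)) (WidePullback.base arrows'))
        (arrows (Fin.last n)) (WidePullback.base arrows') := IsPullback.of_hasPullback _ _
    have hW := isWidePB_succ arrows (WidePullback.base arrows') (WidePullback.π arrows') h'
      (pullback.snd (arrows (Fin.last n)) (WidePullback.base arrows'))
      (pullback.fst (arrows (Fin.last n)) (WidePullback.base arrows')) sq
    obtain ⟨e, he, -⟩ := hW.exists_iso
    rw [← he]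
    infer_instance

end Groth.Agent.Lib.Helper47.WidePBWP1
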