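import Groth.Prelude.Def_W4c3truncdispsmoothDesc
import Mathlib

/-!
# Unpacking `wittModPF` descent data (helper47)

* `comp_mapComp'_hom/inv`: `mapComp'` of `Φ.toPseudofunctor.comp G` is `mapComp'` of `G`.
* `G_mapComp'_hom_app`: `mapComp'` of the extension-of-scalars pseudofunctor on `1 ⊗ m`.
* `iota_one_tmul`, `kappa_one_tmul_tmul`: the same for `W4c3truncdispsmooth.wittModPF`.
-/

set_option autoImplicit false
open CategoryTheory Opposite TensorProduct ChangeOfRings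
universe u v₁ u₁ v₂ u₂

namespace Groth.Agent.Lib.Helper47.WittDesc

section Gen
variable {C : Type u₁} [Category.{v₁} C] {D : Type u₂} [Category.{v₂} D] (Φ : C ⥤ D)
  (G : Pseudofunctor (LocallyDiscrete D) Cat.{u, u + 1})

lemma tp_map_comp {a b c : C} (f : a ⟶ b) (g : b ⟶ c) :
    Φ.toPseudofunctor.map (f.toLoc ≫ g.toLoc) =
      Φ.toPseudofunctor.map f.toLoc ≫ Φ.toPseudofunctor.map g.toLoc := by
  change (Φ.map (f ≫ g)).toLoc = (Φ.map f).toLoc ≫ (Φ.map g).toLoc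
  rw [Φ.map_comp]; rfl

lemma tp_mapComp {a b c : C} (f : a ⟶ b) (g : b ⟶ c) :
    Φ.toPseudofunctor.mapComp f.toLoc g.toLoc = eqToIso (tp_map_comp Φ f g) := by
  rfl

lemma aux3 {X : Type*} [Category X] {A B B' C' : X} (h1 : A = B) (h2 : B = B') (i : B' ≅ C') :
    (eqToIso h1 ≪≫ eqToIso h2 ≪≫ i).hom = eqToHom (h1.trans h2) ≫ i.hom := by
  subst h1 h2; simp

lemma aux2 {X : Type*} [Category X] {A B C' : X} (h1 : A = B) (i : B ≅ C') :
    (eqToIso h1 ≪≫ i).hom = eqToHom h1 ≫ i.hom := by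
  subst h1; simp

lemma aux3i {X : Type*} [Category X] {A B B' C' : X} (h1 : A = B) (h2 : B = B') (i : B' ≅ C') :
    (eqToIso h1 ≪≫ eqToIso h2 ≪≫ i).inv = i.inv ≫ eqToHom (h1.trans h2).symm := by
  subst h1 h2; simp

lemma aux2i {X : Type*} [Category X] {A B C' : X} (h1 : A = B) (i : B ≅ C') :
    (eqToIso h1 ≪≫ i).inv = i.inv ≫ eqToHom h1.symm := by
  subst h1; simp

lemma comp_mapComp'_hom {a b c : C} (f : a ⟶ b) (g : b ⟶ c) (fg : a ⟶ c)
    (h : f ≫ g = fg) :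
    ((Φ.toPseudofunctor.comp G).mapComp' f.toLoc g.toLoc fg.toLoc (by subst h; rfl)).hom =
      (G.mapComp' (Φ.map f).toLoc (Φ.map g).toLoc (Φ.map fg).toLoc
        (by subst h; simp [← Quiver.Hom.comp_toLoc])).hom := by
  subst h
  simp only [Pseudofunctor.mapComp', Pseudofunctor.comp_mapComp]
  rw [tp_mapComp]
  simp only [PrelaxFunctor.map₂Iso_eqToIso]
  exact (aux3 _ _ _).trans (aux2 _ _).symm

lemma comp_mapComp'_inv {a b c : C} (f : a ⟶ b) (g : b ⟶ c) (fg : a ⟶ c)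
    (h : f ≫ g = fg) :
    ((Φ.toPseudofunctor.comp G).mapComp' f.toLoc g.toLoc fg.toLoc (by subst h; rfl)).inv =
      (G.mapComp' (Φ.map f).toLoc (Φ.map g).toLoc (Φ.map fg).toLoc
        (by subst h; simp [← Quiver.Hom.comp_toLoc])).inv := by
  subst h
  simp only [Pseudofunctor.mapComp', Pseudofunctor.comp_mapComp]
  rw [tp_mapComp]
  simp only [PrelaxFunctor.map₂Iso_eqToIso]
  exact (aux3i _ _ _).trans (aux2i _ _).symm

end Gen

section G

lemma G_mapComp'_hom_app {A₀ A₁ A₂ : CommRingCat.{u}} (a : A₀ ⟶ A₁) (b : A₁ ⟶ A₂) (c : A₀ ⟶ A₂)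
    (h : a.toLoc ≫ b.toLoc = c.toLoc) (M : ModuleCat.{u} A₀) (m : M) :
    ((CommRingCat.moduleCatExtendScalarsPseudofunctor.{u}.mapComp' a.toLoc b.toLoc c.toLoc
      h).hom.toNatTrans.app M).hom
        (((1 : A₂) ⊗ₜ[A₀,c.hom] m : (ModuleCat.extendScalars c.hom).obj M)) =
      ((1 : A₂) ⊗ₜ[A₁,b.hom]
        (((1 : A₁) ⊗ₜ[A₀,a.hom] m : (ModuleCat.extendScalars a.hom).obj M)) :
          (ModuleCat.extendScalars b.hom).obj ((ModuleCat.extendScalars a.hom).obj M)) := by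
  have hc : a ≫ b = c := by
    have := congrArg (fun x => x.as) h
    exact this
  subst hc
  have e1 : CommRingCat.moduleCatExtendScalarsPseudofunctor.{u}.mapComp' a.toLoc b.toLoc
      (a ≫ b).toLoc h = CommRingCat.moduleCatExtendScalarsPseudofunctor.{u}.mapComp a.toLoc b.toLoc :=
    Pseudofunctor.mapComp'_eq_mapComp _ _ _
  rw [e1]
  simp only [CommRingCat.moduleCatExtendScalarsPseudofunctor_mapComp]
  exact ModuleCat.extendScalarsComp_hom_app_one_tmul a.hom b.hom M m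

end G

section Abs
variable (Ψ : CommRingCat.{u} ⥤ CommRingCat.{u})

/-- the pseudofunctor `R ↦ Mod (Ψ R)` on `(CommRingCatᵒᵖ)ᵒᵖ`. -/
noncomputable abbrev PF : Pseudofunctor (LocallyDiscrete (CommRingCat.{u}ᵒᵖ)ᵒᵖ) Cat.{u, u + 1} :=
  ((unopUnop CommRingCat.{u}) ⋙ Ψ).toPseudofunctor.comp
    CommRingCat.moduleCatExtendScalarsPseudofunctor.{u}

lemma iota_one_tmul {X₀ X₁ X₂ : CommRingCat.{u}} (g : X₀ ⟶ X₁) (h : X₁ ⟶ X₂) (gh : X₀ ⟶ X₂)
    (e : g ≫ h = gh) (hh : g.op.op.toLoc ≫ h.op.op.toLoc = gh.op.op.toLoc)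
    (M : ModuleCat.{u} (Ψ.obj X₀)) (m : M) :
    (((PF Ψ).mapComp' g.op.op.toLoc h.op.op.toLoc gh.op.op.toLoc
      hh).hom.toNatTrans.app M).hom
        (((1 : Ψ.obj X₂) ⊗ₜ[Ψ.obj X₀,(Ψ.map gh).hom] m :
          (ModuleCat.extendScalars (Ψ.map gh).hom).obj M)) =
      ((1 : Ψ.obj X₂) ⊗ₜ[Ψ.obj X₁,(Ψ.map h).hom]
        (((1 : Ψ.obj X₁) ⊗ₜ[Ψ.obj X₀,(Ψ.map g).hom] m :
          (ModuleCat.extendScalars (Ψ.map g).hom).obj M)) :
          (ModuleCat.extendScalars (Ψ.map h).hom).obj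
            ((ModuleCat.extendScalars (Ψ.map g).hom).obj M)) := by
  have h1 := comp_mapComp'_hom (unopUnop CommRingCat.{u} ⋙ Ψ)
    CommRingCat.moduleCatExtendScalarsPseudofunctor.{u} g.op.op h.op.op gh.op.op (by subst e; rfl)
  have h2 := G_mapComp'_hom_app (a := Ψ.map g) (b := Ψ.map h)
    (c := Ψ.map gh) (by subst e; simp [← Quiver.Hom.comp_toLoc]) M m
  have h3 : ((PF Ψ).mapComp' g.op.op.toLoc h.op.op.toLoc gh.op.op.toLoc hh).hom =
      (CommRingCat.moduleCatExtendScalarsPseudofunctor.{u}.mapComp'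
        (Ψ.map g).toLoc (Ψ.map h).toLoc (Ψ.map gh).toLoc
          (by subst e; simp [← Quiver.Hom.comp_toLoc])).hom := h1
  rw [h3]
  exact h2

set_option backward.isDefEq.respectTransparency false in
lemma one_tmul_smul {A B : Type u} [CommRing A] [CommRing B] (φ : A →+* B) (Y : ModuleCat.{u} A)
    (s : A) (y : Y) :
    ((1 : B) ⊗ₜ[A,φ] (s • y) : (ModuleCat.extendScalars φ).obj Y) =
      (φ s) • ((1 : B) ⊗ₜ[A,φ] y : (ModuleCat.extendScalars φ).obj Y) := by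
  rw [ModuleCat.ExtendScalars.smul_tmul, mul_one]
  let _ : Module A B := Module.compHom B φ
  have : ((s • (1 : B)) ⊗ₜ[A] y : B ⊗[A] Y) = (1 : B) ⊗ₜ[A] (s • y) := TensorProduct.smul_tmul s 1 y
  rw [← this]
  congr 1
  change φ s * 1 = φ s
  rw [mul_one]

set_option backward.isDefEq.respectTransparency false in
lemma kappa_one_tmul_tmul {X₀ X₁ X₂ : CommRingCat.{u}} (g : X₀ ⟶ X₁) (h : X₁ ⟶ X₂) (gh : X₀ ⟶ X₂)
    (e : g ≫ h = gh) (hh : g.op.op.toLoc ≫ h.op.op.toLoc = gh.op.op.toLoc)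
    (M : ModuleCat.{u} (Ψ.obj X₀)) (s : Ψ.obj X₁) (m : M) :
    (((PF Ψ).mapComp' g.op.op.toLoc h.op.op.toLoc gh.op.op.toLoc
      hh).inv.toNatTrans.app M).hom
      ((1 : Ψ.obj X₂) ⊗ₜ[Ψ.obj X₁,(Ψ.map h).hom]
        ((s ⊗ₜ[Ψ.obj X₀,(Ψ.map g).hom] m :
          (ModuleCat.extendScalars (Ψ.map g).hom).obj M)) :
          (ModuleCat.extendScalars (Ψ.map h).hom).obj
            ((ModuleCat.extendScalars (Ψ.map g).hom).obj M)) =
        ((((Ψ.map h).hom s) ⊗ₜ[Ψ.obj X₀,(Ψ.map gh).hom] m :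
          (ModuleCat.extendScalars (Ψ.map gh).hom).obj M)) := by
  let κ : (ModuleCat.extendScalars (Ψ.map h).hom).obj
      ((ModuleCat.extendScalars (Ψ.map g).hom).obj M) ⟶
        (ModuleCat.extendScalars (Ψ.map gh).hom).obj M :=
    ((PF Ψ).mapComp' g.op.op.toLoc h.op.op.toLoc gh.op.op.toLoc hh).inv.toNatTrans.app M
  let ι : (ModuleCat.extendScalars (Ψ.map gh).hom).obj M ⟶
      (ModuleCat.extendScalars (Ψ.map h).hom).obj
      ((ModuleCat.extendScalars (Ψ.map g).hom).obj M) :=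
    ((PF Ψ).mapComp' g.op.op.toLoc h.op.op.toLoc gh.op.op.toLoc hh).hom.toNatTrans.app M
  have hικ : ι ≫ κ = 𝟙 _ := Cat.Hom.hom_inv_id_toNatTrans_app
    ((PF Ψ).mapComp' g.op.op.toLoc h.op.op.toLoc gh.op.op.toLoc hh) M
  have h0 : (s ⊗ₜ[Ψ.obj X₀,(Ψ.map g).hom] m : (ModuleCat.extendScalars (Ψ.map g).hom).obj M) =
      s • ((1 : Ψ.obj X₁) ⊗ₜ[Ψ.obj X₀,(Ψ.map g).hom] m :
        (ModuleCat.extendScalars (Ψ.map g).hom).obj M) := by
    rw [ModuleCat.ExtendScalars.smul_tmul, mul_one]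
  have step1 : ((1 : Ψ.obj X₂) ⊗ₜ[Ψ.obj X₁,(Ψ.map h).hom]
        ((s ⊗ₜ[Ψ.obj X₀,(Ψ.map g).hom] m :
          (ModuleCat.extendScalars (Ψ.map g).hom).obj M)) :
          (ModuleCat.extendScalars (Ψ.map h).hom).obj
            ((ModuleCat.extendScalars (Ψ.map g).hom).obj M)) =
      ((Ψ.map h).hom s) • ((1 : Ψ.obj X₂) ⊗ₜ[Ψ.obj X₁,(Ψ.map h).hom]
        (((1 : Ψ.obj X₁) ⊗ₜ[Ψ.obj X₀,(Ψ.map g).hom] m :
          (ModuleCat.extendScalars (Ψ.map g).hom).obj M)) :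
          (ModuleCat.extendScalars (Ψ.map h).hom).obj
            ((ModuleCat.extendScalars (Ψ.map g).hom).obj M)) := by
    rw [h0]
    exact one_tmul_smul (Ψ.map h).hom ((ModuleCat.extendScalars (Ψ.map g).hom).obj M) s _
  have step3 : κ.hom ((1 : Ψ.obj X₂) ⊗ₜ[Ψ.obj X₁,(Ψ.map h).hom]
        (((1 : Ψ.obj X₁) ⊗ₜ[Ψ.obj X₀,(Ψ.map g).hom] m :
          (ModuleCat.extendScalars (Ψ.map g).hom).obj M)) :
          (ModuleCat.extendScalars (Ψ.map h).hom).obj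
            ((ModuleCat.extendScalars (Ψ.map g).hom).obj M)) =
      ((1 : Ψ.obj X₂) ⊗ₜ[Ψ.obj X₀,(Ψ.map gh).hom] m :
          (ModuleCat.extendScalars (Ψ.map gh).hom).obj M) := by
    have h2 := congrArg (fun t => t.hom ((1 : Ψ.obj X₂) ⊗ₜ[Ψ.obj X₀,(Ψ.map gh).hom] m :
          (ModuleCat.extendScalars (Ψ.map gh).hom).obj M)) hικ
    simp only [ModuleCat.hom_comp, LinearMap.comp_apply, ModuleCat.hom_id, LinearMap.id_apply] at h2
    rw [← h2]
    congr 1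
    exact (iota_one_tmul Ψ g h gh e hh M m).symm
  change κ.hom _ = _
  rw [step1, map_smul, step3, ModuleCat.ExtendScalars.smul_tmul, mul_one]

end Abs

section Alg
variable {A B C : Type u} [CommRing A] [CommRing B] [CommRing C]
  (a : A →+* B) (c : A →+* C) (j₁ j₂ : B →+* C) (e₁ : j₁.comp a = c) (e₂ : j₂.comp a = c)

/-- `B` as an `A`-module through `a`. -/
noncomputable abbrev Rs : ModuleCat.{u} A := (ModuleCat.restrictScalars a).obj (ModuleCat.of B B)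

/-- `a` as an `A`-linear map. -/
noncomputable def aL : A →ₗ[A] Rs a where
  toFun s := (a s : B)
  map_add' := map_add a
  map_smul' r s := by
    change a (r * s) = a r * a s
    exact map_mul a r s

include e₁ e₂ in
lemma dL_smul (r : A) (b : B) : j₁ (a r * b) - j₂ (a r * b) = c r * (j₁ b - j₂ b) := by
  have h1 : j₁ (a r) = c r := by rw [← e₁]; rfl
  have h2 : j₂ (a r) = c r := by rw [← e₂]; rfl
  rw [map_mul, map_mul, h1, h2, mul_sub]

/-- `j₁ - j₂` as an `A`-linear map. -/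
noncomputable def dL : Rs a →ₗ[A] Rs c where
  toFun b := (j₁ (show B from b) - j₂ (show B from b) : C)
  map_add' s t := by
    change j₁ ((show B from s) + (show B from t)) - j₂ ((show B from s) + (show B from t)) =
      (j₁ (show B from s) - j₂ (show B from s)) + (j₁ (show B from t) - j₂ (show B from t))
    rw [map_add, map_add]; ring
  map_smul' r b := by
    change j₁ (a r * (show B from b)) - j₂ (a r * (show B from b)) =
      c r * (j₁ (show B from b) - j₂ (show B from b))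
    exact dL_smul a c j₁ j₂ e₁ e₂ r _

variable (hEq : ∀ b : B, j₁ b = j₂ b → ∃ s : A, a s = b)

include hEq in
lemma exact_aL_dL : Function.Exact (aL a) (dL a c j₁ j₂ e₁ e₂) := by
  intro b
  constructor
  · intro h
    have h' : j₁ (show B from b) - j₂ (show B from b) = 0 := h
    obtain ⟨s, hs⟩ := hEq _ (sub_eq_zero.mp h')
    exact ⟨s, hs⟩
  · rintro ⟨s, rfl⟩
    change j₁ (a s) - j₂ (a s) = 0
    have h1 : j₁ (a s) = c s := by rw [← e₁]; rfl
    have h2 : j₂ (a s) = c s := by rw [← e₂]; rfl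
    rw [h1, h2, sub_self]

variable (N : ModuleCat.{u} A)

lemma rTensor_dL (K₁ K₂ : (Rs a) ⊗[A] N →+ (Rs c) ⊗[A] N)
    (hK₁ : ∀ (b : B) (x : N), K₁ (b ⊗ₜ[A,a] x) = (j₁ b) ⊗ₜ[A,c] x)
    (hK₂ : ∀ (b : B) (x : N), K₂ (b ⊗ₜ[A,a] x) = (j₂ b) ⊗ₜ[A,c] x)
    (y : (Rs a) ⊗[A] N) :
    (dL a c j₁ j₂ e₁ e₂).rTensor N y = K₁ y - K₂ y := by
  induction y using TensorProduct.induction_on with
  | zero => simp
  | tmul b x =>
    rw [LinearMap.rTensor_tmul]
    have h1 := hK₁ b x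
    have h2 := hK₂ b x
    refine Eq.trans ?_ (congrArg₂ (· - ·) h1.symm h2.symm)
    exact TensorProduct.sub_tmul (R := A) (M := Rs c) (N := N) (j₁ (show B from b) : C) (j₂ (show B from b) : C) x
  | add y₁ y₂ h₁ h₂ =>
    rw [map_add, map_add, map_add, h₁, h₂]; abel


include e₁ e₂ hEq in
lemma exists_tmul_of_eq [Module.Flat A N] (K₁ K₂ : (Rs a) ⊗[A] N →+ (Rs c) ⊗[A] N)
    (hK₁ : ∀ (b : B) (x : N), K₁ (b ⊗ₜ[A,a] x) = (j₁ b) ⊗ₜ[A,c] x)
    (hK₂ : ∀ (b : B) (x : N), K₂ (b ⊗ₜ[A,a] x) = (j₂ b) ⊗ₜ[A,c] x)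
    (y : (Rs a) ⊗[A] N) (h : K₁ y = K₂ y) : ∃ x : N, y = (1 : B) ⊗ₜ[A,a] x := by
  have hex := Module.Flat.rTensor_exact N (exact_aL_dL a c j₁ j₂ e₁ e₂ hEq)
  have h0 : (dL a c j₁ j₂ e₁ e₂).rTensor N y = 0 := by
    rw [rTensor_dL a c j₁ j₂ e₁ e₂ N K₁ K₂ hK₁ hK₂]
    exact sub_eq_zero.mpr h
  obtain ⟨u, hu⟩ := (hex _).mp h0
  refine ⟨TensorProduct.lid A N u, ?_⟩
  have hu' : u = (1 : A) ⊗ₜ[A] (TensorProduct.lid A N u) := by
    apply (TensorProduct.lid A N).injective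
    rw [TensorProduct.lid_tmul, one_smul]
  rw [hu'] at hu
  rw [LinearMap.rTensor_tmul] at hu
  have h1 : aL a (1 : A) = (1 : B) := map_one a
  rw [h1] at hu
  exact hu.symm

lemma tmul_injective [Module.Flat A N] (ha : Function.Injective a) (x₁ x₂ : N)
    (h : ((1 : B) ⊗ₜ[A,a] x₁ : (Rs a) ⊗[A] N) = (1 : B) ⊗ₜ[A,a] x₂) : x₁ = x₂ := by
  have hinj : Function.Injective (aL a) := fun s t hst => ha hst
  have h2 := Module.Flat.rTensor_preserves_injective_linearMap (M := N) (aL a) hinj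
  have e : ∀ x : N, (aL a).rTensor N ((1 : A) ⊗ₜ[A] x) = (1 : B) ⊗ₜ[A,a] x := by
    intro x
    rw [LinearMap.rTensor_tmul]
    have h1 : aL a (1 : A) = (1 : B) := map_one a
    rw [h1]
    rfl
  have h3 : (1 : A) ⊗ₜ[A] x₁ = (1 : A) ⊗ₜ[A] x₂ := h2 ((e x₁).trans (h.trans (e x₂).symm))
  have := congrArg (TensorProduct.lid A N) h3
  rwa [TensorProduct.lid_tmul, TensorProduct.lid_tmul, one_smul, one_smul] at this

end Alg

end Groth.Agent.Lib.Helper47.WittDesc
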