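import Groth.Agent.Lib.Helper47.WittDesc

set_option autoImplicit false
open CategoryTheory Opposite TensorProduct ChangeOfRings
universe u

namespace Groth.Agent.Lib.Helper47.WittDesc

section GenComm
universe v₁ u₁
variable {C : Type u₁} [Category.{v₁} C] (F : Pseudofunctor (LocallyDiscrete Cᵒᵖ) Cat.{u, u + 1})
  {S X Y : C} (f : X ⟶ S) (q : Y ⟶ S) (f₁ f₂ : Y ⟶ X) (hf₁ : f₁ ≫ f = q) (hf₂ : f₂ ≫ f = q)
  (M N : F.obj (.mk (op S)))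

lemma cancel_aux {D : Type*} [Category D] {A₁ A₂ B₁ B₂ P P' : D}
    (ι₁M : P ⟶ A₁) (κ₁M : A₁ ⟶ P) (ι₂M : P ⟶ A₂) (u₁ : A₁ ⟶ B₁) (u₂ : A₂ ⟶ B₂)
    (κ₁N : B₁ ⟶ P') (ι₂N : P' ⟶ B₂) (κ₂N : B₂ ⟶ P')
    (h : u₁ ≫ (κ₁N ≫ ι₂N) = (κ₁M ≫ ι₂M) ≫ u₂) (h1 : ι₁M ≫ κ₁M = 𝟙 _) (h2 : ι₂N ≫ κ₂N = 𝟙 _) :
    ι₁M ≫ u₁ ≫ κ₁N = ι₂M ≫ u₂ ≫ κ₂N := by
  calc ι₁M ≫ u₁ ≫ κ₁N = ι₁M ≫ (u₁ ≫ (κ₁N ≫ ι₂N)) ≫ κ₂N := by
        simp only [Category.assoc, h2, Category.comp_id]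
    _ = (ι₁M ≫ κ₁M) ≫ ι₂M ≫ u₂ ≫ κ₂N := by rw [h]; simp only [Category.assoc]
    _ = ι₂M ≫ u₂ ≫ κ₂N := by rw [h1, Category.id_comp]

include hf₁ hf₂ in
/-- the compatibility of a morphism of canonical descent data, with the comparison isomorphisms
as variables. -/
lemma comm_generic
    (Φd : (F.toDescentData (fun _ : PUnit.{u + 1} => f)).obj M ⟶
      (F.toDescentData (fun _ : PUnit.{u + 1} => f)).obj N)
    (ψ : (F.map f.op.toLoc).toFunctor.obj M ⟶ (F.map f.op.toLoc).toFunctor.obj N)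
    (hψ : Φd.hom PUnit.unit = ψ)
    (hh₁ : f.op.toLoc ≫ f₁.op.toLoc = q.op.toLoc) (hh₂ : f.op.toLoc ≫ f₂.op.toLoc = q.op.toLoc)
    (θ₁ : F.map q.op.toLoc ≅ F.map f.op.toLoc ≫ F.map f₁.op.toLoc)
    (hθ₁ : θ₁ = F.mapComp' f.op.toLoc f₁.op.toLoc q.op.toLoc hh₁)
    (θ₂ : F.map q.op.toLoc ≅ F.map f.op.toLoc ≫ F.map f₂.op.toLoc)
    (hθ₂ : θ₂ = F.mapComp' f.op.toLoc f₂.op.toLoc q.op.toLoc hh₂) :
    θ₁.hom.toNatTrans.app M ≫ (F.map f₁.op.toLoc).toFunctor.map ψ ≫ θ₁.inv.toNatTrans.app N =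
    θ₂.hom.toNatTrans.app M ≫ (F.map f₂.op.toLoc).toFunctor.map ψ ≫ θ₂.inv.toNatTrans.app N := by
  subst hθ₁ hθ₂
  have hcomm := Φd.comm q (i₁ := PUnit.unit) (i₂ := PUnit.unit) f₁ f₂ hf₁ hf₂
  rw [hψ] at hcomm
  have eN : ((F.toDescentData fun _ : PUnit.{u + 1} => f).obj N).hom q (i₁ := PUnit.unit)
      (i₂ := PUnit.unit) f₁ f₂ hf₁ hf₂ =
      (F.mapComp' f.op.toLoc f₁.op.toLoc q.op.toLoc hh₁).inv.toNatTrans.app N ≫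
        (F.mapComp' f.op.toLoc f₂.op.toLoc q.op.toLoc hh₂).hom.toNatTrans.app N := rfl
  have eM : ((F.toDescentData fun _ : PUnit.{u + 1} => f).obj M).hom q (i₁ := PUnit.unit)
      (i₂ := PUnit.unit) f₁ f₂ hf₁ hf₂ =
      (F.mapComp' f.op.toLoc f₁.op.toLoc q.op.toLoc hh₁).inv.toNatTrans.app M ≫
        (F.mapComp' f.op.toLoc f₂.op.toLoc q.op.toLoc hh₂).hom.toNatTrans.app M := rfl
  rw [eN, eM] at hcomm
  exact cancel_aux _ _ _ _ _ _ _ _ hcomm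
    (Cat.Hom.hom_inv_id_toNatTrans_app (F.mapComp' f.op.toLoc f₁.op.toLoc q.op.toLoc hh₁) M)
    (Cat.Hom.hom_inv_id_toNatTrans_app (F.mapComp' f.op.toLoc f₂.op.toLoc q.op.toLoc hh₂) N)

end GenComm

section Main2
variable (Ψ : CommRingCat.{u} ⥤ CommRingCat.{u})

/-- the identity, as a functor from the value of `PF Ψ` to the module category. -/
noncomputable def U (Z : CommRingCat.{u}) :
    ((PF Ψ).obj (.mk (op (op Z))) : Cat.{u, u + 1}) ⥤ ModuleCat.{u} (Ψ.obj Z) where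
  obj A := A
  map f := f
  map_id _ := rfl
  map_comp _ _ := rfl

instance (Z : CommRingCat.{u}) : (U Ψ Z).Faithful where
  map_injective h := h

lemma iota_θ {X₀ X₁ X₂ : CommRingCat.{u}} (g : X₀ ⟶ X₁) (h : X₁ ⟶ X₂) (gh : X₀ ⟶ X₂)
    (e : g ≫ h = gh) (hh : g.op.op.toLoc ≫ h.op.op.toLoc = gh.op.op.toLoc)
    (θ : (PF Ψ).map gh.op.op.toLoc ≅ (PF Ψ).map g.op.op.toLoc ≫ (PF Ψ).map h.op.op.toLoc)
    (hθ : θ = (PF Ψ).mapComp' g.op.op.toLoc h.op.op.toLoc gh.op.op.toLoc hh)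
    (M : ((PF Ψ).obj (.mk (op (op X₀))) : Cat.{u, u + 1})) (m : (U Ψ X₀).obj M) :
    ModuleCat.Hom.hom ((U Ψ X₂).map (θ.hom.toNatTrans.app M))
        (((1 : Ψ.obj X₂) ⊗ₜ[Ψ.obj X₀,(Ψ.map gh).hom] m :
          (ModuleCat.extendScalars (Ψ.map gh).hom).obj ((U Ψ X₀).obj M))) =
      ((1 : Ψ.obj X₂) ⊗ₜ[Ψ.obj X₁,(Ψ.map h).hom]
        (((1 : Ψ.obj X₁) ⊗ₜ[Ψ.obj X₀,(Ψ.map g).hom] m :
          (ModuleCat.extendScalars (Ψ.map g).hom).obj ((U Ψ X₀).obj M))) :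
          (ModuleCat.extendScalars (Ψ.map h).hom).obj
            ((ModuleCat.extendScalars (Ψ.map g).hom).obj ((U Ψ X₀).obj M))) := by
  subst hθ
  exact iota_one_tmul Ψ g h gh e hh M m

lemma kappa_θ {X₀ X₁ X₂ : CommRingCat.{u}} (g : X₀ ⟶ X₁) (h : X₁ ⟶ X₂) (gh : X₀ ⟶ X₂)
    (e : g ≫ h = gh) (hh : g.op.op.toLoc ≫ h.op.op.toLoc = gh.op.op.toLoc)
    (θ : (PF Ψ).map gh.op.op.toLoc ≅ (PF Ψ).map g.op.op.toLoc ≫ (PF Ψ).map h.op.op.toLoc)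
    (hθ : θ = (PF Ψ).mapComp' g.op.op.toLoc h.op.op.toLoc gh.op.op.toLoc hh)
    (M : ((PF Ψ).obj (.mk (op (op X₀))) : Cat.{u, u + 1})) (s : Ψ.obj X₁) (m : (U Ψ X₀).obj M) :
    ModuleCat.Hom.hom ((U Ψ X₂).map (θ.inv.toNatTrans.app M))
      ((1 : Ψ.obj X₂) ⊗ₜ[Ψ.obj X₁,(Ψ.map h).hom]
        ((s ⊗ₜ[Ψ.obj X₀,(Ψ.map g).hom] m :
          (ModuleCat.extendScalars (Ψ.map g).hom).obj ((U Ψ X₀).obj M))) :
          (ModuleCat.extendScalars (Ψ.map h).hom).obj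
            ((ModuleCat.extendScalars (Ψ.map g).hom).obj ((U Ψ X₀).obj M))) =
        ((((Ψ.map h).hom s) ⊗ₜ[Ψ.obj X₀,(Ψ.map gh).hom] m :
          (ModuleCat.extendScalars (Ψ.map gh).hom).obj ((U Ψ X₀).obj M))) := by
  subst hθ
  exact kappa_one_tmul_tmul Ψ g h gh e hh M s m

lemma map_U {X₀ X₁ X₂ : CommRingCat.{u}} (g : X₀ ⟶ X₁) (h : X₁ ⟶ X₂)
    (M N : ((PF Ψ).obj (.mk (op (op X₀))) : Cat.{u, u + 1}))
    (ψ : ((PF Ψ).map g.op.op.toLoc).toFunctor.obj M ⟶ ((PF Ψ).map g.op.op.toLoc).toFunctor.obj N)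
    (x : (ModuleCat.extendScalars (Ψ.map g).hom).obj ((U Ψ X₀).obj M)) :
    ModuleCat.Hom.hom ((U Ψ X₂).map (((PF Ψ).map h.op.op.toLoc).toFunctor.map ψ))
      ((1 : Ψ.obj X₂) ⊗ₜ[Ψ.obj X₁,(Ψ.map h).hom] x :
        (ModuleCat.extendScalars (Ψ.map h).hom).obj
          ((ModuleCat.extendScalars (Ψ.map g).hom).obj ((U Ψ X₀).obj M))) =
      ((1 : Ψ.obj X₂) ⊗ₜ[Ψ.obj X₁,(Ψ.map h).hom] (ModuleCat.Hom.hom ((U Ψ X₁).map ψ) x) :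
        (ModuleCat.extendScalars (Ψ.map h).hom).obj
          ((U Ψ X₁).obj (((PF Ψ).map g.op.op.toLoc).toFunctor.obj N))) :=
  rfl

end Main2

end Groth.Agent.Lib.Helper47.WittDesc
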