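import Groth.Agent.Lib.Helper47.WittDesc2

/-!
# Full faithfulness of the canonical descent datum functor for `PF Ψ` (helper47)

`bijective_map`: for `Ψ : CommRingCat ⥤ CommRingCat`, ring maps `a : R ⟶ R'`, `j₁ j₂ : R' ⟶ T` with
`a ≫ j₁ = a ≫ j₂`, `Ψ a` injective and `Ψ R` the equalizer of `Ψ j₁, Ψ j₂`, and `N` flat,
`Hom(M, N) → Hom(ofObj M, ofObj N)` is bijective.
-/

set_option autoImplicit false
open CategoryTheory Opposite TensorProduct ChangeOfRings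
universe u

namespace Groth.Agent.Lib.Helper47.WittDesc

section Main3
variable (Ψ : CommRingCat.{u} ⥤ CommRingCat.{u})
variable {R R' T : CommRingCat.{u}} (a : R ⟶ R') (j₁ j₂ : R' ⟶ T) (c : R ⟶ T)
  (e₁ : a ≫ j₁ = c) (e₂ : a ≫ j₂ = c)
variable (M N : ((PF Ψ).obj (.mk (op (op R))) : Cat.{u, u + 1}))

/-- the descent functor for the one-member family `R → R'`. -/
noncomputable abbrev DD := (PF Ψ).toDescentData (fun _ : PUnit.{u + 1} => a.op)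

include e₁ e₂ in
lemma key_elt (Φd : (DD Ψ a).obj M ⟶ (DD Ψ a).obj N) (m : (U Ψ R).obj M)
    (hh₁ : a.op.op.toLoc ≫ j₁.op.op.toLoc = c.op.op.toLoc)
    (hh₂ : a.op.op.toLoc ≫ j₂.op.op.toLoc = c.op.op.toLoc)
    (θ₁ : (PF Ψ).map c.op.op.toLoc ≅ (PF Ψ).map a.op.op.toLoc ≫ (PF Ψ).map j₁.op.op.toLoc)
    (hθ₁ : θ₁ = (PF Ψ).mapComp' a.op.op.toLoc j₁.op.op.toLoc c.op.op.toLoc hh₁)
    (θ₂ : (PF Ψ).map c.op.op.toLoc ≅ (PF Ψ).map a.op.op.toLoc ≫ (PF Ψ).map j₂.op.op.toLoc)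
    (hθ₂ : θ₂ = (PF Ψ).mapComp' a.op.op.toLoc j₂.op.op.toLoc c.op.op.toLoc hh₂) :
    ModuleCat.Hom.hom ((U Ψ T).map (θ₁.inv.toNatTrans.app N))
      ((1 : Ψ.obj T) ⊗ₜ[Ψ.obj R',(Ψ.map j₁).hom]
        (ModuleCat.Hom.hom ((U Ψ R').map (Φd.hom PUnit.unit))
          (((1 : Ψ.obj R') ⊗ₜ[Ψ.obj R,(Ψ.map a).hom] m :
            (ModuleCat.extendScalars (Ψ.map a).hom).obj ((U Ψ R).obj M)))) :
        (ModuleCat.extendScalars (Ψ.map j₁).hom).obj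
          ((U Ψ R').obj (((PF Ψ).map a.op.op.toLoc).toFunctor.obj N))) =
    ModuleCat.Hom.hom ((U Ψ T).map (θ₂.inv.toNatTrans.app N))
      ((1 : Ψ.obj T) ⊗ₜ[Ψ.obj R',(Ψ.map j₂).hom]
        (ModuleCat.Hom.hom ((U Ψ R').map (Φd.hom PUnit.unit))
          (((1 : Ψ.obj R') ⊗ₜ[Ψ.obj R,(Ψ.map a).hom] m :
            (ModuleCat.extendScalars (Ψ.map a).hom).obj ((U Ψ R).obj M)))) :
        (ModuleCat.extendScalars (Ψ.map j₂).hom).obj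
          ((U Ψ R').obj (((PF Ψ).map a.op.op.toLoc).toFunctor.obj N))) := by
  have hf₁ : j₁.op ≫ a.op = c.op := by rw [← op_comp, e₁]
  have hf₂ : j₂.op ≫ a.op = c.op := by rw [← op_comp, e₂]
  have h := comm_generic (PF Ψ) a.op c.op j₁.op j₂.op hf₁ hf₂ M N Φd (Φd.hom PUnit.unit) rfl
    hh₁ hh₂ θ₁ hθ₁ θ₂ hθ₂
  have h3 := congrArg (fun t => (U Ψ T).map t) h
  simp only [Functor.map_comp] at h3
  have h6 := congrArg ModuleCat.Hom.hom h3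
  simp only [ModuleCat.hom_comp] at h6
  have h7 := fun z => LinearMap.congr_fun h6 z
  simp only [LinearMap.comp_apply] at h7
  have h8 := h7 (((1 : Ψ.obj T) ⊗ₜ[Ψ.obj R,(Ψ.map c).hom] m :
      (ModuleCat.extendScalars (Ψ.map c).hom).obj ((U Ψ R).obj M)))
  rw [iota_θ Ψ a j₁ c e₁ hh₁ θ₁ hθ₁ M m, iota_θ Ψ a j₂ c e₂ hh₂ θ₂ hθ₂ M m] at h8
  have hm1 := map_U Ψ a j₁ M N (Φd.hom PUnit.unit) (((1 : Ψ.obj R') ⊗ₜ[Ψ.obj R,(Ψ.map a).hom] m :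
            (ModuleCat.extendScalars (Ψ.map a).hom).obj ((U Ψ R).obj M)))
  have hm2 := map_U Ψ a j₂ M N (Φd.hom PUnit.unit) (((1 : Ψ.obj R') ⊗ₜ[Ψ.obj R,(Ψ.map a).hom] m :
            (ModuleCat.extendScalars (Ψ.map a).hom).obj ((U Ψ R).obj M)))
  rw [hm1, hm2] at h8
  exact h8

variable (ha : Function.Injective (Ψ.map a).hom)
  (hEq : ∀ b : Ψ.obj R', (Ψ.map j₁).hom b = (Ψ.map j₂).hom b → ∃ s : Ψ.obj R, (Ψ.map a).hom s = b)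

/-- the additive map `y ↦ κ (1 ⊗ y)`. -/
noncomputable def KK (j : R' ⟶ T)
    (θ : (PF Ψ).map c.op.op.toLoc ≅ (PF Ψ).map a.op.op.toLoc ≫ (PF Ψ).map j.op.op.toLoc) :
    (Rs (Ψ.map a).hom) ⊗[Ψ.obj R] ((U Ψ R).obj N) →+ (Rs (Ψ.map c).hom) ⊗[Ψ.obj R] ((U Ψ R).obj N) :=
  AddMonoidHom.mk' (fun y => ModuleCat.Hom.hom ((U Ψ T).map (θ.inv.toNatTrans.app N))
      ((1 : Ψ.obj T) ⊗ₜ[Ψ.obj R',(Ψ.map j).hom]
        (show ((U Ψ R').obj (((PF Ψ).map a.op.op.toLoc).toFunctor.obj N)) from y) :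
        (ModuleCat.extendScalars (Ψ.map j).hom).obj
          ((U Ψ R').obj (((PF Ψ).map a.op.op.toLoc).toFunctor.obj N))))
    (fun y y' => by
      have h1 : ((1 : Ψ.obj T) ⊗ₜ[Ψ.obj R',(Ψ.map j).hom]
          (show ((U Ψ R').obj (((PF Ψ).map a.op.op.toLoc).toFunctor.obj N)) from y + y') :
          (ModuleCat.extendScalars (Ψ.map j).hom).obj
            ((U Ψ R').obj (((PF Ψ).map a.op.op.toLoc).toFunctor.obj N))) =
          ((1 : Ψ.obj T) ⊗ₜ[Ψ.obj R',(Ψ.map j).hom]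
          (show ((U Ψ R').obj (((PF Ψ).map a.op.op.toLoc).toFunctor.obj N)) from y)) +
          ((1 : Ψ.obj T) ⊗ₜ[Ψ.obj R',(Ψ.map j).hom]
          (show ((U Ψ R').obj (((PF Ψ).map a.op.op.toLoc).toFunctor.obj N)) from y')) :=
        TensorProduct.tmul_add _ _ _
      change ModuleCat.Hom.hom ((U Ψ T).map (θ.inv.toNatTrans.app N)) _ = _
      rw [h1]
      exact map_add (ModuleCat.Hom.hom ((U Ψ T).map (θ.inv.toNatTrans.app N))) _ _)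

lemma KK_tmul (j : R' ⟶ T) (e : a ≫ j = c)
    (hh : a.op.op.toLoc ≫ j.op.op.toLoc = c.op.op.toLoc)
    (θ : (PF Ψ).map c.op.op.toLoc ≅ (PF Ψ).map a.op.op.toLoc ≫ (PF Ψ).map j.op.op.toLoc)
    (hθ : θ = (PF Ψ).mapComp' a.op.op.toLoc j.op.op.toLoc c.op.op.toLoc hh)
    (b : Ψ.obj R') (x : (U Ψ R).obj N) :
    KK Ψ a c N j θ (b ⊗ₜ[Ψ.obj R,(Ψ.map a).hom] x) =
      ((Ψ.map j).hom b) ⊗ₜ[Ψ.obj R,(Ψ.map c).hom] x :=
  kappa_θ Ψ a j c e hh θ hθ N b x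

include e₁ e₂ hEq in
lemma exists_one_tmul [Module.Flat (Ψ.obj R) ((U Ψ R).obj N)]
    (Φd : (DD Ψ a).obj M ⟶ (DD Ψ a).obj N) (m : (U Ψ R).obj M)
    (hh₁ : a.op.op.toLoc ≫ j₁.op.op.toLoc = c.op.op.toLoc)
    (hh₂ : a.op.op.toLoc ≫ j₂.op.op.toLoc = c.op.op.toLoc)
    (θ₁ : (PF Ψ).map c.op.op.toLoc ≅ (PF Ψ).map a.op.op.toLoc ≫ (PF Ψ).map j₁.op.op.toLoc)
    (hθ₁ : θ₁ = (PF Ψ).mapComp' a.op.op.toLoc j₁.op.op.toLoc c.op.op.toLoc hh₁)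
    (θ₂ : (PF Ψ).map c.op.op.toLoc ≅ (PF Ψ).map a.op.op.toLoc ≫ (PF Ψ).map j₂.op.op.toLoc)
    (hθ₂ : θ₂ = (PF Ψ).mapComp' a.op.op.toLoc j₂.op.op.toLoc c.op.op.toLoc hh₂) :
    ∃ x : (U Ψ R).obj N, ModuleCat.Hom.hom ((U Ψ R').map (Φd.hom PUnit.unit))
          (((1 : Ψ.obj R') ⊗ₜ[Ψ.obj R,(Ψ.map a).hom] m :
            (ModuleCat.extendScalars (Ψ.map a).hom).obj ((U Ψ R).obj M))) =
        ((1 : Ψ.obj R') ⊗ₜ[Ψ.obj R,(Ψ.map a).hom] x :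
            (ModuleCat.extendScalars (Ψ.map a).hom).obj ((U Ψ R).obj N)) := by
  have E₁ : (Ψ.map j₁).hom.comp (Ψ.map a).hom = (Ψ.map c).hom := by
    rw [← e₁, Ψ.map_comp]; rfl
  have E₂ : (Ψ.map j₂).hom.comp (Ψ.map a).hom = (Ψ.map c).hom := by
    rw [← e₂, Ψ.map_comp]; rfl
  exact exists_tmul_of_eq (Ψ.map a).hom (Ψ.map c).hom (Ψ.map j₁).hom (Ψ.map j₂).hom E₁ E₂ hEq
    ((U Ψ R).obj N) (KK Ψ a c N j₁ θ₁) (KK Ψ a c N j₂ θ₂)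
    (KK_tmul Ψ a c N j₁ e₁ hh₁ θ₁ hθ₁) (KK_tmul Ψ a c N j₂ e₂ hh₂ θ₂ hθ₂) _
    (key_elt Ψ a j₁ j₂ c e₁ e₂ M N Φd m hh₁ hh₂ θ₁ hθ₁ θ₂ hθ₂)

include ha in
lemma inj_aux [Module.Flat (Ψ.obj R) ((U Ψ R).obj N)] (φ φ' : M ⟶ N)
    (h : (DD Ψ a).map φ = (DD Ψ a).map φ') : φ = φ' := by
  have h1 := congrArg (fun t => (U Ψ R').map (t.hom PUnit.unit)) h
  apply (U Ψ R).map_injective
  apply ModuleCat.hom_ext
  apply LinearMap.ext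
  intro m
  apply tmul_injective (Ψ.map a).hom ((U Ψ R).obj N) ha
  have h2 := congrArg (fun t => ModuleCat.Hom.hom t
    (((1 : Ψ.obj R') ⊗ₜ[Ψ.obj R,(Ψ.map a).hom] m :
            (ModuleCat.extendScalars (Ψ.map a).hom).obj ((U Ψ R).obj M)))) h1
  exact h2

set_option backward.isDefEq.respectTransparency false in
include e₁ e₂ hEq ha in
lemma surj_aux [Module.Flat (Ψ.obj R) ((U Ψ R).obj N)]
    (Φd : (DD Ψ a).obj M ⟶ (DD Ψ a).obj N)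
    (hh₁ : a.op.op.toLoc ≫ j₁.op.op.toLoc = c.op.op.toLoc)
    (hh₂ : a.op.op.toLoc ≫ j₂.op.op.toLoc = c.op.op.toLoc)
    (θ₁ : (PF Ψ).map c.op.op.toLoc ≅ (PF Ψ).map a.op.op.toLoc ≫ (PF Ψ).map j₁.op.op.toLoc)
    (hθ₁ : θ₁ = (PF Ψ).mapComp' a.op.op.toLoc j₁.op.op.toLoc c.op.op.toLoc hh₁)
    (θ₂ : (PF Ψ).map c.op.op.toLoc ≅ (PF Ψ).map a.op.op.toLoc ≫ (PF Ψ).map j₂.op.op.toLoc)
    (hθ₂ : θ₂ = (PF Ψ).mapComp' a.op.op.toLoc j₂.op.op.toLoc c.op.op.toLoc hh₂) :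
    ∃ φ : M ⟶ N, (DD Ψ a).map φ = Φd := by
  choose g hg using fun m : (U Ψ R).obj M =>
    exists_one_tmul Ψ a j₁ j₂ c e₁ e₂ M N hEq Φd m hh₁ hh₂ θ₁ hθ₁ θ₂ hθ₂
  have hadd : ∀ m m' : (U Ψ R).obj M, g (m + m') = g m + g m' := by
    intro m m'
    apply tmul_injective (Ψ.map a).hom ((U Ψ R).obj N) ha
    have e1 : (((1 : Ψ.obj R') ⊗ₜ[Ψ.obj R,(Ψ.map a).hom] (m + m') :
            (ModuleCat.extendScalars (Ψ.map a).hom).obj ((U Ψ R).obj M))) =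
        ((1 : Ψ.obj R') ⊗ₜ[Ψ.obj R,(Ψ.map a).hom] m) +
        ((1 : Ψ.obj R') ⊗ₜ[Ψ.obj R,(Ψ.map a).hom] m') := TensorProduct.tmul_add _ _ _
    have e2 : (((1 : Ψ.obj R') ⊗ₜ[Ψ.obj R,(Ψ.map a).hom] (g m + g m') :
            (ModuleCat.extendScalars (Ψ.map a).hom).obj ((U Ψ R).obj N))) =
        ((1 : Ψ.obj R') ⊗ₜ[Ψ.obj R,(Ψ.map a).hom] g m) +
        ((1 : Ψ.obj R') ⊗ₜ[Ψ.obj R,(Ψ.map a).hom] g m') := TensorProduct.tmul_add _ _ _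
    have := hg (m + m')
    rw [e1, map_add, hg, hg] at this
    exact this.symm.trans e2.symm
  have hsmul : ∀ (r : Ψ.obj R) (m : (U Ψ R).obj M), g (r • m) = r • g m := by
    intro r m
    apply tmul_injective (Ψ.map a).hom ((U Ψ R).obj N) ha
    have := hg (r • m)
    rw [one_tmul_smul (Ψ.map a).hom ((U Ψ R).obj M) r m, map_smul, hg,
      ← one_tmul_smul (Ψ.map a).hom ((U Ψ R).obj N) r (g m)] at this
    exact this.symm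
  let φ₀ : (U Ψ R).obj M ⟶ (U Ψ R).obj N := ModuleCat.ofHom
    { toFun := g, map_add' := hadd, map_smul' := hsmul }
  refine ⟨φ₀, ?_⟩
  apply Pseudofunctor.DescentData.hom_ext
  intro i
  cases i
  apply (U Ψ R').map_injective
  apply ModuleCat.ExtendScalars.hom_ext (f := (Ψ.map a).hom) (M := (U Ψ R).obj M)
  intro m
  exact (hg m).symm

include e₁ e₂ hEq ha in
theorem bijective_map [Module.Flat (Ψ.obj R) ((U Ψ R).obj N)] :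
    Function.Bijective (fun φ : M ⟶ N => (DD Ψ a).map φ) := by
  have hh₁ : a.op.op.toLoc ≫ j₁.op.op.toLoc = c.op.op.toLoc := by subst e₁; rfl
  have hh₂ : a.op.op.toLoc ≫ j₂.op.op.toLoc = c.op.op.toLoc := by rw [← e₂]; rfl
  exact ⟨fun φ φ' h => inj_aux Ψ a M N ha φ φ' h,
    fun Φd => surj_aux Ψ a j₁ j₂ c e₁ e₂ M N ha hEq Φd hh₁ hh₂ _ rfl _ rfl⟩

end Main3

/-- `bijective_map` with the pseudofunctor as a variable (to keep the final statement syntactically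
in the form of the caller). -/
theorem bijective_map_F (Ψ : CommRingCat.{u} ⥤ CommRingCat.{u})
    (F : Pseudofunctor (LocallyDiscrete (CommRingCat.{u}ᵒᵖ)ᵒᵖ) Cat.{u, u + 1}) (hF : F = PF Ψ)
    {R R' T : CommRingCat.{u}} (a : R ⟶ R') (j₁ j₂ : R' ⟶ T) (c : R ⟶ T)
    (e₁ : a ≫ j₁ = c) (e₂ : a ≫ j₂ = c)
    (M N : (F.obj (.mk (op (op R))) : Cat.{u, u + 1}))
    (ha : Function.Injective (Ψ.map a).hom)
    (hEq : ∀ b : Ψ.obj R', (Ψ.map j₁).hom b = (Ψ.map j₂).hom b →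
      ∃ s : Ψ.obj R, (Ψ.map a).hom s = b)
    (N₀ : ModuleCat.{u} (Ψ.obj R)) [Module.Flat (Ψ.obj R) N₀] (hN : HEq N₀ N) :
    Function.Bijective (fun φ : M ⟶ N =>
      (F.toDescentData (fun _ : PUnit.{u + 1} => a.op)).map φ) := by
  subst hF
  obtain rfl : N₀ = N := eq_of_heq hN
  have : Module.Flat (Ψ.obj R) ((U Ψ R).obj N₀) := ‹Module.Flat (Ψ.obj R) N₀›
  exact bijective_map Ψ a j₁ j₂ c e₁ e₂ M N₀ ha hEq

/-- `bijective_map` with the pseudofunctor and the family as variables (to keep the final statement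
syntactically in the form of the caller). -/
theorem bijective_map_F' (Ψ : CommRingCat.{u} ⥤ CommRingCat.{u})
    (F : Pseudofunctor (LocallyDiscrete (CommRingCat.{u}ᵒᵖ)ᵒᵖ) Cat.{u, u + 1}) (hF : F = PF Ψ)
    {R R' T : CommRingCat.{u}} (a : R ⟶ R') (j₁ j₂ : R' ⟶ T) (c : R ⟶ T)
    (e₁ : a ≫ j₁ = c) (e₂ : a ≫ j₂ = c)
    (f : PUnit.{u + 1} → (op R' ⟶ op R)) (hf : f = fun _ => a.op)
    (M N : (F.obj (.mk (op (op R))) : Cat.{u, u + 1}))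
    (ha : Function.Injective (Ψ.map a).hom)
    (hEq : ∀ b : Ψ.obj R', (Ψ.map j₁).hom b = (Ψ.map j₂).hom b →
      ∃ s : Ψ.obj R, (Ψ.map a).hom s = b)
    (N₀ : ModuleCat.{u} (Ψ.obj R)) [Module.Flat (Ψ.obj R) N₀] (hN : HEq N₀ N) :
    Function.Bijective (fun φ : M ⟶ N => (F.toDescentData f).map φ) := by
  subst hf
  exact bijective_map_F Ψ F hF a j₁ j₂ c e₁ e₂ M N ha hEq N₀ hN

end Groth.Agent.Lib.Helper47.WittDesc
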